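import Cfsg.Prelude.Def_OddOrderLocal
import Mathlib.Algebra.Group.Subgroup.Finite
import Mathlib.GroupTheory.OrderOfElement

/-!
Elementary consequences of the type-P data.
-/

set_option autoImplicit false

namespace CfsgLib.OddOrder.TypeP

variable {G : Type*} [Group G]

/-- The order of `M_F` is prime to its index. -/
theorem fittingHall_coprime (M : Type*) [Group M] [Finite M] :
    (Nat.card (Cfsg.fittingHall M)).Coprime (Cfsg.fittingHall M).index := by
  classical
  haveI : Fintype (Subgroup M) := Fintype.ofFinite _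
  set s : Finset (Subgroup M) :=
    Finset.univ.filter fun N => N.Normal ∧ Group.IsNilpotent N ∧ (Nat.card N).Coprime N.index with hs
  have hsup : Cfsg.fittingHall M = s.sup id := by
    apply le_antisymm
    · exact sSup_le fun N hN => Finset.le_sup (f := id) (by simpa [hs] using hN)
    · exact Finset.sup_le fun N hN => le_sSup (by simpa [hs] using hN)
  have key : ∀ t ⊆ s, ((t.sup id : Subgroup M).Normal ∧
      (Nat.card (t.sup id : Subgroup M)).Coprime (t.sup id : Subgroup M).index) := by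
    intro t
    induction t using Finset.induction_on with
    | empty =>
      intro _
      simp only [Finset.sup_empty]
      exact ⟨inferInstance, by simp⟩
    | @insert N t hnt ih =>
      intro hts
      obtain ⟨hn, hco⟩ := ih fun x hx => hts (Finset.mem_insert_of_mem hx)
      have hN : N.Normal ∧ Group.IsNilpotent N ∧ (Nat.card N).Coprime N.index := by
        simpa [hs] using hts (Finset.mem_insert_self N t)
      haveI := hn
      haveI := hN.1
      rw [Finset.sup_insert, id_eq]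
      generalize t.sup id = K at hn hco ⊢
      refine ⟨Subgroup.sup_normal _ _, ?_⟩
      have hdvd : Nat.card ↥(N ⊔ K) ∣ Nat.card N * Nat.card K := by
        haveI : K.Normal := hn
        have h1 := Subgroup.relIndex_sup_right (H := N) (K := K)
        have h2 : Nat.card K * K.relIndex (N ⊔ K) = Nat.card ↥(N ⊔ K) := by
          simpa [Subgroup.relIndex_bot_left] using
            Subgroup.relIndex_mul_relIndex ⊥ K (N ⊔ K) bot_le le_sup_right
        rw [← h2, h1, mul_comm]
        exact Nat.mul_dvd_mul_right (Subgroup.relIndex_dvd_card _ _) _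
      refine Nat.Coprime.coprime_dvd_left hdvd (Nat.Coprime.mul_left ?_ ?_)
      · exact hN.2.2.coprime_dvd_right (Subgroup.index_dvd_of_le le_sup_left)
      · exact hco.coprime_dvd_right (Subgroup.index_dvd_of_le le_sup_right)
  rw [hsup]
  exact (key s subset_rfl).2

variable {M W₁ U W₂ : Subgroup G}

theorem fittingHallOf_le (M : Subgroup G) : Cfsg.fittingHallOf M ≤ M := Subgroup.map_subtype_le _

theorem U_le (hP : Cfsg.IsTypePWith M W₁ U W₂) : U ≤ M :=
  hP.U_compl.2.1.trans ((hP.W₁_compl).1)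

/-- The order of `U` times the order of `M_F` is the order of `M'`. -/
theorem card_mul (hP : Cfsg.IsTypePWith M W₁ U W₂) :
    Nat.card (Cfsg.fittingHallOf M) * Nat.card U = Nat.card ↥⁅M, M⁆ := by
  obtain ⟨hA, hB, hd, hmul⟩ := hP.U_compl
  rw [← Nat.card_prod]
  refine Nat.card_eq_of_bijective (fun x => ⟨x.1.1 * x.2.1, mul_mem (hA x.1.2) (hB x.2.2)⟩) ⟨?_, ?_⟩
  · intro x y h
    exact Subgroup.mul_injective_of_disjoint (disjoint_iff.2 hd) (congrArg Subtype.val h)
  · rintro ⟨m, hm⟩
    obtain ⟨a, ha, b, hb, rfl⟩ := hmul m hm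
    exact ⟨(⟨a, ha⟩, ⟨b, hb⟩), rfl⟩

/-- `U` has order prime to that of `M_F`. -/
theorem card_coprime [Finite G] (hP : Cfsg.IsTypePWith M W₁ U W₂) :
    (Nat.card (Cfsg.fittingHallOf M)).Coprime (Nat.card U) := by
  have h := fittingHall_coprime ↥M
  have hc : Nat.card (Cfsg.fittingHallOf M) = Nat.card (Cfsg.fittingHall M) :=
    Subgroup.card_map_of_injective M.subtype_injective
  refine (hc ▸ h).coprime_dvd_right ?_
  have h1 : Nat.card (Cfsg.fittingHall M) * Nat.card U ∣
      Nat.card (Cfsg.fittingHall M) * (Cfsg.fittingHall M).index := by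
    rw [(Cfsg.fittingHall M).card_mul_index, ← hc, card_mul hP]
    exact Subgroup.card_dvd_of_le hP.W₁_compl.1
  exact Nat.dvd_of_mul_dvd_mul_left Nat.card_pos h1

/-- An element `h * u` centralizing `M_F` has both factors centralizing it. -/
theorem mem_centralizer_of_mul [Finite G] (hP : Cfsg.IsTypePWith M W₁ U W₂) {h u : G}
    (hh : h ∈ Cfsg.fittingHallOf M) (hu : u ∈ U)
    (hx : h * u ∈ Subgroup.centralizer (Cfsg.fittingHallOf M : Set G)) :
    u ∈ Subgroup.centralizer (Cfsg.fittingHallOf M : Set G) := by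
  set H := Cfsg.fittingHallOf M with hH
  have hcomm : Commute (h * u) h⁻¹ := ((Subgroup.mem_centralizer_iff.1 hx) _ (inv_mem hh)).symm
  have hu' : u = h⁻¹ * (h * u) := by group
  have hUone : u ^ Nat.card U = 1 :=
    congrArg (fun z : U => (z : G)) (pow_card_eq_one' (x := (⟨u, hu⟩ : U)))
  have hpow : (h * u) ^ Nat.card U = h ^ Nat.card U := by
    have := hcomm.symm.mul_pow (Nat.card U)
    rw [← hu', hUone, inv_pow] at this
    calc (h * u) ^ Nat.card U = h ^ Nat.card U * ((h ^ Nat.card U)⁻¹ * (h * u) ^ Nat.card U) := by group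
      _ = h ^ Nat.card U := by rw [← this, mul_one]
  have hC : h ^ Nat.card U ∈ Subgroup.centralizer (H : Set G) := hpow ▸ pow_mem hx _
  have hcop : (orderOf h).Coprime (Nat.card U) := by
    refine (card_coprime hP).coprime_dvd_left ?_
    rw [← Subgroup.orderOf_mk h hh]
    exact orderOf_dvd_natCard _
  obtain ⟨k, hk⟩ := exists_pow_eq_self_of_coprime hcop.symm
  have : h ∈ Subgroup.centralizer (H : Set G) := hk ▸ pow_mem hC k
  rw [hu']
  exact mul_mem (inv_mem this) hx

theorem fitting_eq_sup [Finite G] (hP : Cfsg.IsTypePWith M W₁ U W₂) :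
    Cfsg.fittingOf M =
      Cfsg.fittingHallOf M ⊔ (U ⊓ Subgroup.centralizer (Cfsg.fittingHallOf M : Set G)) := by
  refine le_antisymm ?_ ?_
  · rw [← hP.fitting_eq]
    refine sup_le le_sup_left fun c hc => ?_
    have hc' : c ∈ ⁅M, M⁆ := by
      apply hP.fitting_le
      rw [← hP.fitting_eq]
      exact Subgroup.mem_sup_right hc
    obtain ⟨h, hh, u, hu, rfl⟩ := hP.U_compl.2.2.2 c hc'
    exact mul_mem (Subgroup.mem_sup_left hh)
      (Subgroup.mem_sup_right ⟨hu, mem_centralizer_of_mul hP hh hu hc.2⟩)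
  · rw [← hP.fitting_eq]
    exact sup_le le_sup_left ((inf_le_inf_right _ (U_le hP)).trans le_sup_right)

theorem derived_le_centralizer [Finite G] (hP : Cfsg.IsTypePWith M W₁ U W₂) :
    ⁅U, U⁆ ≤ Subgroup.centralizer (Cfsg.fittingHallOf M : Set G) := by
  intro x hx
  have hUM : U ≤ ⁅M, M⁆ := hP.U_compl.2.1
  have hxU : x ∈ U := by
    have : ⁅U, U⁆ ≤ U := Subgroup.commutator_le.2 fun a ha b hb => by
      rw [commutatorElement_def]
      exact mul_mem (mul_mem (mul_mem ha hb) (inv_mem ha)) (inv_mem hb)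
    exact this hx
  have hx2 : x ∈ Cfsg.fittingHallOf M ⊔ (U ⊓ Subgroup.centralizer (Cfsg.fittingHallOf M : Set G)) := by
    rw [← fitting_eq_sup hP, ← hP.fitting_eq]
    exact hP.derived_two_le (Subgroup.commutator_mono hUM hUM hx)
  have hn : (U ⊓ Subgroup.centralizer (Cfsg.fittingHallOf M : Set G)) ≤
      Subgroup.normalizer (Cfsg.fittingHallOf M : Set G) :=
    inf_le_right.trans (Subgroup.centralizer_le_normalizer _)
  rw [← SetLike.mem_coe, Subgroup.coe_mul_of_right_le_normalizer_left _ _ hn] at hx2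
  obtain ⟨h, hh, c, hc, rfl⟩ := Set.mem_mul.1 hx2
  have : h ∈ Cfsg.fittingHallOf M ⊓ U := ⟨hh, (U.mul_mem_cancel_right hc.1).1 hxU⟩
  rw [hP.U_compl.2.2.1, Subgroup.mem_bot] at this
  rw [this, one_mul]
  exact hc.2

theorem not_le_centralizer [Finite G] (hP : Cfsg.IsTypePWith M W₁ U W₂) (hU : U ≠ ⊥) :
    ¬ U ≤ Subgroup.centralizer (Cfsg.fittingHallOf M : Set G) := by
  intro hle
  have hHn : Cfsg.fittingHallOf M ≤ Subgroup.normalizer (U : Set G) := by
    rw [Subgroup.le_normalizer_iff]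
    intro h hh u hu
    rw [Subgroup.mem_centralizer_iff.1 (hle hu) h hh]
    simpa using hu
  have hMn : M ≤ Subgroup.normalizer (U : Set G) := by
    intro m hm
    obtain ⟨a, ha, w, hw, rfl⟩ := hP.W₁_compl.2.2.2 m hm
    obtain ⟨h, hh, u, hu, rfl⟩ := hP.U_compl.2.2.2 a ha
    exact mul_mem (mul_mem (hHn hh) (Subgroup.le_normalizer hu)) (hP.U_normal hw)
  have hUM := U_le hP
  haveI hnorm : (U.subgroupOf M).Normal := (Subgroup.normal_subgroupOf_iff_le_normalizer hUM).2 hMn
  haveI := hP.U_nilpotent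
  have hnil : Group.IsNilpotent ↥(U.subgroupOf M) :=
    Group.nilpotent_of_mulEquiv (Subgroup.subgroupOfEquivOfLe hUM).symm
  have hcard : Nat.card ↥(U.subgroupOf M) = Nat.card U :=
    Nat.card_congr (Subgroup.subgroupOfEquivOfLe hUM).toEquiv
  have hindex : (U.subgroupOf M).index = Nat.card (Cfsg.fittingHallOf M) * Nat.card W₁ := by
    have h1 : Nat.card ↥⁅M, M⁆ * Nat.card W₁ = Nat.card M := by
      obtain ⟨hA, hB, hd, hmul⟩ := hP.W₁_compl
      rw [← Nat.card_prod]
      refine Nat.card_eq_of_bijective (fun x => ⟨x.1.1 * x.2.1, mul_mem (hA x.1.2) (hB x.2.2)⟩) ⟨?_, ?_⟩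
      · intro x y h
        exact Subgroup.mul_injective_of_disjoint (disjoint_iff.2 hd) (congrArg Subtype.val h)
      · rintro ⟨m, hm⟩
        obtain ⟨a, ha, b, hb, rfl⟩ := hmul m hm
        exact ⟨(⟨a, ha⟩, ⟨b, hb⟩), rfl⟩
    have h2 := (U.subgroupOf M).card_mul_index
    rw [hcard, ← h1, ← card_mul hP] at h2
    apply Nat.eq_of_mul_eq_mul_left (Nat.card_pos (α := U))
    rw [h2]; ring
  have hcop : (Nat.card ↥(U.subgroupOf M)).Coprime (U.subgroupOf M).index := by
    rw [hcard, hindex]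
    refine Nat.Coprime.mul_right (card_coprime hP).symm ?_
    refine Nat.Coprime.symm (hP.W₁_hall.coprime_dvd_right ?_)
    have hd : U ⊓ W₁ = ⊥ := by
      rw [← le_bot_iff, ← hP.W₁_compl.2.2.1]
      exact inf_le_inf_right _ hP.U_compl.2.1
    have hi : Nat.card ↥⁅M, M⁆ ∣ W₁.relIndex M := by
      have h1 := Subgroup.relIndex_mul_relIndex ⊥ W₁ M bot_le hP.W₁_compl.2.1
      rw [Subgroup.relIndex_bot_left, Subgroup.relIndex_bot_left] at h1
      obtain ⟨hA, hB, hd', hmul⟩ := hP.W₁_compl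
      have h2 : Nat.card ↥⁅M, M⁆ * Nat.card W₁ = Nat.card M := by
        rw [← Nat.card_prod]
        refine Nat.card_eq_of_bijective (fun x => ⟨x.1.1 * x.2.1, mul_mem (hA x.1.2) (hB x.2.2)⟩) ⟨?_, ?_⟩
        · intro x y h
          exact Subgroup.mul_injective_of_disjoint (disjoint_iff.2 hd') (congrArg Subtype.val h)
        · rintro ⟨m, hm⟩
          obtain ⟨a, ha, b, hb, rfl⟩ := hmul m hm
          exact ⟨(⟨a, ha⟩, ⟨b, hb⟩), rfl⟩
      have h3 : W₁.relIndex M = Nat.card ↥⁅M, M⁆ := by
        apply Nat.eq_of_mul_eq_mul_left (Nat.card_pos (α := W₁))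
        rw [h1, ← h2, mul_comm]
      rw [h3]
    exact (Subgroup.card_dvd_of_le hP.U_compl.2.1).trans hi
  have hUH : U ≤ Cfsg.fittingHallOf M := by
    have : U.subgroupOf M ≤ Cfsg.fittingHall M := le_sSup ⟨hnorm, hnil, hcop⟩
    have := Subgroup.map_mono (f := M.subtype) this
    rwa [Subgroup.map_subgroupOf_eq_of_le hUM] at this
  exact hU (le_bot_iff.1 (hP.U_compl.2.2.1 ▸ le_inf hUH le_rfl))

end CfsgLib.OddOrder.TypeP
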