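import Cfsg.Agent.Lib.OddOrder.FHallTools
import Cfsg.Agent.Lib.OddOrder.TypeP

/-!
The five types of maximal subgroups exclude one another.
-/

set_option autoImplicit false
set_option maxHeartbeats 400000
set_option linter.style.haveILetI false

open scoped Pointwise

namespace CfsgLib.OddOrder.TypeP

open Subgroup

variable {G : Type*} [Group G] [Finite G] {M W₁ U W₂ W₁' U' W₂' : Subgroup G}

omit [Finite G] in
theorem W₂_ne (hP : Cfsg.IsTypePWith M W₁ U W₂) : W₂ ≠ ⊥ := hP.selfNormalizing.2.1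

omit [Finite G] in
theorem fittingHallOf_le_derived (hP : Cfsg.IsTypePWith M W₁ U W₂) :
    Cfsg.fittingHallOf M ≤ ⁅M, M⁆ := hP.U_compl.1

/-- A subgroup of type P is not of Frobenius type. -/
theorem not_isOfTypeF (hP : Cfsg.IsTypePWith M W₁ U W₂) : ¬ Cfsg.IsOfTypeF M := by
  rintro ⟨hsol, -, -, -, V, -, hV, -, V₀, hV₀, hexp, hfpf⟩
  obtain ⟨r, hr, hrW⟩ :=
    Nat.exists_prime_and_dvd (W₁.one_lt_card_iff_ne_bot.2 hP.W₁_ne).ne'
  haveI := Fact.mk hr
  have hW₁M : W₁ ≤ M := hP.W₁_compl.2.1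
  -- `r` does not divide the order of `M_F`
  have hrH : ¬ r ∣ Nat.card (Cfsg.fittingHall M) := by
    intro hd
    have h0 : r ∣ Nat.card (Cfsg.fittingHallOf M) := by
      rwa [Cfsg.fittingHallOf, card_map_of_injective M.subtype_injective]
    have h1 : r ∣ Nat.card ↥⁅M, M⁆ :=
      h0.trans (card_dvd_of_le (fittingHallOf_le_derived hP))
    rw [card_eq_relIndex_of_isComplIn hP.W₁_compl] at h1
    exact Nat.not_coprime_of_dvd_of_dvd hr.one_lt hrW h1 hP.W₁_hall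
  have hrV : r ∣ Nat.card V := by
    have h1 : r ∣ Nat.card (Cfsg.fittingHall M) * Nat.card V := by
      rw [hV.card_mul_card]
      exact hrW.trans (card_dvd_of_le hW₁M)
    exact (hr.dvd_mul.1 h1).resolve_left hrH
  obtain ⟨v, hv⟩ := exists_prime_orderOf_dvd_card' (G := V) r hrV
  have hrV₀ : r ∣ Nat.card V₀ := by
    refine dvd_trans ?_ Group.exponent_dvd_nat_card
    rw [hexp, ← hv]
    exact Monoid.order_dvd_exponent v
  obtain ⟨u, hu⟩ := exists_prime_orderOf_dvd_card' (G := V₀) r hrV₀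
  have hu1 : (u : M) ≠ 1 := by
    intro h
    rw [← Subgroup.orderOf_coe, h, orderOf_one] at hu
    exact hr.one_lt.ne hu
  set a : G := ((u : M) : G) with ha
  have haM : a ∈ M := (u : M).2
  have hord : orderOf a = r := by rw [ha, Subgroup.orderOf_coe, Subgroup.orderOf_coe, hu]
  obtain ⟨L, hL, haL⟩ := exists_isPiHallOf_ge hsol (zpowers_le.2 haM)
    (π := {q | q.Prime ∧ q ∣ Nat.card W₁}) (fun q hq hd => ⟨hq, by
      rw [Nat.card_zpowers, hord] at hd
      rwa [(Nat.prime_dvd_prime_iff_eq hq hr).1 hd]⟩)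
  obtain ⟨m, hm, hmL⟩ := Solvable.exists_conj_of_isPiHallOf hsol hL
    (isPiHallOf_of_coprime_relIndex hW₁M hP.W₁_hall)
  have haW : m * a * m⁻¹ ∈ W₁ := by
    rw [← hmL]
    exact ⟨a, haL (mem_zpowers a), rfl⟩
  have hne : m * a * m⁻¹ ≠ 1 := by
    rw [Ne, mul_inv_eq_one, mul_eq_left]
    exact fun h => hu1 (Subtype.ext h)
  obtain ⟨y, hy, hy1⟩ := (W₂.bot_or_exists_ne_one).resolve_left (W₂_ne hP)
  have hyH : y ∈ Cfsg.fittingHallOf M := (hP.W₂_le hy).1
  have hycomm : m * a * m⁻¹ * y = y * (m * a * m⁻¹) := by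
    have h1 : y ∈ ⁅M, M⁆ ⊓ centralizer ({m * a * m⁻¹} : Set G) := by
      rw [hP.W₂_centralizer _ haW hne]; exact hy
    exact mem_centralizer_iff.1 h1.2 _ rfl
  obtain ⟨h, hh, hhy⟩ := hyH
  have key := hfpf u u.2 (fun h1 => hu1 (by rw [h1])) (⟨m, hm⟩⁻¹ * h * ⟨m, hm⟩)
    ((Cfsg.fittingHall_normal M).conj_mem' h hh _) (Subtype.ext (by
      simp only [Subgroup.coe_mul, Subgroup.coe_inv]
      rw [show (h : G) = y from hhy]
      calc a * (m⁻¹ * y * m) = m⁻¹ * (m * a * m⁻¹ * y) * m := by group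
        _ = m⁻¹ * (y * (m * a * m⁻¹)) * m := by rw [hycomm]
        _ = m⁻¹ * y * m * a := by group))
  apply hy1
  rw [← hhy]
  have h1 : h = 1 := by
    have := congrArg (fun z => (⟨m, hm⟩ : M) * z * (⟨m, hm⟩ : M)⁻¹) key
    simpa [mul_assoc] using this
  rw [h1]
  rfl

/-- A subgroup of type P is not of Type I. -/
theorem not_isOfTypeI (hP : Cfsg.IsTypePWith M W₁ U W₂) : ¬ Cfsg.IsOfTypeI M :=
  fun h => not_isOfTypeF hP h.1

theorem card_U_eq (hP : Cfsg.IsTypePWith M W₁ U W₂) (hP' : Cfsg.IsTypePWith M W₁' U' W₂') :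
    Nat.card U = Nat.card U' :=
  Nat.eq_of_mul_eq_mul_left (Nat.card_pos (α := Cfsg.fittingHallOf M))
    (by rw [card_mul hP, card_mul hP'])

theorem U_ne_bot_iff (hP : Cfsg.IsTypePWith M W₁ U W₂) (hP' : Cfsg.IsTypePWith M W₁' U' W₂') :
    U ≠ ⊥ ↔ U' ≠ ⊥ := by
  rw [← one_lt_card_iff_ne_bot, ← one_lt_card_iff_ne_bot, card_U_eq hP hP']

/-- The complement `U` is unique up to conjugation in `M`. -/
theorem exists_conj_U (hM : Group.IsSolvable M) (hP : Cfsg.IsTypePWith M W₁ U W₂)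
    (hP' : Cfsg.IsTypePWith M W₁' U' W₂') : ∃ m ∈ M, MulAut.conj m • U = U' := by
  have hd : ⁅M, M⁆ ≤ M := hP.W₁_compl.1
  haveI := hM
  haveI : Group.IsSolvable ↥⁅M, M⁆ :=
    Group.isSolvable_of_isSolvable_injective (f := Subgroup.inclusion hd) (inclusion_injective hd)
  have hhall : ∀ {A B C : Subgroup G}, Cfsg.IsTypePWith M A B C →
      Cfsg.IsPiHallOf {q | q.Prime ∧ q ∣ Nat.card B} B ⁅M, M⁆ := by
    intro A B C h
    obtain ⟨h1, h2, h3, h4⟩ := h.U_compl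
    refine isPiHallOf_of_coprime_relIndex h2 ?_
    rw [← card_eq_relIndex_of_isComplIn ⟨h1, h2, h3, h4⟩]
    exact (card_coprime h).symm
  obtain ⟨k, hk, hkU⟩ := Solvable.exists_conj_of_isPiHallOf (G := ⁅M, M⁆) inferInstance (hhall hP)
    (card_U_eq hP hP' ▸ hhall hP')
  exact ⟨k, hd hk, hkU⟩

theorem normalizer_le_iff (hM : Group.IsSolvable M) (hP : Cfsg.IsTypePWith M W₁ U W₂)
    (hP' : Cfsg.IsTypePWith M W₁' U' W₂') :
    normalizer (U : Set G) ≤ M ↔ normalizer (U' : Set G) ≤ M := by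
  have key : ∀ {A B : Subgroup G} {k : G}, k ∈ M → MulAut.conj k • A = B →
      normalizer (A : Set G) ≤ M → normalizer (B : Set G) ≤ M := by
    intro A B k hk hAB h g hg
    have : k⁻¹ * g * k ∈ normalizer (A : Set G) := by
      rw [← Solvable.conj_smul_eq_self_iff, map_mul, map_mul, mul_smul, mul_smul, hAB,
        Solvable.conj_smul_eq_self_iff.2 hg, ← hAB, map_inv, inv_smul_smul]
    have h2 := mul_mem (mul_mem hk (h this)) (inv_mem hk)
    simpa [mul_assoc] using h2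
  obtain ⟨k, hk, hkU⟩ := exists_conj_U hM hP hP'
  refine ⟨key hk hkU, key (inv_mem hk) ?_⟩
  rw [← hkU, map_inv, inv_smul_smul]

omit [Finite G] in
theorem exists_data_three_four (h : Cfsg.IsOfTypeIII M ∨ Cfsg.IsOfTypeIV M) :
    ∃ A B C : Subgroup G, Cfsg.IsTypePWith M A B C ∧ B ≠ ⊥ ∧
      normalizer (B : Set G) ≤ M := by
  rcases h with ⟨A, B, C, h1, h2, -, -, -, h3⟩ | ⟨A, B, C, h1, h2, -, -, -, h3⟩ <;>
    exact ⟨A, B, C, h1, h2, h3⟩

theorem not_two_and_three_four (hM : Group.IsSolvable M) (h2 : Cfsg.IsOfTypeII M)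
    (h34 : Cfsg.IsOfTypeIII M ∨ Cfsg.IsOfTypeIV M) : False := by
  obtain ⟨A, B, C, hP, -, -, -, -, hn, -⟩ := h2
  obtain ⟨A', B', C', hP', -, hn'⟩ := exists_data_three_four h34
  exact hn ((normalizer_le_iff hM hP hP').2 hn')

theorem not_two_and_five (h2 : Cfsg.IsOfTypeII M) (h5 : Cfsg.IsOfTypeV M) : False := by
  obtain ⟨A, B, C, hP, hB, -⟩ := h2
  obtain ⟨A', B', C', hP', hB', -⟩ := h5
  exact (U_ne_bot_iff hP hP').1 hB hB'

theorem not_three_four_and_five (h34 : Cfsg.IsOfTypeIII M ∨ Cfsg.IsOfTypeIV M)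
    (h5 : Cfsg.IsOfTypeV M) : False := by
  obtain ⟨A, B, C, hP, hB, -⟩ := exists_data_three_four h34
  obtain ⟨A', B', C', hP', hB', -⟩ := h5
  exact (U_ne_bot_iff hP hP').1 hB hB'

theorem not_one_and_two (h1 : Cfsg.IsOfTypeI M) (h2 : Cfsg.IsOfTypeII M) : False := by
  obtain ⟨A, B, C, hP, -⟩ := h2
  exact not_isOfTypeI hP h1

theorem not_one_and_three_four (h1 : Cfsg.IsOfTypeI M)
    (h : Cfsg.IsOfTypeIII M ∨ Cfsg.IsOfTypeIV M) : False := by
  obtain ⟨A, B, C, hP, -⟩ := exists_data_three_four h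
  exact not_isOfTypeI hP h1

theorem not_one_and_five (h1 : Cfsg.IsOfTypeI M) (h2 : Cfsg.IsOfTypeV M) : False := by
  obtain ⟨A, B, C, hP, -⟩ := h2
  exact not_isOfTypeI hP h1

end CfsgLib.OddOrder.TypeP
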