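import Cfsg.Agent.Lib.OddOrder.Section16TypeP
import Cfsg.Agent.Lib.OddOrder.TypeExclusive

/-!
BG 16.1: which of the cases of `(K, U, M_F)` gives which type.
-/

set_option autoImplicit false
set_option maxHeartbeats 400000
set_option linter.style.haveILetI false

namespace CfsgLib.OddOrder

open Subgroup

variable {G : Type*} [Group G] [Finite G] (hG : Cfsg.IsMinSimpleOddOrder G) {M : Subgroup G}
  (hM : IsCoatom M) {K U : Subgroup G} (hKU : Cfsg.IsSigmaDecomposition M K U)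
include hG hM hKU

/-- The possible cases. -/
theorem type_cases :
    (K = ⊥ ∧ U ≠ ⊥) ∨ (K ≠ ⊥ ∧ U ≠ ⊥) ∨
      (K ≠ ⊥ ∧ U = ⊥ ∧ Cfsg.fittingHallOf M ≠ Cfsg.sigmaCore M) ∨
      (K ≠ ⊥ ∧ U = ⊥ ∧ Cfsg.fittingHallOf M = Cfsg.sigmaCore M) := by
  by_cases hK : K = ⊥
  · refine Or.inl ⟨hK, fun hU => (commutator_lt hG hM).not_ge fun m hm => ?_⟩
    obtain ⟨u, hu, b, hb, rfl⟩ := hKU.compl.2.2.2 m hm
    rw [hU, mem_bot] at hu
    rw [hK, bot_sup_eq] at hb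
    rw [hu, one_mul]
    exact sigmaCore_le_commutator hG hM hb
  by_cases hU : U = ⊥
  · by_cases h : Cfsg.fittingHallOf M = Cfsg.sigmaCore M
    · exact Or.inr (Or.inr (Or.inr ⟨hK, hU, h⟩))
    · exact Or.inr (Or.inr (Or.inl ⟨hK, hU, h⟩))
  · exact Or.inr (Or.inl ⟨hK, hU⟩)

/-- With `K = 1` the group `M` is of Frobenius type. -/
theorem isOfTypeF_of_K_eq (hK : K = ⊥) (hU : U ≠ ⊥) : Cfsg.IsOfTypeF M := by
  refine isOfTypeF_sigma hG hM hKU hU le_rfl (fittingHallOf_eq_of_U_ne hG hM hKU hU) ?_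
  have h := hKU.compl
  rw [hK, bot_sup_eq] at h
  exact isComplIn_swap h

theorem isOfTypeII_iff : Cfsg.IsOfTypeII M ↔ (K ≠ ⊥ ∧ U ≠ ⊥) := by
  refine ⟨fun h2 => ?_, fun h => isOfTypeII_of_U_ne hG hM hKU h.1 h.2⟩
  rcases type_cases hG hM hKU with h | h | ⟨h, -, hne⟩ | ⟨h, hU, heq⟩
  · obtain ⟨A, B, C, hP, -⟩ := h2
    exact absurd (isOfTypeF_of_K_eq hG hM hKU h.1 h.2) (TypeP.not_isOfTypeF hP)
  · exact h
  · exact (TypeP.not_two_and_three_four (isSolvable_of_ne_top hG hM.1) h2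
      (isOfTypeIII_or_IV_of_ne hG hM hKU h hne)).elim
  · exact (TypeP.not_two_and_five h2 (isOfTypeV_of_eq hG hM hKU h hU heq)).elim

theorem isOfTypeIII_or_IV_iff : (Cfsg.IsOfTypeIII M ∨ Cfsg.IsOfTypeIV M) ↔
    (K ≠ ⊥ ∧ U = ⊥ ∧ Cfsg.fittingHallOf M ≠ Cfsg.sigmaCore M) := by
  refine ⟨fun h34 => ?_, fun h => isOfTypeIII_or_IV_of_ne hG hM hKU h.1 h.2.2⟩
  rcases type_cases hG hM hKU with h | h | h | ⟨h, hU, heq⟩
  · obtain ⟨A, B, C, hP, -⟩ := TypeP.exists_data_three_four h34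
    exact absurd (isOfTypeF_of_K_eq hG hM hKU h.1 h.2) (TypeP.not_isOfTypeF hP)
  · exact (TypeP.not_two_and_three_four (isSolvable_of_ne_top hG hM.1)
      (isOfTypeII_of_U_ne hG hM hKU h.1 h.2) h34).elim
  · exact h
  · exact (TypeP.not_three_four_and_five h34 (isOfTypeV_of_eq hG hM hKU h hU heq)).elim

theorem isOfTypeV_iff : Cfsg.IsOfTypeV M ↔
    (K ≠ ⊥ ∧ U = ⊥ ∧ Cfsg.fittingHallOf M = Cfsg.sigmaCore M) := by
  refine ⟨fun h5 => ?_, fun h => isOfTypeV_of_eq hG hM hKU h.1 h.2.1 h.2.2⟩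
  rcases type_cases hG hM hKU with h | h | ⟨h, -, hne⟩ | h
  · obtain ⟨A, B, C, hP, -⟩ := h5
    exact absurd (isOfTypeF_of_K_eq hG hM hKU h.1 h.2) (TypeP.not_isOfTypeF hP)
  · exact (TypeP.not_two_and_five (isOfTypeII_of_U_ne hG hM hKU h.1 h.2) h5).elim
  · exact (TypeP.not_three_four_and_five (isOfTypeIII_or_IV_of_ne hG hM hKU h hne) h5).elim
  · exact h

end CfsgLib.OddOrder
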