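import Cfsg.Agent.Lib.OddOrder.Tau3Pair
import Cfsg.Agent.Lib.Solvable.CoprimeAbelian

/-!
The complement of `M_σ` around a `τ₃` line with fixed points, and the maximal subgroups over the
normalizers of its elements of prime order.
-/

set_option autoImplicit false
set_option linter.style.haveILetI false

open scoped commutatorElement Pointwise

namespace CfsgLib.OddOrder

open Subgroup

variable {G : Type*} [Group G] [Finite G]

omit [Finite G] in
theorem mem_centralizer_zpowers_of_commute {x v : G} (h : Commute x v) :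
    v ∈ centralizer (zpowers x : Set G) := mem_centralizer_iff.2 fun z hz => by
  obtain ⟨i, rfl⟩ := mem_zpowers_iff.1 hz
  exact (h.zpow_left i).eq

omit [Finite G] in
theorem commute_of_mem_cyclic {C : Subgroup G} [IsCyclic C] {x y : G} (hx : x ∈ C) (hy : y ∈ C) :
    Commute x y := setLike_mul_comm hx hy

/-- Elements of coprime orders of a nilpotent subgroup commute. -/
theorem commute_of_nilpotent_coprime {N : Subgroup G} (hN : Group.IsNilpotent N) {x y : G}
    (hx : x ∈ N) (hy : y ∈ N) {p q : ℕ} [Fact p.Prime] [Fact q.Prime] (hpq : p ≠ q)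
    (hxp : IsPGroup p (zpowers x)) (hyq : IsPGroup q (zpowers y)) : Commute x y := by
  haveI := hN
  obtain ⟨P, hP⟩ := (hxp.of_equiv (subgroupOfEquivOfLe (zpowers_le.2 hx)).symm).exists_le_sylow
  obtain ⟨Q, hQ⟩ := (hyq.of_equiv (subgroupOfEquivOfLe (zpowers_le.2 hy)).symm).exists_le_sylow
  haveI : (P : Subgroup N).Normal := inferInstance
  haveI : (Q : Subgroup N).Normal := inferInstance
  have h := Subgroup.commute_of_normal_of_disjoint _ _ inferInstance inferInstance
    (IsPGroup.disjoint_of_ne p q hpq _ _ P.2 Q.2) ⟨x, hx⟩ ⟨y, hy⟩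
    (hP (mem_zpowers x)) (hQ (mem_zpowers y))
  exact congrArg Subtype.val h

variable (hG : Cfsg.IsMinSimpleOddOrder G) {M : Subgroup G} (hM : IsCoatom M)
  {q : ℕ} [hq : Fact q.Prime] (h3 : q ∈ Cfsg.tau3 M) {u : G} (huM : u ∈ M)
  (huo : orderOf u = q) (hW : Cfsg.sigmaCore M ⊓ centralizer ({u} : Set G) ≠ ⊥)
  {H : Subgroup G} (hH : IsCoatom H) (hN : normalizer (zpowers u : Set G) ≤ H)
  {E : Subgroup G} (hE : Cfsg.IsComplIn E (Cfsg.sigmaCore M) M) (huE : u ∈ E)
include hG hM h3 huM huo hW hH hN hE huE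

/-- A `τ₁` element of a complement, of prime power order, moves `⟨u⟩` and has its prime in `σ(H)`. -/
theorem exists_sigma_mover :
    ∃ (p : ℕ) (E₁ : Subgroup G) (y : G), p.Prime ∧ p ∈ Cfsg.tau1 M ∧
      Cfsg.IsPiHallOf (Cfsg.tau1 M) E₁ E ∧ IsCyclic E₁ ∧ y ∈ E₁ ∧ IsPGroup p (zpowers y) ∧
      ¬ Commute y u ∧ p ∈ Cfsg.sigma H := by
  obtain ⟨hne, hMH, hqH, huH, heq, -⟩ := pair_facts hG hM h3 huM huo hW hH hN
  haveI hEs := isSolvable_of_ne_top hG (H := E) fun h => hM.1 (top_le_iff.1 (h ▸ hE.1))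
  have hQ : Nat.card (zpowers u) = q := by rw [Nat.card_zpowers, huo]
  obtain ⟨E₁, hE₁, -, hE₁c⟩ := exists_tau1_hall_ge hG hM hE (bot_le : (⊥ : Subgroup G) ≤ E)
    fun s hs hd => absurd (Subgroup.card_bot (G := G) ▸ hd) hs.not_dvd_one
  obtain ⟨E₃, hE₃, hQE₃⟩ := exists_isPiHallOf_ge (π := Cfsg.tau3 M) hEs (zpowers_le.2 huE)
    fun s hs hd => by
      rw [hQ, Nat.prime_dvd_prime_iff_eq hs hq.out] at hd
      exact hd ▸ h3
  obtain ⟨p, y, hp, hyE₁, hyp, hyC, hp1⟩ := exists_tau1_moving hG hM h3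
    (tau2_empty_of_pair hG hM h3 huM huo hW) hE hE₁ hE₃ hQ hQE₃
  haveI := Fact.mk hp
  have hyu : ¬ Commute y u := fun h => hyC (mem_centralizer_zpowers_of_commute h.symm)
  refine ⟨p, E₁, y, hp, hp1, hE₁, hE₁c, hyE₁, hyp, hyu, ?_⟩
  by_contra hpH
  have hyE : y ∈ E := hE₁.1 hyE₁
  have hEN := complement_le_normalizer hG hM h3 huM huo hE huE
  have hyH : y ∈ H := hN (hEN hyE)
  have hy1 : y ≠ 1 := fun e => hyu (e ▸ Commute.one_left u)
  have hpy : p ∣ orderOf y := by
    rw [← Nat.card_zpowers]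
    exact dvd_card_of_isPGroup hyp fun e => hy1 (zpowers_eq_bot.1 e)
  set a := y ^ (orderOf y / p) with ha
  have hao : orderOf a = p := orderOf_pow_orderOf_div (orderOf_pos y).ne' hpy
  have haM : a ∈ M := pow_mem (hE.1 hyE) _
  have haH : a ∈ H := pow_mem hyH _
  have hau : Commute a u := tau1_commute_of_pair hG hM h3 huM huo hW hH hN hp1 haM hao
    (pow_mem (hEN hyE) _)
  have hPc : Nat.card (zpowers a) = p := by rw [Nat.card_zpowers, hao]
  by_cases hp1H : Cfsg.PRankLE p 1 H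
  · exact hyu (mem_centralizer_singleton_iff.1 (semiprime hG hH hpH hp1H hyH hyp hPc
      (zpowers_le.2 (pow_mem (mem_zpowers y) _))
      ⟨huH, mem_centralizer_zpowers_of_commute hau⟩)).symm
  -- `p ∈ τ₂(H)`
  have hp2 : p ∈ Cfsg.tau2 H := ⟨hp, hpH, pRankLE_two_of_not_sigma hG hH hp hpH, hp1H⟩
  obtain ⟨r, hr, hrd⟩ := Nat.exists_prime_and_dvd fun h => hW (card_eq_one.1 h)
  haveI := Fact.mk hr
  obtain ⟨x', hx'o⟩ := exists_prime_orderOf_dvd_card' r hrd
  set x : G := (x' : G)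
  have hxo : orderOf x = r := by rw [orderOf_coe, hx'o]
  have hxσ : x ∈ Cfsg.sigmaCore M := x'.2.1
  have hxu : Commute x u := mem_centralizer_singleton_iff.1 x'.2.2
  have hxH : x ∈ H := (heq.ge x'.2).2
  have hrσ : r ∈ Cfsg.sigma M := sigma_of_dvd_sigmaCore hr (hxo ▸ orderOf_dvd_card_of_mem hxσ)
  have hrH : r ∉ Cfsg.sigma H := sigma_disjoint hG hM hH hMH hrσ
  have hu1 : u ≠ 1 := fun h => hq.out.ne_one (by rw [← huo, h, orderOf_one])
  have hrκ : r ∈ Cfsg.kappa H := mem_kappa_of_fixed hG hM hH hne.symm huH hu1 hxH hxo hxu hrH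
    (centralizer_le_of_prime_fixed hG hM huo huM h3.2.1 h3.2.2.2 hxσ
      (fun h => hr.ne_one (by rw [← hxo, h, orderOf_one])) hxu.symm)
  rcases kappa_tau13 hG hH hrκ with hr1 | hr3
  · refine false_of_tau1_commute hG hH hrκ hr1 hxH hxo haH hao ?_ hpH
      fun h => hp1H (kappa_rank_one h)
    -- `[x, a] ∈ A ⊓ M_σ`
    set W' := Cfsg.sigmaCore M ⊓ H
    have haW : zpowers a ≤ normalizer (W' : Set G) := zpowers_le.2
      (inf_normalizer_le_normalizer_inf ⟨le_normalizer_piCoreOf _ _ haM, le_normalizer haH⟩)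
    obtain ⟨F, hle, hF⟩ := exists_complement_ge hG hH
      (sup_le inf_le_right (zpowers_le.2 haH) : W' ⊔ zpowers a ≤ H) fun t ht hd => by
        rcases ht.dvd_mul.1 (hd.trans (card_sup_dvd_mul_of_le_normalizer haW)) with h | h
        · exact sigma_disjoint hG hM hH hMH
            (sigma_of_dvd_sigmaCore ht (h.trans (card_dvd_of_le inf_le_left)))
        · rw [hPc, Nat.prime_dvd_prime_iff_eq ht hp] at h
          exact h ▸ hpH
    obtain ⟨A, hAF, hA, hA2⟩ := exists_elementary_in_complement hG hH hF hp2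
    obtain ⟨⟨hFA, hall⟩, -, -⟩ := Cfsg.Agent.S1418.result hG H hH F hF p hp2 A ⟨hAF, hA, hA2⟩
    have haA : a ∈ A := hall _ (zpowers_le.2 (hle (mem_sup_right (mem_zpowers a)))) hPc
      (mem_zpowers a)
    have hxF : x ∈ F := hle (mem_sup_left ⟨hxσ, hxH⟩)
    have h1 : a * x * a⁻¹ * x⁻¹ ∈ A ⊓ Cfsg.sigmaCore M := by
      refine ⟨?_, mul_mem ((mem_normalizer_iff.1 (le_normalizer_piCoreOf _ _ haM) x).1 hxσ)
        ((Cfsg.sigmaCore M).inv_mem hxσ)⟩
      rw [show a * x * a⁻¹ * x⁻¹ = a * (x * a⁻¹ * x⁻¹) by group]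
      exact mul_mem haA ((mem_normalizer_iff.1 (hFA hxF) a⁻¹).1 (inv_mem haA))
    rw [inf_eq_bot_of_coprime (Nat.coprime_of_dvd fun t ht h2 h3' => hp1.2.1 (by
      rw [hA2] at h2
      rw [← (Nat.prime_dvd_prime_iff_eq ht hp).1 (ht.dvd_of_dvd_pow h2)]
      exact sigma_of_dvd_sigmaCore ht h3')), mem_bot, mul_inv_eq_one, mul_inv_eq_iff_eq_mul] at h1
    exact h1.symm
  · exact tau2_empty_of_pair hG hH hr3 hxH hxo (fun h => hu1 (mem_bot.1 (h ▸
      (⟨huH, mem_centralizer_singleton_iff.2 hxu.symm.eq⟩ :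
        u ∈ Cfsg.sigmaCore H ⊓ centralizer ({x} : Set G))))) p hp2

/-- The complement centralizes `C_{M_σ}(u)`. -/
theorem complement_centralizes :
    E ≤ centralizer ((Cfsg.sigmaCore M ⊓ centralizer ({u} : Set G) : Subgroup G) : Set G) := by
  obtain ⟨hne, hMH, hqH, huH, heq, -⟩ := pair_facts hG hM h3 huM huo hW hH hN
  obtain ⟨p, E₁, y, hp, hp1, hE₁, hE₁c, hyE₁, hyp, hyu, hpH⟩ :=
    exists_sigma_mover hG hM h3 huM huo hW hH hN hE huE
  haveI := Fact.mk hp
  haveI := hE₁c
  have hyE : y ∈ E := hE₁.1 hyE₁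
  have hEN := complement_le_normalizer hG hM h3 huM huo hE huE
  have hyH : y ∈ H := hN (hEN hyE)
  have hyσ : y ∈ Cfsg.sigmaCore H :=
    le_sigmaCore_of_pgroup hG hH hpH hyp (zpowers_le.2 hyH) (mem_zpowers y)
  have hpy : p ∣ orderOf y := by
    rw [← Nat.card_zpowers]
    exact dvd_card_of_isPGroup hyp fun e => hyu (zpowers_eq_bot.1 e ▸ Commute.one_left u)
  set a := y ^ (orderOf y / p) with ha
  have hao : orderOf a = p := orderOf_pow_orderOf_div (orderOf_pos y).ne' hpy
  haveI hEs := isSolvable_of_ne_top hG (H := E) fun h => hM.1 (top_le_iff.1 (h ▸ hE.1))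
  refine le_of_sylows_le fun s hs hsE => ?_
  haveI := Fact.mk hs
  rcases tau_cases_of_not_sigma hG hM hs (hsE.trans (card_dvd_of_le hE.1))
    (complement_prime_not_sigma hG hM hE hs hsE) with h | h | h
  · obtain ⟨S, hS⟩ := exists_sylow_le_hall hE₁ h
    refine ⟨S, fun v hv w hw => ?_⟩
    have hva : Commute a v := commute_of_mem_cyclic (pow_mem hyE₁ _) (hS hv)
    have hwa : Commute a w := ((commute_of_sigma_cores (sigmaCore_inf_eq_bot hG hM hH hMH) hw.1
      (heq.ge hw).2 hyσ (hE.1 hyE)).pow_right _).symm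
    exact mem_centralizer_singleton_iff.1 (centralizer_le_of_tau1_commute hG hM hp1
      (P := zpowers a) (by rw [Nat.card_zpowers, hao]) (zpowers_le.2 (pow_mem (hE.1 hyE) _))
      h.2.1 h.2.2.2.2 ((S.2.map E.subtype).to_le (zpowers_le.2 hv)) (hE.1 (hE₁.1 (hS hv)))
      (mem_centralizer_zpowers_of_commute hva) ⟨hw.1, mem_centralizer_zpowers_of_commute hwa⟩)
  · exact absurd h (tau2_empty_of_pair hG hM h3 huM huo hW s)
  · obtain ⟨E₃, hE₃, -⟩ := exists_isPiHallOf_ge (π := Cfsg.tau3 M) hEs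
      (bot_le : (⊥ : Subgroup G) ≤ E) fun t ht hd => absurd (Subgroup.card_bot (G := G) ▸ hd) ht.not_dvd_one
    obtain ⟨S, hS⟩ := exists_sylow_le_hall hE₃ h
    exact ⟨S, hS.trans (tau3_part_centralizes hG hM h3 huM huo hW hH hN hE huE hE₃)⟩

/-- An element of prime order of the complement commutes with `u`. -/
theorem complement_prime_commute {t : ℕ} [ht : Fact t.Prime] {k : G} (hk : k ∈ E)
    (hko : orderOf k = t) : Commute k u := by
  have hEN := complement_le_normalizer hG hM h3 huM huo hE huE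
  have htE : t ∣ Nat.card E := hko ▸ orderOf_dvd_card_of_mem hk
  rcases tau_cases_of_not_sigma hG hM ht.out (htE.trans (card_dvd_of_le hE.1))
    (complement_prime_not_sigma hG hM hE ht.out htE) with h | h | h
  · exact tau1_commute_of_pair hG hM h3 huM huo hW hH hN h (hE.1 hk) hko (hEN hk)
  · exact absurd h (tau2_empty_of_pair hG hM h3 huM huo hW t)
  · haveI hEs := isSolvable_of_ne_top hG (H := E) fun h => hM.1 (top_le_iff.1 (h ▸ hE.1))
    obtain ⟨E₃, hE₃, hle⟩ := exists_isPiHallOf_ge (π := Cfsg.tau3 M) hEs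
      (sup_le (zpowers_le.2 huE) (zpowers_le.2 hk) : zpowers u ⊔ zpowers k ≤ E) fun s hs hd => by
        rcases hs.dvd_mul.1 (hd.trans (card_sup_dvd_mul_of_le_normalizer
          (zpowers_le.2 (hEN hk)))) with h' | h'
        · rw [Nat.card_zpowers, huo, Nat.prime_dvd_prime_iff_eq hs hq.out] at h'
          exact h' ▸ h3
        · rw [Nat.card_zpowers, hko, Nat.prime_dvd_prime_iff_eq hs ht.out] at h'
          exact h' ▸ h
    haveI := (tau3_hall hG hM hE hE₃).1
    exact commute_of_mem_cyclic (hle (mem_sup_right (mem_zpowers k)))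
      (hle (mem_sup_left (mem_zpowers u)))

/-- The elements of prime order of the complement fix exactly `C_{M_σ}(u)` and span normal
subgroups of the complement. -/
theorem complement_prime_facts {t : ℕ} [ht : Fact t.Prime] {k : G} (hk : k ∈ E)
    (hko : orderOf k = t) :
    Cfsg.sigmaCore M ⊓ centralizer ({k} : Set G) = Cfsg.sigmaCore M ⊓ centralizer ({u} : Set G) ∧
      E ≤ normalizer (zpowers k : Set G) ∧ t ∉ Cfsg.sigma M ∧ Cfsg.PRankLE t 1 M := by
  have hEC := complement_centralizes hG hM h3 huM huo hW hH hN hE huE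
  have hτ2 := tau2_empty_of_pair hG hM h3 huM huo hW
  have hge : Cfsg.sigmaCore M ⊓ centralizer ({u} : Set G) ≤
      Cfsg.sigmaCore M ⊓ centralizer ({k} : Set G) := fun w hw =>
    ⟨hw.1, mem_centralizer_singleton_iff.2 (hEC hk w hw)⟩
  have hku := complement_prime_commute hG hM h3 huM huo hW hH hN hE huE hk hko
  have htE : t ∣ Nat.card E := hko ▸ orderOf_dvd_card_of_mem hk
  have htσ := complement_prime_not_sigma hG hM hE ht.out htE
  have hkM : k ∈ M := hE.1 hk
  have hkc : Nat.card (zpowers k) = t := by rw [Nat.card_zpowers, hko]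
  rcases tau_cases_of_not_sigma hG hM ht.out (htE.trans (card_dvd_of_le hE.1)) htσ with h | h | h
  · refine ⟨le_antisymm ?_ hge, ?_, htσ, h.2.2.2.2⟩
    · have := centralizer_le_of_commute hG hM h.2.1 h.2.2.2.2 h.2.2.2.1 hkc (zpowers_le.2 hkM)
        (R := zpowers u) (by rw [Nat.card_zpowers, huo]) (zpowers_le.2 huM)
        (zpowers_le.2 (mem_centralizer_zpowers_of_commute hku)) h3.2.1
      rwa [centralizer_zpowers_singleton, centralizer_zpowers_singleton] at this
    · refine le_trans ?_ (centralizer_le_normalizer _)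
      haveI hEs := isSolvable_of_ne_top hG (H := E) fun h => hM.1 (top_le_iff.1 (h ▸ hE.1))
      obtain ⟨E₁, hE₁, hkE₁, hE₁c⟩ := exists_tau1_hall_ge hG hM hE (zpowers_le.2 hk)
        fun s hs hd => by
          rw [hkc, Nat.prime_dvd_prime_iff_eq hs ht.out] at hd
          exact hd ▸ h
      obtain ⟨E₃, hE₃, -⟩ := exists_isPiHallOf_ge (π := Cfsg.tau3 M) hEs
        (bot_le : (⊥ : Subgroup G) ≤ E) fun s hs hd => absurd (Subgroup.card_bot (G := G) ▸ hd) hs.not_dvd_one
      obtain ⟨hE₃c, -, hE₃n⟩ := tau3_hall hG hM hE hE₃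
      haveI := hE₁c
      haveI := hE₃c
      have hk3 : E₃ ≤ centralizer (zpowers k : Set G) := by
        refine le_centralizer_iff.1 (Solvable.le_centralizer_of_fix_prime_order
          (zpowers_le.2 (hE₃n hk)) ?_ fun v hv hvp c hc => ?_)
        · rw [hkc]
          exact ht.out.coprime_iff_not_dvd.2 fun hd => h.2.2.2.1 (by
            exact (hE₃.2.1 t ht.out hd).2.2.1)
        · haveI := Fact.mk hvp
          have hv3 : orderOf v ∈ Cfsg.tau3 M :=
            hE₃.2.1 _ hvp (orderOf_dvd_card_of_mem hv)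
          have hvE : v ∈ E := hE₃.1 hv
          have hWv : Cfsg.sigmaCore M ⊓ centralizer ({v} : Set G) ≠ ⊥ := fun e => hW (by
            refine le_bot_iff.1 (le_trans (fun w hw => ?_) e.le)
            exact ⟨hw.1, mem_centralizer_singleton_iff.2 (hEC hvE w hw)⟩)
          obtain ⟨Hv, hHv, hNv⟩ := exists_isCoatom_ge (normalizer_ne_top hG
            (ne_bot_of_prime_card (Nat.card_zpowers v))
            (isPGroup_ne_top hG (isPGroup_of_prime_card (Nat.card_zpowers v))))
          obtain ⟨i, rfl⟩ := mem_zpowers_iff.1 hc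
          exact ((tau1_commute_of_pair hG hM hv3 (hE.1 hvE) rfl hWv hHv hNv h hkM hko
            (complement_le_normalizer hG hM hv3 (hE.1 hvE) rfl hE hvE hk)).zpow_left i).eq
      refine le_of_sylows_le fun s hs hsE => ?_
      haveI := Fact.mk hs
      rcases tau_cases_of_not_sigma hG hM hs (hsE.trans (card_dvd_of_le hE.1))
        (complement_prime_not_sigma hG hM hE hs hsE) with h' | h' | h'
      · obtain ⟨S, hS⟩ := exists_sylow_le_hall hE₁ h'
        exact ⟨S, fun v hv z hz => setLike_mul_comm (hkE₁ hz) (hS hv)⟩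
      · exact absurd h' (hτ2 s)
      · obtain ⟨S, hS⟩ := exists_sylow_le_hall hE₃ h'
        exact ⟨S, hS.trans hk3⟩
  · exact absurd h (hτ2 t)
  · have hWk : Cfsg.sigmaCore M ⊓ centralizer ({k} : Set G) ≠ ⊥ := fun e =>
      hW (le_bot_iff.1 (hge.trans e.le))
    obtain ⟨Hk, hHk, hNk⟩ := exists_isCoatom_ge (normalizer_ne_top hG
      (ne_bot_of_prime_card hkc) (isPGroup_ne_top hG (isPGroup_of_prime_card hkc)))
    have hEC' := complement_centralizes hG hM h hkM hko hWk hHk hNk hE hk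
    exact ⟨le_antisymm (fun w hw => ⟨hw.1, mem_centralizer_singleton_iff.2 (hEC' huE w hw)⟩) hge,
      complement_le_normalizer hG hM h hkM hko hE hk, htσ, h.2.2.2⟩

end CfsgLib.OddOrder
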