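import Cfsg.Agent.Lib.OddOrder.TypeP2Partner

/-!
The core of a maximal subgroup of type `P₂` with `|K*|` prime: elementary abelian, irreducible under
`U K`, of order `|K*| ^ |K|`.
-/

set_option autoImplicit false
set_option linter.style.haveILetI false

open scoped commutatorElement

namespace CfsgLib.OddOrder

open Subgroup

variable {G : Type*} [Group G] [Finite G] (hG : Cfsg.IsMinSimpleOddOrder G) {M K U : Subgroup G}
  (hM : IsCoatom M) (hKU : Cfsg.IsSigmaDecomposition M K U) (hK1 : K ≠ ⊥) (hU1 : U ≠ ⊥)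
include hG hM hKU hK1 hU1

/-- `M_σ ∩ C(U) = 1`. -/
theorem typeP2_sigmaCore_inf_centralizer_U :
    Cfsg.sigmaCore M ⊓ centralizer (U : Set G) = ⊥ := by
  obtain ⟨r, hr, hd⟩ := Nat.exists_prime_and_dvd fun h => hU1 (card_eq_one.1 h)
  haveI := Fact.mk hr
  obtain ⟨R⟩ : Nonempty (Sylow r U) := inferInstance
  rw [← le_bot_iff, ← sigmaCore_inf_centralizer_sylow hG hM hKU hd R]
  exact inf_le_inf_left _ (centralizer_le (map_subtype_le _))

variable (hp : (Nat.card ↥(kappaStar M K)).Prime)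
include hp

theorem typeP2_card_sigmaCore :
    Nat.card (Cfsg.sigmaCore M) = Nat.card ↥(kappaStar M K) ^ Nat.card K :=
  (typeP2_invariant_card hG hM hKU hK1 hU1 le_rfl (sigmaCore_ne_bot hG hM)
    ((decomposition_le hKU).2.trans (le_normalizer_piCoreOf _ _))
    ((decomposition_le hKU).1.trans (le_normalizer_piCoreOf _ _))).2

theorem typeP2_isPGroup : IsPGroup (Nat.card ↥(kappaStar M K)) (Cfsg.sigmaCore M) :=
  IsPGroup.of_card (typeP2_card_sigmaCore hG hM hKU hK1 hU1 hp)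

/-- `U K` acts irreducibly on `M_σ`. -/
theorem typeP2_irreducible {V : Subgroup G} (hV : V ≤ Cfsg.sigmaCore M) (hV1 : V ≠ ⊥)
    (hUV : U ≤ normalizer (V : Set G)) (hKV : K ≤ normalizer (V : Set G)) :
    V = Cfsg.sigmaCore M := by
  obtain ⟨hq, hcard⟩ := typeP2_invariant_card hG hM hKU hK1 hU1 hV hV1 hUV hKV
  have hd : Nat.card ↥(V ⊓ centralizer (K : Set G)) ∣ Nat.card ↥(kappaStar M K) :=
    card_dvd_of_le (inf_le_inf_right _ hV)
  rcases (Nat.dvd_prime hp).1 hd with h | h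
  · rw [h, one_pow] at hcard
    exact absurd (card_eq_one.1 hcard) hV1
  · rw [h, ← typeP2_card_sigmaCore hG hM hKU hK1 hU1 hp] at hcard
    exact eq_of_le_of_card_ge hV hcard.ge

/-- `M_σ` is elementary abelian. -/
theorem typeP2_elementary :
    Cfsg.IsElementaryAbelian (Nat.card ↥(kappaStar M K)) (Cfsg.sigmaCore M) := by
  set S := Cfsg.sigmaCore M with hS
  set p := Nat.card ↥(kappaStar M K) with hpdef
  haveI := Fact.mk hp
  obtain ⟨hKM, hUM⟩ := decomposition_le hKU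
  have hMS : M ≤ normalizer (S : Set G) := le_normalizer_piCoreOf _ _
  have hSp := typeP2_isPGroup hG hM hKU hK1 hU1 hp
  -- the elements of order `p` of the centre
  let Z : Subgroup G :=
    { carrier := {z | z ∈ S ∧ z ^ p = 1 ∧ ∀ w ∈ S, Commute z w}
      one_mem' := ⟨one_mem _, one_pow _, fun w _ => Commute.one_left w⟩
      mul_mem' := fun {a b} ha hb => ⟨mul_mem ha.1 hb.1,
        by rw [(ha.2.2 b hb.1).mul_pow, ha.2.1, hb.2.1, one_mul],
        fun w hw => (ha.2.2 w hw).mul_left (hb.2.2 w hw)⟩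
      inv_mem' := fun {a} ha => ⟨inv_mem ha.1, by rw [inv_pow, ha.2.1, inv_one],
        fun w hw => (ha.2.2 w hw).inv_left⟩ }
  have hZn : M ≤ normalizer (Z : Set G) := by
    suffices key : ∀ m ∈ M, ∀ z ∈ Z, m * z * m⁻¹ ∈ Z from fun m hm => mem_normalizer_iff.2
      fun z => ⟨key m hm z, fun h => by simpa [mul_assoc] using key m⁻¹ (inv_mem hm) _ h⟩
    intro m hm z hz
    have hn := fun v => mem_normalizer_iff.1 (hMS hm) v
    refine ⟨(hn z).1 hz.1, by rw [conj_pow, hz.2.1]; group, fun w hw => ?_⟩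
    have hw' : m⁻¹ * w * m ∈ S := (hn _).2 (by
      rwa [show m * (m⁻¹ * w * m) * m⁻¹ = w by group])
    show m * z * m⁻¹ * w = w * (m * z * m⁻¹)
    calc m * z * m⁻¹ * w = m * (z * (m⁻¹ * w * m)) * m⁻¹ := by group
      _ = m * (m⁻¹ * w * m * z) * m⁻¹ := by rw [(hz.2.2 _ hw').eq]
      _ = _ := by group
  have hZ1 : Z ≠ ⊥ := by
    haveI : Nontrivial S := (nontrivial_iff_ne_bot _).2 (sigmaCore_ne_bot hG hM)
    haveI := hSp.center_nontrivial
    obtain ⟨z, hz⟩ := exists_prime_orderOf_dvd_card' (G := center S) p (by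
      obtain ⟨n, hn, hcn⟩ := (IsPGroup.nontrivial_iff_card (hSp.to_subgroup (center S))).1
        inferInstance
      exact hcn ▸ dvd_pow_self p hn.ne')
    refine fun hb => hp.ne_one ?_
    have hzG : orderOf ((z : S) : G) = p := by rw [orderOf_coe, orderOf_coe, hz]
    have hzZ : ((z : S) : G) ∈ Z :=
      ⟨(z : S).2, by rw [← hzG, pow_orderOf_eq_one], fun w hw =>
        congrArg Subtype.val ((mem_center_iff.1 z.2) ⟨w, hw⟩).symm⟩
    rw [hb, mem_bot] at hzZ
    rw [← hzG, hzZ, orderOf_one]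
  have h := typeP2_irreducible hG hM hKU hK1 hU1 hp (V := Z) (fun z hz => hz.1) hZ1
    (hUM.trans hZn) (hKM.trans hZn)
  refine ⟨⟨⟨fun a b => Subtype.ext ((h.ge a.2).2.2 b b.2).eq⟩⟩, fun a ha => (h.ge ha).2.1⟩

end CfsgLib.OddOrder
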