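import Cfsg.Agent.Lib.OddOrder.Section12
import Cfsg.Agent.Lib.OddOrder.TypeP

/-!
`M_F ≤ M_σ`, with equality when `M_σ` is nilpotent.
-/

set_option autoImplicit false
set_option linter.style.haveILetI false

open scoped Pointwise

namespace CfsgLib.OddOrder

open Subgroup

variable {G : Type*} [Group G] [Finite G] (hG : Cfsg.IsMinSimpleOddOrder G) {M : Subgroup G}
  (hM : IsCoatom M)
include hG hM

/-- The primes of `M_F` lie in `σ(M)`, so `M_F ≤ M_σ` (part of BG 15.1). -/
theorem fittingHallOf_le_sigmaCore : Cfsg.fittingHallOf M ≤ Cfsg.sigmaCore M := by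
  refine Subgroup.map_le_iff_le_comap.2 (sSup_le fun N hN => ?_)
  obtain ⟨hNn, hNnil, hNco⟩ := hN
  haveI := hNn
  haveI := hNnil
  rw [← Subgroup.map_le_iff_le_comap]
  refine le_sigmaCore_of_piSubgroup hG hM (fun s hs hd => ?_) (map_subtype_le _)
  rw [card_map_of_injective M.subtype_injective] at hd
  haveI := Fact.mk hs
  obtain ⟨S⟩ : Nonempty (Sylow s N) := inferInstance
  haveI hSn : (S : Subgroup N).Normal :=
    ((Group.isNilpotent_of_finite_tfae (G := N)).out 0 3 rfl rfl).mp hNnil s ‹_› S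
  haveI : (S : Subgroup N).Characteristic := Sylow.characteristic_of_normal S hSn
  set T := (S : Subgroup N).map N.subtype with hT
  haveI hTn : T.Normal := inferInstance
  have hTp : IsPGroup s T := S.2.map _
  have hTi : ¬ s ∣ T.index := by
    rw [hT, index_map_subtype]
    exact fun h => (hs.dvd_mul.1 h).elim S.not_dvd_index
      fun h2 => Nat.not_coprime_of_dvd_of_dvd hs.one_lt hd h2 hNco
  refine ⟨hs, hd.trans (card_subgroup_dvd_card N), hTp.toSylow hTi, ?_⟩
  rw [IsPGroup.toSylow_coe]
  have hne : T.map M.subtype ≠ ⊥ := by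
    rw [Ne, Subgroup.map_eq_bot_iff_of_injective _ M.subtype_injective, hT,
      Subgroup.map_eq_bot_iff_of_injective _ N.subtype_injective]
    exact S.ne_bot_of_dvd_card hd
  refine (normalizer_eq_of_isCoatom_of_le hG hM hne (map_subtype_le _) ?_).le
  refine le_trans (le_of_eq ?_) (le_normalizer_map (H := T) M.subtype)
  rw [normalizer_eq_top, ← MonoidHom.range_eq_map, range_subtype]

/-- A nilpotent `M_σ` is `M_F`. -/
theorem sigmaCore_eq_fittingHallOf (hnil : Group.IsNilpotent (Cfsg.sigmaCore M)) :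
    Cfsg.sigmaCore M = Cfsg.fittingHallOf M := by
  refine le_antisymm ?_ (fittingHallOf_le_sigmaCore hG hM)
  obtain ⟨hMh, -⟩ := hall_of_subset hG hM (π := Cfsg.sigma M) subset_rfl
    fun p _ S hp => sylow_le_sigmaCore hG hM hp S
  refine Subgroup.map_mono (le_sSup ⟨inferInstance, ?_, ?_⟩)
  · haveI : Group.IsNilpotent ↥((Cfsg.piCore (Cfsg.sigma M) M).map M.subtype) := hnil
    exact Group.nilpotent_of_mulEquiv (equivMapOfInjective _ M.subtype M.subtype_injective).symm
  · refine Nat.coprime_of_dvd fun s hs h1 h2 => hMh.2.2 s hs ?_ ?_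
    · exact piCore_isPiSubgroup (Cfsg.sigma M) M s hs h1
    · rwa [relIndex, Cfsg.piCoreOf, subgroupOf, comap_map_eq_self_of_injective M.subtype_injective]

end CfsgLib.OddOrder
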