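import Cfsg.Agent.Lib.OddOrder.SCNUnique

/-!
BG 9.6: the uniqueness theorem.
-/

set_option autoImplicit false
set_option linter.style.haveILetI false

namespace CfsgLib.OddOrder

open Subgroup

variable {G : Type*} [Group G] [Finite G] (hG : Cfsg.IsMinSimpleOddOrder G)
include hG

/-- Every abelian `p`-subgroup of rank at least three has a unique maximal overgroup. -/
theorem inUniqueMaximal_of_abelian_rank_three {p : ℕ} [hp : Fact p.Prime] {B : Subgroup G}
    (hBp : IsPGroup p B) (hBc : IsMulCommutative B) (hB3 : ¬ Cfsg.PRankLE p 2 B) :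
    Cfsg.InUniqueMaximal B := by
  obtain ⟨P, hP⟩ := hBp.exists_le_sylow
  obtain ⟨A, hA, hA3⟩ := exists_scn_three hG P fun h => hB3 (TwoFusion.PRank.pRankLE_mono hP h)
  obtain ⟨E, hEB, hEe, hE⟩ := exists_elementary_of_not_pRankLE hB3
  refine inUniqueMaximal_of_rank_three hG (le_centralizer_iff_isMulCommutative.1
    (fun a ha => mem_centralizer_iff.2 fun b hb => isSCN_abelian hA b hb a ha)) hA3
    (inUniqueMaximal_of_scn hG P hA hA3) hBp (fun hc => ?_)
    (not_pRankLE_of_elementary (hEB.trans (le_centralizer_iff_isMulCommutative.2 hBc)) hEe hE)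
  refine elementary_not_isCyclic hEe (lt_of_le_of_lt (Nat.le_self_pow two_ne_zero p) hE) ?_
  haveI := hc
  exact isCyclic_of_surjective (subgroupOfEquivOfLe hEB).toMonoidHom
    (subgroupOfEquivOfLe hEB).surjective

/-- Elementary abelian subgroups of order at least `p ^ 3`. -/
theorem inUniqueMaximal_of_elementary_three {p : ℕ} [hp : Fact p.Prime] {E : Subgroup G}
    (hEe : Cfsg.IsElementaryAbelian p E) (hE : p ^ 2 < Nat.card E) : Cfsg.InUniqueMaximal E :=
  inUniqueMaximal_of_abelian_rank_three hG (isPGroup_of_exp hEe.2) hEe.1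
    (not_pRankLE_of_elementary le_rfl hEe hE)

/-- BG 9.6. -/
theorem uniqueness_theorem {K : Subgroup G} (hK : K ≠ ⊤) (hK2 : ¬ Cfsg.RankLE 1 K)
    (hK3 : ¬ Cfsg.RankLE 2 K ∨ ¬ Cfsg.RankLE 2 (Subgroup.centralizer (K : Set G))) :
    Cfsg.InUniqueMaximal K := by
  rcases hK3 with h | h <;> obtain ⟨q, E, hq, hEX, hEe, hE⟩ := exists_elementary_of_not_rankLE h <;>
    haveI := Fact.mk hq
  · exact inUniqueMaximal_mono (inUniqueMaximal_of_elementary_three hG hEe hE) hEX hK
  · obtain ⟨r, hr, hr1⟩ : ∃ r : ℕ, r.Prime ∧ ¬ Cfsg.PRankLE r 1 K := by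
      simpa [Cfsg.RankLE] using hK2
    haveI := Fact.mk hr
    exact inUniqueMaximal_of_rank hG (inUniqueMaximal_of_elementary_three hG hEe hE)
      (le_centralizer_iff.1 hEX) hr1

end CfsgLib.OddOrder
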