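import Cfsg.Agent.Lib.OddOrder.Beta
import Cfsg.Agent.Lib.OddOrder.UniquenessTheorem
import Cfsg.Agent.Lib.Solvable.Hall

/-!
BG 10.12 (disjointness for non-conjugate maximal subgroups) and BG 10.14 (uniqueness for ideal
primes).
-/

set_option autoImplicit false
set_option linter.style.haveILetI false

namespace CfsgLib.OddOrder

open Subgroup

/-- A subgroup of a finite cyclic group is determined by its order. -/
theorem eq_of_card_eq_of_isCyclic {C : Type*} [Group C] [Finite C] [IsCyclic C] {H K : Subgroup C}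
    (h : Nat.card H = Nat.card K) : H = K := by
  classical
  haveI : Fintype C := Fintype.ofFinite C
  set m := Nat.card K
  set U : Finset C := Finset.univ.filter fun x => x ^ m = 1
  have hU : U.card ≤ m := IsCyclic.card_pow_eq_one_le Nat.card_pos
  have key : ∀ L : Subgroup C, Nat.card L = m → (Finset.univ.filter fun x => x ∈ L) = U := by
    intro L hL
    refine Finset.eq_of_subset_of_card_le (fun x hx => ?_) ?_
    · rw [Finset.mem_filter] at hx
      exact Finset.mem_filter.2 ⟨Finset.mem_univ x,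
        orderOf_dvd_iff_pow_eq_one.1 (hL ▸ Subgroup.orderOf_dvd_natCard L hx.2)⟩
    · refine hU.trans (le_of_eq ?_)
      rw [← hL, Nat.card_eq_fintype_card, Fintype.card_subtype]
  ext x
  have h1 := Finset.ext_iff.1 ((key H h).trans (key K rfl).symm) x
  simpa using h1

variable {G : Type*} [Group G] [Finite G] (hG : Cfsg.IsMinSimpleOddOrder G)
include hG

/-- BG 10.14 (a), (b). -/
theorem inUniqueMaximal_of_ideal {p : ℕ} [hp : Fact p.Prime] (hi : Cfsg.IsIdealPrime p G)
    {X : Subgroup G} (hX : IsPGroup p X) (hXc : ¬ IsCyclic X) : Cfsg.InUniqueMaximal X := by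
  have hp2 : p ≠ 2 := by
    rintro rfl
    obtain ⟨E, -, hEe, hE⟩ := exists_elementary_of_not_pRankLE (X := (⊤ : Subgroup G))
      fun h => hi.2.1 (TwoFusion.PRank.pRankLE_of_injective
        (Subgroup.topEquiv (G := G)).symm.toMonoidHom (Subgroup.topEquiv (G := G)).symm.injective h)
    obtain ⟨n, hn⟩ := (isPGroup_of_exp hEe.2).exists_card_eq
    rcases n with _ | n
    · rw [hn] at hE; norm_num at hE
    · exact prime_ne_two_of_dvd_card hG (hn ▸ dvd_pow_self 2 n.succ_ne_zero) rfl
  obtain ⟨E, hEX, hEe, hE⟩ := exists_elementary_of_not_pRankLE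
    (not_pRankLE_one_of_not_isCyclic hp2 hX hXc)
  obtain ⟨n, hn⟩ := (isPGroup_of_exp hEe.2).exists_card_eq
  have hn2 : 2 ≤ n := by
    rw [hn, pow_one] at hE
    rcases n with _ | _ | n
    · simp at hE; exact absurd hE (by have := hp.out.one_lt; omega)
    · simp at hE
    · omega
  obtain ⟨A₀, hA₀⟩ := Sylow.exists_subgroup_card_pow_prime (G := E) p (n := 2)
    (hn ▸ pow_dvd_pow p hn2)
  set A := A₀.map E.subtype
  have hAE : A ≤ E := map_subtype_le _
  have hAe : Cfsg.IsElementaryAbelian p A := by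
    haveI := hEe.1
    exact ⟨⟨⟨fun a b => Subtype.ext (setLike_mul_comm (hAE a.2) (hAE b.2))⟩⟩,
      fun a ha => hEe.2 a (hAE ha)⟩
  have hA2 : Nat.card A = p ^ 2 := by
    rw [card_map_of_injective E.subtype_injective, hA₀]
  obtain ⟨P, hP⟩ := hX.exists_le_sylow
  obtain ⟨B, -, hBe, hAB⟩ := hi.2.2 P A ((hAE.trans hEX).trans hP) hAe hA2
  have hBC : B ≤ centralizer (A : Set G) := by
    haveI := hBe.1
    exact fun b hb a ha => setLike_mul_comm (hAB.le ha) hb
  have hB : p ^ 2 < Nat.card B := hA2 ▸ lt_of_le_of_ne (card_le_of_le hAB.le)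
    fun h => hAB.ne (eq_of_le_of_card_ge hAB.le h.ge)
  refine inUniqueMaximal_mono (uniqueness_theorem hG (isPGroup_ne_top hG (isPGroup_of_exp hAe.2)) ?_
    (Or.inr (not_rankLE_of_not_pRankLE (not_pRankLE_of_elementary hBC hBe hB)))) (hAE.trans hEX)
    (isPGroup_ne_top hG hX)
  exact not_rankLE_of_not_pRankLE (not_pRankLE_of_elementary le_rfl hAe
    (hA2 ▸ Nat.pow_lt_pow_right hp.out.one_lt one_lt_two))

/-- BG 10.14 (c). -/
theorem inUniqueMaximal_inf_normalizer {p : ℕ} [hp : Fact p.Prime] (hi : Cfsg.IsIdealPrime p G)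
    (P : Sylow p G) {X : Subgroup G} (hXP : X ≤ P) :
    Cfsg.InUniqueMaximal ((P : Subgroup G) ⊓ normalizer (X : Set G)) := by
  set T := (P : Subgroup G) ⊓ normalizer (X : Set G) with hT
  refine inUniqueMaximal_of_ideal hG hi (P.2.to_le inf_le_left) fun hc => ?_
  have hXT : X ≤ T := le_inf hXP le_normalizer
  haveI := hc
  haveI : (X.subgroupOf T).Characteristic := by
    refine characteristic_iff_map_eq.2 fun φ => ?_
    have hcard : Nat.card ((X.subgroupOf T).map φ.toMonoidHom) = Nat.card (X.subgroupOf T) :=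
      card_map_of_injective φ.injective
    exact eq_of_card_eq_of_isCyclic hcard
  have h1 : normalizer (T : Set G) ≤ normalizer (X : Set G) := by
    have := normalizer_le_normalizer_map_of_characteristic T (X.subgroupOf T)
    rwa [map_subgroupOf_eq_of_le hXT] at this
  rcases (inf_le_left : T ≤ (P : Subgroup G)).eq_or_lt with h | h
  · have hPc : IsCyclic (P : Subgroup G) := h ▸ hc
    refine hi.2.1 (pRankLE_of_sylow P fun B hB hBp => ?_)
    haveI := hPc
    haveI : IsCyclic B := inferInstance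
    calc Nat.card B ≤ p := by
          obtain ⟨b, hb⟩ := IsCyclic.exists_generator (α := B)
          rw [← orderOf_eq_card_of_forall_mem_zpowers hb]
          exact Nat.le_of_dvd hp.out.pos (orderOf_dvd_of_pow_eq_one
            (Subtype.ext (by rw [SubgroupClass.coe_pow]; exact hBp b b.2)))
      _ ≤ p ^ 2 := Nat.le_self_pow two_ne_zero p
  · exact (lt_inf_normalizer P.2 h).not_ge
      (le_inf inf_le_left ((inf_le_right).trans h1))

/-- BG 10.14 (d). -/
theorem normalizer_le_of_betaSubgroup {M : Subgroup G} (hM : IsCoatom M) {Y : Subgroup G}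
    (hY1 : Y ≠ ⊥) (hYM : Y ≤ M) (hY : Cfsg.IsPiSubgroup (Cfsg.beta M) Y) :
    normalizer (Y : Set G) ≤ M := by
  haveI := isSolvable_of_ne_top hG (H := Y) fun h => hM.1 (top_le_iff.1 (h ▸ hYM))
  haveI : Nontrivial Y := (Subgroup.nontrivial_iff_ne_bot _).2 hY1
  obtain ⟨p, hp, N, hN, hN1, hNp⟩ : ∃ (p : ℕ) (_ : p.Prime) (N : Subgroup Y),
      N.Normal ∧ N ≠ ⊥ ∧ IsPGroup p N := by
    obtain ⟨p, N, hp, hN, hNp, hN1⟩ := Solvable.exists_normal_pgroup_ne_bot (G := Y)
    exact ⟨p, hp, N, hN, hN1, hNp⟩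
  haveI := Fact.mk hp
  set X := Cfsg.piCoreOf {p} Y with hXdef
  have hX1 : X ≠ ⊥ := by
    intro h
    have := Subgroup.map_mono (f := Y.subtype) (le_piCore hN (isPiSubgroup_singleton.2 hNp))
    rw [show (Cfsg.piCore {p} Y).map Y.subtype = X from rfl, h, le_bot_iff,
      map_eq_bot_iff_of_injective _ Y.subtype_injective] at this
    exact hN1 this
  have hXY : X ≤ Y := piCoreOf_le _ _
  have hXp : IsPGroup p X := isPiSubgroup_singleton.1 (piCoreOf_isPiSubgroup _ _)
  have hpβ : p ∈ Cfsg.beta M := by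
    obtain ⟨n, hn⟩ := hXp.exists_card_eq
    rcases n with _ | n
    · exact absurd (card_eq_one.1 (hn.trans (pow_zero p))) hX1
    · exact hY p hp ((hn ▸ dvd_pow_self p n.succ_ne_zero : p ∣ Nat.card X).trans (card_dvd_of_le hXY))
  obtain ⟨S, hS⟩ :=
    (hXp.of_equiv (subgroupOfEquivOfLe (hXY.trans hYM)).symm).exists_le_sylow
  have hσ : p ∈ Cfsg.sigma M := alpha_subset_sigma hG hM hpβ.1
  have hmx := isMaxPIn_top_of_sigma hσ (isMaxPIn_of_sylow S)
  let P : Sylow p G := ⟨(S : Subgroup M).map M.subtype, S.2.map _,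
    fun {Q} hQ hle => hmx.max Q hQ hle le_top⟩
  have hPM : (P : Subgroup G) ≤ M := map_subtype_le _
  have hXP : X ≤ P := by
    rw [← map_subgroupOf_eq_of_le (hXY.trans hYM)]
    exact map_mono hS
  obtain ⟨L, -, huniq⟩ := inUniqueMaximal_inf_normalizer hG hpβ.2 P hXP
  refine (normalizer_le_normalizer_piCoreOf {p} Y).trans ?_
  obtain ⟨L', hL', hle⟩ := exists_isCoatom_ge
    (normalizer_ne_top hG hX1 (isPGroup_ne_top hG hXp))
  rwa [huniq M ⟨hM, inf_le_left.trans hPM⟩, ← huniq L' ⟨hL', inf_le_right.trans hle⟩]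

omit hG in
/-- The prime of `σ(M)` shared with a non-conjugate maximal subgroup. -/
theorem exists_conj_normalizer_le {M H : Subgroup G} {p : ℕ}
    [hp : Fact p.Prime] (hpM : p ∈ Cfsg.sigma M) (hpH : p ∈ Cfsg.sigma H) (S : Sylow p M) :
    ∃ g : G, normalizer (((S : Subgroup M).map M.subtype : Subgroup G) : Set G) ≤
      H.map (MulAut.conj g).toMonoidHom := by
  obtain ⟨T⟩ : Nonempty (Sylow p H) := inferInstance
  have hm₁ := isMaxPIn_top_of_sigma hpM (isMaxPIn_of_sylow S)
  have hm₂ := isMaxPIn_top_of_sigma hpH (isMaxPIn_of_sylow T)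
  let P : Sylow p G := ⟨(S : Subgroup M).map M.subtype, S.2.map _,
    fun {Q} hQ hle => hm₁.max Q hQ hle le_top⟩
  let R : Sylow p G := ⟨(T : Subgroup H).map H.subtype, T.2.map _,
    fun {Q} hQ hle => hm₂.max Q hQ hle le_top⟩
  obtain ⟨g, hg⟩ := MulAction.exists_smul_eq G R P
  refine ⟨g, ?_⟩
  have hPR : ((S : Subgroup M).map M.subtype) =
      (R : Subgroup G).map (MulAut.conj g).toMonoidHom := (congrArg Sylow.toSubgroup hg).symm
  rw [hPR, ← map_equiv_normalizer_eq]
  exact map_mono (normalizer_le_of_sigma hpH (isMaxPIn_of_sylow T))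

/-- BG 10.12 (a). -/
theorem not_mem_sigma_of_alpha {M H : Subgroup G} (hM : IsCoatom M) (hH : IsCoatom H)
    (hconj : ∀ g : G, H.map (MulAut.conj g).toMonoidHom ≠ M) {p : ℕ} (hpM : p ∈ Cfsg.alpha M) :
    p ∉ Cfsg.sigma H := by
  intro hpH
  haveI := Fact.mk hpH.1
  obtain ⟨S⟩ : Nonempty (Sylow p M) := inferInstance
  obtain ⟨g, hg⟩ := exists_conj_normalizer_le (alpha_subset_sigma hG hM hpM) hpH S
  obtain ⟨E, hEe, hEc, hE⟩ := exists_elementary_of_not_pRankLE
    (X := (S : Subgroup M).map M.subtype) fun h => hpM.2 (pRankLE_of_sylow S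
      (TwoFusion.PRank.pRankLE_of_injective
        ((S : Subgroup M).equivMapOfInjective _ M.subtype_injective).toMonoidHom
        (MulEquiv.injective _) h))
  obtain ⟨L, -, huniq⟩ := inUniqueMaximal_of_elementary_three hG hEc hE
  exact hconj g ((huniq _ ⟨isCoatom_conj hH g, hEe.trans (le_normalizer.trans hg)⟩).trans
    (huniq M ⟨hM, hEe.trans (map_subtype_le _)⟩).symm)

theorem alphaCore_inf_sigmaCore {M H : Subgroup G} (hM : IsCoatom M) (hH : IsCoatom H)
    (hconj : ∀ g : G, H.map (MulAut.conj g).toMonoidHom ≠ M) :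
    Cfsg.alphaCore M ⊓ Cfsg.sigmaCore H = ⊥ := by
  refine card_eq_one.1 (Nat.eq_one_iff_not_exists_prime_dvd.2 fun p hp hd => ?_)
  exact not_mem_sigma_of_alpha hG hM hH hconj
    (piCoreOf_isPiSubgroup _ M p hp (hd.trans (card_dvd_of_le inf_le_left)))
    (piCoreOf_isPiSubgroup _ H p hp (hd.trans (card_dvd_of_le inf_le_right)))

/-- BG 10.12 (b). -/
theorem sigma_disjoint_of_nilpotent {M H : Subgroup G} (hM : IsCoatom M) (hH : IsCoatom H)
    (hconj : ∀ g : G, H.map (MulAut.conj g).toMonoidHom ≠ M)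
    (hn : Group.IsNilpotent (Cfsg.sigmaCore M)) {p : ℕ} (hpM : p ∈ Cfsg.sigma M) :
    p ∉ Cfsg.sigma H := by
  intro hpH
  haveI := Fact.mk hpH.1
  obtain ⟨S⟩ : Nonempty (Sylow p M) := inferInstance
  obtain ⟨g, hg⟩ := exists_conj_normalizer_le hpM hpH S
  set K := Cfsg.sigmaCore M
  haveI := hn
  have hSK : (S : Subgroup M).map M.subtype ≤ K := map_mono (sylow_le_sigmaCore hG hM hpM S)
  have hmax := isMaxPIn_of_sylow S
  let T : Sylow p K := ⟨((S : Subgroup M).map M.subtype).subgroupOf K,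
    (S.2.map _).of_equiv (subgroupOfEquivOfLe hSK).symm, fun {Q} hQ hle => by
      have h1 := hmax.max (Q.map K.subtype) (hQ.map _)
        (by rw [← map_subgroupOf_eq_of_le hSK]; exact map_mono hle)
        ((map_subtype_le _).trans (map_subtype_le _))
      rw [← h1, subgroupOf, comap_map_eq_self_of_injective K.subtype_injective]⟩
  haveI : (T : Subgroup K).Normal :=
    ((Group.isNilpotent_of_finite_tfae (G := K)).out 0 3 rfl rfl).mp hn p ‹_› T
  haveI : (T : Subgroup K).Characteristic := Sylow.characteristic_of_normal T inferInstance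
  have h1 : M ≤ normalizer ((((S : Subgroup M).map M.subtype) : Subgroup G) : Set G) := by
    have h2 := normalizer_le_normalizer_map_of_characteristic K (T : Subgroup K)
    rw [show (T : Subgroup K) = ((S : Subgroup M).map M.subtype).subgroupOf K from rfl,
      map_subgroupOf_eq_of_le hSK] at h2
    exact (le_normalizer_piCoreOf _ M).trans h2
  have h3 : M ≤ H.map (MulAut.conj g).toMonoidHom := h1.trans hg
  exact hconj g (((isCoatom_iff_ge_of_le.1 hM).2 _ (isCoatom_conj hH g).1 h3).antisymm h3)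

end CfsgLib.OddOrder
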