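import Cfsg.Agent.Lib.OddOrder.OmegaFix
import Cfsg.Agent.Lib.PGroup.Basic
import Cfsg.Agent.Lib.Solvable.CoprimeGeneration
import Cfsg.Prelude.Def_CaseTheorems
import Cfsg.Prelude.Def_PLocal
import Mathlib.RingTheory.ZMod.UnitsCyclic

/-!
For odd `p`: a `p`-group of rank at least three has a normal elementary abelian subgroup of order
`p ^ 3` (containing any given normal one of order `p ^ 2`), hence a self-centralizing normal
subgroup of rank at least three.
-/

set_option autoImplicit false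
set_option linter.style.haveILetI false

namespace CfsgLib.OddOrder

open Subgroup

variable {R : Type*} [Group R] [Finite R] {p : ℕ} [hp : Fact p.Prime]

omit [Finite R] hp in
/-- If `y` and `u y` have order dividing the odd prime `p`, and `e = [y, u]` is central in `⟨u, y⟩` of
order dividing `p`, then `u ^ p = 1`. -/
theorem pow_eq_one_of_mul {p : ℕ} [Fact p.Prime] (hp2 : p ≠ 2) {u y e : R} (h : y * u = e * (u * y))
    (heu : Commute e u) (hey : Commute e y) (hep : e ^ p = 1) (hy : y ^ p = 1)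
    (huy : (u * y) ^ p = 1) : u ^ p = 1 := by
  have hk := mul_pow_of_central_commutator h heu hey p
  obtain ⟨m, hm⟩ : p ∣ p.choose 2 :=
    (Fact.out : p.Prime).dvd_choose_self two_ne_zero
      (lt_of_le_of_ne (Fact.out : p.Prime).two_le hp2.symm)
  rw [huy, hy, mul_one, hm, pow_mul, hep, one_pow, one_mul] at hk
  exact hk.symm

omit [Finite R] hp in
/-- A conjugation of order dividing `p` fixing the elements of order `p` of an abelian `p`-subgroup
moves every element by one of order dividing `p`. -/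
theorem pow_commutator_eq_one {p : ℕ} [Fact p.Prime] (hp2 : p ≠ 2) {A : Subgroup R}
    (hAp : IsPGroup p A) (hAc : ∀ a ∈ A, ∀ b ∈ A, a * b = b * a) {x : R}
    (hxA : x ∈ normalizer (A : Set R)) (hx : x ^ p = 1)
    (hfix : ∀ a ∈ A, a ^ p = 1 → x * a = a * x) :
    ∀ a ∈ A, (x * a * x⁻¹ * a⁻¹) ^ p = 1 := by
  have hδA : ∀ a ∈ A, x * a * x⁻¹ * a⁻¹ ∈ A := fun a ha =>
    mul_mem ((mem_normalizer_iff.1 hxA a).1 ha) (inv_mem ha)
  suffices H : ∀ n : ℕ, ∀ a ∈ A, a ^ p ^ n = 1 → (x * a * x⁻¹ * a⁻¹) ^ p = 1 by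
    intro a ha
    obtain ⟨n, hn⟩ := hAp ⟨a, ha⟩
    exact H n a ha (congrArg Subtype.val hn)
  intro n
  induction n with
  | zero =>
    intro a ha h
    rw [pow_zero, pow_one] at h
    simp [h]
  | succ n ih =>
    intro a ha h
    set c := x * a * x⁻¹ * a⁻¹ with hc
    have hcA : c ∈ A := hδA a ha
    -- `c ^ (p * p) = 1`
    have hcp : ∀ k : ℕ, c ^ k = x * a ^ k * x⁻¹ * (a ^ k)⁻¹ := fun k => by
      have hcomm : Commute (x * a * x⁻¹) a⁻¹ :=
        hAc _ ((mem_normalizer_iff.1 hxA a).1 ha) _ (inv_mem ha)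
      rw [hc, hcomm.mul_pow, inv_pow, ← MulAut.conj_apply, ← map_pow, MulAut.conj_apply]
    have hc2 : (c ^ p) ^ p = 1 := by
      rw [hcp]
      exact ih _ (pow_mem ha p) (by rw [← pow_mul, ← pow_succ', h])
    -- `d = [x, c]` has order dividing `p`, so is fixed
    set d := x * c * x⁻¹ * c⁻¹ with hd
    have hdA : d ∈ A := hδA c hcA
    have hdp : d ^ p = 1 := by
      have hcomm : Commute (x * c * x⁻¹) c⁻¹ :=
        hAc _ ((mem_normalizer_iff.1 hxA c).1 hcA) _ (inv_mem hcA)
      rw [hd, hcomm.mul_pow, inv_pow, ← MulAut.conj_apply, ← map_pow, MulAut.conj_apply,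
        hfix _ (pow_mem hcA p) hc2, mul_inv_cancel_right, mul_inv_cancel]
    have h1 : x * c⁻¹ = d⁻¹ * (c⁻¹ * x) := by
      have : d = x * c * x⁻¹ * c⁻¹ := hd
      have h2 : x * c = d * c * x := by rw [this]; group
      have hdc : Commute d c := hAc d hdA c hcA
      calc x * c⁻¹ = c⁻¹ * (c * x) * c⁻¹ := by group
        _ = c⁻¹ * (d⁻¹ * (x * c)) * c⁻¹ := by rw [h2]; group
        _ = d⁻¹ * (c⁻¹ * x) := by
          rw [show c⁻¹ * (d⁻¹ * (x * c)) * c⁻¹ = c⁻¹ * d⁻¹ * x by group,
            (hdc.inv_inv.symm).eq, mul_assoc]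
    have h2 : (c⁻¹ * x) ^ p = 1 := by
      have : c⁻¹ * x = MulAut.conj a x := by rw [hc, MulAut.conj_apply]; group
      rw [this, ← map_pow, hx, map_one]
    have := pow_eq_one_of_mul hp2 h1
      ((show Commute d c from hAc d hdA c hcA).inv_inv)
      ((show Commute x d from hfix d hdA hdp).symm.inv_left)
      (by rw [inv_pow, hdp, inv_one]) hx h2
    rwa [inv_pow, inv_eq_one] at this

/-- A cyclic self-centralizing normal subgroup bounds the rank by two. -/
theorem pRankLE_two_of_cyclic_scn (hp2 : p ≠ 2) (hR : IsPGroup p R) {A : Subgroup R} [A.Normal]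
    [IsCyclic A] (hA : centralizer (A : Set R) = A) : Cfsg.PRankLE p 2 R := by
  classical
  intro B hBc hBp
  let f : B →* MulAut A := (MulAut.conjNormal (H := A)).comp B.subtype
  obtain ⟨n, hn⟩ := (hR.to_subgroup A).exists_card_eq
  haveI : IsCyclic (MulAut A) := by
    haveI := ZMod.isCyclic_units_of_prime_pow p hp.out hp2 n
    rw [← hn] at this
    exact isCyclic_of_surjective (IsCyclic.mulAutMulEquiv A).symm.toMonoidHom
      (IsCyclic.mulAutMulEquiv A).symm.surjective
  haveI : Fintype (MulAut A) := Fintype.ofFinite _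
  have hrange : Nat.card f.range ≤ p := by
    refine le_trans ?_ (IsCyclic.card_pow_eq_one_le (α := MulAut A) hp.out.pos)
    rw [Nat.card_eq_fintype_card, ← Finset.card_univ]
    refine Finset.card_le_card_of_injOn Subtype.val (fun φ _ => ?_) Subtype.val_injective.injOn
    obtain ⟨_, b, rfl⟩ := φ
    simp only [Finset.coe_filter, Finset.mem_univ, true_and, Set.mem_setOf_eq]
    rw [← map_pow, show b ^ p = 1 from Subtype.ext (hBp b b.2), map_one]
  have hker : Nat.card f.ker ≤ p := by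
    haveI : Fintype A := Fintype.ofFinite _
    refine le_trans ?_ (IsCyclic.card_pow_eq_one_le (α := A) hp.out.pos)
    have hmem : ∀ b ∈ f.ker, ((b : B) : R) ∈ A := fun b hb => by
      refine hA.le (mem_centralizer_iff.2 fun a ha => ?_)
      have h2 : ((b : B) : R) * a * ((b : B) : R)⁻¹ = a :=
        congrArg (fun φ : MulAut A => ((φ ⟨a, ha⟩ : A) : R)) (MonoidHom.mem_ker.1 hb)
      exact (mul_inv_eq_iff_eq_mul.mp h2).symm
    rw [← Nat.card_eq_finsetCard]
    refine Nat.card_le_card_of_injective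
      (fun b => ⟨⟨((b.1 : B) : R), hmem b.1 b.2⟩, Finset.mem_filter.2 ⟨Finset.mem_univ _, ?_⟩⟩) ?_
    · exact Subtype.ext (hBp _ b.1.2)
    · intro b c h
      dsimp only at h
      have h1 := congrArg Subtype.val h
      have h2 := congrArg Subtype.val h1
      exact Subtype.ext (Subtype.ext h2)
  calc Nat.card B = Nat.card (B ⧸ f.ker) * Nat.card f.ker :=
        Subgroup.card_eq_card_quotient_mul_card_subgroup _
    _ = Nat.card f.range * Nat.card f.ker := by
        rw [Nat.card_congr (QuotientGroup.quotientKerEquivRange f).toEquiv]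
    _ ≤ p * p := Nat.mul_le_mul hrange hker
    _ = p ^ 2 := (sq p).symm

/-- A `p`-group of rank at least two has a normal elementary abelian subgroup of order `p ^ 2`. -/
theorem exists_normal_elementary_two (hp2 : p ≠ 2) (hR : IsPGroup p R) (hr : ¬ Cfsg.PRankLE p 2 R) :
    ∃ E : Subgroup R, E.Normal ∧ Cfsg.IsElementaryAbelian p E ∧ Nat.card E = p ^ 2 := by
  obtain ⟨A, ⟨hAn, hAc⟩, hmax⟩ :=
    (Set.toFinite {A : Subgroup R | A.Normal ∧ IsMulCommutative A}).exists_maximal
      ⟨⊥, inferInstance, inferInstance⟩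
  haveI := hAn
  haveI := hAc
  have hAC : centralizer (A : Set R) = A :=
    CfsgLib.PGroup.centralizer_eq_of_maximal_normal_abelian hR A hAc
      fun B hB hBc hAB => le_antisymm (hmax ⟨hB, hBc⟩ hAB) hAB
  letI : CommGroup A := { (inferInstance : Group A) with mul_comm := fun x y => hAc.is_comm.comm x y }
  set Ω := ((powMonoidHom p : A →* A).ker).map A.subtype with hΩ
  have hΩmem : ∀ x, x ∈ Ω ↔ x ∈ A ∧ x ^ p = 1 := by
    intro x
    constructor
    · rintro ⟨y, hy, rfl⟩
      exact ⟨y.2, congrArg Subtype.val (MonoidHom.mem_ker.1 hy)⟩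
    · rintro ⟨hx, hxp⟩
      exact ⟨⟨x, hx⟩, MonoidHom.mem_ker.2 (Subtype.ext hxp), rfl⟩
  haveI : Ω.Normal := ⟨fun x hx g => (hΩmem _).2 ⟨hAn.conj_mem x ((hΩmem x).1 hx).1 g, by
    rw [← MulAut.conj_apply, ← map_pow, ((hΩmem x).1 hx).2, map_one]⟩⟩
  obtain ⟨a, ha⟩ := (hR.to_subgroup Ω).exists_card_eq
  have ha2 : 2 ≤ a := by
    by_contra h
    haveI : IsCyclic A := by
      refine Solvable.isCyclic_of_card_pow_prime_le fun q hq => ?_
      by_cases hqp : q = p
      · subst hqp
        rw [← Subgroup.card_map_of_injective A.subtype_injective, ← hΩ, ha]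
        exact (Nat.pow_le_pow_right hp.out.pos (by omega : a ≤ 1)).trans (pow_one q).le
      · have h1 : (powMonoidHom q : A →* A).ker = ⊥ := by
          rw [eq_bot_iff]
          intro z hz
          rw [MonoidHom.mem_ker, powMonoidHom_apply] at hz
          obtain ⟨k, hk⟩ := hR.to_subgroup A z
          rw [Subgroup.mem_bot, ← orderOf_eq_one_iff]
          exact Nat.eq_one_of_dvd_coprimes
            (Nat.Coprime.pow_right k ((Nat.coprime_primes hq hp.out).mpr hqp))
            (orderOf_dvd_of_pow_eq_one hz) (orderOf_dvd_of_pow_eq_one hk)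
        rw [h1, Subgroup.card_bot]
        exact hq.one_lt.le
    exact hr (pRankLE_two_of_cyclic_scn hp2 hR hAC)
  obtain ⟨E, hEn, hEΩ, hEc⟩ := CfsgLib.PGroup.exists_normal_card_le hR 2 a Ω ha ha2
  refine ⟨E, hEn, ⟨?_, fun x hx => ((hΩmem x).1 (hEΩ hx)).2⟩, hEc⟩
  refine le_centralizer_iff_isMulCommutative.1 fun x hx y hy => ?_
  exact mem_centralizer_iff.1 (le_centralizer_iff_isMulCommutative.2 hAc ((hΩmem x).1 (hEΩ hx)).1) y
    ((hΩmem y).1 (hEΩ hy)).1

omit hp in
theorem centralizer_index_le {p : ℕ} [Fact p.Prime] (hR : IsPGroup p R) {E : Subgroup R} [E.Normal]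
    (hE : Cfsg.IsElementaryAbelian p E) (hE2 : Nat.card E = p ^ 2) :
    (centralizer (E : Set R)).index ≤ p := by
  obtain ⟨z, hzE, hzc, hzo⟩ := CfsgLib.PGroup.exists_central_orderOf_eq hR E (fun h => by
    rw [h, Subgroup.card_bot] at hE2
    exact (Nat.one_lt_pow two_ne_zero (Fact.out : p.Prime).one_lt).ne hE2)
  obtain ⟨e, heE, hez⟩ : ∃ e ∈ E, e ∉ zpowers z := by
    by_contra h
    push Not at h
    have := Subgroup.card_le_of_le (show E ≤ zpowers z from h)
    rw [Nat.card_zpowers, hzo, hE2] at this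
    exact absurd this (not_le.2 (by
      calc p = p ^ 1 := (pow_one p).symm
        _ < p ^ 2 := Nat.pow_lt_pow_right (Fact.out : p.Prime).one_lt one_lt_two))
  have hspan : ∀ g : R, g * e = e * g → g ∈ centralizer (E : Set R) := by
    intro g hg
    have hle : zpowers z < E ⊓ centralizer ({g} : Set R) := by
      refine lt_of_le_of_ne (zpowers_le.2 ⟨hzE, mem_centralizer_singleton_iff.2
        (mem_center_iff.1 hzc g).symm⟩) fun h => hez (h ▸ mem_inf.2 ⟨heE, mem_centralizer_singleton_iff.2 hg.symm⟩)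
    obtain ⟨i, hi⟩ := (hR.to_subgroup (E ⊓ centralizer ({g} : Set R))).exists_card_eq
    have h1 : p < p ^ i := by
      rw [← hi, ← hzo, ← Nat.card_zpowers]
      exact (Subgroup.card_le_of_le hle.le).lt_of_ne fun he =>
        hle.ne (Subgroup.eq_of_le_of_card_ge hle.le he.ge)
    have h2 : 1 < i := (Nat.pow_lt_pow_iff_right (Fact.out : p.Prime).one_lt).1 (by rwa [pow_one])
    have heq : E ⊓ centralizer ({g} : Set R) = E := Subgroup.eq_of_le_of_card_ge inf_le_left (by
      rw [hi, hE2]; exact Nat.pow_le_pow_right (Fact.out : p.Prime).pos h2)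
    intro x hx
    exact mem_centralizer_singleton_iff.1 ((heq.ge hx).2)
  let φ : R ⧸ centralizer (E : Set R) → {w : E // (w : R) ∉ zpowers z} :=
    Quotient.lift (fun g => ⟨⟨g * e * g⁻¹, (inferInstance : E.Normal).conj_mem e heE g⟩, fun hmem => by
        obtain ⟨i, hi⟩ := hmem
        refine hez ⟨i, ?_⟩
        show z ^ i = e
        calc z ^ i = g⁻¹ * (g * z ^ i) := by group
          _ = g⁻¹ * (z ^ i * g) := by rw [mem_center_iff.1 (zpow_mem hzc i) g]
          _ = g⁻¹ * (g * e * g⁻¹ * g) := by rw [show z ^ i = g * e * g⁻¹ from hi]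
          _ = e := by group⟩)
      (fun g g' h => by
        have h1 := mem_centralizer_iff.1 (QuotientGroup.leftRel_apply.1 h) e heE
        refine Subtype.ext (Subtype.ext ?_)
        show g * e * g⁻¹ = g' * e * g'⁻¹
        calc g * e * g⁻¹ = g * (e * (g⁻¹ * g')) * g'⁻¹ := by group
          _ = g * (g⁻¹ * g' * e) * g'⁻¹ := by rw [h1]
          _ = g' * e * g'⁻¹ := by group)
  have hφ : Function.Injective φ := by
    intro a b h
    induction a using QuotientGroup.induction_on with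
    | _ g =>
      induction b using QuotientGroup.induction_on with
      | _ g' =>
        apply QuotientGroup.eq.2
        have h' : g * e * g⁻¹ = g' * e * g'⁻¹ :=
          congrArg (fun w : {w : E // (w : R) ∉ zpowers z} => ((w : E) : R)) h
        refine hspan _ ?_
        calc g⁻¹ * g' * e = g⁻¹ * (g' * e * g'⁻¹) * g' := by group
          _ = g⁻¹ * (g * e * g⁻¹) * g' := by rw [h']
          _ = e * (g⁻¹ * g') := by group
  obtain ⟨i, hi⟩ := hR.index (centralizer (E : Set R))
  have hlt : (centralizer (E : Set R)).index < p ^ 2 := by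
    rw [← hE2]
    exact lt_of_le_of_lt (Nat.card_le_card_of_injective φ hφ)
      (Finite.card_subtype_lt (x := (⟨z, hzE⟩ : E)) (fun h => h (mem_zpowers z)))
  rw [hi] at hlt ⊢
  have := (Nat.pow_lt_pow_iff_right (Fact.out : p.Prime).one_lt).1 hlt
  exact le_of_le_of_eq (Nat.pow_le_pow_right (Fact.out : p.Prime).pos (by omega : i ≤ 1)) (pow_one p)

/-- A normal elementary abelian subgroup of order `p ^ 2` lies in one of order `p ^ 3` if the rank is
at least three. -/
theorem exists_normal_elementary_three (hp2 : p ≠ 2) (hR : IsPGroup p R)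
    (hr : ¬ Cfsg.PRankLE p 2 R) {E : Subgroup R} [hEn : E.Normal]
    (hE : Cfsg.IsElementaryAbelian p E) (hE2 : Nat.card E = p ^ 2) :
    ∃ N : Subgroup R, N.Normal ∧ E ≤ N ∧ Cfsg.IsElementaryAbelian p N ∧ Nat.card N = p ^ 3 := by
  set T := centralizer (E : Set R) with hT
  have hET : E ≤ T := le_centralizer_iff_isMulCommutative.2 hE.1
  -- a normal subgroup of exponent `p` of `T` strictly above `E`
  suffices hK : ∃ K : Subgroup R, K.Normal ∧ E < K ∧ K ≤ T ∧ ∀ x ∈ K, x ^ p = 1 by
    obtain ⟨K, hKn, hEK, hKT, hKp⟩ := hK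
    obtain ⟨x, hxK, hxE, hxp, hxc⟩ := CfsgLib.PGroup.exists_step hR E K hEK
    refine ⟨E ⊔ zpowers x, CfsgLib.PGroup.sup_zpowers_normal hxc, le_sup_left, ⟨?_, fun y hy =>
      hKp y (sup_le hEK.le (zpowers_le.2 hxK) hy)⟩, ?_⟩
    · rw [← le_centralizer_iff_isMulCommutative]
      have hxT : ∀ e ∈ E, e * x = x * e := fun e he => mem_centralizer_iff.1 (hKT hxK) e he
      refine sup_le (le_centralizer_iff.1 (sup_le hET (zpowers_le.2 ?_))) (zpowers_le.2 ?_)
      · exact fun e he => (hxT e he)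
      · intro y hy
        have hle : E ⊔ zpowers x ≤ centralizer ({x} : Set R) :=
          sup_le (fun e he => mem_centralizer_singleton_iff.2 (hxT e he))
            (zpowers_le.2 (mem_centralizer_singleton_iff.2 rfl))
        exact mem_centralizer_singleton_iff.1 (hle hy)
    · rw [CfsgLib.PGroup.card_sup_zpowers hxE hxp, hE2, ← pow_succ']
  obtain ⟨A, ⟨hAn, hAc, hEA⟩, hmax⟩ :=
    (Set.toFinite {A : Subgroup R | A.Normal ∧ IsMulCommutative A ∧ E ≤ A}).exists_maximal
      ⟨E, hEn, hE.1, le_rfl⟩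
  haveI := hAn
  have hAcc : ∀ a ∈ A, ∀ b ∈ A, a * b = b * a := fun a ha b hb =>
    mem_centralizer_iff.1 (le_centralizer_iff_isMulCommutative.2 hAc hb) a ha
  have hAC : centralizer (A : Set R) = A :=
    CfsgLib.PGroup.centralizer_eq_of_maximal_normal_abelian hR A hAc
      fun B hB hBc hAB => le_antisymm (hmax ⟨hB, hBc, hEA.trans hAB⟩ hAB) hAB
  have hAT : A ≤ T := hAC.ge.trans (centralizer_le hEA)
  by_cases hΩ : ∀ a ∈ A, a ^ p = 1 → a ∈ E
  · -- the elements of order dividing `p` of `T` form a subgroup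
    have hclosed : ∀ x ∈ T, x ^ p = 1 → ∀ y ∈ T, y ^ p = 1 → (x * y) ^ p = 1 := by
      intro x hxT hxp y hyT hyp
      have hnorm : ∀ g : R, g ∈ normalizer (A : Set R) := fun g => by
        rw [normalizer_eq_top A]; exact mem_top g
      have hfix : ∀ g ∈ T, ∀ a ∈ A, a ^ p = 1 → g * a = a * g := fun g hg a ha hap =>
        (mem_centralizer_iff.1 hg a (hΩ a ha hap)).symm
      have hδ : ∀ g ∈ T, g ^ p = 1 → ∀ a ∈ A, g * a * g⁻¹ * a⁻¹ ∈ E := fun g hg hgp a ha =>
        hΩ _ (mul_mem (hAn.conj_mem a ha g) (inv_mem ha))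
          (pow_commutator_eq_one hp2 (hR.to_subgroup A) hAcc (hnorm g) hgp (hfix g hg) a ha)
      have hEcomm : ∀ e ∈ E, ∀ g ∈ T, e * g = g * e := fun e he g hg =>
        mem_centralizer_iff.1 hg e he
      -- conjugation by `x` and by `y` commute on `A`
      set c := y * x * y⁻¹ * x⁻¹ with hc
      have hcA : c ∈ A := by
        rw [← hAC]
        intro a ha
        have key : c * a * c⁻¹ = a := by
          set w := y⁻¹ * (x⁻¹ * a * x) * y with hw
          have hwA : w ∈ A := by
            have := hAn.conj_mem _ (hAn.conj_mem a ha x⁻¹) y⁻¹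
            simpa [hw, mul_assoc] using this
          have h3 : x * (y * w * y⁻¹) * x⁻¹ = a := by rw [hw]; group
          have h4 : c * a * c⁻¹ = y * (x * w * x⁻¹) * y⁻¹ := by rw [hc, hw]; group
          have hcomm' : y * (x * w * x⁻¹) * y⁻¹ = x * (y * w * y⁻¹) * x⁻¹ := by
            obtain ⟨u, hu, h1⟩ : ∃ u ∈ E, x * w * x⁻¹ = u * w :=
              ⟨_, hδ x hxT hxp w hwA, by group⟩
            obtain ⟨v, hv, h2⟩ : ∃ v ∈ E, y * w * y⁻¹ = v * w :=
              ⟨_, hδ y hyT hyp w hwA, by group⟩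
            calc y * (x * w * x⁻¹) * y⁻¹ = (y * u * y⁻¹) * (y * w * y⁻¹) := by rw [h1]; group
              _ = u * (v * w) := by rw [h2, ← hEcomm u hu y hyT, mul_inv_cancel_right]
              _ = v * (u * w) := by
                rw [← mul_assoc u v w, hAcc u (hEA hu) v (hEA hv), mul_assoc]
              _ = (x * v * x⁻¹) * (x * w * x⁻¹) := by
                rw [h1, ← hEcomm v hv x hxT, mul_inv_cancel_right]
              _ = x * (y * w * y⁻¹) * x⁻¹ := by rw [h2]; group
          rw [h4, hcomm', h3]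
        exact (mul_inv_eq_iff_eq_mul.1 key).symm
      -- `c ^ p = 1`
      have he := hδ x hxT hxp c hcA
      have hcx : (c * x) ^ p = 1 := by
        have : c * x = MulAut.conj y x := by rw [hc, MulAut.conj_apply]; group
        rw [this, ← map_pow, hxp, map_one]
      have hcp : c ^ p = 1 :=
        pow_eq_one_of_mul hp2 (u := c) (y := x) (e := x * c * x⁻¹ * c⁻¹) (by group)
          (hEcomm _ he c (hAT hcA)) (hEcomm _ he x hxT) (hE.2 _ he) hxp hcx
      have hcE : c ∈ E := hΩ c hcA hcp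
      have hxy : y * x = c * (x * y) := by rw [hc]; group
      have hk := mul_pow_of_central_commutator hxy (hEcomm c hcE x hxT) (hEcomm c hcE y hyT) p
      obtain ⟨m, hm⟩ : p ∣ p.choose 2 :=
        hp.out.dvd_choose_self two_ne_zero (lt_of_le_of_ne hp.out.two_le hp2.symm)
      rw [hk, hxp, hyp, mul_one, hm, pow_mul, hE.2 c hcE, one_pow, mul_one]
    let K : Subgroup R :=
      { carrier := {x | x ∈ T ∧ x ^ p = 1}
        one_mem' := ⟨one_mem T, one_pow p⟩
        mul_mem' := fun {a b} ha hb => ⟨mul_mem ha.1 hb.1, hclosed a ha.1 ha.2 b hb.1 hb.2⟩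
        inv_mem' := fun {a} ha => ⟨inv_mem ha.1, by rw [inv_pow, ha.2, inv_one]⟩ }
    have hKn : K.Normal := ⟨fun x hx g => ⟨(inferInstance : T.Normal).conj_mem x hx.1 g, by
      rw [← MulAut.conj_apply, ← map_pow, hx.2, map_one]⟩⟩
    refine ⟨K, hKn, lt_of_le_of_ne (fun e he => ⟨hET he, hE.2 e he⟩) fun hEK => ?_,
      fun x hx => hx.1, fun x hx => hx.2⟩
    simp only [Cfsg.PRankLE] at hr
    push Not at hr
    obtain ⟨B, hBc, hBp, hB⟩ := hr
    have hBT : B ⊓ T ≤ E := fun x hx => hEK.ge ⟨hx.2, hBp x hx.1⟩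
    have hidx : (T.relIndex B) ≤ p :=
      le_trans (Nat.le_of_dvd (Nat.pos_of_ne_zero T.index_ne_zero_of_finite)
        (Subgroup.relIndex_dvd_index_of_normal T B)) (centralizer_index_le hR hE hE2)
    have hBcard : Nat.card B = T.relIndex B * Nat.card ↥(B ⊓ T) := by
      rw [← Subgroup.inf_relIndex_right, inf_comm T B, mul_comm,
        ← Subgroup.relIndex_bot_left (B ⊓ T), Subgroup.relIndex_mul_relIndex ⊥ _ _ bot_le inf_le_left,
        Subgroup.relIndex_bot_left]
    obtain ⟨j, hj⟩ := (hR.to_subgroup B).exists_card_eq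
    have hj3 : 3 ≤ j := by
      rw [hj] at hB
      exact (Nat.pow_lt_pow_iff_right hp.out.one_lt).1 hB
    have hge : Nat.card E ≤ Nat.card ↥(B ⊓ T) := by
      have h1 : p ^ 3 ≤ p * Nat.card ↥(B ⊓ T) := by
        refine le_trans ?_ (Nat.mul_le_mul_right _ hidx)
        rw [← hBcard, hj]
        exact Nat.pow_le_pow_right hp.out.pos hj3
      rw [pow_succ' p 2] at h1
      rw [hE2]
      exact Nat.le_of_mul_le_mul_left h1 hp.out.pos
    have hEB : E ≤ B := by
      rw [← Subgroup.eq_of_le_of_card_ge hBT hge]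
      exact inf_le_left
    have hBleT : B ≤ T := fun b hb e he =>
      mem_centralizer_iff.1 (le_centralizer_iff_isMulCommutative.2 hBc hb) e (hEB he)
    have := Subgroup.card_le_of_le ((le_inf le_rfl hBleT).trans hBT)
    omega
  · push Not at hΩ
    obtain ⟨a, haA, hap, haE⟩ := hΩ
    let K : Subgroup R :=
      { carrier := {x | x ∈ A ∧ x ^ p = 1}
        one_mem' := ⟨one_mem A, one_pow p⟩
        mul_mem' := fun {a b} ha hb => ⟨mul_mem ha.1 hb.1, by
          rw [(show Commute a b from hAcc a ha.1 b hb.1).mul_pow, ha.2, hb.2, one_mul]⟩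
        inv_mem' := fun {a} ha => ⟨inv_mem ha.1, by rw [inv_pow, ha.2, inv_one]⟩ }
    have hKn : K.Normal := ⟨fun x hx g => ⟨hAn.conj_mem x hx.1 g, by
      rw [← MulAut.conj_apply, ← map_pow, hx.2, map_one]⟩⟩
    exact ⟨K, hKn, lt_of_le_of_ne (fun e he => ⟨hEA he, hE.2 e he⟩)
      fun h => haE (h.ge ⟨haA, hap⟩), fun x hx => hAT hx.1, fun x hx => hx.2⟩

/-- `SCN₃` subgroups through a given normal elementary abelian subgroup of order `p ^ 2`. -/
theorem exists_scn_three_ge (hp2 : p ≠ 2) (hR : IsPGroup p R) (hr : ¬ Cfsg.PRankLE p 2 R)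
    {E : Subgroup R} [hEn : E.Normal] (hE : Cfsg.IsElementaryAbelian p E)
    (hE2 : Nat.card E = p ^ 2) :
    ∃ A : Subgroup R, E ≤ A ∧ A.Normal ∧ centralizer (A : Set R) = A ∧ ¬ Cfsg.PRankLE p 2 A := by
  obtain ⟨N, hNn, hEN, hNe, hN3⟩ := exists_normal_elementary_three hp2 hR hr hE hE2
  obtain ⟨A, ⟨hAn, hAc, hNA⟩, hmax⟩ :=
    (Set.toFinite {A : Subgroup R | A.Normal ∧ IsMulCommutative A ∧ N ≤ A}).exists_maximal
      ⟨N, hNn, hNe.1, le_rfl⟩
  haveI := hAn
  refine ⟨A, hEN.trans hNA, hAn,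
    CfsgLib.PGroup.centralizer_eq_of_maximal_normal_abelian hR A hAc
      (fun B hB hBc hAB => le_antisymm (hmax ⟨hB, hBc, hNA.trans hAB⟩ hAB) hAB), fun h => ?_⟩
  have := h (N.subgroupOf A)
    (by haveI := hNe.1; infer_instance)
    (fun a ha => Subtype.ext (hNe.2 _ (mem_subgroupOf.1 ha)))
  rw [Nat.card_congr (subgroupOfEquivOfLe hNA).toEquiv, hN3] at this
  exact absurd this (not_le.2 (Nat.pow_lt_pow_right hp.out.one_lt (by norm_num)))

end CfsgLib.OddOrder
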