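import Cfsg.Agent.Lib.OddOrder.PiCore
import Cfsg.Agent.Lib.Solvable.CoprimeAction
import Mathlib.GroupTheory.Nilpotent
import Mathlib.Data.Nat.Factorization.Basic

/-!
Components of nilpotent groups and of the Fitting subgroup of a subgroup, in ambient form.
-/

set_option autoImplicit false
set_option linter.style.haveILetI false

namespace CfsgLib.OddOrder

open Subgroup

variable {G : Type*} [Group G] [Finite G]

omit [Finite G] in
/-- An element having, for each prime divisor of its order, a power of exponent prime to it in `W`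
lies in `W`. -/
theorem mem_of_forall_exists_pow_mem {W : Subgroup G} {x : G} (hx0 : 0 < orderOf x)
    (h : ∀ s : ℕ, s.Prime → s ∣ orderOf x → ∃ k, ¬ s ∣ k ∧ x ^ k ∈ W) : x ∈ W := by
  set Z := zpowers x with hZ
  haveI : IsMulCommutative Z := inferInstance
  haveI : (W.subgroupOf Z).Normal := ⟨fun n hn g => by
    rw [show g * n * g⁻¹ = n by rw [mul_comm' g n]; group]
    exact hn⟩
  set y : Z := ⟨x, mem_zpowers x⟩
  set f := QuotientGroup.mk' (W.subgroupOf Z)
  by_contra hxW
  have hne : orderOf (f y) ≠ 1 := by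
    rw [Ne, orderOf_eq_one_iff, QuotientGroup.mk'_apply, QuotientGroup.eq_one_iff]
    exact hxW
  obtain ⟨s, hs, hsd⟩ := Nat.exists_prime_and_dvd hne
  obtain ⟨k, hk, hkW⟩ := h s hs (hsd.trans ((orderOf_map_dvd f y).trans (by
    rw [← Subgroup.orderOf_coe])))
  apply hk
  refine hsd.trans (orderOf_dvd_of_pow_eq_one ?_)
  rw [← map_pow, QuotientGroup.mk'_apply, QuotientGroup.eq_one_iff]
  exact hkW

theorem mem_piCore_of_nilpotent {M : Type*} [Group M] [Finite M] [Group.IsNilpotent M] {π : Set ℕ}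
    {x : M} (hx : ∀ s : ℕ, s.Prime → s ∣ orderOf x → s ∈ π) : x ∈ Cfsg.piCore π M := by
  refine mem_of_forall_exists_pow_mem (orderOf_pos x) fun s hs hsd => ?_
  haveI := Fact.mk hs
  set n := orderOf x
  refine ⟨n / s ^ n.factorization s, Nat.not_dvd_ordCompl hs (orderOf_pos x).ne', ?_⟩
  have hz : IsPGroup s (zpowers (x ^ (n / s ^ n.factorization s))) := by
    refine IsPGroup.of_card (n := n.factorization s) ?_
    rw [Nat.card_zpowers, orderOf_pow_orderOf_div (orderOf_pos x).ne' (Nat.ordProj_dvd n s)]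
  obtain ⟨P, hP⟩ := hz.exists_le_sylow
  have hPn : (P : Subgroup M).Normal := inferInstance
  refine le_piCore hPn (fun p hp hd => ?_) (hP (mem_zpowers _))
  obtain ⟨m, hm⟩ := P.2.exists_card_eq
  rw [hm] at hd
  rw [(Nat.prime_dvd_prime_iff_eq hp hs).1 (hp.dvd_of_dvd_pow hd)]
  exact hx s hs hsd

/-- In a nilpotent subgroup the `π`-elements lie in its `π`-core. -/
theorem mem_piCoreOf_of_nilpotent {N : Subgroup G} (hN : Group.IsNilpotent N) {π : Set ℕ} {x : G}
    (hxN : x ∈ N) (hx : ∀ s : ℕ, s.Prime → s ∣ orderOf x → s ∈ π) :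
    x ∈ Cfsg.piCoreOf π N := by
  haveI := hN
  exact ⟨⟨x, hxN⟩, mem_piCore_of_nilpotent (by rwa [Subgroup.orderOf_mk]), rfl⟩

theorem orderOf_dvd_card_of_mem {A : Subgroup G} {x : G} (hx : x ∈ A) :
    orderOf x ∣ Nat.card A := by
  rw [← Subgroup.orderOf_mk x hx]
  exact orderOf_dvd_natCard _

/-- A nilpotent group is generated by its `π`- and `π'`-parts. -/
theorem le_sup_piCoreOf_of_nilpotent {N : Subgroup G} (hN : Group.IsNilpotent N) (π : Set ℕ) :
    N ≤ Cfsg.piCoreOf π N ⊔ Cfsg.piCoreOf {s | s.Prime ∧ s ∉ π} N := by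
  intro x hx
  refine mem_of_forall_exists_pow_mem (orderOf_pos x) fun s hs hsd => ?_
  set n := orderOf x
  refine ⟨n / s ^ n.factorization s, Nat.not_dvd_ordCompl hs (orderOf_pos x).ne', ?_⟩
  have hord : orderOf (x ^ (n / s ^ n.factorization s)) = s ^ n.factorization s :=
    orderOf_pow_orderOf_div (orderOf_pos x).ne' (Nat.ordProj_dvd n s)
  have heq : ∀ t : ℕ, t.Prime → t ∣ orderOf (x ^ (n / s ^ n.factorization s)) → t = s := by
    intro t ht hd
    rw [hord] at hd
    exact (Nat.prime_dvd_prime_iff_eq ht hs).1 (ht.dvd_of_dvd_pow hd)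
  by_cases hsπ : s ∈ π
  · exact mem_sup_left (mem_piCoreOf_of_nilpotent hN (pow_mem hx _)
      fun t ht hd => heq t ht hd ▸ hsπ)
  · exact mem_sup_right (mem_piCoreOf_of_nilpotent hN (pow_mem hx _)
      fun t ht hd => heq t ht hd ▸ ⟨hs, hsπ⟩)

theorem piCoreOf_singleton_isPGroup (s : ℕ) [Fact s.Prime] (X : Subgroup G) :
    IsPGroup s (Cfsg.piCoreOf {s} X) :=
  isPiSubgroup_singleton.1 (piCoreOf_isPiSubgroup _ X)

theorem commute_of_normalize_disjoint {A B : Subgroup G} (hA : A ≤ normalizer (B : Set G))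
    (hB : B ≤ normalizer (A : Set G)) (hdis : Disjoint A B) :
    A ≤ centralizer (B : Set G) := fun _ ha =>
  Solvable.inf_normalizer_le_centralizer hB hdis.symm ⟨ha, hA ha⟩

theorem disjoint_of_isPiSubgroup {π ρ : Set ℕ} {A B : Subgroup G} (hA : Cfsg.IsPiSubgroup π A)
    (hB : Cfsg.IsPiSubgroup ρ B) (h : ∀ s, s ∈ π → s ∈ ρ → ¬ s.Prime) : Disjoint A B :=
  Subgroup.disjoint_of_coprime_natCard
    (Nat.coprime_of_dvd fun s hs hsA hsB => h s (hA s hs hsA) (hB s hs hsB) hs)

/-- Elements of distinct components commute. -/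
theorem piCoreOf_le_centralizer_piCoreOf {π ρ : Set ℕ} (X : Subgroup G)
    (h : ∀ s, s ∈ π → s ∈ ρ → ¬ s.Prime) :
    Cfsg.piCoreOf π X ≤ centralizer (Cfsg.piCoreOf ρ X : Set G) :=
  commute_of_normalize_disjoint ((piCoreOf_le π X).trans (le_normalizer_piCoreOf ρ X))
    ((piCoreOf_le ρ X).trans (le_normalizer_piCoreOf π X))
    (disjoint_of_isPiSubgroup (piCoreOf_isPiSubgroup π X) (piCoreOf_isPiSubgroup ρ X) h)

theorem exists_center_orderOf_eq {N : Subgroup G} (hN : Group.IsNilpotent N) {s : ℕ}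
    [hs : Fact s.Prime] (hd : s ∣ Nat.card N) :
    ∃ z ∈ N ⊓ centralizer (N : Set G), orderOf z = s := by
  set P := Cfsg.piCoreOf {s} N with hP
  have hPp : IsPGroup s P := piCoreOf_singleton_isPGroup s N
  obtain ⟨x, hx⟩ := exists_prime_orderOf_dvd_card' s hd
  have hxP : (x : G) ∈ P := mem_piCoreOf_of_nilpotent hN x.2 fun t ht htd => by
    rw [Subgroup.orderOf_coe, hx] at htd
    exact (Nat.prime_dvd_prime_iff_eq ht hs.out).1 htd
  haveI : Nontrivial P := (nontrivial_iff_ne_bot _).2 fun h => by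
    have h1 : (x : G) = 1 := mem_bot.1 (h ▸ hxP)
    rw [← Subgroup.orderOf_coe, h1, orderOf_one] at hx
    exact hs.out.ne_one hx.symm
  haveI := hPp.center_nontrivial
  obtain ⟨n, hn⟩ := (hPp.to_subgroup (center P)).exists_card_eq
  have hn0 : n ≠ 0 := by
    rintro rfl
    rw [pow_zero] at hn
    exact (Finite.one_lt_card (α := center P)).ne' hn
  obtain ⟨z, hz⟩ := exists_prime_orderOf_dvd_card' (G := center P) s (hn ▸ dvd_pow_self s hn0)
  refine ⟨((z : P) : G), ⟨piCoreOf_le _ _ (z : P).2, ?_⟩, by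
    rw [Subgroup.orderOf_coe, Subgroup.orderOf_coe, hz]⟩
  have h1 : P ≤ centralizer ({((z : P) : G)} : Set G) := fun a ha =>
    mem_centralizer_singleton_iff.2 (congrArg Subtype.val (mem_center_iff.1 z.2 ⟨a, ha⟩))
  have h2 : Cfsg.piCoreOf {t | t.Prime ∧ t ∉ ({s} : Set ℕ)} N ≤
      centralizer ({((z : P) : G)} : Set G) := fun a ha =>
    mem_centralizer_singleton_iff.2
      ((piCoreOf_le_centralizer_piCoreOf N (fun t ht ht' _ => ht'.2 ht) (z : P).2 : _) a ha)
  intro a ha
  exact mem_centralizer_singleton_iff.1 ((le_sup_piCoreOf_of_nilpotent hN {s}).trans (sup_le h1 h2) ha)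

section FittingOf

theorem fittingOf_le (X : Subgroup G) : Cfsg.fittingOf X ≤ X := map_subtype_le _

theorem fittingOf_isNilpotent (X : Subgroup G) : Group.IsNilpotent (Cfsg.fittingOf X) := by
  haveI := Solvable.fittingSubgroup_isNilpotent X
  exact Group.nilpotent_of_mulEquiv
    ((Cfsg.fittingSubgroup X).equivMapOfInjective _ X.subtype_injective)

theorem le_fittingOf {X N : Subgroup G} (hNX : N ≤ X) (hXN : X ≤ normalizer (N : Set G))
    (hN : Group.IsNilpotent N) : N ≤ Cfsg.fittingOf X := by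
  haveI := hN
  rw [← map_subgroupOf_eq_of_le hNX]
  exact Subgroup.map_mono (Solvable.le_fittingSubgroup
    ((normal_subgroupOf_iff_le_normalizer hNX).2 hXN)
    (Group.nilpotent_of_mulEquiv (subgroupOfEquivOfLe hNX).symm))

theorem le_normalizer_fittingOf (X : Subgroup G) :
    X ≤ normalizer (Cfsg.fittingOf X : Set G) := by
  haveI := Solvable.fittingSubgroup_normal X
  have := le_normalizer_map X.subtype (H := Cfsg.fittingSubgroup X)
  rwa [normalizer_eq_top, ← MonoidHom.range_eq_map, range_subtype] at this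

theorem inf_centralizer_fittingOf_le {X : Subgroup G} (hX : Group.IsSolvable X) :
    X ⊓ centralizer (Cfsg.fittingOf X : Set G) ≤ Cfsg.fittingOf X := by
  haveI := hX
  rintro x ⟨hxX, hxC⟩
  refine ⟨⟨x, hxX⟩, Solvable.centralizer_fittingSubgroup_le (G := X) ?_, rfl⟩
  intro y hy
  exact Subtype.ext (mem_centralizer_iff.1 hxC (y : G) ⟨y, hy, rfl⟩)

theorem le_centralizer_fittingOf_center (X : Subgroup G) :
    X ≤ normalizer ((Cfsg.fittingOf X ⊓ centralizer (Cfsg.fittingOf X : Set G) : Subgroup G) : Set G) := by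
  intro x hx
  have hx' := le_normalizer_fittingOf X hx
  refine inf_normalizer_le_normalizer_inf (mem_inf.2 ⟨hx', ?_⟩)
  · rw [mem_normalizer_iff]
    intro y
    rw [mem_centralizer_iff, mem_centralizer_iff]
    constructor
    · intro h z hz
      have := h _ ((mem_normalizer_iff''.1 hx' z).1 hz)
      calc z * (x * y * x⁻¹) = x * ((x⁻¹ * z * x) * y) * x⁻¹ := by group
        _ = x * (y * (x⁻¹ * z * x)) * x⁻¹ := by rw [this]
        _ = x * y * x⁻¹ * z := by group
    · intro h z hz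
      have := h _ ((mem_normalizer_iff.1 hx' z).1 hz)
      calc z * y = x⁻¹ * ((x * z * x⁻¹) * (x * y * x⁻¹)) * x := by group
        _ = x⁻¹ * ((x * y * x⁻¹) * (x * z * x⁻¹)) * x := by rw [this]
        _ = y * z := by group

theorem piCoreOf_singleton_fittingOf (X : Subgroup G) (s : ℕ) [Fact s.Prime] :
    Cfsg.piCoreOf {s} (Cfsg.fittingOf X) = Cfsg.piCoreOf {s} X := by
  refine le_antisymm (le_piCoreOf ((piCoreOf_le _ _).trans (fittingOf_le X))
    ((le_normalizer_fittingOf X).trans (normalizer_le_normalizer_piCoreOf _ _))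
    (piCoreOf_isPiSubgroup _ _)) ?_
  have h : Cfsg.piCoreOf {s} X ≤ Cfsg.fittingOf X :=
    le_fittingOf (piCoreOf_le _ _) (le_normalizer_piCoreOf _ _)
      (piCoreOf_singleton_isPGroup s X).isNilpotent
  exact le_piCoreOf h ((fittingOf_le X).trans (le_normalizer_piCoreOf _ _))
    (piCoreOf_isPiSubgroup _ _)

end FittingOf

end CfsgLib.OddOrder
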