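import Cfsg.Agent.Lib.OddOrder.Basic
import Cfsg.Agent.Lib.OddOrder.Fitting

/-!
Bender's method: maximal subgroups whose Fitting subgroups involve at least two primes.
-/

set_option autoImplicit false
set_option linter.style.haveILetI false

namespace CfsgLib.OddOrder

open Subgroup

variable {G : Type*} [Group G] [Finite G]

omit [Finite G] in
theorem le_normalizer_centralizer_of_le {X Y : Subgroup G} (h : X ≤ normalizer (Y : Set G)) :
    X ≤ normalizer (centralizer (Y : Set G) : Set G) := by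
  rw [le_normalizer_iff]
  intro x hx c hc y hy
  have := mem_centralizer_iff.1 hc _ ((mem_normalizer_iff''.1 (h hx) y).1 hy)
  calc y * (x * c * x⁻¹) = x * ((x⁻¹ * y * x) * c) * x⁻¹ := by group
    _ = x * (c * (x⁻¹ * y * x)) * x⁻¹ := by rw [this]
    _ = (x * c * x⁻¹) * y := by group

theorem le_of_components {N W : Subgroup G} (hN : Group.IsNilpotent N)
    (h : ∀ s : ℕ, s.Prime → s ∣ Nat.card N → Cfsg.piCoreOf {s} N ≤ W) : N ≤ W := by
  intro x hx
  refine mem_of_forall_exists_pow_mem (orderOf_pos x) fun s hs hsd => ?_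
  set n := orderOf x
  refine ⟨n / s ^ n.factorization s, Nat.not_dvd_ordCompl hs (orderOf_pos x).ne', ?_⟩
  refine h s hs (hsd.trans (orderOf_dvd_card_of_mem hx))
    (mem_piCoreOf_of_nilpotent hN (pow_mem hx _) fun t ht hd => ?_)
  rw [orderOf_pow_orderOf_div (orderOf_pos x).ne' (Nat.ordProj_dvd n s)] at hd
  exact (Nat.prime_dvd_prime_iff_eq ht hs).1 (ht.dvd_of_dvd_pow hd)

theorem piCoreOf_le_piCoreOf_of_nilpotent {Y N : Subgroup G} (hN : Group.IsNilpotent N)
    (h : Y ≤ N) (π : Set ℕ) : Cfsg.piCoreOf π Y ≤ Cfsg.piCoreOf π N := fun x hx =>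
  mem_piCoreOf_of_nilpotent hN (h (piCoreOf_le π Y hx))
    fun s hs hd => piCoreOf_isPiSubgroup π Y s hs (hd.trans (orderOf_dvd_card_of_mem hx))

theorem isNilpotent_of_subgroup_le {Y N : Subgroup G} (hN : Group.IsNilpotent N) (h : Y ≤ N) :
    Group.IsNilpotent Y := by
  haveI := hN
  exact Group.nilpotent_of_mulEquiv (subgroupOfEquivOfLe h)

/-- The centre of `F(H)`, in ambient form. -/
def fitCenter (H : Subgroup G) : Subgroup G :=
  Cfsg.fittingOf H ⊓ centralizer (Cfsg.fittingOf H : Set G)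

theorem fitCenter_le (H : Subgroup G) : fitCenter H ≤ H :=
  (inf_le_left : fitCenter H ≤ _).trans (fittingOf_le H)

theorem fitCenter_isNilpotent (H : Subgroup G) : Group.IsNilpotent (fitCenter H) :=
  isNilpotent_of_subgroup_le (fittingOf_isNilpotent H) inf_le_left

/-- The `s`-part of the centre of `F(H)`. -/
def fitCenterPart (H : Subgroup G) (s : ℕ) : Subgroup G := Cfsg.piCoreOf {s} (fitCenter H)

theorem fitCenterPart_le (H : Subgroup G) (s : ℕ) : fitCenterPart H s ≤ H :=
  (piCoreOf_le _ _).trans (fitCenter_le H)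

theorem le_normalizer_fitCenterPart (H : Subgroup G) (s : ℕ) :
    H ≤ normalizer (fitCenterPart H s : Set G) :=
  (le_centralizer_fittingOf_center H).trans (normalizer_le_normalizer_piCoreOf _ _)

theorem fitCenterPart_ne_bot (H : Subgroup G) {s : ℕ} [hs : Fact s.Prime]
    (hd : s ∣ Nat.card (Cfsg.fittingOf H)) : fitCenterPart H s ≠ ⊥ := by
  obtain ⟨z, hz, hzo⟩ := exists_center_orderOf_eq (fittingOf_isNilpotent H) hd
  intro h
  have : z ∈ fitCenterPart H s := mem_piCoreOf_of_nilpotent (fitCenter_isNilpotent H) hz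
    fun t ht htd => (Nat.prime_dvd_prime_iff_eq ht hs.out).1 (hzo ▸ htd)
  rw [h, mem_bot] at this
  rw [this, orderOf_one] at hzo
  exact hs.out.ne_one hzo.symm

theorem fitCenterPart_commute (H : Subgroup G) (r s : ℕ) :
    fitCenterPart H r ≤ centralizer (fitCenterPart H s : Set G) :=
  ((piCoreOf_le _ _).trans inf_le_right).trans
    (centralizer_le ((piCoreOf_le _ _).trans inf_le_left))

theorem exists_other_prime {n : ℕ} (h : 2 ≤ n.primeFactors.card) (p : ℕ) :
    ∃ s : ℕ, s.Prime ∧ s ∣ n ∧ s ≠ p := by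
  obtain ⟨s, hs, hne⟩ := Finset.exists_mem_ne h p
  exact ⟨s, Nat.prime_of_mem_primeFactors hs, Nat.dvd_of_mem_primeFactors hs, hne⟩

section MinSimple

variable (hG : Cfsg.IsMinSimpleOddOrder G) {H L : Subgroup G} (hH : IsCoatom H)
include hG hH

theorem normalizer_fitCenterPart {s : ℕ} [Fact s.Prime]
    (hd : s ∣ Nat.card (Cfsg.fittingOf H)) : normalizer (fitCenterPart H s : Set G) = H :=
  normalizer_eq_of_isCoatom_of_le hG hH (fitCenterPart_ne_bot H hd) (fitCenterPart_le H s)
    (le_normalizer_fitCenterPart H s)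

theorem centralizer_fitCenterPart_le {s : ℕ} [Fact s.Prime]
    (hd : s ∣ Nat.card (Cfsg.fittingOf H)) : centralizer (fitCenterPart H s : Set G) ≤ H :=
  (centralizer_le_normalizer _).trans (normalizer_fitCenterPart hG hH hd).le

theorem normalizer_piCoreOf_singleton {s : ℕ} [hs : Fact s.Prime]
    (hd : s ∣ Nat.card (Cfsg.fittingOf H)) : normalizer (Cfsg.piCoreOf {s} H : Set G) = H := by
  refine normalizer_eq_of_isCoatom_of_le hG hH (fun h => ?_) (piCoreOf_le _ _)
    (le_normalizer_piCoreOf _ _)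
  apply fitCenterPart_ne_bot H hd
  rw [eq_bot_iff, ← h, ← piCoreOf_singleton_fittingOf H s]
  exact piCoreOf_le_piCoreOf_of_nilpotent (fittingOf_isNilpotent H) inf_le_left _

/-- `Z_s` centralizes `O_r(X)` for `r ≠ s` and any subgroup `X` containing `Z(F(H))`. -/
theorem fitCenterPart_le_centralizer {X : Subgroup G} (hX : fitCenter H ≤ X) {r s : ℕ}
    [hr : Fact r.Prime] [hs : Fact s.Prime] (hrs : r ≠ s) (hrd : r ∣ Nat.card (Cfsg.fittingOf H)) :
    fitCenterPart H s ≤ centralizer (Cfsg.piCoreOf {r} X : Set G) := by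
  set R := Cfsg.piCoreOf {r} X
  have hQ : IsPGroup s (fitCenterPart H s) := piCoreOf_singleton_isPGroup s _
  have hdis : ∀ {A : Subgroup G}, A ≤ R → Disjoint A (fitCenterPart H s) := fun hA =>
    disjoint_of_isPiSubgroup (IsPiSubgroup.anti (piCoreOf_isPiSubgroup _ _) hA)
      (piCoreOf_isPiSubgroup _ _) fun t ht ht' _ => hrs (ht ▸ ht')
  have hnR : ∀ t, fitCenterPart H t ≤ normalizer (R : Set G) := fun t =>
    ((piCoreOf_le _ _).trans hX).trans (le_normalizer_piCoreOf _ _)
  refine Solvable.thompson_pxq (piCoreOf_singleton_isPGroup r (fitCenter H)) ?_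
    (piCoreOf_singleton_isPGroup r X) (fitCenterPart_commute H r s) (hnR r) (hnR s) ?_
  · obtain ⟨n, hn⟩ := hQ.exists_card_eq
    rw [hn]
    exact ((Nat.coprime_primes hs.out hr.out).2 hrs.symm).pow_left n
  · have hle : R ⊓ centralizer (fitCenterPart H r : Set G) ≤ H :=
      inf_le_right.trans (centralizer_fitCenterPart_le hG hH hrd)
    refine commute_of_normalize_disjoint (hle.trans (le_normalizer_fitCenterPart H s)) ?_
      (hdis inf_le_left)
    exact (le_inf (hnR s) ((fitCenterPart_commute H s r).trans le_normalizer)).trans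
      inf_normalizer_le_normalizer_inf

/-- First half of Bender's method. -/
theorem fittingOf_le_of_primes (hL : L ≠ ⊤) (hF2 : 2 ≤ (Nat.card (Cfsg.fittingOf H)).primeFactors.card)
    (hZL : fitCenter H ≤ L)
    (hπ : ∀ s : ℕ, s.Prime → s ∣ Nat.card (Cfsg.fittingOf L) → s ∣ Nat.card (Cfsg.fittingOf H)) :
    Cfsg.fittingOf L ≤ H ∧
      ∀ s : ℕ, s.Prime → s ∣ Nat.card (Cfsg.fittingOf H) → s ∣ Nat.card (Cfsg.fittingOf L) := by
  refine ⟨le_of_components (fittingOf_isNilpotent L) fun r hr hrd => ?_, fun s hs hsd => ?_⟩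
  · haveI := Fact.mk hr
    obtain ⟨s, hs, hsd, hsr⟩ := exists_other_prime hF2 r
    haveI := Fact.mk hs
    rw [piCoreOf_singleton_fittingOf]
    exact (le_centralizer_iff.1 (fitCenterPart_le_centralizer hG hH hZL hsr.symm (hπ r hr hrd))).trans
      (centralizer_fitCenterPart_le hG hH hsd)
  · by_contra hns
    haveI := Fact.mk hs
    apply fitCenterPart_ne_bot H hsd
    have hc : fitCenterPart H s ≤ centralizer (Cfsg.fittingOf L : Set G) := by
      rw [le_centralizer_iff]
      refine le_of_components (fittingOf_isNilpotent L) fun r hr hrd => ?_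
      haveI := Fact.mk hr
      rw [piCoreOf_singleton_fittingOf]
      exact le_centralizer_iff.1 (fitCenterPart_le_centralizer hG hH hZL
        (by rintro rfl; exact hns hrd) (hπ r hr hrd))
    have hle : fitCenterPart H s ≤ Cfsg.fittingOf L :=
      (le_inf ((piCoreOf_le _ _).trans hZL) hc).trans
        (inf_centralizer_fittingOf_le (isSolvable_of_ne_top hG hL))
    obtain ⟨n, hn⟩ := (piCoreOf_singleton_isPGroup s (fitCenter H)).exists_card_eq
    refine Subgroup.card_eq_one.1 ?_
    have hd := Subgroup.card_dvd_of_le hle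
    rw [show fitCenterPart H s = Cfsg.piCoreOf {s} (fitCenter H) from rfl, hn] at hd ⊢
    rcases n with _ | n
    · rfl
    · exact absurd ((dvd_pow_self s n.succ_ne_zero).trans hd) hns

/-- The cross step: `O_p(L) ≤ O_p(H)` once the Fitting subgroups lie in both. -/
theorem piCoreOf_le_of_fitting_le (hL : IsCoatom L)
    (hF2 : 2 ≤ (Nat.card (Cfsg.fittingOf H)).primeFactors.card)
    (hLH : Cfsg.fittingOf L ≤ H) (hHL : Cfsg.fittingOf H ≤ L)
    (hπ : ∀ s : ℕ, s.Prime → s ∣ Nat.card (Cfsg.fittingOf H) → s ∣ Nat.card (Cfsg.fittingOf L))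
    {p : ℕ} [hp : Fact p.Prime] : Cfsg.piCoreOf {p} L ≤ Cfsg.piCoreOf {p} H := by
  set π' : Set ℕ := {t | t.Prime ∧ t ∉ ({p} : Set ℕ)}
  set F := Cfsg.fittingOf H with hF
  have hopL : ∀ (t : ℕ) [Fact t.Prime], Cfsg.piCoreOf {t} L ≤ H := fun t _ => by
    rw [← piCoreOf_singleton_fittingOf]; exact (piCoreOf_le _ _).trans hLH
  have hopH : ∀ (t : ℕ) [Fact t.Prime], Cfsg.piCoreOf {t} H ≤ L := fun t _ => by
    rw [← piCoreOf_singleton_fittingOf]; exact (piCoreOf_le _ _).trans hHL
  -- distinct components of the two groups commute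
  have hcross : ∀ (t u : ℕ) [Fact t.Prime] [Fact u.Prime], t ≠ u →
      Cfsg.piCoreOf {t} L ≤ centralizer (Cfsg.piCoreOf {u} H : Set G) := fun t u _ _ htu =>
    commute_of_normalize_disjoint ((hopL t).trans (le_normalizer_piCoreOf _ _))
      ((hopH u).trans (le_normalizer_piCoreOf _ _))
      (disjoint_of_isPiSubgroup (piCoreOf_isPiSubgroup _ _) (piCoreOf_isPiSubgroup _ _)
        fun x hx hx' _ => htu (hx.symm.trans hx'))
  set F' := Cfsg.piCoreOf π' F with hF'
  set Z := fitCenter H with hZdef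
  set D := H ⊓ centralizer (F' : Set G) with hD
  have hHD : H ≤ normalizer (D : Set G) :=
    (le_inf le_normalizer (le_normalizer_centralizer_of_le
      ((le_normalizer_fittingOf H).trans (normalizer_le_normalizer_piCoreOf _ _)))).trans
      inf_normalizer_le_normalizer_inf
  -- `p`-elements of `D` lie in `L`
  have hDL : ∀ d ∈ D, (∃ k : ℕ, orderOf d = p ^ k) → d ∈ L := by
    rintro d ⟨hdH, hdC⟩ ⟨k, hk⟩
    obtain ⟨s, hs, hsd, hsp⟩ := exists_other_prime hF2 p
    haveI := Fact.mk hs
    rw [← normalizer_piCoreOf_singleton hG hL (hπ s hs hsd)]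
    refine centralizer_le_normalizer _ fun q hq => ?_
    set c := d * q * d⁻¹ * q⁻¹ with hc
    have hqH : q ∈ H := hopL s hq
    have hcD : c ∈ D := by
      have := mul_mem (show d ∈ D from ⟨hdH, hdC⟩)
        ((mem_normalizer_iff.1 (hHD hqH) _).1 (inv_mem (show d ∈ D from ⟨hdH, hdC⟩)))
      simpa [hc, mul_assoc] using this
    have hqc : ∀ x ∈ Cfsg.piCoreOf {p} H, q * x = x * q := fun x hx =>
      (mem_centralizer_iff.1 (hcross s p hsp hq) x hx).symm
    have hcOp : ∀ x ∈ Cfsg.piCoreOf {p} H, x * c = c * x := by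
      intro x hx
      have h1 := hqc _ ((mem_normalizer_iff''.1 (le_normalizer_piCoreOf {p} H hdH) x).1 hx)
      have h2 : q⁻¹ * x = x * q⁻¹ := by
        have := hqc x hx
        calc q⁻¹ * x = q⁻¹ * (x * q) * q⁻¹ := by group
          _ = q⁻¹ * (q * x) * q⁻¹ := by rw [this]
          _ = x * q⁻¹ := by group
      calc x * c = d * ((d⁻¹ * x * d) * q) * d⁻¹ * q⁻¹ := by rw [hc]; group
        _ = d * (q * (d⁻¹ * x * d)) * d⁻¹ * q⁻¹ := by rw [h1]
        _ = d * q * d⁻¹ * (x * q⁻¹) := by group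
        _ = d * q * d⁻¹ * (q⁻¹ * x) := by rw [h2]
        _ = c * x := by rw [hc]; group
    have hcC : c ∈ centralizer (F : Set G) := by
      intro x hx
      have hle : F ≤ centralizer ({c} : Set G) := by
        refine (le_sup_piCoreOf_of_nilpotent (fittingOf_isNilpotent H) {p}).trans (sup_le ?_ ?_)
        · rw [piCoreOf_singleton_fittingOf]
          exact fun y hy => mem_centralizer_singleton_iff.2 (hcOp y hy)
        · exact fun y hy => mem_centralizer_singleton_iff.2 (mem_centralizer_iff.1 hcD.2 y hy)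
      exact mem_centralizer_singleton_iff.1 (hle hx)
    have hcZ : c ∈ Z :=
      ⟨inf_centralizer_fittingOf_le (isSolvable_of_ne_top hG hH.1) ⟨hcD.1, hcC⟩, hcC⟩
    set A := Cfsg.piCoreOf {p} Z with hA
    set B := Cfsg.piCoreOf π' Z with hB
    have hAB : B ≤ normalizer (A : Set G) :=
      (piCoreOf_le _ _).trans (le_normalizer_piCoreOf _ _)
    obtain ⟨a, ha, b, hb, hcab⟩ := (Solvable.mem_sup_of_le_normalizer hAB).1
      (le_sup_piCoreOf_of_nilpotent (fitCenter_isNilpotent H) {p} hcZ)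
    have haH : a ∈ Cfsg.piCoreOf {p} H := by
      rw [← piCoreOf_singleton_fittingOf]
      exact piCoreOf_le_piCoreOf_of_nilpotent (fittingOf_isNilpotent H) inf_le_left _ ha
    have hbF : b ∈ F' :=
      piCoreOf_le_piCoreOf_of_nilpotent (fittingOf_isNilpotent H) inf_le_left _ hb
    have hbd : d * b = b * d := (mem_centralizer_iff.1 hdC b hbF).symm
    have hqB : q ∈ normalizer (B : Set G) :=
      normalizer_le_normalizer_piCoreOf _ _ (le_centralizer_fittingOf_center H hqH)
    have hbA : Commute b a :=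
      ((mem_centralizer_iff.1 (piCoreOf_le _ _ hb : b ∈ Z).2 a
        ((piCoreOf_le _ _ ha : a ∈ Z).1)).symm)
    -- the `p`-part of `c` is trivial
    have ha1 : a = 1 := by
      have hP' : ∀ y ∈ B ⊔ zpowers q, ¬ p ∣ orderOf y := by
        intro y hy hd
        have hd' := hd.trans ((orderOf_dvd_card_of_mem hy).trans
          (Solvable.card_sup_dvd (zpowers_le.2 hqB)))
        rcases hp.out.dvd_mul.1 hd' with h | h
        · exact ((piCoreOf_isPiSubgroup _ _ p hp.out h).2) rfl
        · have := h.trans (Subgroup.card_dvd_of_le (zpowers_le.2 hq))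
          exact hsp ((piCoreOf_isPiSubgroup _ _ p hp.out this : p ∈ ({s} : Set ℕ))).symm
      have heq : d * q * d⁻¹ = a * (b * q) := by
        rw [← mul_assoc, hcab, hc]; group
      have hcomm : Commute a (b * q) := (hbA.symm).mul_right (hqc a haH).symm
      have h1 : a ^ orderOf q * (b * q) ^ orderOf q = 1 := by
        rw [← hcomm.mul_pow, ← heq, ← MulAut.conj_apply, ← map_pow, pow_orderOf_eq_one, map_one]
      have hbq : a ^ orderOf q ∈ B ⊔ zpowers q := by
        rw [eq_inv_of_mul_eq_one_left h1]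
        exact inv_mem (pow_mem (mul_mem (mem_sup_left hb) (mem_sup_right (mem_zpowers q))) _)
      obtain ⟨i, hi⟩ := (IsPGroup.iff_orderOf.1 (piCoreOf_singleton_isPGroup p H)) ⟨a, haH⟩
      rw [Subgroup.orderOf_mk] at hi
      have hord : (orderOf a).Coprime (orderOf q) := by
        rw [hi]
        refine Nat.Coprime.pow_left i ((Nat.Prime.coprime_iff_not_dvd hp.out).2 fun hd => ?_)
        exact hP' q (mem_sup_right (mem_zpowers q)) hd
      have h3 := hP' _ hbq
      rw [hord.orderOf_pow, hi] at h3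
      rcases i with _ | i
      · exact orderOf_eq_one_iff.1 (by rw [hi, pow_zero])
      · exact absurd (dvd_pow_self p i.succ_ne_zero) h3
    rw [ha1, one_mul] at hcab
    have hpow : ∀ j : ℕ, d ^ j * q * (d ^ j)⁻¹ = b ^ j * q := by
      intro j
      induction j with
      | zero => simp
      | succ j ih =>
        have hdb : d * b ^ j * d⁻¹ = b ^ j := by
          rw [((show Commute d b from hbd).pow_right j).eq]; group
        calc d ^ (j + 1) * q * (d ^ (j + 1))⁻¹
            = d * (d ^ j * q * (d ^ j)⁻¹) * d⁻¹ := by rw [pow_succ']; group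
          _ = (d * b ^ j * d⁻¹) * (d * q * d⁻¹) := by rw [ih]; group
          _ = b ^ j * (b * q) := by rw [hdb, hcab, hc]; group
          _ = b ^ (j + 1) * q := by rw [pow_succ]; group
    have hb1 : b = 1 := by
      have h := hpow (orderOf d)
      rw [pow_orderOf_eq_one, one_mul, inv_one, mul_one, right_eq_mul] at h
      have hd1 := orderOf_dvd_of_pow_eq_one h
      rw [hk] at hd1
      refine orderOf_eq_one_iff.1 (Nat.eq_one_iff_not_exists_prime_dvd.2 fun t ht htd => ?_)
      refine (piCoreOf_isPiSubgroup π' Z t ht (htd.trans (orderOf_dvd_card_of_mem hb))).2 ?_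
      exact (Nat.prime_dvd_prime_iff_eq ht hp.out).1 (ht.dvd_of_dvd_pow (htd.trans hd1))
    rw [hb1] at hcab
    have : d * q * d⁻¹ * q⁻¹ = 1 := by rw [← hc, ← hcab]
    exact (mul_inv_eq_iff_eq_mul.1 (mul_inv_eq_one.1 this)).symm
  -- `O_p(L)` lies in the subgroup generated by the `p`-elements of `D`
  set S : Set G := {d | d ∈ D ∧ ∃ k : ℕ, orderOf d = p ^ k}
  set D₀ := closure S with hD₀
  have hD₀L : D₀ ≤ L := (closure_le L).2 fun d hd => hDL d hd.1 hd.2
  have hHD₀ : H ≤ normalizer (D₀ : Set G) := by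
    rw [hD₀, le_normalizer_closure_iff]
    rintro h hh d ⟨hd, k, hk⟩
    exact subset_closure ⟨(mem_normalizer_iff.1 (hHD hh) d).1 hd, k, by
      rw [← MulAut.conj_apply, MulEquiv.orderOf_eq, hk]⟩
  have hD₀H : D₀ ≤ H := (closure_le H).2 fun d hd => hd.1.1
  have hLD : Cfsg.piCoreOf {p} L ≤ D₀ := by
    intro x hx
    refine subset_closure ⟨⟨hopL p hx, ?_⟩, ?_⟩
    · have hle : F' ≤ centralizer (Cfsg.piCoreOf {p} L : Set G) := by
        refine le_of_components
          (isNilpotent_of_subgroup_le (fittingOf_isNilpotent H) (piCoreOf_le _ _)) fun u hu hud => ?_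
        haveI := Fact.mk hu
        refine (piCoreOf_le_piCoreOf_of_nilpotent (fittingOf_isNilpotent H) (piCoreOf_le _ _) _).trans ?_
        rw [piCoreOf_singleton_fittingOf]
        exact le_centralizer_iff.1 (hcross p u
          (fun h => (piCoreOf_isPiSubgroup π' F u hu hud).2 h.symm))
      exact le_centralizer_iff.1 hle hx
    · obtain ⟨k, hk⟩ := (IsPGroup.iff_orderOf.1 (piCoreOf_singleton_isPGroup p L)) ⟨x, hx⟩
      exact ⟨k, by rwa [Subgroup.orderOf_mk] at hk⟩
  exact (le_piCoreOf hLD (hD₀L.trans (le_normalizer_piCoreOf _ _)) (piCoreOf_isPiSubgroup _ _)).trans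
    (le_piCoreOf ((piCoreOf_le _ _).trans hD₀H)
      (hHD₀.trans (normalizer_le_normalizer_piCoreOf _ _)) (piCoreOf_isPiSubgroup _ _))

/-- Bender's uniqueness theorem. -/
theorem eq_of_fitCenter_le (hL : IsCoatom L)
    (hF2 : 2 ≤ (Nat.card (Cfsg.fittingOf H)).primeFactors.card) (hZL : fitCenter H ≤ L)
    (hπ : ∀ s : ℕ, s.Prime → s ∣ Nat.card (Cfsg.fittingOf L) → s ∣ Nat.card (Cfsg.fittingOf H)) :
    L = H := by
  obtain ⟨hLH, hπ'⟩ := fittingOf_le_of_primes hG hH hL.1 hF2 hZL hπ
  have hF2' : 2 ≤ (Nat.card (Cfsg.fittingOf L)).primeFactors.card := by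
    refine hF2.trans (Finset.card_le_card fun s hs => ?_)
    exact Nat.mem_primeFactors.2 ⟨Nat.prime_of_mem_primeFactors hs,
      hπ' s (Nat.prime_of_mem_primeFactors hs) (Nat.dvd_of_mem_primeFactors hs), Nat.card_pos.ne'⟩
  obtain ⟨hHL, -⟩ := fittingOf_le_of_primes hG hL hH.1 hF2'
    ((inf_le_left : fitCenter L ≤ Cfsg.fittingOf L).trans hLH) hπ'
  obtain ⟨p, hp, hpd, -⟩ := exists_other_prime hF2 0
  haveI := Fact.mk hp
  have heq : Cfsg.piCoreOf {p} L = Cfsg.piCoreOf {p} H :=
    le_antisymm (piCoreOf_le_of_fitting_le hG hH hL hF2 hLH hHL hπ')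
      (piCoreOf_le_of_fitting_le hG hL hH hF2' hHL hLH hπ)
  rw [← normalizer_piCoreOf_singleton hG hL (hπ' p hp hpd), heq,
    normalizer_piCoreOf_singleton hG hH hpd]

end MinSimple

end CfsgLib.OddOrder
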