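import Cfsg.Agent.Lib.OddOrder.OmegaFix
import Mathlib.GroupTheory.Index

/-! Coprime stabilisers of chains, and actions with self-centralising fixed points. -/

set_option autoImplicit false

open scoped commutatorElement

namespace CfsgLib.OddOrder

variable {G : Type*} [Group G]

theorem conj_mul_inv_mem_of_commutator_le {H A B : Subgroup G} (h : ⁅H, A⁆ ≤ B) {a x : G}
    (ha : a ∈ A) (hx : x ∈ H) : a * x * a⁻¹ * x⁻¹ ∈ B := by
  rw [Subgroup.commutator_comm] at h
  exact h (Subgroup.commutator_mem_commutator ha hx)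

/-- An element of order coprime to `#H` stabilising a chain down to `⊥` centralises it. -/
theorem commute_of_chain [Finite G] {H A : Subgroup G} {a : G} (ha : a ∈ A)
    (hcop : (orderOf a).Coprime (Nat.card H)) {n : ℕ} (c : Fin (n + 1) → Subgroup G)
    (hle : ∀ i, c i ≤ H) (hcn : c (Fin.last n) = ⊥)
    (htriv : ∀ i : Fin n, ⁅c i.castSucc, A⁆ ≤ c i.succ) : ∀ i, ∀ x ∈ c i, Commute a x := by
  intro i
  induction i using Fin.reverseInduction with
  | last =>
    intro x hx
    rw [hcn, Subgroup.mem_bot] at hx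
    subst hx; exact Commute.one_right a
  | cast i ih =>
    intro x hx
    have hm := conj_mul_inv_mem_of_commutator_le (htriv i) ha hx
    exact commute_of_conj_mem (ih _ hm)
      (hcop.coprime_dvd_right (Subgroup.orderOf_dvd_natCard H (hle _ hm)))

/-- A nilpotent group with coprime operators `A` is centralised by `A` when the fixed points
contain their own centraliser. -/
theorem le_centralizer_of_self_centralizing_fixed [Finite G] (H A : Subgroup G)
    (hH : Group.IsNilpotent H) (hA : A ≤ Subgroup.normalizer (H : Set G))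
    (hcop : (Nat.card A).Coprime (Nat.card H))
    (hC : H ⊓ Subgroup.centralizer ((H ⊓ Subgroup.centralizer (A : Set G) : Subgroup G) : Set G) ≤
      H ⊓ Subgroup.centralizer (A : Set G)) :
    A ≤ Subgroup.centralizer (H : Set G) := by
  set C := H ⊓ Subgroup.centralizer (A : Set G) with hCdef
  have hAC : A ≤ Subgroup.centralizer (C : Set G) :=
    Subgroup.le_centralizer_iff.mp inf_le_right
  by_cases hCH : C = H
  · rwa [← hCH]
  exfalso
  have hlt : C < H := lt_of_le_of_ne inf_le_left hCH
  haveI := hH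
  have hlt' : C.subgroupOf H < ⊤ := by
    rw [lt_top_iff_ne_top, Ne, Subgroup.subgroupOf_eq_top]
    exact hlt.not_ge
  obtain ⟨n, hn, hnC⟩ :=
    SetLike.exists_of_lt (Group.normalizerCondition_of_isNilpotent _ hlt')
  let N := H ⊓ Subgroup.normalizer (C : Set G)
  have hnN : (n : G) ∈ N := by
    refine Subgroup.mem_inf.mpr ⟨n.2, ?_⟩
    have := Subgroup.mem_normalizer_iff.mp hn
    rw [Subgroup.mem_normalizer_iff]
    intro g
    by_cases hg : g ∈ H
    · simpa [Subgroup.mem_subgroupOf] using this ⟨g, hg⟩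
    · constructor
      · exact fun h => absurd (hlt.le h) hg
      · intro h
        refine absurd ?_ hg
        have h2 := mul_mem (mul_mem (inv_mem n.2) (hlt.le h)) n.2
        simpa [mul_assoc] using h2
  have hnnotC : (n : G) ∉ C := fun h => hnC (Subgroup.mem_subgroupOf.mpr h)
  have hAN : A ≤ Subgroup.normalizer (N : Set G) := by
    intro a ha
    have h2 : a ∈ Subgroup.normalizer (C : Set G) := Subgroup.centralizer_le_normalizer _ (hAC ha)
    rw [Subgroup.mem_normalizer_iff]
    intro g
    have hH' := Subgroup.mem_normalizer_iff.mp (hA ha) g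
    have hN' : g ∈ Subgroup.normalizer (C : Set G) ↔
        a * g * a⁻¹ ∈ Subgroup.normalizer (C : Set G) := by
      constructor
      · exact fun h => mul_mem (mul_mem h2 h) (inv_mem h2)
      · intro h
        have h3 := mul_mem (mul_mem (inv_mem h2) h) h2
        simpa [mul_assoc] using h3
    exact and_congr hH' hN'
  have h1 : ⁅⁅C, A⁆, N⁆ = ⊥ := by
    rw [Subgroup.commutator_eq_bot_iff_le_centralizer.mpr
      (inf_le_right : C ≤ Subgroup.centralizer (A : Set G)), Subgroup.commutator_bot_left]
  have h2 : ⁅⁅N, C⁆, A⁆ = ⊥ := by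
    refine le_bot_iff.mp (le_trans (Subgroup.commutator_mono
      (Subgroup.le_normalizer_iff_commutator_le_right.mp inf_le_right) le_rfl) ?_)
    exact (Subgroup.commutator_eq_bot_iff_le_centralizer.mpr
      (inf_le_right : C ≤ Subgroup.centralizer (A : Set G))).le
  have h3 : ⁅⁅A, N⁆, C⁆ = ⊥ := Subgroup.commutator_commutator_eq_bot_of_rotate h2 h1
  rw [Subgroup.commutator_eq_bot_iff_le_centralizer] at h3
  apply hnnotC
  refine Subgroup.mem_inf.mpr ⟨n.2, ?_⟩
  rw [Subgroup.mem_centralizer_iff]
  intro a ha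
  have hmN : a * n * a⁻¹ * (n : G)⁻¹ ∈ N :=
    mul_mem ((Subgroup.mem_normalizer_iff.mp (hAN ha) _).mp hnN) (inv_mem hnN)
  have hm : a * n * a⁻¹ * (n : G)⁻¹ ∈ C :=
    hC ⟨hmN.1, h3 (Subgroup.commutator_mem_commutator ha hnN)⟩
  exact (commute_of_conj_mem (Subgroup.mem_centralizer_iff.mp hm.2 a ha)
    ((hcop.coprime_dvd_left (Subgroup.orderOf_dvd_natCard A ha)).coprime_dvd_right
      (Subgroup.orderOf_dvd_natCard H hm.1))).eq

end CfsgLib.OddOrder
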