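import Mathlib.GroupTheory.Sylow
import Mathlib.GroupTheory.Nilpotent
import Mathlib.GroupTheory.Frattini
import Mathlib.GroupTheory.Commutator.Basic
import Mathlib.GroupTheory.SpecificGroups.Cyclic
import Mathlib.Data.Nat.Choose.Dvd
import Mathlib.Tactic.Group

/-!
Elementary lemmas on coprime conjugation: a coprime element fixing all elements of order `p`
of a `p`-group (`p` odd) centralises it.
-/

set_option autoImplicit false

open scoped commutatorElement

namespace CfsgLib.OddOrder

variable {G : Type*} [Group G]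

/-- If `a` moves `x` to `c * x` and centralises `c`, with coprime orders, then `c = 1`. -/
theorem eq_one_of_conj_eq_mul_left {a x c : G} (h : a * x * a⁻¹ = c * x) (hc : Commute a c)
    (hcop : (orderOf a).Coprime (orderOf c)) : c = 1 := by
  have key : ∀ k : ℕ, a ^ k * x = c ^ k * x * a ^ k := by
    intro k
    induction k with
    | zero => simp
    | succ k ih =>
      have hck : a * c ^ k = c ^ k * a := (hc.pow_right k).eq
      calc a ^ (k + 1) * x = a * (a ^ k * x) := by rw [pow_succ', mul_assoc]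
        _ = c ^ k * (a * x * a⁻¹) * a * a ^ k := by
          rw [ih, ← mul_assoc, ← mul_assoc, hck]; group
        _ = c ^ (k + 1) * x * a ^ (k + 1) := by rw [h, pow_succ, pow_succ']; group
  have h1 := key (orderOf a)
  rw [pow_orderOf_eq_one, one_mul, mul_one] at h1
  have h2 : c ^ orderOf a = 1 := mul_eq_right.mp h1.symm
  exact orderOf_eq_one_iff.mp (Nat.eq_one_of_dvd_coprimes hcop (orderOf_dvd_of_pow_eq_one h2)
    dvd_rfl)

theorem commute_of_conj_mem {a x : G} (hc : Commute a (a * x * a⁻¹ * x⁻¹))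
    (hcop : (orderOf a).Coprime (orderOf (a * x * a⁻¹ * x⁻¹))) : Commute a x := by
  have h1 := eq_one_of_conj_eq_mul_left (a := a) (x := x) (c := a * x * a⁻¹ * x⁻¹) (by group) hc hcop
  change a * x = x * a
  calc a * x = (a * x * a⁻¹ * x⁻¹) * (x * a) := by group
    _ = x * a := by rw [h1, one_mul]

section PGroup

variable {p : ℕ} [Fact p.Prime]

theorem coatom_facts [Finite G] (hG : IsPGroup p G) {M : Subgroup G} (hM : IsCoatom M) :
    (∀ x : G, x ^ p ∈ M) ∧ commutator G ≤ M := by
  haveI := hG.isNilpotent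
  have hn : M.Normal := Subgroup.NormalizerCondition.normal_of_coatom M
    Group.normalizerCondition_of_isNilpotent hM
  have hQ : IsPGroup p (G ⧸ M) := hG.to_quotient M
  obtain ⟨k, hk⟩ := IsPGroup.iff_card.mp hQ
  have hk1 : k = 1 := by
    rcases Nat.lt_trichotomy k 1 with h | h | h
    · exfalso
      obtain rfl : k = 0 := by omega
      apply hM.1
      rw [← Subgroup.index_eq_one, Subgroup.index_eq_card, hk, pow_zero]
    · exact h
    · exfalso
      have hdvd : p ^ 1 ∣ Nat.card (G ⧸ M) := hk ▸ pow_dvd_pow p h.le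
      obtain ⟨K, hK⟩ := Sylow.exists_subgroup_card_pow_prime p hdvd
      have hle : M ≤ K.comap (QuotientGroup.mk' M) := by
        intro x hx
        show (QuotientGroup.mk' M) x ∈ K
        rw [QuotientGroup.mk'_apply, (QuotientGroup.eq_one_iff x).mpr hx]
        exact one_mem K
      have hs := QuotientGroup.mk'_surjective M
      rcases hM.le_iff.mp hle with h' | h'
      · have h'' : K = ⊤ := by
          apply Subgroup.comap_injective hs
          rw [h', Subgroup.comap_top]
        rw [h'', Subgroup.card_top, hk] at hK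
        exact absurd (Nat.pow_right_injective (Fact.out : p.Prime).two_le hK) (by omega)
      · have h'' : K = ⊥ := by
          apply Subgroup.comap_injective hs
          rw [h', MonoidHom.comap_bot, QuotientGroup.ker_mk']
        rw [h'', Subgroup.card_bot, pow_one] at hK
        exact (Fact.out : p.Prime).one_lt.ne hK
  subst hk1
  rw [pow_one] at hk
  constructor
  · intro x
    rw [← QuotientGroup.eq_one_iff (N := M), QuotientGroup.mk_pow, ← hk]
    exact pow_card_eq_one'
  · haveI : IsCyclic (G ⧸ M) := isCyclic_of_prime_card hk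
    exact Subgroup.Normal.quotient_commutative_iff_commutator_le.mp IsCyclic.isMulCommutative

theorem pow_mem_frattini_of_isPGroup [Finite G] (hG : IsPGroup p G) (x : G) :
    x ^ p ∈ frattini G := by
  simp only [frattini, Order.radical, Subgroup.mem_iInf]
  exact fun M hM => (coatom_facts hG hM).1 x

theorem commutator_le_frattini_of_isPGroup [Finite G] (hG : IsPGroup p G) :
    commutator G ≤ frattini G := by
  simp only [frattini, Order.radical, le_iInf_iff]
  exact fun M hM => (coatom_facts hG hM).2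

end PGroup

/-- The product formula in a situation of class two. -/
theorem mul_pow_of_central_commutator {x y c : G} (h : y * x = c * (x * y)) (hcx : Commute c x)
    (hcy : Commute c y) : ∀ n : ℕ, (x * y) ^ n = c ^ n.choose 2 * (x ^ n * y ^ n)
  | 0 => by simp
  | n + 1 => by
    have hyx : ∀ k : ℕ, y ^ k * x = c ^ k * (x * y ^ k) := by
      intro k
      induction k with
      | zero => simp
      | succ k ih =>
        calc y ^ (k + 1) * x = y * (y ^ k * x) := by rw [pow_succ', mul_assoc]
          _ = c ^ k * (y * x) * y ^ k := by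
            rw [ih, ← mul_assoc, ← mul_assoc, ← (hcy.pow_left k).eq]; group
          _ = c ^ (k + 1) * (x * y ^ (k + 1)) := by rw [h, pow_succ, pow_succ']; group
    calc (x * y) ^ (n + 1) = c ^ n.choose 2 * (x ^ n * (y ^ n * x) * y) := by
          rw [pow_succ, mul_pow_of_central_commutator h hcx hcy n]; group
      _ = c ^ n.choose 2 * (c ^ n * (x ^ n * x) * (y ^ n * y)) := by
          rw [hyx, ← mul_assoc (x ^ n), ← ((hcx.pow_pow n n)).eq]; group
      _ = c ^ (n + 1).choose 2 * (x ^ (n + 1) * y ^ (n + 1)) := by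
          rw [Nat.choose_succ_succ', Nat.choose_one_right, add_comm n (n.choose 2), pow_add,
            pow_succ, pow_succ]; group

theorem exists_proper_invariant_pow {p : ℕ} [Fact p.Prime] [Finite G] (H : Subgroup G)
    (hH : IsPGroup p H) (hne : H ≠ ⊥) {a : G} (ha : a ∈ Subgroup.normalizer (H : Set G)) :
    ∃ F : Subgroup G, F < H ∧ a ∈ Subgroup.normalizer (F : Set G) ∧
      H ≤ Subgroup.normalizer (F : Set G) ∧ ⁅H, H⁆ ≤ F ∧ ∀ x ∈ H, x ^ p ∈ F := by
  refine ⟨(frattini H).map H.subtype, ?_, ?_, ?_, ?_, ?_⟩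
  · refine lt_of_le_of_ne (Subgroup.map_subtype_le _) fun h => ?_
    haveI : Nontrivial H := (Subgroup.nontrivial_iff_ne_bot H).mpr hne
    have h' : frattini H = ⊤ := by
      apply Subgroup.map_injective H.subtype_injective
      rw [h, ← MonoidHom.range_eq_map, Subgroup.range_subtype]
    obtain ⟨M, hM⟩ := IsCoatomic.exists_coatom (Subgroup H)
    exact hM.1 (top_le_iff.mp (h' ▸ frattini_le_coatom hM))
  · have hfix := (inferInstance : (frattini H).Characteristic)
    rw [Subgroup.mem_normalizer_iff]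
    have hn := Subgroup.mem_normalizer_iff.mp ha
    let φ : H ≃* H :=
      { toFun := fun x => ⟨a * x * a⁻¹, (hn x).mp x.2⟩
        invFun := fun x => ⟨a⁻¹ * x * a, (hn _).mpr (by simp [mul_assoc])⟩
        left_inv := fun x => Subtype.ext (by simp [mul_assoc])
        right_inv := fun x => Subtype.ext (by simp [mul_assoc])
        map_mul' := fun x y => Subtype.ext (by simp [mul_assoc]) }
    intro g
    have hmap := Subgroup.characteristic_iff_comap_eq.mp hfix φ
    constructor
    · rintro ⟨x, hx, rfl⟩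
      exact ⟨φ x, by rwa [← hmap] at hx, rfl⟩
    · rintro ⟨x, hx, hxg⟩
      refine ⟨φ.symm x, ?_, ?_⟩
      · rw [← hmap]
        show φ (φ.symm x) ∈ frattini H
        rwa [φ.apply_symm_apply]
      · show a⁻¹ * (x : G) * a = g
        rw [show (x : G) = a * g * a⁻¹ from hxg]; group
  · intro h hh
    rw [Subgroup.mem_normalizer_iff]
    intro g
    constructor
    · rintro ⟨x, hx, rfl⟩
      exact ⟨⟨h, hh⟩ * x * ⟨h, hh⟩⁻¹, Subgroup.Normal.conj_mem inferInstance x hx _, rfl⟩
    · rintro ⟨x, hx, hxg⟩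
      refine ⟨⟨h, hh⟩⁻¹ * x * ⟨h, hh⟩⁻¹⁻¹,
        Subgroup.Normal.conj_mem inferInstance x hx _, ?_⟩
      show h⁻¹ * (x : G) * h⁻¹⁻¹ = g
      rw [show (x : G) = h * g * h⁻¹ from hxg]; group
  · rw [← Subgroup.map_subtype_commutator]
    exact Subgroup.map_mono (commutator_le_frattini_of_isPGroup hH)
  · exact fun x hx => ⟨⟨x, hx⟩ ^ p, pow_mem_frattini_of_isPGroup hH _, rfl⟩

theorem coprime_orderOf_of_isPGroup {p : ℕ} [Fact p.Prime] [Finite G] {H : Subgroup G}
    (hH : IsPGroup p H) {a c : G} (ha : (orderOf a).Coprime p) (hc : c ∈ H) :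
    (orderOf a).Coprime (orderOf c) := by
  obtain ⟨k, hk⟩ := IsPGroup.iff_orderOf.mp hH ⟨c, hc⟩
  rw [Subgroup.orderOf_mk] at hk
  rw [hk]; exact ha.pow_right k

/-- Huppert IV.5.12: for odd `p`, a `p'`-element normalising a `p`-group and centralising all its
elements of order dividing `p` centralises it. -/
theorem commute_of_fix_pow_eq_one [Finite G] {p : ℕ} [Fact p.Prime] (hp : p ≠ 2) (H : Subgroup G)
    (hH : IsPGroup p H) {a : G} (haN : a ∈ Subgroup.normalizer (H : Set G))
    (hcop : (orderOf a).Coprime p) (hfix : ∀ x ∈ H, x ^ p = 1 → Commute a x) :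
    ∀ x ∈ H, Commute a x := by
  rcases eq_or_ne H ⊥ with rfl | hne
  · intro x hx
    rw [Subgroup.mem_bot] at hx
    subst hx; exact Commute.one_right a
  obtain ⟨F, hFH, haF, hHF, hder, hpow⟩ := exists_proper_invariant_pow H hH hne haN
  have hF : ∀ x ∈ F, Commute a x := commute_of_fix_pow_eq_one hp F (hH.to_le hFH.le) haF hcop
    (fun x hx => hfix x (hFH.le hx))
  let D : Subgroup G := ⁅H, Subgroup.zpowers a⁆
  have hazN : Subgroup.zpowers a ≤ Subgroup.normalizer (H : Set G) := Subgroup.zpowers_le.mpr haN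
  have hDH : D ≤ H := Subgroup.le_normalizer_iff_commutator_le_left.mp hazN
  have hmemD : ∀ x ∈ H, a * x * a⁻¹ * x⁻¹ ∈ D := fun x hx => by
    rw [show D = ⁅Subgroup.zpowers a, H⁆ from Subgroup.commutator_comm _ _]
    exact Subgroup.commutator_mem_commutator (Subgroup.mem_zpowers a) hx
  by_cases hD : D = H
  swap
  · have hlt : D < H := lt_of_le_of_ne hDH hD
    have haD : a ∈ Subgroup.normalizer (D : Set G) :=
      Subgroup.normalizer_commutator_ge_right _ _ (Subgroup.mem_zpowers a)
    have hDc : ∀ x ∈ D, Commute a x := commute_of_fix_pow_eq_one hp D (hH.to_le hDH) haD hcop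
      (fun x hx => hfix x (hDH hx))
    intro x hx
    exact commute_of_conj_mem (hDc _ (hmemD x hx))
      (coprime_orderOf_of_isPGroup hH hcop (hDH (hmemD x hx)))
  have hFA : ⁅F, Subgroup.zpowers a⁆ = ⊥ := by
    rw [Subgroup.commutator_eq_bot_iff_le_centralizer]
    intro x hx
    rw [Subgroup.mem_centralizer_iff]
    rintro y ⟨k, rfl⟩
    exact ((hF x hx).zpow_left k).eq
  have hcent : ∀ y ∈ H, ∀ f ∈ F, Commute y f := by
    have h1 : ⁅⁅H, F⁆, Subgroup.zpowers a⁆ = ⊥ := by
      refine le_bot_iff.mp (le_trans ?_ hFA.le)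
      exact Subgroup.commutator_mono
        (Subgroup.le_normalizer_iff_commutator_le_right.mp hHF) le_rfl
    have h2 : ⁅⁅F, Subgroup.zpowers a⁆, H⁆ = ⊥ := by
      rw [hFA, Subgroup.commutator_bot_left]
    have h3 : ⁅⁅Subgroup.zpowers a, H⁆, F⁆ = ⊥ :=
      Subgroup.commutator_commutator_eq_bot_of_rotate h1 h2
    rw [Subgroup.commutator_comm (Subgroup.zpowers a) H, show ⁅H, Subgroup.zpowers a⁆ = H from hD,
      Subgroup.commutator_eq_bot_iff_le_centralizer] at h3
    intro y hy f hf
    exact (Subgroup.mem_centralizer_iff.mp (h3 hy) f hf).symm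
  intro x hx
  have hy : x⁻¹ * (a * x * a⁻¹) ∈ H :=
    mul_mem (inv_mem hx) ((Subgroup.mem_normalizer_iff.mp haN x).mp hx)
  generalize hyd : x⁻¹ * (a * x * a⁻¹) = y at hy
  have hxy : a * x * a⁻¹ = x * y := by rw [← hyd]; group
  have hxpc : Commute a (x ^ p) := hF _ (hpow x hx)
  have hypF : y ^ p ∈ F := hpow y hy
  have hcF : ⁅y, x⁆ ∈ F := hder (Subgroup.commutator_mem_commutator hy hx)
  have hcomm : y * x = ⁅y, x⁆ * (x * y) := by rw [commutatorElement_def]; group
  generalize hcd : ⁅y, x⁆ = c at hcF hcomm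
  have hcx : Commute c x := (hcent x hx c hcF).symm
  have hcy : Commute c y := (hcent y hy c hcF).symm
  have hcp : c ^ p = 1 := by
    have h1 : x * y * x⁻¹ = c⁻¹ * y := by
      calc x * y * x⁻¹ = c⁻¹ * (c * (x * y)) * x⁻¹ := by group
        _ = c⁻¹ * y := by rw [← hcomm]; group
    have h2 : (x * y * x⁻¹) ^ p = (c⁻¹) ^ p * y ^ p := by rw [h1, hcy.inv_left.mul_pow]
    rw [conj_pow, (hcent x hx _ hypF).eq, mul_inv_cancel_right] at h2
    have := mul_eq_right.mp h2.symm
    rwa [inv_pow, inv_eq_one] at this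
  have hyp : y ^ p = 1 := by
    have h1 : (x * y) ^ p = x ^ p := by
      rw [← hxy, conj_pow, hxpc.eq, mul_inv_cancel_right]
    rw [mul_pow_of_central_commutator hcomm hcx hcy p] at h1
    have hch : p ∣ p.choose 2 :=
      (Fact.out : p.Prime).dvd_choose_self (by norm_num)
        (lt_of_le_of_ne (Fact.out : p.Prime).two_le (Ne.symm hp))
    obtain ⟨t, ht⟩ := hch
    rw [ht, pow_mul, hcp, one_pow, one_mul] at h1
    exact mul_eq_left.mp h1
  have hya : Commute a y := hfix y hy hyp
  have h2 : a * x⁻¹ * a⁻¹ = y⁻¹ * x⁻¹ := by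
    rw [← mul_inv_rev, ← hxy]; group
  have h3 := eq_one_of_conj_eq_mul_left h2 hya.inv_right
    (by rw [orderOf_inv]; exact coprime_orderOf_of_isPGroup hH hcop hy)
  rw [inv_eq_one] at h3
  rw [h3, mul_one] at hxy
  exact mul_inv_eq_iff_eq_mul.mp hxy
termination_by Nat.card H
decreasing_by
  all_goals
    first
      | exact Set.Finite.card_lt_card (Set.toFinite _) (SetLike.coe_strictMono hFH)
      | exact Set.Finite.card_lt_card (Set.toFinite _) (SetLike.coe_strictMono hlt)

end CfsgLib.OddOrder
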