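import Cfsg.Agent.Lib.OddOrder.Fitting
import Cfsg.Agent.Lib.OddOrder.Bender
import Cfsg.Agent.Lib.OddOrder.ChainStab
import Cfsg.Agent.Lib.OddOrder.OmegaFix
import Cfsg.Agent.Lib.PLocal.Locals
import Cfsg.Agent.Lib.PLocal.UpperSeries

/-!
`O_{p'}` of centralizers in solvable groups and invariant `p'`-subgroups.
-/

set_option autoImplicit false
set_option linter.style.haveILetI false

namespace CfsgLib.OddOrder

open Subgroup

universe u

/-- Quadratic `p`-elements lie in `O_p` in every odd-order solvable group with trivial `O_{p'}`. -/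
def OddPStable (p : ℕ) : Prop :=
  ∀ (Y : Type u) [Group Y] [Finite Y], Group.IsSolvable Y → Odd (Nat.card Y) →
    Cfsg.pPrimeCore p Y = ⊥ → ∀ x : Y, IsPGroup p (zpowers x) →
      (∀ r ∈ Cfsg.pCore p Y, Commute (r * x * r⁻¹ * x⁻¹) x) → x ∈ Cfsg.pCore p Y

variable {Y : Type u} [Group Y] [Finite Y] {p : ℕ} [hp : Fact p.Prime]

theorem fittingSubgroup_le_pCore (hO : Cfsg.pPrimeCore p Y = ⊥) :
    Cfsg.fittingSubgroup Y ≤ Cfsg.pCore p Y := by
  haveI := Solvable.fittingSubgroup_normal Y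
  refine le_of_components (Solvable.fittingSubgroup_isNilpotent Y) fun s hs hsd => ?_
  haveI := piCore_characteristic {s} (Cfsg.fittingSubgroup Y)
  haveI hn : (Cfsg.piCoreOf {s} (Cfsg.fittingSubgroup Y)).Normal :=
    inferInstanceAs ((Cfsg.piCore {s} (Cfsg.fittingSubgroup Y)).map
      (Cfsg.fittingSubgroup Y).subtype).Normal
  haveI := Fact.mk hs
  by_cases hsp : s = p
  · subst hsp
    exact Solvable.le_pCore hn (piCoreOf_singleton_isPGroup s _)
  · have : Cfsg.piCoreOf {s} (Cfsg.fittingSubgroup Y) ≤ Cfsg.pPrimeCore p Y := by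
      refine Solvable.le_pPrimeCore hn ?_
      obtain ⟨n, hn'⟩ := (piCoreOf_singleton_isPGroup s (Cfsg.fittingSubgroup Y)).exists_card_eq
      rw [hn']
      exact ((Nat.coprime_primes hs hp.out).2 hsp).pow_left n
    rw [hO, le_bot_iff] at this
    exact this ▸ bot_le

theorem centralizer_pCore_le [Group.IsSolvable Y] (hO : Cfsg.pPrimeCore p Y = ⊥) :
    centralizer (Cfsg.pCore p Y : Set Y) ≤ Cfsg.pCore p Y :=
  (centralizer_le (fittingSubgroup_le_pCore hO)).trans
    (Solvable.centralizer_fittingSubgroup_le.trans (fittingSubgroup_le_pCore hO))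

section Quotient

variable (p) (Y)

/-- The projection to `Y / O_{p'}(Y)`. -/
noncomputable def barHom :
    Y →* Y ⧸ Cfsg.piCore (Cfsg.primesNotDvd p) Y :=
  QuotientGroup.mk' _

variable {p} {Y}

theorem barHom_surjective : Function.Surjective (barHom Y p) := QuotientGroup.mk'_surjective _

theorem barHom_ker : (barHom Y p).ker = Cfsg.pPrimeCore p Y :=
  (QuotientGroup.ker_mk' _).trans (pPrimeCore_eq_piCore p).symm

theorem barHom_ker_coprime : (Nat.card (barHom Y p).ker).Coprime p := by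
  rw [barHom_ker]
  exact Solvable.pPrimeCore_card_coprime p Y

theorem barHom_pPrimeCore :
    Cfsg.pPrimeCore p (Y ⧸ Cfsg.piCore (Cfsg.primesNotDvd p) Y) = ⊥ :=
  Solvable.pPrimeCore_quotient_eq_bot _ (pPrimeCore_eq_piCore p).symm

theorem mem_pPrimeCore_of_barHom_eq_one {y : Y} (h : barHom Y p y = 1) :
    y ∈ Cfsg.pPrimeCore p Y := by
  rw [← barHom_ker]; exact MonoidHom.mem_ker.2 h

theorem pPrimePCore_eq_comap_barHom :
    Cfsg.pPrimePCore p Y =
      (Cfsg.pCore p (Y ⧸ Cfsg.piCore (Cfsg.primesNotDvd p) Y)).comap (barHom Y p) :=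
  PLoc.pPrimePCore_eq_comap barHom_surjective barHom_ker

theorem centralizer_barHom {P : Subgroup Y} (hP : IsPGroup p P) :
    centralizer ((P.map (barHom Y p) : Subgroup _) : Set (Y ⧸ Cfsg.piCore (Cfsg.primesNotDvd p) Y)) =
      (centralizer (P : Set Y)).map (barHom Y p) :=
  PLoc.centralizer_map_eq barHom_surjective barHom_ker_coprime hP

variable [hYs : Group.IsSolvable Y]

theorem centralizer_pCore_bar_le :
    centralizer (Cfsg.pCore p (Y ⧸ Cfsg.piCore (Cfsg.primesNotDvd p) Y) : Set _) ≤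
      Cfsg.pCore p (Y ⧸ Cfsg.piCore (Cfsg.primesNotDvd p) Y) := by
  haveI : Group.IsSolvable (Y ⧸ Cfsg.piCore (Cfsg.primesNotDvd p) Y) :=
    Group.isSolvable_of_surjective (QuotientGroup.mk'_surjective _)
  exact centralizer_pCore_le (p := p) barHom_pPrimeCore

/-- `O_{p'}(C(P)) ≤ O_{p'}(Y)` for a `p`-subgroup `P`. -/
theorem pPrimeCore_centralizer_le {P : Subgroup Y} (hP : IsPGroup p P) :
    (Cfsg.pPrimeCore p ↥(centralizer (P : Set Y))).map (centralizer (P : Set Y)).subtype ≤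
      Cfsg.pPrimeCore p Y := by
  set C := centralizer (P : Set Y) with hC
  set L := centralizer ((P.map (barHom Y p) : Subgroup _) :
    Set (Y ⧸ Cfsg.piCore (Cfsg.primesNotDvd p) Y)) with hL
  have hbot : Cfsg.pPrimeCore p L = ⊥ :=
    PLoc.pPrimeCore_local_eq_bot centralizer_pCore_bar_le (hP.map _)
      (centralizer_le_normalizer _) le_rfl (Or.inr le_rfl)
  rintro _ ⟨y, hy, rfl⟩
  refine mem_pPrimeCore_of_barHom_eq_one ?_
  let g : C →* L := ((barHom Y p).comp C.subtype).codRestrict L fun z => by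
    rw [hL, centralizer_barHom hP]
    exact ⟨z, z.2, rfl⟩
  have hg : Function.Surjective g := by
    rintro ⟨w, hw⟩
    rw [hL, centralizer_barHom hP] at hw
    obtain ⟨z, hz, rfl⟩ := hw
    exact ⟨⟨z, hz⟩, rfl⟩
  have h1 := Solvable.map_pPrimeCore_le_of_surjective (p := p) hg (mem_map_of_mem g hy)
  rw [hbot, mem_bot] at h1
  exact congrArg Subtype.val h1

/-- Subgroup form of `pPrimeCore_centralizer_le`. -/
theorem le_pPrimeCore_of_le_centralizer {P V : Subgroup Y} (hP : IsPGroup p P)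
    (hV : (Nat.card V).Coprime p) (hVC : V ≤ centralizer (P : Set Y))
    (hn : centralizer (P : Set Y) ≤ normalizer (V : Set Y)) : V ≤ Cfsg.pPrimeCore p Y := by
  refine le_trans ?_ (pPrimeCore_centralizer_le hP)
  rw [← map_subgroupOf_eq_of_le hVC]
  exact Subgroup.map_mono (Solvable.le_pPrimeCore ((normal_subgroupOf_iff_le_normalizer hVC).2 hn)
    (hV.coprime_dvd_left (Subgroup.card_comap_dvd_of_injective _ _ (Subgroup.subtype_injective _))))

omit hYs in
theorem disjoint_pCore_of_coprime {Z : Type*} [Group Z] [Finite Z] {W : Subgroup Z}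
    (hW : (Nat.card W).Coprime p) : Disjoint W (Cfsg.pCore p Z) := by
  obtain ⟨n, hn⟩ := (PLoc.pCore_pgroup p Z).exists_card_eq
  refine Subgroup.disjoint_of_coprime_natCard ?_
  rw [hn]
  exact hW.pow_right n

/-- A `p'`-subgroup normalized by a `p`-element of `O_{p',p}` is centralized by it modulo `O_{p'}`. -/
theorem barHom_commute {L : Subgroup Y} (hL : (Nat.card L).Coprime p) {x : Y}
    (hx : x ∈ Cfsg.pPrimePCore p Y) (hxL : x ∈ normalizer (L : Set Y)) {l : Y} (hl : l ∈ L) :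
    Commute (barHom Y p x) (barHom Y p l) := by
  haveI := Solvable.pCore_normal p (Y ⧸ Cfsg.piCore (Cfsg.primesNotDvd p) Y)
  rw [pPrimePCore_eq_comap_barHom, mem_comap] at hx
  set f := barHom Y p
  have h1 : f (x * l * x⁻¹ * l⁻¹) ∈ L.map f :=
    mem_map_of_mem f (mul_mem ((mem_normalizer_iff.1 hxL l).1 hl) (inv_mem hl))
  have h2 : f (x * l * x⁻¹ * l⁻¹) ∈ Cfsg.pCore p (Y ⧸ Cfsg.piCore (Cfsg.primesNotDvd p) Y) := by
    have h := (inferInstance : (Cfsg.pCore p (Y ⧸ Cfsg.piCore (Cfsg.primesNotDvd p) Y)).Normal).conj_mem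
      _ (inv_mem hx) (f l)
    have := mul_mem hx h
    simpa [mul_assoc] using this
  have h3 := disjoint_def.1
    (disjoint_pCore_of_coprime (hL.coprime_dvd_left (Subgroup.card_map_dvd _ _))) h1 h2
  rw [map_mul, map_mul, map_mul, map_inv, map_inv] at h3
  exact mul_inv_eq_iff_eq_mul.1 (mul_inv_eq_one.1 h3)

/-- An element centralized modulo `O_{p'}` by a `p'`-subgroup's members, lifted. -/
theorem le_pPrimeCore_of_bar_le_centralizer {L : Subgroup Y} (hL : (Nat.card L).Coprime p)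
    (h : ∀ l ∈ L, ∀ r ∈ Cfsg.pCore p (Y ⧸ Cfsg.piCore (Cfsg.primesNotDvd p) Y),
      Commute (barHom Y p l) r) : L ≤ Cfsg.pPrimeCore p Y := by
  intro l hl
  refine mem_pPrimeCore_of_barHom_eq_one ?_
  have h1 : barHom Y p l ∈ Cfsg.pCore p (Y ⧸ Cfsg.piCore (Cfsg.primesNotDvd p) Y) :=
    centralizer_pCore_bar_le fun r hr => (h l hl r hr).symm.eq
  exact disjoint_def.1
    (disjoint_pCore_of_coprime (hL.coprime_dvd_left (Subgroup.card_map_dvd _ _)))
    (mem_map_of_mem (barHom Y p) hl) h1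

omit hYs in
/-- A `p`-element of the image lifts to a `p`-element. -/
theorem exists_pElement_lift {C : Subgroup Y} {z : Y} (hz : z ∈ C) {k : ℕ}
    (hzk : barHom Y p z ^ (p ^ k) = 1) :
    ∃ w ∈ C, barHom Y p w = barHom Y p z ∧ w ^ (p ^ k) = 1 := by
  set m := Nat.card (barHom Y p).ker
  have hcop : m.Coprime (p ^ k) := barHom_ker_coprime.pow_right k
  obtain ⟨j, hj1, hj2⟩ := Nat.chineseRemainder hcop.symm 1 0
  refine ⟨z ^ j, pow_mem hz j, ?_, ?_⟩
  · rw [map_pow, pow_eq_pow_mod j hzk, hj1, ← pow_eq_pow_mod 1 hzk, pow_one]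
  · obtain ⟨i, hi⟩ := Nat.modEq_zero_iff_dvd.1 hj2
    have hk : z ^ (p ^ k) ∈ (barHom Y p).ker := MonoidHom.mem_ker.2 (by rw [map_pow, hzk])
    have := congrArg Subtype.val (pow_card_eq_one' (x := (⟨_, hk⟩ : (barHom Y p).ker)))
    rw [← pow_mul, hi, show m * i * p ^ k = p ^ k * m * i by ring, pow_mul]
    change ((z ^ p ^ k) ^ m) = 1 at this
    rw [pow_mul, this, one_pow]

/-- A `p'`-subgroup normalized by an abelian `p`-subgroup `A ≤ O_{p',p}` containing every
`p`-element centralizing it lies in `O_{p'}`. -/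
theorem inv_le_pPrimeCore_of_mem_pPrimePCore {A L : Subgroup Y} (hA : IsPGroup p A)
    (hAR : A ≤ Cfsg.pPrimePCore p Y)
    (hCA : ∀ x ∈ centralizer (A : Set Y), IsPGroup p (zpowers x) → x ∈ A)
    (hL : (Nat.card L).Coprime p) (hAL : A ≤ normalizer (L : Set Y)) :
    L ≤ Cfsg.pPrimeCore p Y := by
  haveI := Solvable.pCore_normal p (Y ⧸ Cfsg.piCore (Cfsg.primesNotDvd p) Y)
  set f := barHom Y p
  set R := Cfsg.pCore p (Y ⧸ Cfsg.piCore (Cfsg.primesNotDvd p) Y)
  have hAbar : A.map f ≤ R := by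
    rintro _ ⟨a, ha, rfl⟩
    have := hAR ha
    rwa [pPrimePCore_eq_comap_barHom, mem_comap] at this
  have hAL' : A.map f ≤ R ⊓ centralizer ((L.map f : Subgroup _) : Set _) := by
    refine le_inf hAbar ?_
    rintro _ ⟨a, ha, rfl⟩ _ ⟨l, hl, rfl⟩
    exact (barHom_commute hL (hAR ha) (hAL ha) hl).symm.eq
  have hC : R ⊓ centralizer ((A.map f : Subgroup _) : Set _) ≤ A.map f := by
    rintro r ⟨hr, hrC⟩
    rw [centralizer_barHom hA] at hrC
    obtain ⟨z, hz, rfl⟩ := hrC
    obtain ⟨k, hk⟩ := (IsPGroup.iff_orderOf.1 (PLoc.pCore_pgroup p _)) ⟨f z, hr⟩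
    rw [Subgroup.orderOf_mk] at hk
    obtain ⟨w, hw, hwz, hwk⟩ := exists_pElement_lift hz (k := k)
      (by rw [← hk]; exact pow_orderOf_eq_one _)
    refine ⟨w, hCA w hw ?_, hwz⟩
    obtain ⟨i, -, hi⟩ := (Nat.dvd_prime_pow hp.out).1 (orderOf_dvd_of_pow_eq_one hwk)
    exact IsPGroup.of_card (n := i) (by rw [Nat.card_zpowers, hi])
  have hRp : IsPGroup p R := PLoc.pCore_pgroup p _
  have hcen := le_centralizer_of_self_centralizing_fixed R (L.map f) hRp.isNilpotent
    (by rw [normalizer_eq_top]; exact le_top) (by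
      obtain ⟨n, hn⟩ := hRp.exists_card_eq
      rw [hn]
      exact (hL.coprime_dvd_left (Subgroup.card_map_dvd _ _)).pow_right n)
    ((inf_le_inf_left _ (centralizer_le hAL')).trans (hC.trans hAL'))
  exact le_pPrimeCore_of_bar_le_centralizer hL fun l hl r hr =>
    ((mem_centralizer_iff.1 (hcen (mem_map_of_mem f hl))) r hr).symm

omit hYs in
/-- In a group of `p`-length 1 every `p`-element lies in `O_{p',p}`. -/
theorem mem_pPrimePCore_of_plength_one (h : Cfsg.PLengthLE p 1 Y) {x : Y}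
    (hx : IsPGroup p (zpowers x)) : x ∈ Cfsg.pPrimePCore p Y := by
  have hU1 : (Cfsg.upperPSeries p Y (2 * 0 + 1)).1 = Cfsg.pPrimeCore p Y := by
    rw [PLoc.upperPSeries_odd]
    refine (PLoc.pPrimeCore_eq_comap (QuotientGroup.mk'_surjective _) ?_).symm
    rw [QuotientGroup.ker_mk', show (Cfsg.upperPSeries p Y (2 * 0)).1 = ⊥ by
      rw [Cfsg.upperPSeries], Subgroup.card_bot]
    exact Nat.coprime_one_left p
  have hU2 : x ∈ (Cfsg.upperPSeries p Y (2 * 0 + 2)).1 := by
    have h3 := h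
    rw [Cfsg.PLengthLE, PLoc.upperPSeries_odd] at h3
    rw [show (2 * 0 + 2) = 2 * 1 from rfl]
    set U := (Cfsg.upperPSeries p Y (2 * 1)).1
    have hmem : x ∈ (Cfsg.pPrimeCore p (Y ⧸ U)).comap (QuotientGroup.mk' U) := h3 ▸ mem_top x
    rw [mem_comap] at hmem
    rw [← QuotientGroup.eq_one_iff x, ← orderOf_eq_one_iff]
    obtain ⟨k, hk⟩ := hx.exists_card_eq
    rw [Nat.card_zpowers] at hk
    refine Nat.eq_one_iff_not_exists_prime_dvd.2 fun t ht htd => ?_
    have h1 : t ∣ Nat.card (Cfsg.pPrimeCore p (Y ⧸ U)) := htd.trans (orderOf_dvd_card_of_mem hmem)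
    have h2 : t = p := (Nat.prime_dvd_prime_iff_eq ht hp.out).1 (ht.dvd_of_dvd_pow
      (hk ▸ htd.trans (orderOf_map_dvd (QuotientGroup.mk' U) x)))
    exact ht.ne_one (Nat.eq_one_of_dvd_coprimes (Solvable.pPrimeCore_card_coprime p (Y ⧸ U)) h1
      (h2 ▸ dvd_rfl))
  rw [PLoc.upperPSeries_even] at hU2
  rw [pPrimePCore_eq_comap_barHom,
    PLoc.comap_pCore_congr (g := QuotientGroup.mk' (Cfsg.upperPSeries p Y (2 * 0 + 1)).1)
      barHom_surjective (QuotientGroup.mk'_surjective _)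
      (by rw [barHom_ker, QuotientGroup.ker_mk', hU1])]
  exact hU2

/-- A `p'`-subgroup normalized by a maximal elementary abelian `p`-subgroup lies in `O_{p'}` in a
group of `p`-length 1. -/
theorem inv_le_pPrimeCore_of_elementary (hp2 : p ≠ 2) (hpl : Cfsg.PLengthLE p 1 Y)
    {A L : Subgroup Y} (hA : IsPGroup p A) (hAc : IsMulCommutative A)
    (hfix : ∀ x ∈ centralizer (A : Set Y), x ^ p = 1 → x ∈ A)
    (hL : (Nat.card L).Coprime p) (hAL : A ≤ normalizer (L : Set Y)) :
    L ≤ Cfsg.pPrimeCore p Y := by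
  haveI := Solvable.pCore_normal p (Y ⧸ Cfsg.piCore (Cfsg.primesNotDvd p) Y)
  set f := barHom Y p
  set R := Cfsg.pCore p (Y ⧸ Cfsg.piCore (Cfsg.primesNotDvd p) Y)
  have hAR : A ≤ Cfsg.pPrimePCore p Y := fun a ha =>
    mem_pPrimePCore_of_plength_one hpl (hA.to_le (zpowers_le.2 ha))
  have hAbar : A.map f ≤ R := by
    rintro _ ⟨a, ha, rfl⟩
    have := hAR ha
    rwa [pPrimePCore_eq_comap_barHom, mem_comap] at this
  have hRp : IsPGroup p R := PLoc.pCore_pgroup p _
  set T := R ⊓ centralizer ((A.map f : Subgroup _) : Set _) with hT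
  have hAT : A.map f ≤ T := by
    refine le_inf hAbar ?_
    rintro _ ⟨a, ha, rfl⟩ _ ⟨b, hb, rfl⟩
    rw [← map_mul, ← map_mul]
    exact congrArg f (congrArg Subtype.val (hAc.is_comm.comm (⟨b, hb⟩ : A) ⟨a, ha⟩))
  have hLT : ∀ l ∈ L, ∀ t ∈ T, Commute (f l) t := by
    intro l hl
    have hAl : ∀ a ∈ A, Commute (f a) (f l) := fun a ha => barHom_commute hL (hAR ha) (hAL ha) hl
    refine commute_of_fix_pow_eq_one hp2 T (hRp.to_le inf_le_left) ?_ ?_ ?_
    · refine inf_normalizer_le_normalizer_inf (mem_inf.2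
        ⟨by rw [normalizer_eq_top]; exact mem_top _, le_normalizer ?_⟩)
      rintro _ ⟨a, ha, rfl⟩
      exact (hAl a ha).eq
    · exact hL.coprime_dvd_left ((orderOf_map_dvd f l).trans (orderOf_dvd_card_of_mem hl))
    · intro t ht htp
      obtain ⟨z, hz, rfl⟩ := (centralizer_barHom hA).le ht.2
      obtain ⟨w, hw, hwz, hwp⟩ := exists_pElement_lift hz (k := 1) (by rwa [pow_one])
      rw [pow_one] at hwp
      rw [← hwz]
      exact (hAl w (hfix w hw hwp)).symm
  have hcen := le_centralizer_of_self_centralizing_fixed R (L.map f) hRp.isNilpotent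
    (by rw [normalizer_eq_top]; exact le_top) (by
      obtain ⟨n, hn⟩ := hRp.exists_card_eq
      rw [hn]
      exact (hL.coprime_dvd_left (Subgroup.card_map_dvd _ _)).pow_right n) (by
      have hTC : T ≤ R ⊓ centralizer ((L.map f : Subgroup _) : Set _) := by
        refine le_inf inf_le_left ?_
        rintro t ht _ ⟨l, hl, rfl⟩
        exact (hLT l hl t ht).eq
      exact ((inf_le_inf_left _ (centralizer_le (hAT.trans hTC)))).trans hTC)
  exact le_pPrimeCore_of_bar_le_centralizer hL fun l hl r hr =>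
    ((mem_centralizer_iff.1 (hcen (mem_map_of_mem f hl))) r hr).symm

end Quotient

end CfsgLib.OddOrder
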