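import Cfsg.Agent.Lib.OddOrder.GL2Odd
import Cfsg.Agent.Lib.OddOrder.NormalRank
import Cfsg.Agent.Lib.OddOrder.PPrime
import Cfsg.Agent.Lib.Transfer.Critical
import Cfsg.Agent.Lib.PLocal.QuadLinear
import Cfsg.Agent.Lib.Solvable.CoprimeAction

/-!
Solvable groups of odd order and `p`-rank at most two (BG 4.18).
-/

set_option autoImplicit false
set_option linter.style.haveILetI false

open scoped commutatorElement MatrixGroups

namespace CfsgLib.OddOrder

open Subgroup

/-- Extend endomorphisms of `A` to `A × B` by the identity on `B`. -/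
def padHom (K A B : Type*) [Semiring K] [AddCommMonoid A] [Module K A] [AddCommMonoid B]
    [Module K B] : Module.End K A →* Module.End K (A × B) where
  toFun f := LinearMap.prodMap f LinearMap.id
  map_one' := LinearMap.ext fun _ => rfl
  map_mul' _ _ := LinearMap.ext fun _ => rfl

theorem exists_matrixHom (K A : Type*) [Field K] [AddCommGroup A] [Module K A] [Finite A]
    (hk : Module.finrank K A ≤ 2) :
    ∃ θ : Module.End K A →* Matrix (Fin 2) (Fin 2) K, Function.Injective θ := by
  haveI : Module.Finite K A := Module.Finite.of_finite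
  let B0 := A × (Fin (2 - Module.finrank K A) → K)
  have hM : Module.finrank K (A × (Fin (2 - Module.finrank K A) → K)) = 2 := by
    rw [Module.finrank_prod, Module.finrank_fin_fun]
    omega
  let B := Module.finBasisOfFinrankEq K _ hM
  refine ⟨(LinearMap.toMatrixAlgEquiv B).toMulEquiv.toMonoidHom.comp (padHom K A _), ?_⟩
  intro f g hfg
  have h := (LinearMap.toMatrixAlgEquiv B).injective hfg
  refine LinearMap.ext fun x => ?_
  exact congrArg Prod.fst (LinearMap.congr_fun h (x, 0))

theorem exists_hom_gl2_of_end {p : ℕ} [hp : Fact p.Prime] {H A : Type*} [Group H] [AddCommGroup A]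
    [Finite A] [Module (ZMod p) A] (σ : H →* AddMonoid.End A) (hA : Nat.card A ≤ p ^ 2) :
    ∃ φ : H →* GL (Fin 2) (ZMod p), ∀ h, φ h = 1 ↔ σ h = 1 := by
  have hk : Module.finrank (ZMod p) A ≤ 2 := by
    haveI : Fintype A := Fintype.ofFinite _
    have h := Module.card_eq_pow_finrank (K := ZMod p) (V := A)
    rw [ZMod.card, ← Nat.card_eq_fintype_card] at h
    rw [h] at hA
    exact (Nat.pow_le_pow_iff_right hp.out.one_lt).1 hA
  obtain ⟨θ, hθ⟩ := exists_matrixHom (ZMod p) A hk
  let ρ : H →* Matrix (Fin 2) (Fin 2) (ZMod p) :=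
    θ.comp ((PLocal.zmodEndHom p A).toMonoidHom.comp σ)
  refine ⟨ρ.toHomUnits, fun h => ⟨fun hh => ?_, fun hh => Units.ext ?_⟩⟩
  · have h1 : ρ h = 1 := congrArg Units.val hh
    have h2 : PLocal.zmodEndHom p A (σ h) = 1 := hθ (h1.trans (map_one θ).symm)
    exact AddMonoidHom.ext fun x => LinearMap.congr_fun h2 x
  · show θ (PLocal.zmodEndHom p A (σ h)) = 1
    rw [hh, map_one, map_one]

/-- The action on a normal elementary abelian subgroup of order at most `p ^ 2`, in `GL₂(p)`. -/
theorem exists_hom_gl2 {Y : Type*} [Group Y] [Finite Y] {p : ℕ} [hp : Fact p.Prime] {V : Subgroup Y}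
    [V.Normal] (hV : Cfsg.IsElementaryAbelian p V) (hcard : Nat.card V ≤ p ^ 2) :
    ∃ φ : Y →* GL (Fin 2) (ZMod p), φ.ker = centralizer (V : Set Y) := by
  classical
  letI : CommGroup V := { (inferInstance : Group V) with
    mul_comm := fun x y => Subtype.ext (PLocal.commute_of_mem_comm hV.1 x.2 y.2).eq }
  have hsmul : ∀ x : Additive V, p • x = 0 := fun x => by
    apply Additive.toMul.injective
    exact Subtype.ext (hV.2 _ (Additive.toMul x).2)
  letI : Module (ZMod p) (Additive V) := AddCommGroup.zmodModule hsmul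
  have hmem : ∀ h : Y, h ∈ normalizer (V : Set Y) := fun h => by
    rw [normalizer_eq_top V]; exact mem_top h
  let σ : Y →* AddMonoid.End (Additive V) :=
    { toFun := fun h =>
        { toFun := fun x => Additive.ofMul ⟨h * (Additive.toMul x : V) * h⁻¹,
            (Subgroup.mem_normalizer_iff.mp (hmem h) _).mp (Additive.toMul x).2⟩
          map_zero' := by apply Additive.toMul.injective; ext; simp
          map_add' := fun x y => by apply Additive.toMul.injective; ext; simp [mul_assoc] }
      map_one' := by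
        refine AddMonoidHom.ext fun x => ?_
        apply Additive.toMul.injective
        ext
        show (1 : Y) * (Additive.toMul x : V) * (1 : Y)⁻¹ = (Additive.toMul x : V)
        simp
      map_mul' := fun s t => by
        refine AddMonoidHom.ext fun x => ?_
        apply Additive.toMul.injective
        ext
        show (s * t) * (Additive.toMul x : V) * (s * t)⁻¹ =
          s * (t * (Additive.toMul x : V) * t⁻¹) * s⁻¹
        simp [mul_assoc] }
  obtain ⟨φ, hφ⟩ := exists_hom_gl2_of_end (p := p) σ hcard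
  refine ⟨φ, ?_⟩
  ext h
  rw [MonoidHom.mem_ker, hφ h]
  constructor
  · intro hh
    refine mem_centralizer_iff.2 fun v hv => ?_
    have h4 : h * v * h⁻¹ = v :=
      congrArg (fun T : AddMonoid.End (Additive V) =>
        ((Additive.toMul (T (Additive.ofMul ⟨v, hv⟩)) : V) : Y)) hh
    exact (mul_inv_eq_iff_eq_mul.mp h4).symm
  · intro hh
    refine AddMonoidHom.ext fun x => ?_
    apply Additive.toMul.injective
    ext
    show h * (Additive.toMul x : V) * h⁻¹ = ((Additive.toMul x : V) : Y)
    rw [← mem_centralizer_iff.1 hh _ (Additive.toMul x).2, mul_inv_cancel_right]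

variable {R : Type*} [Group R] [Finite R] {p : ℕ} [hp : Fact p.Prime]

/-- Exponent `p` and rank at most two give order at most `p ^ 3`. -/
theorem card_le_of_exponent_of_rank_two (hp2 : p ≠ 2) (hR : IsPGroup p R)
    (hexp : ∀ x : R, x ^ p = 1) (hr : Cfsg.PRankLE p 2 R) : Nat.card R ≤ p ^ 3 := by
  obtain ⟨A, ⟨hAn, hAc⟩, hmax⟩ :=
    (Set.toFinite {A : Subgroup R | A.Normal ∧ IsMulCommutative A}).exists_maximal
      ⟨⊥, inferInstance, inferInstance⟩
  haveI := hAn
  have hAC : centralizer (A : Set R) = A :=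
    CfsgLib.PGroup.centralizer_eq_of_maximal_normal_abelian hR A hAc
      fun B hB hBc hAB => le_antisymm (hmax ⟨hB, hBc⟩ hAB) hAB
  have hA2 : Nat.card A ≤ p ^ 2 := hr A hAc fun a _ => hexp a
  have hA : Cfsg.IsElementaryAbelian p A := ⟨hAc, fun a _ => hexp a⟩
  obtain ⟨i, hi⟩ := (hR.to_subgroup A).exists_card_eq
  have hi2 : i ≤ 2 := (Nat.pow_le_pow_iff_right hp.out.one_lt).1 (hi ▸ hA2)
  rcases Nat.lt_or_ge i 2 with hlt | hge
  · -- `A` is central
    have hcen : centralizer (A : Set R) = ⊤ := by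
      by_cases hAb : A = ⊥
      · rw [hAb, eq_top_iff]
        intro x _ y hy
        rw [Subgroup.coe_bot, Set.mem_singleton_iff] at hy
        rw [hy, one_mul, mul_one]
      obtain ⟨z, hzA, hzc, hzo⟩ := CfsgLib.PGroup.exists_central_orderOf_eq hR A hAb
      have hAz : zpowers z = A := by
        refine Subgroup.eq_of_le_of_card_ge (zpowers_le.2 hzA) ?_
        rw [Nat.card_zpowers, hzo, hi]
        exact le_of_le_of_eq (Nat.pow_le_pow_right hp.out.pos (by omega : i ≤ 1)) (pow_one p)
      rw [eq_top_iff]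
      intro x _
      rw [mem_centralizer_iff, ← hAz]
      intro a ha
      exact (mem_center_iff.1 (zpowers_le.2 hzc ha) x).symm
    rw [← Subgroup.card_top (G := R), ← hcen, hAC, hi]
    exact Nat.pow_le_pow_right hp.out.pos (by omega)
  · have hA2' : Nat.card A = p ^ 2 := by rw [hi, show i = 2 by omega]
    have h := centralizer_index_le hR hA hA2'
    rw [hAC] at h
    calc Nat.card R = A.index * Nat.card A := (Subgroup.index_mul_card A).symm
      _ ≤ p * p ^ 2 := by rw [hA2']; exact Nat.mul_le_mul_right _ h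
      _ = p ^ 3 := (pow_succ' p 2).symm

omit [Finite R] hp in
/-- The elements of order dividing `p` of a subgroup of class two form a subgroup. -/
theorem exists_omega_subgroup {p : ℕ} [Fact p.Prime] (hp2 : p ≠ 2) {H : Subgroup R}
    (hcl : ⁅H, H⁆ ≤ centralizer (H : Set R)) :
    ∃ U : Subgroup R, ∀ x, x ∈ U ↔ x ∈ H ∧ x ^ p = 1 := by
  obtain ⟨m, hm⟩ : p ∣ p.choose 2 :=
    (Fact.out : p.Prime).dvd_choose_self two_ne_zero
      (lt_of_le_of_ne (Fact.out : p.Prime).two_le hp2.symm)
  refine ⟨{ carrier := {x | x ∈ H ∧ x ^ p = 1}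
            one_mem' := ⟨one_mem H, one_pow p⟩
            mul_mem' := fun {a b} ha hb => ⟨mul_mem ha.1 hb.1, ?_⟩
            inv_mem' := fun {a} ha => ⟨inv_mem ha.1, by rw [inv_pow, ha.2, inv_one]⟩ },
    fun x => Iff.rfl⟩
  set c := ⁅b, a⁆ with hc
  have hcC : c ∈ centralizer (H : Set R) := hcl (commutator_mem_commutator hb.1 ha.1)
  have hca : Commute c a := (mem_centralizer_iff.1 hcC a ha.1).symm
  have hcb : Commute c b := (mem_centralizer_iff.1 hcC b hb.1).symm
  have hcp : c ^ p = 1 := by
    have h1 : c * a = MulAut.conj b a := by rw [hc, commutatorElement_def, MulAut.conj_apply]; group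
    have h2 : (c * a) ^ p = 1 := by rw [h1, ← map_pow, ha.2, map_one]
    rwa [hca.mul_pow, ha.2, mul_one] at h2
  rw [mul_pow_of_central_commutator (c := c) (by rw [hc, commutatorElement_def]; group) hca hcb p,
    hm, pow_mul, hcp, one_pow, one_mul, ha.2, hb.2, mul_one]

end CfsgLib.OddOrder

namespace CfsgLib.OddOrder

open Subgroup

variable {Y : Type*} [Group Y] [Finite Y] {p : ℕ} [hp : Fact p.Prime]

/-- Odd solvable `Y` with `O_{p'}(Y) = 1` and rank at most two: `Y / O_p(Y)` is abelian and every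
prime divisor of `|Y|` is at most `p`. -/
theorem rank_two_core [Group.IsSolvable Y] (hodd : Odd (Nat.card Y)) (hp2 : p ≠ 2)
    (hO : Cfsg.pPrimeCore p Y = ⊥) (hr : Cfsg.PRankLE p 2 Y) :
    commutator Y ≤ Cfsg.pCore p Y ∧ ∀ q : ℕ, q.Prime → q ∣ Nat.card Y → q ≤ p := by
  classical
  set R := Cfsg.pCore p Y with hR
  haveI hRn : R.Normal := Solvable.pCore_normal p Y
  have hRp : IsPGroup p R := Solvable.pCore_isPGroup p Y
  have hCR : centralizer (R : Set Y) ≤ R := centralizer_pCore_le hO
  obtain ⟨H, hHc, hHf, hHR, hHC⟩ := CfsgLib.Transfer.exists_critical hRp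
  haveI := hHc
  have hcl : ⁅H, H⁆ ≤ centralizer (H : Set R) :=
    (commutator_mono le_rfl le_top).trans (hHR.trans inf_le_right)
  obtain ⟨U₀, hU₀⟩ := exists_omega_subgroup (p := p) hp2 hcl
  set H' := H.map R.subtype with hH'
  haveI hH'n : H'.Normal := inferInstanceAs (H.map R.subtype).Normal
  set U := U₀.map R.subtype with hU
  have hUmem : ∀ y, y ∈ U ↔ y ∈ H' ∧ y ^ p = 1 := by
    intro y
    constructor
    · rintro ⟨u, hu, rfl⟩
      obtain ⟨h1, h2⟩ := (hU₀ u).1 hu
      exact ⟨⟨u, h1, rfl⟩, by rw [← map_pow, h2, map_one]⟩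
    · rintro ⟨⟨h, hh, rfl⟩, hy⟩
      exact ⟨h, (hU₀ h).2 ⟨hh, R.subtype_injective (by rw [map_pow, hy, map_one])⟩, rfl⟩
  haveI hUn : U.Normal := ⟨fun x hx g => (hUmem _).2 ⟨hH'n.conj_mem x ((hUmem x).1 hx).1 g, by
    rw [← MulAut.conj_apply, ← map_pow, ((hUmem x).1 hx).2, map_one]⟩⟩
  have hUp : IsPGroup p U := hRp.to_le (map_subtype_le _)
  have hUe : ∀ x : U, x ^ p = 1 := fun x => Subtype.ext ((hUmem x).1 x.2).2
  have hUr : Cfsg.PRankLE p 2 U := by
    intro A hA hAp
    rw [← Subgroup.card_map_of_injective U.subtype_injective]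
    haveI := hA
    refine hr _ (map_isMulCommutative A (f := U.subtype)) ?_
    rintro _ ⟨a, ha, rfl⟩
    rw [← map_pow, hAp a ha, map_one]
  -- the Frattini quotient of `U`
  set D := (frattini U).map U.subtype with hD
  haveI hDn : D.Normal := inferInstanceAs ((frattini U).map U.subtype).Normal
  set f := QuotientGroup.mk' D with hf
  have hker : ∀ y, f y = 1 ↔ y ∈ D := fun y => QuotientGroup.eq_one_iff y
  set W := U.map f with hW
  haveI hWn : W.Normal := Subgroup.Normal.map inferInstance f (QuotientGroup.mk'_surjective _)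
  have hWe : Cfsg.IsElementaryAbelian p W := by
    constructor
    · refine le_centralizer_iff_isMulCommutative.mp ?_
      rintro _ ⟨r, hr', rfl⟩ _ ⟨s, hs, rfl⟩
      rw [← map_mul, ← map_mul]
      refine QuotientGroup.eq_iff_div_mem.2 ?_
      exact ⟨⁅(⟨s, hs⟩ : U), ⟨r, hr'⟩⁆,
        commutator_le_frattini_of_isPGroup hUp (commutator_mem_commutator (mem_top _) (mem_top _)),
        by simp [commutatorElement_def, div_eq_mul_inv, mul_assoc]⟩
    · rintro _ ⟨r, hr', rfl⟩
      rw [← map_pow, hker]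
      exact ⟨⟨r, hr'⟩ ^ p, pow_mem_frattini_of_isPGroup hUp _, rfl⟩
  have hWc : Nat.card W ≤ p ^ 2 := by
    have hfac : Nat.card W = Nat.card (U ⧸ frattini U) := by
      have h1 : (f.comp U.subtype).range = W := by rw [MonoidHom.range_comp, range_subtype]
      have h2 : (f.comp U.subtype).ker = frattini U := by
        rw [← MonoidHom.comap_ker, hf, QuotientGroup.ker_mk', hD,
          comap_map_eq_self_of_injective U.subtype_injective]
      rw [← h1, ← Nat.card_congr (QuotientGroup.quotientKerEquivRange _).toEquiv, h2]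
    rw [hfac]
    have hU3 := card_le_of_exponent_of_rank_two hp2 hUp hUe hUr
    have hmul := Subgroup.card_eq_card_quotient_mul_card_subgroup (frattini U)
    obtain ⟨i, hi⟩ := (hUp.to_subgroup (frattini U)).exists_card_eq
    rcases i with _ | i
    · rw [hi, pow_zero, mul_one] at hmul
      rw [← hmul]
      have hUc : IsMulCommutative U := by
        refine ⟨⟨fun x y => ?_⟩⟩
        have : ⁅x, y⁆ ∈ frattini U :=
          commutator_le_frattini_of_isPGroup hUp (commutator_mem_commutator (mem_top _) (mem_top _))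
        rw [Subgroup.card_eq_one.1 (hi.trans (pow_zero p)), mem_bot] at this
        exact commutatorElement_eq_one_iff_mul_comm.1 this
      exact hr U hUc fun u hu => ((hUmem u).1 hu).2
    · refine Nat.le_of_mul_le_mul_right ?_ hp.out.pos
      calc Nat.card (U ⧸ frattini U) * p ≤ Nat.card (U ⧸ frattini U) * p ^ (i + 1) :=
            Nat.mul_le_mul_left _ (Nat.le_self_pow i.succ_ne_zero p)
        _ ≤ p ^ 3 := by rw [← hi, ← hmul]; exact hU3
        _ = p ^ 2 * p := pow_succ p 2
  obtain ⟨φ, hφ⟩ := exists_hom_gl2 hWe hWc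
  set ψ := φ.comp f with hψ
  -- the kernel of the action is a `p`-group
  have hKp : IsPGroup p ψ.ker := by
    intro y
    obtain ⟨k, m, hm, hkm⟩ := Nat.exists_eq_pow_mul_and_not_dvd (orderOf_pos (y : Y)).ne' p
      hp.out.ne_one
    refine ⟨k, Subtype.ext ?_⟩
    rw [SubgroupClass.coe_pow, OneMemClass.coe_one]
    set a := (y : Y) ^ p ^ k with ha
    have hao : orderOf a = m := by
      rw [ha, orderOf_pow' _ (pow_ne_zero _ hp.out.ne_zero), hkm,
        Nat.gcd_eq_right ⟨m, rfl⟩, Nat.mul_div_cancel_left _ (pow_pos hp.out.pos _)]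
    have hcop : (orderOf a).Coprime p := by
      rw [hao]; exact (hp.out.coprime_iff_not_dvd.2 hm).symm
    have haW : f a ∈ centralizer (W : Set (Y ⧸ D)) := by
      rw [← hφ, MonoidHom.mem_ker]
      exact MonoidHom.mem_ker.1 (show a ∈ ψ.ker from pow_mem y.2 _)
    have h1 : zpowers a ≤ centralizer (U : Set Y) := by
      refine Solvable.le_centralizer_of_trivial_on_frattini_quotient ?_ ?_
      · rw [Nat.card_zpowers]
        obtain ⟨n, hn⟩ := (hUp.to_subgroup (frattini U)).exists_card_eq
        rw [hn]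
        exact hcop.pow_right n
      · intro w hw r hr'
        have hwC : f w ∈ centralizer (W : Set (Y ⧸ D)) := by
          obtain ⟨i, rfl⟩ := hw
          show f (a ^ i) ∈ _
          rw [map_zpow]
          exact zpow_mem haW i
        rw [← hD, ← hker, map_mul, map_mul, map_mul, map_inv, map_inv,
          ← mem_centralizer_iff.1 hwC (f r) ⟨r, hr', rfl⟩, mul_inv_cancel_right, mul_inv_cancel]
    have haH : ∀ x ∈ H', Commute a x :=
      commute_of_fix_pow_eq_one hp2 H' (hRp.to_le (map_subtype_le _))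
        (by rw [normalizer_eq_top H']; exact mem_top a) hcop
        fun x hx hxp => (mem_centralizer_iff.1 (h1 (mem_zpowers a)) x ((hUmem x).2 ⟨hx, hxp⟩)).symm
    have h2 : zpowers a ≤ centralizer (R : Set Y) := by
      have hHa : H' ≤ centralizer (zpowers a : Set Y) := by
        intro x hx
        rintro _ ⟨i, rfl⟩
        exact ((haH x hx).zpow_left i).eq
      refine Solvable.thompson_pxq (P := H') (hRp.to_le (map_subtype_le _))
        (by rw [Nat.card_zpowers]; exact hcop) hRp hHa
        (le_top.trans (normalizer_eq_top R).ge) (le_top.trans (normalizer_eq_top R).ge) ?_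
      rintro x ⟨hxR, hxH⟩
      have hxH' : (⟨x, hxR⟩ : R) ∈ H := hHC (mem_centralizer_iff.2 fun h hh =>
        Subtype.ext (mem_centralizer_iff.1 hxH (h : Y) ⟨h, hh, rfl⟩))
      exact hHa ⟨_, hxH', rfl⟩
    have haR : a ∈ R := hCR (h2 (mem_zpowers a))
    obtain ⟨n, hn⟩ := IsPGroup.iff_orderOf.mp hRp ⟨a, haR⟩
    rw [Subgroup.orderOf_mk, hao] at hn
    rw [← orderOf_eq_one_iff, hao]
    rcases n with _ | n
    · simpa using hn
    · exact absurd ⟨p ^ n, by rw [hn, pow_succ']⟩ hm
  haveI : Finite (GL (Fin 2) (ZMod p)) := inferInstance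
  constructor
  · haveI : Group.IsSolvable ψ.range := Group.isSolvable_of_surjective ψ.rangeRestrict_surjective
    have hX := gl2_commutator_pow_eq_one hp2 ψ.range
      (Odd.of_dvd_nat hodd (Subgroup.card_range_dvd ψ))
    refine Solvable.le_pCore inferInstance fun g => ?_
    have hgm : ∀ y ∈ commutator Y, ψ.rangeRestrict y ∈ commutator ψ.range := by
      intro y hy
      have h := mem_map_of_mem ψ.rangeRestrict hy
      rw [_root_.commutator_def, map_commutator] at h
      rw [_root_.commutator_def]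
      exact Subgroup.commutator_mono le_top le_top h
    have hg := hgm _ g.2
    have hgp : ψ ((g : Y) ^ p) = 1 := by
      have h' := congrArg Subtype.val (hX _ hg)
      rw [map_pow]
      simpa using h'
    obtain ⟨k, hk⟩ := hKp ⟨_, MonoidHom.mem_ker.2 hgp⟩
    refine ⟨k + 1, Subtype.ext ?_⟩
    have h'' := congrArg Subtype.val hk
    simp only [SubgroupClass.coe_pow, OneMemClass.coe_one] at h'' ⊢
    rw [pow_succ', pow_mul, h'']
  · intro q hq hqd
    by_cases hqp : q = p
    · exact hqp.le
    haveI := Fact.mk hq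
    obtain ⟨x, hx⟩ := exists_prime_orderOf_dvd_card' q hqd
    have hxK : x ∉ ψ.ker := fun hxk => by
      obtain ⟨n, hn⟩ := IsPGroup.iff_orderOf.mp hKp ⟨x, hxk⟩
      rw [Subgroup.orderOf_mk, hx] at hn
      rcases n with _ | n
      · exact hq.ne_one (by simpa using hn)
      · exact hqp ((Nat.prime_dvd_prime_iff_eq hq hp.out).1
          (hq.dvd_of_dvd_pow (show q ∣ p ^ (n + 1) by rw [← hn])))
    have hord : orderOf (ψ x) = q :=
      orderOf_eq_prime (by rw [← map_pow, ← hx, pow_orderOf_eq_one, map_one])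
        fun h => hxK (MonoidHom.mem_ker.2 h)
    refine gl2_zmod_prime_le hp2 hq (fun h2 => ?_) (hord ▸ orderOf_dvd_natCard (ψ x))
    subst h2
    exact (Nat.not_even_iff_odd.2 hodd) (even_iff_two_dvd.2 hqd)

/-- The rank does not grow in quotients by normal `p'`-subgroups. -/
theorem pRankLE_of_coprime_ker {Z : Type*} [Group Z] {f : Y →* Z} (hf : Function.Surjective f)
    (hker : (Nat.card f.ker).Coprime p) {k : ℕ} (hr : Cfsg.PRankLE p k Y) : Cfsg.PRankLE p k Z := by
  haveI : Finite Z := Finite.of_surjective f hf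
  intro B hBc hBp
  have hBg : IsPGroup p B := fun b => ⟨1, Subtype.ext (by
    rw [pow_one, SubgroupClass.coe_pow, hBp b b.2]; rfl)⟩
  obtain ⟨T, hT⟩ := hBg.exists_le_sylow
  obtain ⟨S, rfl⟩ := Sylow.mapSurjective_surjective hf p T
  rw [Sylow.coe_mapSurjective] at hT
  have hinj : ∀ x ∈ (S : Subgroup Y), f x = 1 → x = 1 := by
    intro x hx h1
    have h2 : x ∈ (S : Subgroup Y) ⊓ f.ker := ⟨hx, h1⟩
    rw [PLoc.disjoint_of_pgroup_coprime S.2 hker] at h2
    exact mem_bot.1 h2
  have heq : ∀ x ∈ (S : Subgroup Y), ∀ y ∈ (S : Subgroup Y), f x = f y → x = y := fun x hx y hy h =>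
    mul_inv_eq_one.1 (hinj _ (mul_mem hx (inv_mem hy)) (by rw [map_mul, map_inv, h, mul_inv_cancel]))
  set A := (S : Subgroup Y) ⊓ B.comap f with hA
  have hmap : A.map f = B := by
    refine le_antisymm (map_le_iff_le_comap.2 inf_le_right) fun b hb => ?_
    obtain ⟨s, hs, rfl⟩ := hT hb
    exact ⟨s, ⟨hs, hb⟩, rfl⟩
  have hAc : IsMulCommutative A := ⟨⟨fun a b => Subtype.ext (heq _ (mul_mem a.2.1 b.2.1) _
    (mul_mem b.2.1 a.2.1) (by
      simp only [Subgroup.coe_mul, map_mul]
      exact congrArg Subtype.val (hBc.is_comm.comm (⟨_, a.2.2⟩ : B) ⟨_, b.2.2⟩)))⟩⟩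
  have hAp : ∀ a ∈ A, a ^ p = 1 := fun a ha =>
    hinj _ (pow_mem ha.1 p) (by rw [map_pow, hBp _ ha.2])
  calc Nat.card B = Nat.card (A.map f) := by rw [hmap]
    _ ≤ Nat.card A := Nat.le_of_dvd Nat.card_pos (Subgroup.card_map_dvd A f)
    _ ≤ p ^ k := hr A hAc hAp

/-- BG 4.18 (main part): the derived subgroup lies in `O_{p',p}`, of index prime to `p`. -/
theorem rank_two_structure [Group.IsSolvable Y] (hodd : Odd (Nat.card Y)) (hp2 : p ≠ 2)
    (hr : Cfsg.PRankLE p 2 Y) :
    commutator Y ≤ Cfsg.pPrimePCore p Y ∧ ((Cfsg.pPrimePCore p Y).index).Coprime p ∧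
      ∀ q : ℕ, q.Prime → q ∣ (Cfsg.pPrimeCore p Y).index → q ≤ p := by
  set N := Cfsg.piCore (Cfsg.primesNotDvd p) Y with hN
  set f := barHom Y p with hf
  haveI : Group.IsSolvable (Y ⧸ N) :=
    Group.isSolvable_of_surjective (QuotientGroup.mk'_surjective _)
  obtain ⟨hc, hq⟩ := rank_two_core (Odd.of_dvd_nat hodd (Subgroup.card_quotient_dvd_card N)) hp2
    barHom_pPrimeCore (pRankLE_of_coprime_ker barHom_surjective barHom_ker_coprime hr)
  set R' := Cfsg.pCore p (Y ⧸ N) with hR'
  haveI : R'.Normal := Solvable.pCore_normal p _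
  obtain ⟨S⟩ : Nonempty (Sylow p Y) := inferInstance
  set S' := S.mapSurjective (barHom_surjective (Y := Y) (p := p)) with hS'
  have hle : R' ≤ S' := Solvable.pCore_le_sylow S'
  haveI hS'n : (S' : Subgroup (Y ⧸ N)).Normal :=
    Subgroup.Normal.of_commutator_le _ (hc.trans hle)
  have hSR : (S' : Subgroup (Y ⧸ N)) ≤ R' := Solvable.le_pCore hS'n S'.2
  have hP : Cfsg.pPrimePCore p Y = R'.comap f := pPrimePCore_eq_comap_barHom
  refine ⟨?_, ?_, fun q hq' hd => hq q hq' ?_⟩
  · rw [hP, ← map_le_iff_le_comap, _root_.commutator_def, map_commutator]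
    exact (commutator_mono le_top le_top).trans hc
  · have hSle : (S : Subgroup Y) ≤ Cfsg.pPrimePCore p Y := by
      rw [hP, ← map_le_iff_le_comap]
      refine le_trans ?_ hSR
      rw [hS', Sylow.coe_mapSurjective]
    exact (hp.out.coprime_iff_not_dvd.2
      fun h => S.not_dvd_index (h.trans (Subgroup.index_dvd_of_le hSle))).symm
  · rwa [pPrimeCore_eq_piCore, Subgroup.index_eq_card] at hd

/-- A normal subgroup of order prime to `p` with `p`-power index is a normal `p`-complement. -/
theorem hasNormalPComplement_of_index {N : Subgroup Y} [N.Normal]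
    (hN : (Nat.card N).Coprime p) {k : ℕ} (hk : N.index = p ^ k) :
    Cfsg.HasNormalPComplement p Y := by
  obtain ⟨S⟩ : Nonempty (Sylow p Y) := inferInstance
  have hSc : Nat.card (S : Subgroup Y) = p ^ k := by
    rw [S.card_eq_multiplicity, ← Subgroup.card_mul_index N, hk,
      Nat.factorization_mul Nat.card_pos.ne' (pow_ne_zero _ hp.out.ne_zero), Finsupp.add_apply,
      Nat.factorization_eq_zero_of_not_dvd (hp.out.coprime_iff_not_dvd.1 hN.symm),
      hp.out.factorization_pow, Finsupp.single_eq_same, zero_add]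
  exact ⟨S, N, inferInstance, Subgroup.isComplement'_of_coprime
    (by rw [hSc, ← hk, Subgroup.card_mul_index]) (by rw [hSc]; exact hN.pow_right k)⟩

end CfsgLib.OddOrder
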