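import Cfsg.Agent.Lib.OddOrder.UniqueAux
import Cfsg.Agent.Lib.OddOrder.RankTwo
import Cfsg.Agent.Lib.TwoFusion.PRank
import Cfsg.Agent.Lib.PLocal.Replacement

/-!
Actions on `s`-groups of rank at most two, and `[X, X] ≤ F(X)` when all `O_s(X)` have rank at most
two (BG 4.18, 4.20).
-/

set_option autoImplicit false
set_option linter.style.haveILetI false

open scoped commutatorElement MatrixGroups

namespace CfsgLib.OddOrder

open Subgroup

section

variable {Y : Type*} [Group Y] [Finite Y] {s : ℕ} [hs : Fact s.Prime]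

/-- A normal `s`-subgroup of rank at most two has a section of order at most `s ^ 2` detecting the
action of elements of order prime to `s`. -/
theorem exists_small_section (hs2 : s ≠ 2) {R : Subgroup Y} [R.Normal] (hRp : IsPGroup s R)
    (hr : Cfsg.PRankLE s 2 R) :
    ∃ (D : Subgroup Y) (_ : D.Normal) (W : Subgroup (Y ⧸ D)), W.Normal ∧
      Cfsg.IsElementaryAbelian s W ∧ Nat.card W ≤ s ^ 2 ∧ IsPGroup s D ∧
      ∀ a : Y, (orderOf a).Coprime s → QuotientGroup.mk' D a ∈ centralizer (W : Set (Y ⧸ D)) →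
        a ∈ centralizer (R : Set Y) := by
  classical
  obtain ⟨H, hHc, hHf, hHR, hHC⟩ := CfsgLib.Transfer.exists_critical hRp
  haveI := hHc
  have hcl : ⁅H, H⁆ ≤ centralizer (H : Set R) :=
    (commutator_mono le_rfl le_top).trans (hHR.trans inf_le_right)
  obtain ⟨U₀, hU₀⟩ := exists_omega_subgroup (p := s) hs2 hcl
  set H' := H.map R.subtype with hH'
  haveI hH'n : H'.Normal := inferInstanceAs (H.map R.subtype).Normal
  set U := U₀.map R.subtype with hU
  have hUmem : ∀ y, y ∈ U ↔ y ∈ H' ∧ y ^ s = 1 := by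
    intro y
    constructor
    · rintro ⟨u, hu, rfl⟩
      obtain ⟨h1, h2⟩ := (hU₀ u).1 hu
      exact ⟨⟨u, h1, rfl⟩, by rw [← map_pow, h2, map_one]⟩
    · rintro ⟨⟨h, hh, rfl⟩, hy⟩
      exact ⟨h, (hU₀ h).2 ⟨hh, R.subtype_injective (by rw [map_pow, hy, map_one])⟩, rfl⟩
  haveI hUn : U.Normal := ⟨fun x hx g => (hUmem _).2 ⟨hH'n.conj_mem x ((hUmem x).1 hx).1 g, by
    rw [← MulAut.conj_apply, ← map_pow, ((hUmem x).1 hx).2, map_one]⟩⟩
  have hUp : IsPGroup s U := hRp.to_le (map_subtype_le _)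
  have hUe : ∀ x : U, x ^ s = 1 := fun x => Subtype.ext ((hUmem x).1 x.2).2
  have hUr : Cfsg.PRankLE s 2 U :=
    TwoFusion.PRank.pRankLE_mono (map_subtype_le _) hr
  set D := (frattini U).map U.subtype with hD
  haveI hDn : D.Normal := inferInstanceAs ((frattini U).map U.subtype).Normal
  set f := QuotientGroup.mk' D with hf
  have hker : ∀ y, f y = 1 ↔ y ∈ D := fun y => QuotientGroup.eq_one_iff y
  set W := U.map f with hW
  haveI hWn : W.Normal := Subgroup.Normal.map inferInstance f (QuotientGroup.mk'_surjective _)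
  have hWe : Cfsg.IsElementaryAbelian s W := by
    constructor
    · refine le_centralizer_iff_isMulCommutative.mp ?_
      rintro _ ⟨r, hr', rfl⟩ _ ⟨t, ht, rfl⟩
      rw [← map_mul, ← map_mul]
      refine QuotientGroup.eq_iff_div_mem.2 ?_
      exact ⟨⁅(⟨t, ht⟩ : U), ⟨r, hr'⟩⁆,
        commutator_le_frattini_of_isPGroup hUp (commutator_mem_commutator (mem_top _) (mem_top _)),
        by simp [commutatorElement_def, div_eq_mul_inv, mul_assoc]⟩
    · rintro _ ⟨r, hr', rfl⟩
      rw [← map_pow, hker]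
      exact ⟨⟨r, hr'⟩ ^ s, pow_mem_frattini_of_isPGroup hUp _, rfl⟩
  have hWc : Nat.card W ≤ s ^ 2 := by
    have hfac : Nat.card W = Nat.card (U ⧸ frattini U) := by
      have h1 : (f.comp U.subtype).range = W := by rw [MonoidHom.range_comp, range_subtype]
      have h2 : (f.comp U.subtype).ker = frattini U := by
        rw [← MonoidHom.comap_ker, hf, QuotientGroup.ker_mk', hD,
          comap_map_eq_self_of_injective U.subtype_injective]
      rw [← h1, ← Nat.card_congr (QuotientGroup.quotientKerEquivRange _).toEquiv, h2]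
    rw [hfac]
    have hU3 := card_le_of_exponent_of_rank_two hs2 hUp hUe hUr
    have hmul := Subgroup.card_eq_card_quotient_mul_card_subgroup (frattini U)
    obtain ⟨i, hi⟩ := (hUp.to_subgroup (frattini U)).exists_card_eq
    rcases i with _ | i
    · rw [hi, pow_zero, mul_one] at hmul
      rw [← hmul]
      have hUc : IsMulCommutative U := by
        refine ⟨⟨fun x y => ?_⟩⟩
        have : ⁅x, y⁆ ∈ frattini U :=
          commutator_le_frattini_of_isPGroup hUp (commutator_mem_commutator (mem_top _) (mem_top _))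
        rw [Subgroup.card_eq_one.1 (hi.trans (pow_zero s)), mem_bot] at this
        exact commutatorElement_eq_one_iff_mul_comm.1 this
      rw [← Subgroup.card_top (G := U)]
      exact hUr ⊤ ⟨⟨fun a b => Subtype.ext (hUc.is_comm.comm a.1 b.1)⟩⟩ fun u _ => hUe u
    · refine Nat.le_of_mul_le_mul_right ?_ hs.out.pos
      calc Nat.card (U ⧸ frattini U) * s ≤ Nat.card (U ⧸ frattini U) * s ^ (i + 1) :=
            Nat.mul_le_mul_left _ (Nat.le_self_pow i.succ_ne_zero s)
        _ ≤ s ^ 3 := by rw [← hi, ← hmul]; exact hU3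
        _ = s ^ 2 * s := pow_succ s 2
  refine ⟨D, hDn, W, hWn, hWe, hWc, hUp.to_le (map_subtype_le _), fun a hcop haW => ?_⟩
  have h1 : zpowers a ≤ centralizer (U : Set Y) := by
    refine Solvable.le_centralizer_of_trivial_on_frattini_quotient ?_ ?_
    · rw [Nat.card_zpowers]
      obtain ⟨n, hn⟩ := (hUp.to_subgroup (frattini U)).exists_card_eq
      rw [hn]
      exact hcop.pow_right n
    · intro w hw r hr'
      have hwC : f w ∈ centralizer (W : Set (Y ⧸ D)) := by
        obtain ⟨i, rfl⟩ := hw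
        show f (a ^ i) ∈ _
        rw [map_zpow]
        exact zpow_mem haW i
      rw [← hD, ← hker, map_mul, map_mul, map_mul, map_inv, map_inv,
        ← mem_centralizer_iff.1 hwC (f r) ⟨r, hr', rfl⟩, mul_inv_cancel_right, mul_inv_cancel]
  have haH : ∀ x ∈ H', Commute a x :=
    commute_of_fix_pow_eq_one hs2 H' (hRp.to_le (map_subtype_le _))
      (by rw [normalizer_eq_top H']; exact mem_top a) hcop
      fun x hx hxp => (mem_centralizer_iff.1 (h1 (mem_zpowers a)) x ((hUmem x).2 ⟨hx, hxp⟩)).symm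
  have hHa : H' ≤ centralizer (zpowers a : Set Y) := by
    intro x hx
    rintro _ ⟨i, rfl⟩
    exact ((haH x hx).zpow_left i).eq
  refine Solvable.thompson_pxq (P := H') (hRp.to_le (map_subtype_le _))
    (by rw [Nat.card_zpowers]; exact hcop) hRp hHa
    (le_top.trans (normalizer_eq_top R).ge) (le_top.trans (normalizer_eq_top R).ge) ?_
    (mem_zpowers a)
  rintro x ⟨hxR, hxH⟩
  have hxH' : (⟨x, hxR⟩ : R) ∈ H := hHC (mem_centralizer_iff.2 fun h hh =>
    Subtype.ext (mem_centralizer_iff.1 hxH (h : Y) ⟨h, hh, rfl⟩))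
  exact hHa ⟨_, hxH', rfl⟩

/-- The induced representation in `GL₂(s)`. -/
theorem exists_detecting_hom (hs2 : s ≠ 2) {R : Subgroup Y} [R.Normal] (hRp : IsPGroup s R)
    (hr : Cfsg.PRankLE s 2 R) :
    ∃ φ : Y →* GL (Fin 2) (ZMod s), ∀ a : Y, (orderOf a).Coprime s → φ a = 1 →
      a ∈ centralizer (R : Set Y) := by
  obtain ⟨D, hDn, W, hWn, hWe, hWc, -, hdet⟩ := exists_small_section hs2 hRp hr
  obtain ⟨φ, hφ⟩ := exists_hom_gl2 hWe hWc
  exact ⟨φ.comp (QuotientGroup.mk' D), fun a ha h1 => hdet a ha (hφ ▸ MonoidHom.mem_ker.2 h1)⟩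

/-- In a solvable group of odd order, elements of the derived group of order prime to `s` centralise
a normal `s`-subgroup of rank at most two. -/
theorem mem_centralizer_of_mem_commutator [Group.IsSolvable Y] (hodd : Odd (Nat.card Y))
    (hs2 : s ≠ 2) {R : Subgroup Y} [R.Normal] (hRp : IsPGroup s R) (hr : Cfsg.PRankLE s 2 R)
    {g : Y} (hg : g ∈ commutator Y) (hgo : (orderOf g).Coprime s) :
    g ∈ centralizer (R : Set Y) := by
  obtain ⟨φ, hφ⟩ := exists_detecting_hom hs2 hRp hr
  refine hφ g hgo ?_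
  haveI : Group.IsSolvable φ.range := Group.isSolvable_of_surjective φ.rangeRestrict_surjective
  have hX := gl2_commutator_pow_eq_one hs2 φ.range
    (Odd.of_dvd_nat hodd (Subgroup.card_range_dvd φ))
  have h : φ.rangeRestrict g ∈ commutator φ.range := by
    have h := mem_map_of_mem φ.rangeRestrict hg
    rw [_root_.commutator_def, map_commutator] at h
    rw [_root_.commutator_def]
    exact Subgroup.commutator_mono le_top le_top h
  have h' : φ g ^ s = 1 := congrArg Subtype.val (hX _ h)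
  rw [← orderOf_eq_one_iff]
  exact Nat.eq_one_of_dvd_coprimes hgo (orderOf_map_dvd φ g) (orderOf_dvd_of_pow_eq_one h')

end

section Ambient

variable {G : Type*} [Group G] [Finite G] {s : ℕ} [hs : Fact s.Prime]

omit [Finite G] hs in
theorem pRankLE_subgroupOf {X R : Subgroup G} (hRX : R ≤ X) (hr : Cfsg.PRankLE s 2 R) :
    Cfsg.PRankLE s 2 ↥(R.subgroupOf X) :=
  TwoFusion.PRank.pRankLE_of_injective (subgroupOfEquivOfLe hRX).toMonoidHom
    (subgroupOfEquivOfLe hRX).injective hr

omit [Finite G] hs in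
theorem mem_centralizer_of_subgroupOf {X R : Subgroup G} (hRX : R ≤ X) {a : X}
    (h : a ∈ centralizer (R.subgroupOf X : Set X)) : (a : G) ∈ centralizer (R : Set G) :=
  fun r hr => congrArg Subtype.val (mem_centralizer_iff.1 h ⟨r, hRX hr⟩ (mem_subgroupOf.2 hr))

/-- An element normalising an `s`-group of rank at most two, all prime divisors of whose order
exceed `s`, centralises it. -/
theorem mem_centralizer_of_primes_gt (hs2 : s ≠ 2) {R : Subgroup G} (hRp : IsPGroup s R)
    (hr : Cfsg.PRankLE s 2 R) {a : G} (ha : a ∈ normalizer (R : Set G))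
    (hbig : ∀ q : ℕ, q.Prime → q ∣ orderOf a → s < q) : a ∈ centralizer (R : Set G) := by
  set X := normalizer (R : Set G)
  haveI : (R.subgroupOf X).Normal := normal_subgroupOf_of_le_normalizer le_rfl
  obtain ⟨φ, hφ⟩ := exists_detecting_hom hs2
    (hRp.of_equiv (subgroupOfEquivOfLe (le_normalizer : R ≤ X)).symm)
    (pRankLE_subgroupOf (le_normalizer : R ≤ X) hr)
  refine mem_centralizer_of_subgroupOf (X := X) le_normalizer (a := ⟨a, ha⟩) (hφ _ ?_ ?_)
  · rw [Subgroup.orderOf_mk]
    exact Nat.coprime_of_dvd fun q hq hqa hqs =>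
      (hbig q hq hqa).ne' ((Nat.prime_dvd_prime_iff_eq hq hs.out).1 hqs)
  · rw [← orderOf_eq_one_iff]
    by_contra hne
    obtain ⟨q, hq, hqd⟩ := Nat.exists_prime_and_dvd hne
    have hqa : q ∣ orderOf a :=
      hqd.trans ((orderOf_map_dvd φ _).trans (dvd_of_eq (Subgroup.orderOf_mk a ha)))
    have h1 := hbig q hq hqa
    have := gl2_zmod_prime_le hs2 hq (by have := hs.out.two_le; omega)
      (hqd.trans (orderOf_dvd_natCard _))
    omega

/-- An elementary abelian `p`-group of order `p ^ 3` does not act faithfully on an `s`-group of rank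
at most two. -/
theorem exists_ne_one_mem_centralizer (hs2 : s ≠ 2) {p : ℕ} [hp : Fact p.Prime] (hsp : s ≠ p)
    {R Ω : Subgroup G} (hRp : IsPGroup s R) (hr : Cfsg.PRankLE s 2 R)
    (hΩR : Ω ≤ normalizer (R : Set G)) (hΩ : Cfsg.IsElementaryAbelian p Ω)
    (hcard : Nat.card Ω = p ^ 3) : ∃ u ∈ Ω, u ≠ 1 ∧ u ∈ centralizer (R : Set G) := by
  classical
  set X := normalizer (R : Set G)
  haveI : (R.subgroupOf X).Normal := normal_subgroupOf_of_le_normalizer le_rfl
  obtain ⟨D, hDn, W, hWn, hWe, hWc, hDp, hdet⟩ := exists_small_section hs2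
    (hRp.of_equiv (subgroupOfEquivOfLe (le_normalizer : R ≤ X)).symm)
    (pRankLE_subgroupOf (le_normalizer : R ≤ X) hr)
  set f := QuotientGroup.mk' D with hf
  set A := (Ω.subgroupOf X).map f with hA
  have hcop : ∀ a : X, a ∈ Ω.subgroupOf X → (orderOf a).Coprime s := fun a ha => by
    have h1 : orderOf a ∣ p := orderOf_dvd_of_pow_eq_one
      (Subtype.ext (hΩ.2 _ (mem_subgroupOf.1 ha)))
    exact Nat.Coprime.coprime_dvd_left h1 ((Nat.coprime_primes hp.out hs.out).2 (Ne.symm hsp))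
  -- `Ω` embeds in the quotient
  have hinj : ∀ a ∈ Ω.subgroupOf X, f a = 1 → a = 1 := fun a ha h1 => by
    obtain ⟨n, hn⟩ := IsPGroup.iff_orderOf.mp hDp ⟨a, (QuotientGroup.eq_one_iff a).1 h1⟩
    rw [Subgroup.orderOf_mk] at hn
    rw [← orderOf_eq_one_iff]
    exact Nat.eq_one_of_dvd_coprimes ((hcop a ha).pow_right n) dvd_rfl (dvd_of_eq hn)
  have hAc : Nat.card A = p ^ 3 := by
    rw [hA, ← hcard, ← Nat.card_congr (subgroupOfEquivOfLe hΩR).toEquiv]
    refine (Nat.card_congr (Equiv.ofBijective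
      (fun a : Ω.subgroupOf X => (⟨f a, mem_map_of_mem f a.2⟩ : (Ω.subgroupOf X).map f))
      ⟨fun a b hab => ?_, fun b => ?_⟩)).symm
    · have hab' : f a = f b := congrArg Subtype.val hab
      refine Subtype.ext (mul_inv_eq_one.1 (hinj _ (mul_mem a.2 (inv_mem b.2)) ?_))
      rw [map_mul, map_inv, hab', mul_inv_cancel]
    · obtain ⟨a, ha, hab⟩ := b.2
      exact ⟨⟨a, ha⟩, Subtype.ext hab⟩
  suffices h : ∃ u ∈ A, u ≠ 1 ∧ u ∈ centralizer (W : Set (X ⧸ D)) by
    obtain ⟨_, ⟨a, ha, rfl⟩, hu1, huW⟩ := h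
    exact ⟨a, mem_subgroupOf.1 ha, fun h0 => hu1 (by rw [show a = 1 from Subtype.ext h0, map_one]),
      mem_centralizer_of_subgroupOf le_normalizer (hdet a (hcop a ha) huW)⟩
  have hAe : IsMulCommutative A := by
    haveI := hΩ.1
    haveI : IsMulCommutative (Ω.subgroupOf X) := inferInstance
    exact map_isMulCommutative (Ω.subgroupOf X) (f := f)
  haveI := hAe
  have hApow : ∀ a ∈ A, a ^ p = 1 := by
    rintro _ ⟨a, ha, rfl⟩
    rw [← map_pow, show a ^ p = 1 from Subtype.ext (hΩ.2 _ (mem_subgroupOf.1 ha)), map_one]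
  have hcopW : (Nat.card A).Coprime (Nat.card W) := by
    have hWs : IsPGroup s W := fun w => ⟨1, Subtype.ext (by
      rw [pow_one, SubgroupClass.coe_pow, hWe.2 w w.2]; rfl)⟩
    obtain ⟨n, hn⟩ := hWs.exists_card_eq
    rw [hAc, hn]
    exact Nat.Coprime.pow _ _ ((Nat.coprime_primes hp.out hs.out).2 (Ne.symm hsp))
  have hbig : ∀ B ≤ A, (∃ a ∈ A, A ≤ B ⊔ zpowers a) → p ^ 2 ≤ Nat.card B := by
    rintro B hB ⟨a, ha, hle⟩
    have h1 := (Nat.le_of_dvd (Nat.mul_pos Nat.card_pos Nat.card_pos)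
      (Solvable.card_sup_dvd (N := B) (H := zpowers a)
        (le_trans (zpowers_le.2 ha) ((le_centralizer_iff_isMulCommutative.2 hAe).trans
          ((centralizer_le hB).trans (centralizer_le_normalizer _))))))
    have h2 := (Subgroup.card_le_of_le hle).trans h1
    rw [hAc, Nat.card_zpowers] at h2
    have h3 : orderOf a ≤ p := Nat.le_of_dvd hp.out.pos (orderOf_dvd_of_pow_eq_one (hApow a ha))
    have h4 := h2.trans (Nat.mul_le_mul_left _ h3)
    rw [pow_succ] at h4
    exact Nat.le_of_mul_le_mul_right h4 hp.out.pos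
  have hWnorm : A ≤ normalizer (W : Set (X ⧸ D)) := by rw [normalizer_eq_top W]; exact le_top
  by_contra hno
  push Not at hno
  have hfix : ∀ B ≤ A, (∃ a ∈ A, A ≤ B ⊔ zpowers a) →
      ¬ W ≤ centralizer (B : Set (X ⧸ D)) := by
    intro B hB hcyc hle
    obtain ⟨b, hb, hb1⟩ := (bot_or_exists_ne_one B).resolve_left fun h => by
      have := hbig B hB hcyc
      rw [h, Subgroup.card_bot] at this
      exact absurd this (Nat.one_lt_pow two_ne_zero hp.out.one_lt).not_ge
    exact hno b (hB hb) hb1 fun w hw => (mem_centralizer_iff.1 (hle hw) b hb).symm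
  obtain ⟨B₁, hB₁, hc₁, hne₁⟩ : ∃ B ≤ A, (∃ a ∈ A, A ≤ B ⊔ zpowers a) ∧
      W ⊓ centralizer (B : Set (X ⧸ D)) ≠ ⊥ := by
    by_contra h
    push Not at h
    refine hfix A le_rfl ⟨1, one_mem A, le_sup_left⟩ ?_
    have h0 : W ≤ ⊥ := Solvable.le_of_cyclic_quotient_centralizer_le hWnorm hcopW
      fun B hB hc => (h B hB hc).le
    exact h0.trans bot_le
  obtain ⟨B₂, hB₂, hc₂, hne₂⟩ : ∃ B ≤ A, (∃ a ∈ A, A ≤ B ⊔ zpowers a) ∧
      ¬ W ⊓ centralizer (B : Set (X ⧸ D)) ≤ centralizer (B₁ : Set (X ⧸ D)) := by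
    by_contra h
    push Not at h
    exact hfix B₁ hB₁ hc₁ (Solvable.le_of_cyclic_quotient_centralizer_le hWnorm hcopW h)
  -- a common element
  obtain ⟨u, ⟨hu₁, hu₂⟩, hu1⟩ := (bot_or_exists_ne_one (B₁ ⊓ B₂)).resolve_left fun h => by
    have h1 := PLocal.card_mul_card_le_sup_inf B₁ B₂
    rw [h, Subgroup.card_bot, mul_one] at h1
    have h2 := (Nat.mul_le_mul (hbig B₁ hB₁ hc₁) (hbig B₂ hB₂ hc₂)).trans
      (h1.trans (Subgroup.card_le_of_le (sup_le hB₁ hB₂)))
    rw [hAc, ← pow_add] at h2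
    exact absurd ((Nat.pow_le_pow_iff_right hp.out.one_lt).1 h2) (by omega)
  refine hno u (hB₁ hu₁) hu1 ?_
  -- the two fixed subgroups generate `W`
  set P₁ := W ⊓ centralizer (B₁ : Set (X ⧸ D))
  set P₂ := W ⊓ centralizer (B₂ : Set (X ⧸ D))
  have hPW : P₁ ⊔ P₂ ≤ W := sup_le inf_le_left inf_le_left
  have hWs : IsPGroup s W := fun w => ⟨1, Subtype.ext (by
    rw [pow_one, SubgroupClass.coe_pow, hWe.2 w w.2]; rfl)⟩
  obtain ⟨i, hi⟩ := (hWs.to_le (inf_le_left : P₁ ≤ W)).exists_card_eq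
  obtain ⟨j, hj⟩ := (hWs.to_le hPW).exists_card_eq
  have hlt : P₁ < P₁ ⊔ P₂ :=
    lt_of_le_of_ne le_sup_left fun h => hne₂ (le_sup_right.trans (h.ge.trans inf_le_right))
  have hij : s ^ i < s ^ j := by
    rw [← hi, ← hj]
    exact lt_of_le_of_ne (Subgroup.card_le_of_le hlt.le)
      fun h => hlt.ne (Subgroup.eq_of_le_of_card_ge hlt.le h.ge)
  have hi0 : i ≠ 0 := fun h => hne₁ (Subgroup.card_eq_one.1 (by rw [hi, h, pow_zero]))
  have hWeq : P₁ ⊔ P₂ = W := by
    refine Subgroup.eq_of_le_of_card_ge hPW (hWc.trans ?_)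
    rw [hj]
    exact Nat.pow_le_pow_right hs.out.pos
      (by have := (Nat.pow_lt_pow_iff_right hs.out.one_lt).1 hij; omega)
  have hWu : W ≤ centralizer ({u} : Set (X ⧸ D)) := hWeq ▸ sup_le
    (inf_le_right.trans (centralizer_le (Set.singleton_subset_iff.2 hu₁)))
    (inf_le_right.trans (centralizer_le (Set.singleton_subset_iff.2 hu₂)))
  exact fun w hw => mem_centralizer_singleton_iff.1 (hWu hw)

/-- BG 4.20 (part): `[L, L] ≤ F(L)` when every `O_s(L)` has rank at most two. -/
theorem commutator_le_fittingOf {L : Subgroup G} [Group.IsSolvable L] (hodd : Odd (Nat.card L))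
    (hr : ∀ t : ℕ, t.Prime → Cfsg.PRankLE t 2 ↥(Cfsg.piCoreOf {t} L)) :
    ⁅L, L⁆ ≤ Cfsg.fittingOf L := by
  set F := Cfsg.fittingOf L with hF
  have hFn := fittingOf_isNilpotent L
  -- elements of the derived group act trivially on the components of coprime characteristic
  have key : ∀ t : ℕ, t.Prime → ∀ g ∈ ⁅L, L⁆, (orderOf g).Coprime t →
      g ∈ centralizer (Cfsg.piCoreOf {t} L : Set G) := by
    intro t ht g hg hgo
    haveI := Fact.mk ht
    set O := Cfsg.piCoreOf {t} L with hO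
    by_cases hO1 : O = ⊥
    · rw [hO1]
      intro y hy
      rw [Subgroup.coe_bot, Set.mem_singleton_iff] at hy
      rw [hy, one_mul, mul_one]
    have hgL : g ∈ L := commutator_le_self L hg
    have ht2 : t ≠ 2 := by
      rintro rfl
      obtain ⟨n, hn⟩ := (piCoreOf_singleton_isPGroup 2 L).exists_card_eq
      rcases n with _ | n
      · exact hO1 (Subgroup.card_eq_one.1 (hn.trans (pow_zero 2)))
      · exact (Nat.not_even_iff_odd.2 hodd) (even_iff_two_dvd.2 ((hn ▸ dvd_pow_self 2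
          n.succ_ne_zero : 2 ∣ Nat.card O).trans (Subgroup.card_dvd_of_le (piCoreOf_le _ _))))
    haveI : (O.subgroupOf L).Normal :=
      normal_subgroupOf_of_le_normalizer (le_normalizer_piCoreOf _ _)
    refine mem_centralizer_of_subgroupOf (X := L) (piCoreOf_le _ _) (a := ⟨g, hgL⟩)
      (mem_centralizer_of_mem_commutator hodd ht2
        ((piCoreOf_singleton_isPGroup t L).of_equiv (subgroupOfEquivOfLe (piCoreOf_le _ _)).symm)
        (pRankLE_subgroupOf (piCoreOf_le _ _) (hr t ht)) ?_ (by rwa [Subgroup.orderOf_mk]))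
    have h1 : (commutator L).map L.subtype = ⁅L, L⁆ := by
      rw [_root_.commutator_def, map_commutator, ← MonoidHom.range_eq_map, range_subtype]
    obtain ⟨z, hz, hzg⟩ := h1.ge hg
    exact (show z = ⟨g, hgL⟩ from Subtype.ext hzg) ▸ hz
  intro x hx
  refine mem_of_forall_exists_pow_mem (orderOf_pos x) fun t ht htd => ?_
  haveI := Fact.mk ht
  set n := orderOf x
  refine ⟨n / t ^ n.factorization t, Nat.not_dvd_ordCompl ht (orderOf_pos x).ne', ?_⟩
  set y := x ^ (n / t ^ n.factorization t)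
  have hyo : orderOf y = t ^ n.factorization t :=
    orderOf_pow_orderOf_div (orderOf_pos x).ne' (Nat.ordProj_dvd n t)
  set F' := Cfsg.piCoreOf {s | s.Prime ∧ s ∉ ({t} : Set ℕ)} F with hF'
  have hF'le : F' ≤ F := piCoreOf_le _ _
  set N := ⁅L, L⁆ ⊓ centralizer (F' : Set G) with hN
  have hF'C : ∀ g ∈ ⁅L, L⁆, (∀ q : ℕ, q.Prime → q ∣ orderOf g → q = t) →
      g ∈ centralizer (F' : Set G) := by
    intro g hg hgt
    have h1 : F' ≤ centralizer ({g} : Set G) := by
      refine le_of_components (isNilpotent_of_subgroup_le hFn hF'le) fun q hq hqd => ?_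
      haveI := Fact.mk hq
      have hqt : q ≠ t := fun h => ((piCoreOf_isPiSubgroup _ F q hq hqd).2) h
      refine (piCoreOf_le_piCoreOf_of_nilpotent hFn hF'le {q}).trans ?_
      rw [piCoreOf_singleton_fittingOf]
      intro w hw
      exact mem_centralizer_singleton_iff.2 (key q hq g hg (Nat.coprime_of_dvd fun r hr' hrg hrq =>
        hqt (((Nat.prime_dvd_prime_iff_eq hr' hq).1 hrq).symm.trans (hgt r hr' hrg))) w hw)
    intro w hw
    exact mem_centralizer_singleton_iff.1 (h1 hw)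
  have hyN : y ∈ N := ⟨pow_mem hx _, hF'C y (pow_mem hx _) fun q hq hqd => by
    rw [hyo] at hqd
    exact (Nat.prime_dvd_prime_iff_eq hq ht).1 (hq.dvd_of_dvd_pow hqd)⟩
  have hNL : N ≤ L := inf_le_left.trans (commutator_le_self L)
  have hLN : L ≤ normalizer (N : Set G) :=
    le_normalizer_inf_of_le (Solvable.le_normalizer_commutator_left L L)
      (le_normalizer_centralizer_of_le ((le_normalizer_fittingOf L).trans
        (normalizer_le_normalizer_piCoreOf _ _)))
  -- the `t'`-part of `N` is central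
  have hZ : ∀ w ∈ N, ¬ t ∣ orderOf w → w ∈ F' := by
    intro w hw hwt
    have hwF : w ∈ F := by
      refine inf_centralizer_fittingOf_le inferInstance ⟨hNL hw, ?_⟩
      have h1 : F ≤ centralizer ({w} : Set G) := by
        refine (le_sup_piCoreOf_of_nilpotent hFn {t}).trans (sup_le ?_ ?_)
        · rw [piCoreOf_singleton_fittingOf]
          exact fun v hv => mem_centralizer_singleton_iff.2
            (key t ht w hw.1 (ht.coprime_iff_not_dvd.2 hwt).symm v hv)
        · exact fun v hv => mem_centralizer_singleton_iff.2 (hw.2 v hv)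
      exact fun v hv => mem_centralizer_singleton_iff.1 (h1 hv)
    exact mem_piCoreOf_of_nilpotent hFn hwF fun q hq hqd => ⟨hq, fun h => hwt (h ▸ hqd)⟩
  have hNn : Group.IsNilpotent N := by
    haveI : (F'.subgroupOf N).Normal := normal_subgroupOf_of_le_normalizer
      (hNL.trans ((le_normalizer_fittingOf L).trans (normalizer_le_normalizer_piCoreOf _ _)))
    haveI : Group.IsNilpotent (N ⧸ F'.subgroupOf N) := by
      refine IsPGroup.isNilpotent (p := t) fun q => ?_
      obtain ⟨w, rfl⟩ := QuotientGroup.mk'_surjective _ q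
      set m := orderOf (w : G)
      refine ⟨m.factorization t, ?_⟩
      rw [← map_pow, QuotientGroup.mk'_apply, QuotientGroup.eq_one_iff]
      refine mem_subgroupOf.2 (hZ _ (w ^ t ^ m.factorization t).2 ?_)
      rw [SubgroupClass.coe_pow, orderOf_pow_of_dvd (pow_ne_zero _ ht.ne_zero)
        (Nat.ordProj_dvd m t)]
      exact Nat.not_dvd_ordCompl ht (orderOf_pos _).ne'
    refine Subgroup.isNilpotent_of_ker_le_center (QuotientGroup.mk' (F'.subgroupOf N)) ?_
    rw [QuotientGroup.ker_mk']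
    intro z hz
    exact mem_center_iff.2 fun w => Subtype.ext
      (mem_centralizer_iff.1 w.2.2 (z : G) (mem_subgroupOf.1 hz)).symm
  exact le_fittingOf hNL hLN hNn hyN

end Ambient

end CfsgLib.OddOrder
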