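import Cfsg.Agent.Lib.OddOrder.RankTwoAction

/-!
BG 4.17 and 4.20: automizers of `p`-groups of rank at most two, and the Sylow tower of a solvable
group of odd order with small Fitting subgroup.
-/

set_option autoImplicit false
set_option linter.style.haveILetI false

open scoped commutatorElement Pointwise MatrixGroups

namespace CfsgLib.OddOrder

open Subgroup

/-- BG 4.17. -/
theorem isPGroup_commutator_of_faithful {G : Type*} [Group G] [Finite G] {p : ℕ} [hp : Fact p.Prime]
    (hp2 : p ≠ 2) {R A : Subgroup G} (hR : IsPGroup p R) (hr : Cfsg.PRankLE p 2 R)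
    (hA : A ≤ normalizer (R : Set G)) (hAs : Group.IsSolvable A) (hodd : Odd (Nat.card A))
    (hfaith : A ⊓ centralizer (R : Set G) = ⊥) : IsPGroup p ↥⁅A, A⁆ := by
  set X := normalizer (R : Set G)
  haveI : (R.subgroupOf X).Normal := normal_subgroupOf_of_le_normalizer le_rfl
  obtain ⟨φ, hφ⟩ := exists_detecting_hom hp2
    (hR.of_equiv (subgroupOfEquivOfLe (le_normalizer : R ≤ X)).symm)
    (pRankLE_subgroupOf (le_normalizer : R ≤ X) hr)
  set ψ := φ.comp (Subgroup.inclusion hA) with hψ
  haveI := hAs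
  haveI : Group.IsSolvable ψ.range := Group.isSolvable_of_surjective ψ.rangeRestrict_surjective
  have hX := gl2_commutator_pow_eq_one hp2 ψ.range
    (Odd.of_dvd_nat hodd (Subgroup.card_range_dvd ψ))
  rintro ⟨x, hx⟩
  have hxA : x ∈ A := commutator_le_self A hx
  have h1 : (⟨x, hxA⟩ : A) ∈ commutator A := by
    have h : (commutator A).map A.subtype = ⁅A, A⁆ := by
      rw [_root_.commutator_def, map_commutator, ← MonoidHom.range_eq_map, range_subtype]
    obtain ⟨z, hz, hzx⟩ := h.ge hx
    exact (show z = ⟨x, hxA⟩ from Subtype.ext hzx) ▸ hz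
  have h2 : ψ.rangeRestrict ⟨x, hxA⟩ ∈ commutator ψ.range := by
    have h := mem_map_of_mem ψ.rangeRestrict h1
    rw [_root_.commutator_def, map_commutator] at h
    rw [_root_.commutator_def]
    exact Subgroup.commutator_mono le_top le_top h
  have h3 : ψ ⟨x, hxA⟩ ^ p = 1 := congrArg Subtype.val (hX _ h2)
  set y : A := ⟨x, hxA⟩ ^ p with hy
  set v := (orderOf y).factorization p
  refine ⟨v + 1, Subtype.ext ?_⟩
  rw [SubgroupClass.coe_pow, OneMemClass.coe_one, pow_succ', pow_mul]
  have hz : orderOf (y ^ p ^ v) = orderOf y / p ^ v :=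
    orderOf_pow_of_dvd (pow_ne_zero _ hp.out.ne_zero) (Nat.ordProj_dvd _ p)
  have hzc : (orderOf (y ^ p ^ v)).Coprime p := by
    rw [hz]
    exact (hp.out.coprime_iff_not_dvd.2 (Nat.not_dvd_ordCompl hp.out (orderOf_pos y).ne')).symm
  have hzR : Subgroup.inclusion hA (y ^ p ^ v) ∈ centralizer (R.subgroupOf X : Set X) := by
    refine hφ _ (by rwa [orderOf_injective _ (Subgroup.inclusion_injective hA)]) ?_
    show ψ (y ^ p ^ v) = 1
    rw [map_pow, hy, map_pow, h3, one_pow]
  have hmem : ((y ^ p ^ v : A) : G) ∈ A ⊓ centralizer (R : Set G) :=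
    ⟨(y ^ p ^ v).2, mem_centralizer_of_subgroupOf le_normalizer hzR⟩
  rw [hfaith, mem_bot] at hmem
  simpa [hy] using hmem

variable {G : Type*} [Group G] [Finite G] [Group.IsSolvable G]

theorem commutator_le_fittingSubgroup (hodd : Odd (Nat.card G))
    (hr : Cfsg.RankLE 2 G ∨ Cfsg.RankLE 2 ↥(Cfsg.fittingSubgroup G)) :
    commutator G ≤ Cfsg.fittingSubgroup G := by
  have htop : ∀ N : Subgroup G, (⊤ : Subgroup G) ≤ normalizer (N : Set G) → N.Normal := fun N h =>
    normalizer_eq_top_iff.1 (top_le_iff.1 h)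
  have hF : Cfsg.fittingOf (⊤ : Subgroup G) ≤ Cfsg.fittingSubgroup G :=
    Solvable.le_fittingSubgroup (htop _ (le_normalizer_fittingOf ⊤)) (fittingOf_isNilpotent ⊤)
  refine le_trans ?_ hF
  rw [_root_.commutator_def]
  haveI : Group.IsSolvable (⊤ : Subgroup G) :=
    Group.isSolvable_of_isSolvable_injective (subtype_injective ⊤)
  refine commutator_le_fittingOf (by rwa [Subgroup.card_top]) fun t ht => ?_
  haveI := Fact.mk ht
  rcases hr with h | h
  · exact TwoFusion.PRank.pRankLE_of_injective _ (subtype_injective _) (h t ht)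
  · refine TwoFusion.PRank.pRankLE_mono (le_trans ?_ hF) (h t ht)
    exact le_fittingOf (piCoreOf_le _ _) (le_normalizer_piCoreOf _ _)
      (piCoreOf_singleton_isPGroup t ⊤).isNilpotent

/-- Characteristic subgroups of a Sylow subgroup inside its derived group are normal. -/
theorem map_normal_of_characteristic (hodd : Odd (Nat.card G))
    (hr : Cfsg.RankLE 2 G ∨ Cfsg.RankLE 2 ↥(Cfsg.fittingSubgroup G)) {q : ℕ} [hq : Fact q.Prime]
    (S : Sylow q G) {T : Subgroup ↥(S : Subgroup G)} [hT : T.Characteristic]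
    (hle : T.map (S : Subgroup G).subtype ≤ ⁅(S : Subgroup G), (S : Subgroup G)⁆) :
    (T.map (S : Subgroup G).subtype).Normal := by
  set T' := T.map (S : Subgroup G).subtype with hT'
  set D := commutator G with hD
  haveI : Group.IsNilpotent ↥(Cfsg.fittingSubgroup G) := Solvable.fittingSubgroup_isNilpotent G
  have hDn : Group.IsNilpotent D :=
    isNilpotent_of_subgroup_le inferInstance (commutator_le_fittingSubgroup hodd hr)
  have hT'D : T' ≤ D := hle.trans (by rw [hD, _root_.commutator_def]; exact commutator_mono le_top le_top)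
  have hTS : T' ≤ (S : Subgroup G) := map_subtype_le _
  have hNS : normalizer ((S : Subgroup G) : Set G) ≤ normalizer (T' : Set G) := by
    intro g hg
    refine mem_normalizer_fintype ?_
    rintro _ ⟨t, ht, rfl⟩
    have h1 := hT.fixed ((S : Subgroup G).normalizerMonoidHom ⟨g, hg⟩)
    rw [← h1] at ht
    exact ⟨_, ht, rfl⟩
  have hDN : D ≤ normalizer (T' : Set G) := by
    refine le_of_components hDn fun s hs _ => ?_
    haveI := Fact.mk hs
    by_cases hsq : s = q
    · subst hsq
      refine le_trans ?_ (le_normalizer.trans hNS)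
      have h1 := (piCoreOf_singleton_isPGroup s D)
      have h2 : (Cfsg.piCoreOf {s} D).Normal := normalizer_eq_top_iff.1 (top_le_iff.1 (by
        have : (⊤ : Subgroup G) ≤ normalizer (D : Set G) := by
          rw [normalizer_eq_top D]
        exact this.trans (normalizer_le_normalizer_piCoreOf _ _)))
      exact (Solvable.le_pCore h2 h1).trans (Solvable.pCore_le_sylow S)
    · refine le_trans ?_ (centralizer_le_normalizer _)
      refine le_centralizer_iff.1 fun t ht => ?_
      have h1 : t ∈ Cfsg.piCoreOf {q} D := mem_piCoreOf_of_nilpotent hDn (hT'D ht) fun r hr' hd => by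
        obtain ⟨n, hn⟩ := S.2.exists_card_eq
        have h2 := hd.trans (orderOf_dvd_card_of_mem (hTS ht))
        rw [hn] at h2
        exact (Nat.prime_dvd_prime_iff_eq hr' hq.out).1 (hr'.dvd_of_dvd_pow h2)
      exact piCoreOf_le_centralizer_piCoreOf D
        (fun r hr1 hr2 _ => hsq ((Set.mem_singleton_iff.1 hr2).symm.trans
          (Set.mem_singleton_iff.1 hr1))) h1
  haveI : ((S : Subgroup G) ⊔ D).Normal :=
    Subgroup.Normal.of_commutator_le _ (le_sup_right : D ≤ (S : Subgroup G) ⊔ D)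
  refine normalizer_eq_top_iff.1 (top_le_iff.1 ?_)
  rw [← Sylow.normalizer_sup_eq_top' S (le_sup_left : (S : Subgroup G) ≤ (S : Subgroup G) ⊔ D)]
  exact sup_le hNS (sup_le (le_normalizer.trans hNS) hDN)

/-- All `π`-elements lie in `O_π(G)`, `π` the primes above `p`. -/
theorem mem_piCore_of_primes_gt (hodd : Odd (Nat.card G))
    (hr : Cfsg.RankLE 2 G ∨ Cfsg.RankLE 2 ↥(Cfsg.fittingSubgroup G)) (p : ℕ) {x : G}
    (hx : ∀ q : ℕ, q.Prime → q ∣ orderOf x → p < q) :
    x ∈ Cfsg.piCore {q : ℕ | q.Prime ∧ p < q} G := by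
  classical
  set π := {q : ℕ | q.Prime ∧ p < q}
  set F := Cfsg.fittingSubgroup G with hF
  haveI hFnor : F.Normal := Solvable.fittingSubgroup_normal G
  have hFn : Group.IsNilpotent F := Solvable.fittingSubgroup_isNilpotent G
  set F₁ := Cfsg.piCoreOf π F with hF₁
  set F₂ := Cfsg.piCoreOf {s | s.Prime ∧ s ∉ π} F with hF₂
  have htopF : (⊤ : Subgroup G) ≤ normalizer (F : Set G) := (normalizer_eq_top F).ge
  haveI hF₁n : F₁.Normal := normalizer_eq_top_iff.1
    (top_le_iff.1 (htopF.trans (normalizer_le_normalizer_piCoreOf _ _)))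
  haveI hF₂n : F₂.Normal := normalizer_eq_top_iff.1
    (top_le_iff.1 (htopF.trans (normalizer_le_normalizer_piCoreOf _ _)))
  set C := centralizer (F₂ : Set G) with hC
  have hF₁C : F₁ ≤ C := piCoreOf_le_centralizer_piCoreOf F fun s hs hs' _ => hs'.2 hs
  have hxC : x ∈ C := by
    have h1 : F₂ ≤ centralizer ({x} : Set G) := by
      refine le_of_components (isNilpotent_of_subgroup_le hFn (piCoreOf_le _ _)) fun s hs hsd => ?_
      haveI := Fact.mk hs
      have hsp : s ≤ p := not_lt.1 fun h => (piCoreOf_isPiSubgroup _ F s hs hsd).2 ⟨hs, h⟩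
      set R := Cfsg.piCoreOf {s} F₂ with hR
      have hs2 : s ≠ 2 := by
        rintro rfl
        exact (Nat.not_even_iff_odd.2 hodd) (even_iff_two_dvd.2
          (hsd.trans (Subgroup.card_subgroup_dvd_card F₂)))
      have hRF : R ≤ F := (piCoreOf_le _ _).trans (piCoreOf_le _ _)
      have hRr : Cfsg.PRankLE s 2 R := by
        rcases hr with h | h
        · exact TwoFusion.PRank.pRankLE_of_injective _ (subtype_injective _) (h s hs)
        · exact TwoFusion.PRank.pRankLE_mono hRF (h s hs)
      have hxR : x ∈ centralizer (R : Set G) := mem_centralizer_of_primes_gt hs2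
        (piCoreOf_singleton_isPGroup s F₂) hRr
        (normalizer_le_normalizer_piCoreOf _ _ (by rw [normalizer_eq_top F₂]; exact mem_top x))
        fun q hq hqx => hsp.trans_lt (hx q hq hqx)
      exact fun r hr' => mem_centralizer_singleton_iff.2 (mem_centralizer_iff.1 hxR r hr')
    exact fun r hr' => mem_centralizer_singleton_iff.1 (h1 hr')
  haveI hCn : C.Normal := normalizer_eq_top_iff.1 (top_le_iff.1
    (le_normalizer_centralizer_of_le (normalizer_eq_top F₂).ge))
  set K := F₁.subgroupOf C with hK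
  set f := QuotientGroup.mk' K with hf
  -- `C / F₁` is nilpotent
  have hcen : ∀ d : C, (d : G) ∈ F → f d ∈ center (C ⧸ K) := by
    intro d hd
    have h1 := le_sup_piCoreOf_of_nilpotent hFn π hd
    rw [← SetLike.mem_coe, Subgroup.coe_mul_of_left_le_normalizer_right] at h1
    swap
    · rw [normalizer_eq_top F₂]; exact le_top
    obtain ⟨a, ha, b, hb, hab⟩ := h1
    simp only at hab
    have hbC : b ∈ C := by
      rw [show b = a⁻¹ * (d : G) by rw [← hab]; group]
      exact mul_mem (inv_mem (hF₁C ha)) d.2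
    have hd' : f d = f ⟨b, hbC⟩ := by
      have : d = ⟨a, hF₁C ha⟩ * ⟨b, hbC⟩ := Subtype.ext hab.symm
      have h2 : f ⟨a, hF₁C ha⟩ = 1 :=
        (QuotientGroup.eq_one_iff _).2 (mem_subgroupOf.2 ha : (⟨a, hF₁C ha⟩ : C) ∈ K)
      rw [this, map_mul, h2, one_mul]
    rw [hd', mem_center_iff]
    intro g
    obtain ⟨c, rfl⟩ := QuotientGroup.mk'_surjective K g
    rw [← map_mul, ← map_mul]
    exact congrArg f (Subtype.ext (mem_centralizer_iff.1 c.2 b hb).symm)
  haveI : Group.IsNilpotent (C ⧸ K) := by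
    rw [Subgroup.nilpotent_iff_lowerCentralSeries]
    refine ⟨2, Subgroup.lowerCentralSeries_succ_eq_bot ⊤ ?_⟩
    rw [Subgroup.lowerCentralSeries_succ, Subgroup.lowerCentralSeries_zero, commutator_le]
    intro a _ b _
    obtain ⟨a, rfl⟩ := QuotientGroup.mk'_surjective K a
    obtain ⟨b, rfl⟩ := QuotientGroup.mk'_surjective K b
    rw [← map_commutatorElement]
    refine hcen _ (commutator_le_fittingSubgroup hodd hr ?_)
    rw [_root_.commutator_def]
    exact commutator_mem_commutator (G := G) (mem_top _) (mem_top _)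
  have hxK : f ⟨x, hxC⟩ ∈ Cfsg.piCore π (C ⧸ K) := mem_piCore_of_nilpotent fun s hs hd =>
    ⟨hs, hx s hs (hd.trans ((orderOf_map_dvd f _).trans (dvd_of_eq (Subgroup.orderOf_mk x hxC))))⟩
  have hM : Cfsg.IsPiSubgroup π ((Cfsg.piCore π (C ⧸ K)).comap f) := by
    intro s hs hd
    have hker : (f.comp ((Cfsg.piCore π (C ⧸ K)).comap f).subtype).ker =
        K.subgroupOf ((Cfsg.piCore π (C ⧸ K)).comap f) := by
      rw [← MonoidHom.comap_ker, hf, QuotientGroup.ker_mk']; rfl
    have h1 := Subgroup.card_mul_index (f.comp ((Cfsg.piCore π (C ⧸ K)).comap f).subtype).ker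
    rw [Subgroup.index_ker, MonoidHom.range_comp, range_subtype] at h1
    rw [← h1, hker] at hd
    rcases hs.dvd_mul.1 hd with h | h
    · refine piCoreOf_isPiSubgroup π F s hs (h.trans ?_)
      exact (Subgroup.card_comap_dvd_of_injective _ _ (subtype_injective _)).trans
        (dvd_of_eq (Nat.card_congr (subgroupOfEquivOfLe hF₁C).toEquiv))
    · exact piCore_isPiSubgroup π _ s hs (h.trans (Subgroup.card_dvd_of_le (map_comap_le _ _)))
  have hx2 : x ∈ Cfsg.piCoreOf π C := ⟨⟨x, hxC⟩, le_piCore inferInstance hM hxK, rfl⟩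
  exact le_piCore (normalizer_eq_top_iff.1 (top_le_iff.1
    ((normalizer_eq_top C).ge.trans (normalizer_le_normalizer_piCoreOf _ _))))
    (piCoreOf_isPiSubgroup _ _) hx2

theorem exists_characteristic_hall (hodd : Odd (Nat.card G))
    (hr : Cfsg.RankLE 2 G ∨ Cfsg.RankLE 2 ↥(Cfsg.fittingSubgroup G)) (p : ℕ) :
    ∃ N : Subgroup G, N.Characteristic ∧ Cfsg.IsPiHall {q | q.Prime ∧ p < q} N := by
  refine ⟨_, piCore_characteristic _ G, piCore_isPiSubgroup _ G, fun q hq hπ => ?_⟩
  haveI := Fact.mk hq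
  obtain ⟨S⟩ : Nonempty (Sylow q G) := inferInstance
  refine fun hd => S.not_dvd_index (hd.trans (Subgroup.index_dvd_of_le fun x hx => ?_))
  refine mem_piCore_of_primes_gt hodd hr p fun t ht htd => ?_
  obtain ⟨n, hn⟩ := S.2.exists_card_eq
  have h2 := htd.trans (orderOf_dvd_card_of_mem hx)
  rw [hn] at h2
  rw [(Nat.prime_dvd_prime_iff_eq ht hq).1 (ht.dvd_of_dvd_pow h2)]
  exact hπ.2

end CfsgLib.OddOrder
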