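import Cfsg.Agent.Lib.OddOrder.SigmaApps
import Cfsg.Agent.Lib.Solvable.CoprimeAbelian
import Mathlib.GroupTheory.SchurZassenhaus

/-!
BG 12.1: complements of `M_σ`.
-/

set_option autoImplicit false
set_option linter.style.haveILetI false

open scoped commutatorElement

namespace CfsgLib.OddOrder

open Subgroup

/-- A cyclic Sylow subgroup meeting the nilpotent derived group nontrivially lies in it. -/
theorem cyclic_sylow_le_commutator {Y : Type*} [Group Y] [Finite Y] {q : ℕ} [hq : Fact q.Prime]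
    (S : Sylow q Y) [IsCyclic (S : Subgroup Y)] (hn : Group.IsNilpotent ↥(commutator Y))
    (hd : q ∣ Nat.card ↥(commutator Y)) : (S : Subgroup Y) ≤ commutator Y := by
  set D := commutator Y with hD
  set K := Cfsg.piCoreOf (Cfsg.primesNotDvd q) D with hK
  haveI hKn : K.Normal := normalizer_eq_top_iff.1 (top_le_iff.1
    ((normalizer_eq_top D).ge.trans (normalizer_le_normalizer_piCoreOf _ _)))
  have hKD : K ≤ D := piCoreOf_le _ _
  set f := QuotientGroup.mk' K with hf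
  have hfs : Function.Surjective f := QuotientGroup.mk'_surjective _
  set Q := S.mapSurjective hfs with hQdef
  have hQc : IsCyclic (Q : Subgroup (Y ⧸ K)) := by
    rw [hQdef, Sylow.coe_mapSurjective]
    exact isCyclic_of_surjective (f.subgroupMap (S : Subgroup Y))
      (f.subgroupMap_surjective _)
  haveI := hQc
  -- the image of the derived group is a `q`-group
  have hDp : IsPGroup q (D.map f) := by
    rintro ⟨_, d, hd, rfl⟩
    refine ⟨(orderOf d).factorization q, Subtype.ext ?_⟩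
    rw [SubgroupClass.coe_pow, OneMemClass.coe_one, ← map_pow, hf, QuotientGroup.mk'_apply,
      QuotientGroup.eq_one_iff]
    refine mem_piCoreOf_of_nilpotent hn (pow_mem hd _) fun s hs hsd => ⟨hs, fun h => ?_⟩
    rw [orderOf_pow_of_dvd (pow_ne_zero _ hq.out.ne_zero) (Nat.ordProj_dvd _ q)] at hsd
    exact Nat.not_dvd_ordCompl hq.out (orderOf_pos d).ne'
      ((Nat.prime_dvd_prime_iff_eq hs hq.out).1 h ▸ hsd)
  have hDeq : D.map f = commutator (Y ⧸ K) := by
    rw [hD, _root_.commutator_def, map_commutator, Subgroup.map_top_of_surjective f hfs,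
      _root_.commutator_def]
  haveI hDn : (D.map f).Normal := Subgroup.Normal.map inferInstance f hfs
  have hDQ : D.map f ≤ (Q : Subgroup (Y ⧸ K)) :=
    (Solvable.le_pCore hDn hDp).trans (Solvable.pCore_le_sylow Q)
  haveI hQn : (Q : Subgroup (Y ⧸ K)).Normal :=
    Subgroup.Normal.of_commutator_le _ (hDeq ▸ hDQ)
  have hD1 : D.map f ≠ ⊥ := by
    intro h
    rw [Subgroup.map_eq_bot_iff, hf, QuotientGroup.ker_mk'] at h
    exact hq.out.coprime_iff_not_dvd.1 (piCoreOf_primesNotDvd_coprime D).symm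
      (hd.trans (Subgroup.card_dvd_of_le h))
  obtain ⟨V, hV⟩ := Subgroup.exists_right_complement'_of_coprime (N := (Q : Subgroup (Y ⧸ K)))
    Q.card_coprime_index
  have hcop : (Nat.card V).Coprime (Nat.card (Q : Subgroup (Y ⧸ K))) := by
    rw [← hV.symm.index_eq_card]
    exact Q.card_coprime_index.symm
  have hVQ : V ≤ normalizer ((Q : Subgroup (Y ⧸ K)) : Set _) := by
    rw [normalizer_eq_top (Q : Subgroup (Y ⧸ K))]; exact le_top
  have h1 := Solvable.centralizer_sup_commutator_eq hVQ hcop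
  have h2 := Solvable.centralizer_inf_commutator_eq_bot hVQ hcop
  set C := (Q : Subgroup (Y ⧸ K)) ⊓ centralizer (V : Set (Y ⧸ K)) with hC
  set B := ⁅(Q : Subgroup (Y ⧸ K)), V⁆ with hB
  have hBQ : B ≤ Q := h1 ▸ le_sup_right
  have hBD : B ≤ D.map f := by
    rw [hDeq, _root_.commutator_def]
    exact commutator_mono le_top le_top
  -- in a cyclic `q`-group two nontrivial subgroups meet
  have hmeet : ∀ H₁ H₂ : Subgroup (Y ⧸ K), H₁ ≤ Q → H₂ ≤ Q → H₁ ≠ ⊥ → H₂ ≠ ⊥ → H₁ ⊓ H₂ ≠ ⊥ := by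
    intro H₁ H₂ h₁ h₂ hn₁ hn₂ h0
    have hord : ∀ H : Subgroup (Y ⧸ K), H ≤ Q → H ≠ ⊥ → ∃ z ∈ H, z ≠ 1 ∧ z ^ q = 1 := by
      intro H hH hne
      obtain ⟨n, hn⟩ := (Q.2.to_le hH).exists_card_eq
      rcases n with _ | n
      · exact absurd (Subgroup.card_eq_one.1 (hn.trans (pow_zero q))) hne
      obtain ⟨z, hz⟩ := exists_prime_orderOf_dvd_card' (G := H) q (hn ▸ dvd_pow_self q n.succ_ne_zero)
      refine ⟨z, z.2, fun h => hq.out.ne_one (hz.symm.trans ?_), ?_⟩
      · rw [← Subgroup.orderOf_coe, h, orderOf_one]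
      · rw [← hz, ← Subgroup.orderOf_coe, pow_orderOf_eq_one]
    obtain ⟨z₁, hz₁, hz₁1, hz₁q⟩ := hord H₁ h₁ hn₁
    obtain ⟨z₂, hz₂, hz₂1, hz₂q⟩ := hord H₂ h₂ hn₂
    have hcomm : Commute z₁ z₂ := congrArg Subtype.val
      (IsCyclic.commGroup.mul_comm (⟨z₁, h₁ hz₁⟩ : (Q : Subgroup (Y ⧸ K))) ⟨z₂, h₂ hz₂⟩)
    have he := elementary_sup_zpowers (q := q) (X := zpowers z₁)
      ⟨inferInstance, by
        rintro _ ⟨i, rfl⟩
        show (z₁ ^ i) ^ q = 1
        rw [← zpow_natCast, ← zpow_mul, mul_comm, zpow_mul, zpow_natCast, hz₁q, one_zpow]⟩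
      (y := z₂) (by rintro _ ⟨i, rfl⟩; exact (hcomm.zpow_left i).eq) hz₂q
    have hc : IsCyclic ↥(zpowers z₁ ⊔ zpowers z₂) :=
      isCyclic_of_injective (Subgroup.inclusion (sup_le (zpowers_le.2 (h₁ hz₁))
        (zpowers_le.2 (h₂ hz₂)) : _ ≤ (Q : Subgroup (Y ⧸ K)))) (Subgroup.inclusion_injective _)
    have h3 := eq_of_le_of_isCyclic (le_sup_left : zpowers z₁ ≤ _) he.2 hc
      (fun h => hz₁1 (zpowers_eq_bot.1 h))
    have h4 : z₂ ∈ H₁ :=
      zpowers_le.2 hz₁ (h3.ge (mem_sup_right (mem_zpowers z₂)))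
    exact hz₂1 (mem_bot.1 (h0 ▸ (⟨h4, hz₂⟩ : z₂ ∈ H₁ ⊓ H₂)))
  by_cases hB1 : B = ⊥
  · refine absurd ?_ hD1
    have hQV : (Q : Subgroup (Y ⧸ K)) ≤ centralizer (V : Set (Y ⧸ K)) := by
      rw [← h1, hB1, sup_bot_eq]; exact inf_le_right
    have hVn : V.Normal := by
      rw [← normalizer_eq_top_iff, eq_top_iff, ← hV.sup_eq_top]
      exact sup_le (hQV.trans (centralizer_le_normalizer _)) le_normalizer
    have hDV : D.map f ≤ V := by
      rw [hDeq, _root_.commutator_def, ← hV.sup_eq_top, commutator_le]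
      intro a ha b hb
      have ha' : ∀ x ∈ (Q : Subgroup (Y ⧸ K)) ⊔ V, QuotientGroup.mk' V x ∈
          (Q : Subgroup (Y ⧸ K)).map (QuotientGroup.mk' V) := fun x hx => by
        have := mem_map_of_mem (QuotientGroup.mk' V) hx
        rwa [Subgroup.map_sup, QuotientGroup.map_mk'_self, sup_bot_eq] at this
      obtain ⟨u, hu, hua⟩ := ha' a ha
      obtain ⟨v, hv, hvb⟩ := ha' b hb
      rw [← QuotientGroup.eq_one_iff (N := V), ← QuotientGroup.mk'_apply, map_commutatorElement,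
        ← hua, ← hvb, ← map_commutatorElement, show ⁅u, v⁆ = 1 from
          commutatorElement_eq_one_iff_mul_comm.2 (congrArg Subtype.val
            (IsCyclic.commGroup.mul_comm (⟨u, hu⟩ : (Q : Subgroup (Y ⧸ K))) ⟨v, hv⟩)), map_one]
    refine le_bot_iff.1 ((le_inf hDQ hDV).trans ?_)
    exact (disjoint_iff.1 hV.disjoint).le
  have hCbot : C = ⊥ := by
    by_contra h
    exact hmeet C B inf_le_left hBQ h hB1 (by rw [hC, hB]; exact h2)
  have hQD : (Q : Subgroup (Y ⧸ K)) ≤ D.map f := by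
    rw [← h1, hCbot, bot_sup_eq]; exact hBD
  intro x hx
  obtain ⟨d, hd, hdx⟩ := hQD (by rw [hQdef, Sylow.coe_mapSurjective]; exact mem_map_of_mem f hx)
  have : d⁻¹ * x ∈ K := QuotientGroup.eq.1 hdx
  simpa using mul_mem hd (hKD this)

variable {G : Type*} [Group G] [Finite G] (hG : Cfsg.IsMinSimpleOddOrder G) {M : Subgroup G}
  (hM : IsCoatom M) {E : Subgroup G} (hE : Cfsg.IsComplIn E (Cfsg.sigmaCore M) M)
include hG hM hE

omit hG hM in
theorem card_complement : Nat.card E = (Cfsg.sigmaCore M).relIndex M := by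
  obtain ⟨hEM, hσM, hdis, hfac⟩ := hE
  haveI : ((Cfsg.sigmaCore M).subgroupOf M).Normal :=
    normal_subgroupOf_of_le_normalizer (le_normalizer_piCoreOf _ _)
  rw [Subgroup.relIndex, Subgroup.index_eq_card]
  refine Nat.card_congr (Equiv.ofBijective
    ((QuotientGroup.mk' ((Cfsg.sigmaCore M).subgroupOf M)).comp (Subgroup.inclusion hEM))
    ⟨?_, ?_⟩)
  · rw [injective_iff_map_eq_one]
    intro e he
    rw [MonoidHom.comp_apply, QuotientGroup.mk'_apply, QuotientGroup.eq_one_iff] at he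
    exact Subtype.ext (mem_bot.1 (hdis ▸ (⟨e.2, mem_subgroupOf.1 he⟩ :
      (e : G) ∈ E ⊓ Cfsg.sigmaCore M)))
  · intro x
    obtain ⟨m, rfl⟩ := QuotientGroup.mk'_surjective _ x
    obtain ⟨a, ha, b, hb, hab⟩ := hfac m m.2
    refine ⟨⟨a, ha⟩, ?_⟩
    rw [MonoidHom.comp_apply, QuotientGroup.mk'_apply, QuotientGroup.mk'_apply, QuotientGroup.eq,
      mem_subgroupOf, Subgroup.coe_mul, Subgroup.coe_inv, Subgroup.coe_inclusion, hab]
    simpa using hb

omit hG hM in
theorem not_dvd_card_complement {q : ℕ} (hq : q.Prime)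
    (h : ¬ q ∣ (Cfsg.sigmaCore M).relIndex M) : ¬ q ∣ Nat.card E := by
  rwa [card_complement hE]

theorem complement_prime_not_sigma {q : ℕ} (hq : q.Prime) (hqE : q ∣ Nat.card E) :
    q ∉ Cfsg.sigma M := fun hσ => by
  obtain ⟨h1, -⟩ := hall_of_subset hG hM (π := Cfsg.sigma M) subset_rfl
    fun p _ S hp => sylow_le_sigmaCore hG hM hp S
  exact not_dvd_card_complement hE hq (h1.2.2 q hq hσ) hqE

theorem isNilpotent_complement_commutator : Group.IsNilpotent ↥⁅E, E⁆ := by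
  haveI := isSolvable_of_ne_top hG (H := E) fun h => hM.1 (top_le_iff.1 (h ▸ hE.1))
  have hr : Cfsg.RankLE 2 E := by
    intro q hq
    haveI := Fact.mk hq
    intro B hB hBq
    by_cases hqE : q ∣ Nat.card E
    · by_contra hlt
      have h1 : ¬ Cfsg.PRankLE q 2 E := fun h => hlt (h B hB hBq)
      refine complement_prime_not_sigma hG hM hE hq hqE (alpha_subset_sigma hG hM ⟨hq, fun h => h1 ?_⟩)
      exact TwoFusion.PRank.pRankLE_mono hE.1 h
    · obtain ⟨n, hn⟩ := (isPGroup_of_exp hBq).exists_card_eq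
      rcases n with _ | n
      · rw [hn, pow_zero]; exact Nat.one_le_pow _ _ hq.pos
      · exact absurd ((hn ▸ dvd_pow_self q n.succ_ne_zero : q ∣ Nat.card B).trans
          (Subgroup.card_subgroup_dvd_card B)) hqE
  haveI := Solvable.fittingSubgroup_isNilpotent E
  haveI := isNilpotent_of_subgroup_le inferInstance
    (commutator_le_fittingSubgroup (odd_card_subgroup hG E) (Or.inl hr))
  have h : (commutator E).map E.subtype = ⁅E, E⁆ := by
    rw [_root_.commutator_def, map_commutator, ← MonoidHom.range_eq_map, range_subtype]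
  exact h ▸ Group.nilpotent_of_mulEquiv ((commutator E).equivMapOfInjective _ E.subtype_injective)

omit hE in
theorem isZGroup_of_rank_one {X : Subgroup G}
    (h : ∀ q : ℕ, q.Prime → q ∣ Nat.card X → Cfsg.PRankLE q 1 M) (hX : X ≤ M) : IsZGroup X := by
  refine (isZGroup_iff _).2 fun q hq S => ?_
  haveI := Fact.mk hq
  obtain ⟨n, hn⟩ := S.2.exists_card_eq
  rcases n with _ | n
  · haveI : Subsingleton (S : Subgroup X) := (Nat.card_eq_one_iff_unique.1 (hn.trans (pow_zero q))).1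
    exact isCyclic_of_subsingleton
  · have hd : q ∣ Nat.card X :=
      (hn ▸ dvd_pow_self q n.succ_ne_zero).trans (Subgroup.card_subgroup_dvd_card _)
    by_contra hnc
    exact not_pRankLE_one_of_not_isCyclic (prime_ne_two_of_dvd_card hG hd) S.2 hnc
      (TwoFusion.PRank.pRankLE_of_injective _ (subtype_injective _)
        (TwoFusion.PRank.pRankLE_mono hX (h q hq hd)))

theorem isCyclic_tau1_hall {E₁ : Subgroup G} (hE₁ : Cfsg.IsPiHallOf (Cfsg.tau1 M) E₁ E) :
    IsCyclic E₁ := by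
  have hEM : E₁ ≤ M := hE₁.1.trans hE.1
  haveI := isZGroup_of_rank_one hG hM (fun q hq hd => (hE₁.2.1 q hq hd).2.2.2.2) hEM
  have hab : ⁅E₁, E₁⁆ = ⊥ := by
    refine Subgroup.card_eq_one.1 (Nat.eq_one_of_dvd_coprimes ?_
      (Subgroup.card_dvd_of_le (commutator_le_self E₁))
      (Subgroup.card_dvd_of_le (commutator_mono hEM hEM)))
    exact Nat.coprime_of_dvd fun s hs h1 h2 => (hE₁.2.1 s hs h1).2.2.2.1 h2
  haveI : IsMulCommutative E₁ :=
    le_centralizer_iff_isMulCommutative.1 (commutator_eq_bot_iff_le_centralizer.1 hab)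
  haveI : Group.IsNilpotent E₁ := by
    letI : CommGroup E₁ :=
      { (inferInstance : Group E₁) with mul_comm := fun a b => mul_comm' a b }
    infer_instance
  infer_instance

theorem tau3_hall {E₃ : Subgroup G} (hE₃ : Cfsg.IsPiHallOf (Cfsg.tau3 M) E₃ E) :
    IsCyclic E₃ ∧ E₃ ≤ ⁅E, E⁆ ∧ E ≤ normalizer (E₃ : Set G) := by
  obtain ⟨h3E, h3π, h3i⟩ := hE₃
  have hσM : Cfsg.sigmaCore M ≤ M := hE.2.1
  have hn := isNilpotent_complement_commutator hG hM hE
  have hDE : ⁅E, E⁆ ≤ E := commutator_le_self E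
  have hmap : (commutator E).map E.subtype = ⁅E, E⁆ := by
    rw [_root_.commutator_def, map_commutator, ← MonoidHom.range_eq_map, range_subtype]
  have hn' : Group.IsNilpotent ↥(commutator E) := by
    haveI := hn
    exact Group.nilpotent_of_mulEquiv ((MulEquiv.subgroupCongr hmap.symm).trans
      ((commutator E).equivMapOfInjective _ E.subtype_injective).symm)
  -- Sylow subgroups of `E` for primes of `τ₃`
  have hsyl : ∀ (q : ℕ) [Fact q.Prime], q ∈ Cfsg.tau3 M → q ∣ Nat.card E → ∀ S : Sylow q E,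
      (S : Subgroup E) ≤ commutator E := by
    intro q _ hq hqE S
    have hnσ : ¬ q ∣ Nat.card ↥(Cfsg.sigmaCore M) := fun h =>
      complement_prime_not_sigma hG hM hE hq.1 hqE
        (piCoreOf_isPiSubgroup (Cfsg.sigma M) M q hq.1 h)
    have hEN : E ≤ normalizer (Cfsg.sigmaCore M : Set G) :=
      hE.1.trans (le_normalizer_piCoreOf _ _)
    have hDN : ⁅E, E⁆ ≤ normalizer (Cfsg.sigmaCore M : Set G) := hDE.trans hEN
    have hMD : ⁅M, M⁆ ≤ Cfsg.sigmaCore M ⊔ ⁅E, E⁆ := by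
      rw [commutator_le]
      intro a ha b hb
      obtain ⟨e₁, he₁, s₁, hs₁, rfl⟩ := hE.2.2.2 a ha
      obtain ⟨e₂, he₂, s₂, hs₂, rfl⟩ := hE.2.2.2 b hb
      set N := normalizer (Cfsg.sigmaCore M : Set G)
      haveI : ((Cfsg.sigmaCore M).subgroupOf N).Normal := normal_subgroupOf_of_le_normalizer le_rfl
      have hσN : Cfsg.sigmaCore M ≤ N := le_normalizer
      set g := QuotientGroup.mk' ((Cfsg.sigmaCore M).subgroupOf N)
      have hg : ∀ (s : N), (s : G) ∈ Cfsg.sigmaCore M → g s = 1 := fun s hs =>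
        (QuotientGroup.eq_one_iff s).2 (mem_subgroupOf.2 hs)
      set a' : N := ⟨e₁, hEN he₁⟩ * ⟨s₁, hσN hs₁⟩
      set b' : N := ⟨e₂, hEN he₂⟩ * ⟨s₂, hσN hs₂⟩
      have h : g ⁅a', b'⁆ = g ⁅(⟨e₁, hEN he₁⟩ : N), ⟨e₂, hEN he₂⟩⁆ := by
        rw [map_commutatorElement, map_commutatorElement, map_mul, map_mul,
          hg ⟨s₁, hσN hs₁⟩ hs₁, hg ⟨s₂, hσN hs₂⟩ hs₂, mul_one, mul_one]
      have h5 := mem_subgroupOf.1 (QuotientGroup.eq.1 h.symm)
      have h6 : ⁅e₁ * s₁, e₂ * s₂⁆ = ⁅e₁, e₂⁆ * (⁅e₁, e₂⁆⁻¹ * ⁅e₁ * s₁, e₂ * s₂⁆) := by group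
      rw [h6]
      exact mul_mem (mem_sup_right (commutator_mem_commutator he₁ he₂))
        (mem_sup_left (by simpa [a', b', commutatorElement_def] using h5))
    have hqD : q ∣ Nat.card ↥⁅E, E⁆ := by
      have := hq.2.2.1.trans ((Subgroup.card_dvd_of_le hMD).trans (Solvable.card_sup_dvd hDN))
      exact (hq.1.dvd_mul.1 this).resolve_left hnσ
    haveI : IsCyclic (S : Subgroup E) := by
      by_contra hnc
      exact not_pRankLE_one_of_not_isCyclic (prime_ne_two_of_dvd_card hG hqE) S.2 hnc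
        (TwoFusion.PRank.pRankLE_of_injective _ (subtype_injective _)
          (TwoFusion.PRank.pRankLE_mono hE.1 hq.2.2.2))
    refine cyclic_sylow_le_commutator S hn' ?_
    rwa [← Subgroup.card_map_of_injective E.subtype_injective, hmap]
  have h3D : E₃ ≤ ⁅E, E⁆ := by
    intro x hx
    refine mem_of_forall_exists_pow_mem (orderOf_pos x) fun s hs hsd => ?_
    haveI := Fact.mk hs
    set n := orderOf x
    refine ⟨n / s ^ n.factorization s, Nat.not_dvd_ordCompl hs (orderOf_pos x).ne', ?_⟩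
    have hs3 : s ∈ Cfsg.tau3 M := h3π s hs (hsd.trans (orderOf_dvd_card_of_mem hx))
    set y : E := ⟨x ^ (n / s ^ n.factorization s), pow_mem (h3E hx) _⟩
    have hyp : IsPGroup s (zpowers y) := IsPGroup.of_card (n := n.factorization s) (by
      rw [Nat.card_zpowers, Subgroup.orderOf_mk,
        orderOf_pow_orderOf_div (orderOf_pos x).ne' (Nat.ordProj_dvd n s)])
    obtain ⟨S, hS⟩ := hyp.exists_le_sylow
    rw [← hmap]
    exact ⟨y, hsyl s hs3 (hsd.trans ((orderOf_dvd_card_of_mem hx).trans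
      (Subgroup.card_dvd_of_le h3E))) S (hS (mem_zpowers y)), rfl⟩
  have hEq : E₃ = Cfsg.piCoreOf (Cfsg.tau3 M) ⁅E, E⁆ := by
    have hle : E₃ ≤ Cfsg.piCoreOf (Cfsg.tau3 M) ⁅E, E⁆ := fun x hx =>
      mem_piCoreOf_of_nilpotent hn (h3D hx) fun s hs hd =>
        h3π s hs (hd.trans (orderOf_dvd_card_of_mem hx))
    refine Subgroup.eq_of_le_of_card_ge hle (Nat.le_of_dvd Nat.card_pos ?_)
    have hXE : Cfsg.piCoreOf (Cfsg.tau3 M) ⁅E, E⁆ ≤ E := (piCoreOf_le _ _).trans hDE
    have h1 : Nat.card ↥(Cfsg.piCoreOf (Cfsg.tau3 M) ⁅E, E⁆) ∣ Nat.card E₃ * E₃.relIndex E := by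
      rw [← Subgroup.relIndex_bot_left E₃, Subgroup.relIndex_mul_relIndex ⊥ E₃ E bot_le h3E,
        Subgroup.relIndex_bot_left]
      exact Subgroup.card_dvd_of_le hXE
    refine Nat.Coprime.dvd_of_dvd_mul_right (Nat.coprime_of_dvd fun s hs h2 h3 => ?_) h1
    exact h3i s hs (piCoreOf_isPiSubgroup _ _ s hs h2) h3
  refine ⟨?_, h3D, ?_⟩
  · haveI := isZGroup_of_rank_one hG hM (fun q hq hd => (h3π q hq hd).2.2.2) (h3E.trans hE.1)
    haveI := isNilpotent_of_subgroup_le hn h3D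
    infer_instance
  · rw [hEq]
    refine le_trans ?_ (normalizer_le_normalizer_piCoreOf _ _)
    rw [le_normalizer_iff]
    intro g hg x hx
    have h1 := mul_mem (commutator_mem_commutator hg (hDE hx)) hx
    rwa [commutatorElement_def, inv_mul_cancel_right] at h1

end CfsgLib.OddOrder
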