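import Cfsg.Agent.Lib.OddOrder.NarrowAction
import Cfsg.Agent.Lib.OddOrder.RankTwo
import Cfsg.Agent.Lib.TwoFusion.PRank

/-!
Solvable groups of odd order with a narrow Sylow subgroup and `p`-length one (BG 5.6).
-/

set_option autoImplicit false
set_option linter.style.haveILetI false

open scoped commutatorElement

namespace CfsgLib.OddOrder

open Subgroup

theorem isNarrow_of_equiv {R S : Type*} [Group R] [Group S] {p : ℕ} (e : R ≃* S)
    (h : Cfsg.IsNarrow p R) : Cfsg.IsNarrow p S := by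
  rcases h with h | ⟨R₀, R₁, h0, h1, hinf, hcomm, hsup⟩
  · exact Or.inl (TwoFusion.PRank.pRankLE_of_injective e.symm.toMonoidHom e.symm.injective h)
  haveI := h1
  refine Or.inr ⟨R₀.map e.toMonoidHom, R₁.map e.toMonoidHom, ?_, ?_, ?_, ?_, ?_⟩
  · rw [card_map_of_injective e.injective, h0]
  · exact (R₁.equivMapOfInjective e.toMonoidHom e.injective).isCyclic.1 h1
  · rw [← Subgroup.map_inf _ _ _ e.injective, hinf, Subgroup.map_bot]
  · rintro _ ⟨a, ha, rfl⟩ _ ⟨b, hb, rfl⟩
    rw [← map_mul, hcomm a ha b hb, map_mul]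
  · rw [← Subgroup.map_sup, hsup]
    ext s
    constructor
    · rintro ⟨r, hr, rfl⟩ _ ⟨a, ha, rfl⟩
      rw [← map_mul, hr a ha, map_mul]
    · intro hs
      refine ⟨e.symm s, fun a ha => e.injective ?_, e.apply_symm_apply s⟩
      rw [map_mul, map_mul, e.apply_symm_apply]
      exact hs (e a) ⟨a, ha, rfl⟩

variable {Y : Type*} [Group Y] [Finite Y] {p : ℕ} [hp : Fact p.Prime]

/-- The narrow case: rank at least three and `p`-length one. -/
theorem narrow_structure [Group.IsSolvable Y] (hp2 : p ≠ 2) (S : Sylow p Y)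
    (hS : Cfsg.IsNarrow p (S : Subgroup Y)) (hr : ¬ Cfsg.PRankLE p 2 (S : Subgroup Y))
    (hpl : Cfsg.PLengthLE p 1 Y) :
    commutator Y ≤ Cfsg.pPrimePCore p Y ∧ ((Cfsg.pPrimePCore p Y).index).Coprime p ∧
      ∀ q : ℕ, q.Prime → q ∣ (Cfsg.pPrimeCore p Y).index → q ≤ p := by
  set N := Cfsg.piCore (Cfsg.primesNotDvd p) Y with hN
  set f := barHom Y p with hf
  haveI : Group.IsSolvable (Y ⧸ N) :=
    Group.isSolvable_of_surjective (QuotientGroup.mk'_surjective _)
  set P := Cfsg.pCore p (Y ⧸ N) with hPdef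
  haveI hPn : P.Normal := Solvable.pCore_normal p _
  have hP : Cfsg.pPrimePCore p Y = P.comap f := pPrimePCore_eq_comap_barHom
  have hSle : (S : Subgroup Y) ≤ Cfsg.pPrimePCore p Y := fun s hs =>
    mem_pPrimePCore_of_plength_one hpl (S.2.to_le (zpowers_le.2 hs))
  have hSP : (S : Subgroup Y).map f ≤ P := map_le_iff_le_comap.2 (hP ▸ hSle)
  set S' := S.mapSurjective (barHom_surjective (Y := Y) (p := p)) with hS'
  have hS'eq : (S : Subgroup Y).map f = P := le_antisymm hSP (by
    have h := Solvable.pCore_le_sylow S'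
    rwa [hS', Sylow.coe_mapSurjective] at h)
  have hinj : Function.Injective (f.comp (S : Subgroup Y).subtype) := by
    rw [← MonoidHom.ker_eq_bot_iff, eq_bot_iff]
    intro s hs
    have h2 : (s : Y) ∈ (S : Subgroup Y) ⊓ f.ker := ⟨s.2, hs⟩
    rw [PLoc.disjoint_of_pgroup_coprime S.2 barHom_ker_coprime, mem_bot] at h2
    exact mem_bot.2 (Subtype.ext h2)
  have hrange : (f.comp (S : Subgroup Y).subtype).range = P := by
    rw [MonoidHom.range_comp, range_subtype, hS'eq]
  let e : (S : Subgroup Y) ≃* P :=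
    (MonoidHom.ofInjective hinj).trans (MulEquiv.subgroupCongr hrange)
  have hPp : IsPGroup p P := Solvable.pCore_isPGroup p _
  have hPn' := isNarrow_of_equiv e hS
  have hPr : ¬ Cfsg.PRankLE p 2 P := fun h =>
    hr (TwoFusion.PRank.pRankLE_of_injective e.toMonoidHom e.injective h)
  let φ : Y ⧸ N →* MulAut P := MulAut.conjNormal
  have hker : ∀ a, φ a = 1 → (orderOf a).Coprime p → a = 1 := by
    intro a ha hcop
    have haP : a ∈ P := centralizer_pCore_le (p := p) barHom_pPrimeCore (fun x hx => by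
      have h := congrArg (fun u : MulAut P => ((u ⟨x, hx⟩ : P) : Y ⧸ N)) ha
      simp only [φ, MulAut.conjNormal_apply, MulAut.one_apply] at h
      exact (mul_inv_eq_iff_eq_mul.1 h).symm)
    obtain ⟨n, hn⟩ := IsPGroup.iff_orderOf.1 hPp ⟨a, haP⟩
    rw [Subgroup.orderOf_mk] at hn
    exact orderOf_eq_one_iff.1
      (Nat.eq_one_of_dvd_coprimes (hcop.pow_right n) dvd_rfl (dvd_of_eq hn))
  have hcomm : IsPGroup p (commutator (Y ⧸ N)) := by
    rintro ⟨g, hg⟩
    obtain ⟨k, m, hm, hkm⟩ :=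
      Nat.exists_eq_pow_mul_and_not_dvd (orderOf_pos g).ne' p hp.out.ne_one
    refine ⟨k, Subtype.ext ?_⟩
    show g ^ p ^ k = 1
    have ho : (orderOf (g ^ p ^ k)).Coprime p := by
      rw [orderOf_pow' _ (pow_ne_zero _ hp.out.ne_zero), hkm, Nat.gcd_eq_right ⟨m, rfl⟩,
        Nat.mul_div_cancel_left _ (pow_pos hp.out.pos _)]
      exact (hp.out.coprime_iff_not_dvd.2 hm).symm
    exact hker _ (Operator.trivial_of_narrow hp2 hPp hPn' hPr (g ^ p ^ k)
      (ho.coprime_dvd_left (orderOf_map_dvd φ _)) (Or.inl (pow_mem hg _))) ho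
  have hc : commutator (Y ⧸ N) ≤ P := Solvable.le_pCore inferInstance hcomm
  refine ⟨?_, ?_, fun q hq hd => ?_⟩
  · rw [hP, ← map_le_iff_le_comap, _root_.commutator_def, map_commutator]
    exact (commutator_mono le_top le_top).trans hc
  · exact (hp.out.coprime_iff_not_dvd.2
      fun h => S.not_dvd_index (h.trans (Subgroup.index_dvd_of_le hSle))).symm
  · rw [pPrimeCore_eq_piCore, Subgroup.index_eq_card] at hd
    by_cases hqp : q = p
    · exact hqp.le
    haveI := Fact.mk hq
    obtain ⟨a, ha⟩ := exists_prime_orderOf_dvd_card' q hd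
    have hcop : (orderOf a).Coprime p := by rw [ha]; exact (Nat.coprime_primes hq hp.out).2 hqp
    have h1 := hker (a ^ (p - 1)) (Operator.trivial_of_narrow hp2 hPp hPn' hPr _
      (hcop.coprime_dvd_left ((orderOf_map_dvd φ _).trans (orderOf_pow_dvd _))) (Or.inr ⟨a, rfl⟩))
      (hcop.coprime_dvd_left (orderOf_pow_dvd _))
    have h2 := orderOf_dvd_of_pow_eq_one h1
    rw [ha] at h2
    have := Nat.le_of_dvd (by have := hp.out.two_le; omega) h2
    omega

/-- The conclusions of BG 4.18/5.6 from the structure. -/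
theorem conclusions_of_structure (hodd : Odd (Nat.card Y))
    (hc : commutator Y ≤ Cfsg.pPrimePCore p Y)
    (hidx : ((Cfsg.pPrimePCore p Y).index).Coprime p)
    (hq : ∀ q : ℕ, q.Prime → q ∣ (Cfsg.pPrimeCore p Y).index → q ≤ p) :
    (∀ q : ℕ, q.Prime → q ∣ (Cfsg.pPrimeCore p Y).index → q ≤ p) ∧
      ((p = 3 ∨ ∀ q : ℕ, q.Prime → q ∣ Nat.card Y → p ≤ q) → Cfsg.HasNormalPComplement p Y) ∧
      Cfsg.HasNormalPComplement p ↥(commutator Y) ∧
      (∀ L : Subgroup ↥(commutator Y), (Nat.card L).Coprime p →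
        L ≤ Cfsg.pPrimeCore p ↥(commutator Y)) ∧
      commutator Y ≤ Cfsg.pPrimePCore p Y ∧ ((Cfsg.pPrimePCore p Y).index).Coprime p := by
  set O := Cfsg.pPrimeCore p Y with hO
  have hOn : O.Normal := CfsgLib.Solvable.pPrimeCore_normal p Y
  have hOc : (Nat.card O).Coprime p := CfsgLib.Solvable.pPrimeCore_card_coprime p Y
  set K := O.subgroupOf (commutator Y) with hK
  have hKn : K.Normal := inferInstance
  have hKc : (Nat.card K).Coprime p :=
    hOc.coprime_dvd_left (card_comap_dvd_of_injective _ _ (commutator Y).subtype_injective)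
  have hKi : IsPGroup p ((commutator Y) ⧸ K) := by
    intro x
    obtain ⟨g, rfl⟩ := QuotientGroup.mk'_surjective K x
    have hg := hc g.2
    rw [pPrimePCore_eq_comap_barHom, mem_comap] at hg
    obtain ⟨k, hk⟩ := Solvable.pCore_isPGroup p _ ⟨_, hg⟩
    refine ⟨k, ?_⟩
    rw [← map_pow]
    refine (QuotientGroup.eq_one_iff _).2 (mem_subgroupOf.2 ?_)
    refine mem_pPrimeCore_of_barHom_eq_one ?_
    have := congrArg Subtype.val hk
    simpa using this
  obtain ⟨k, hk⟩ := hKi.exists_card_eq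
  rw [← Subgroup.index_eq_card] at hk
  refine ⟨hq, fun h => ?_, hasNormalPComplement_of_index hKc hk, ?_, hc, hidx⟩
  · have hpow : ∃ n, O.index = p ^ n := by
      refine ⟨_, Nat.eq_prime_pow_of_unique_prime_dvd O.index_ne_zero_of_finite ?_⟩
      intro q hqp hqd
      have hqG : q ∣ Nat.card Y := hqd.trans (index_dvd_card O)
      have hle := hq q hqp hqd
      rcases h with rfl | h
      · have h2 : q ≠ 2 := by
          rintro rfl
          exact (Nat.not_even_iff_odd.2 hodd) (even_iff_two_dvd.2 hqG)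
        have := hqp.two_le
        omega
      · exact le_antisymm hle (h q hqp hqG)
    obtain ⟨n, hn⟩ := hpow
    exact hasNormalPComplement_of_index hOc hn
  · intro L hL
    have hLK : L ≤ K := by
      intro x hx
      rw [← QuotientGroup.eq_one_iff (N := K), ← orderOf_eq_one_iff]
      obtain ⟨i, hi⟩ := IsPGroup.iff_orderOf.mp hKi (x : (commutator Y) ⧸ K)
      refine Nat.eq_one_of_dvd_coprimes (hL.pow_right i) ?_ (dvd_of_eq hi)
      exact (orderOf_map_dvd (QuotientGroup.mk' K) x).trans (L.orderOf_dvd_natCard hx)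
    exact hLK.trans (Solvable.le_pPrimeCore hKn hKc)

end CfsgLib.OddOrder
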