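import Cfsg.Agent.Lib.OddOrder.Sigma
import Mathlib.GroupTheory.SpecificGroups.ZGroup

/-!
BG 10.3-10.6.
-/

set_option autoImplicit false
set_option linter.style.haveILetI false

open scoped Pointwise

namespace CfsgLib.OddOrder

open Subgroup

variable {G : Type*} [Group G] [Finite G]

/-- The rank of a group is that of its Sylow subgroups. -/
theorem pRankLE_of_sylow {Y : Type*} [Group Y] [Finite Y] {q k : ℕ} [Fact q.Prime] (S : Sylow q Y)
    (h : Cfsg.PRankLE q k (S : Subgroup Y)) : Cfsg.PRankLE q k Y := by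
  intro E hEc hEq
  obtain ⟨Q, hQ⟩ := (isPGroup_of_exp hEq).exists_le_sylow
  obtain ⟨g, hg⟩ := MulAction.exists_smul_eq Y Q S
  haveI := hEc
  haveI := map_isMulCommutative E (f := (MulAut.conj g).toMonoidHom)
  have hle : E.map (MulAut.conj g).toMonoidHom ≤ (S : Subgroup Y) := by
    rw [← hg, Sylow.coe_subgroup_smul]
    exact Subgroup.map_mono hQ
  have h1 := h ((E.map (MulAut.conj g).toMonoidHom).subgroupOf (S : Subgroup Y)) inferInstance
    (fun a ha => by
      obtain ⟨e, he, hea⟩ := mem_subgroupOf.1 ha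
      refine Subtype.ext ?_
      rw [SubgroupClass.coe_pow, ← hea, ← map_pow, hEq e he, map_one]
      rfl)
  rwa [Nat.card_congr (subgroupOfEquivOfLe hle).toEquiv,
    Subgroup.card_map_of_injective (MulAut.conj g).injective] at h1

theorem pRankLE_of_isMaxPIn {X T : Subgroup G} {q k : ℕ} [Fact q.Prime] (hT : IsMaxPIn q X T)
    (h : Cfsg.PRankLE q k T) : Cfsg.PRankLE q k X := by
  obtain ⟨S, hS⟩ := hT.exists_sylow
  refine pRankLE_of_sylow S ?_
  rw [← hS] at h
  exact TwoFusion.PRank.pRankLE_of_injective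
    ((S : Subgroup X).equivMapOfInjective _ X.subtype_injective).toMonoidHom
    ((S : Subgroup X).equivMapOfInjective _ X.subtype_injective).injective h

variable (hG : Cfsg.IsMinSimpleOddOrder G) {M : Subgroup G} (hM : IsCoatom M)
include hG hM

/-- BG 10.3. -/
theorem centralizer_inUniqueMaximal {X : Subgroup G} (hXM : X ≤ M)
    (hXα : ∀ p : ℕ, p.Prime → p ∣ Nat.card X → p ∉ Cfsg.alpha M)
    (hr : ¬ Cfsg.RankLE 1 ↥(Cfsg.alphaCore M ⊓ centralizer (X : Set G))) :
    Cfsg.InUniqueMaximal (M ⊓ centralizer (X : Set G)) := by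
  obtain ⟨q, E, hq, hEle, hEe, hEc⟩ := exists_elementary_of_not_rankLE hr
  haveI := Fact.mk hq
  rw [pow_one] at hEc
  set K := M ⊓ centralizer (X : Set G) with hK
  have hKtop : K ≠ ⊤ := fun h => hM.1 (top_le_iff.1 (h ▸ inf_le_left))
  have hαM : Cfsg.alphaCore M ≤ M := piCoreOf_le _ _
  have hEK : E ≤ K := hEle.trans (inf_le_inf_right _ hαM)
  have hEp : IsPGroup q E := isPGroup_of_exp hEe.2
  have hqα : q ∈ Cfsg.alpha M := by
    obtain ⟨n, hn⟩ := hEp.exists_card_eq
    rcases n with _ | n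
    · rw [hn, pow_zero] at hEc
      exact absurd hEc hq.one_lt.not_gt
    · exact piCoreOf_isPiSubgroup _ M q hq ((hn ▸ dvd_pow_self q n.succ_ne_zero).trans
        (Subgroup.card_dvd_of_le (hEle.trans inf_le_left)))
  obtain ⟨E₀, hE₀M, hE₀e, hE₀c⟩ := exists_elementary_of_not_pRankLE hqα.2
  by_cases hC : ¬ Cfsg.PRankLE q 2 ↥(centralizer (E : Set G))
  · exact inUniqueMaximal_mono (inUniqueMaximal_of_rank_three hG hE₀e.1
      (not_pRankLE_of_elementary le_rfl hE₀e hE₀c)
      (inUniqueMaximal_of_elementary_three hG hE₀e hE₀c) hEp (elementary_not_isCyclic hEe hEc) hC)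
      hEK hKtop
  push Not at hC
  by_cases hKr : ¬ Cfsg.PRankLE q 2 K
  · obtain ⟨E₁, hE₁K, hE₁e, hE₁c⟩ := exists_elementary_of_not_pRankLE hKr
    exact inUniqueMaximal_mono (inUniqueMaximal_of_elementary_three hG hE₁e hE₁c) hE₁K hKtop
  refine absurd ?_ hKr
  set A := Cfsg.alphaCore M with hA
  have hXA : X ≤ normalizer (A : Set G) := hXM.trans (le_normalizer_piCoreOf _ _)
  have hcop : (Nat.card X).Coprime (Nat.card A) := Nat.coprime_of_dvd fun s hs h1 h2 =>
    hXα s hs h1 (piCoreOf_isPiSubgroup _ M s hs h2)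
  haveI hAs : Group.IsSolvable A :=
    isSolvable_of_ne_top hG fun h => hM.1 (top_le_iff.1 (h ▸ hαM))
  obtain ⟨S, hES, hXS⟩ := Solvable.exists_invariant_sylow_ge hXA hcop (Or.inr hAs) q
    (hEle.trans inf_le_left) hEp (((le_centralizer_iff.1 (hEle.trans inf_le_right)).trans
      (centralizer_le_normalizer _)))
  set T := (S : Subgroup A).map A.subtype with hT
  have hTp : IsPGroup q T := S.2.map _
  have hTr : ¬ Cfsg.PRankLE q 2 T := fun h => by
    have hE₀A : E₀ ≤ A := by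
      obtain ⟨Q, hQ⟩ :=
        ((isPGroup_of_exp hE₀e.2).of_equiv (subgroupOfEquivOfLe hE₀M).symm).exists_le_sylow
      rw [← map_subgroupOf_eq_of_le hE₀M]
      exact Subgroup.map_mono (hQ.trans (sylow_le_alphaCore hG hM hqα Q))
    have h1 := pRankLE_of_isMaxPIn (isMaxPIn_of_sylow S) h
    exact not_pRankLE_of_elementary hE₀A hE₀e hE₀c h1
  set T₁ := T ⊓ centralizer (E : Set G) with hT₁
  have hXE : X ≤ centralizer (E : Set G) := le_centralizer_iff.1 (hEle.trans inf_le_right)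
  have hq2 : q ≠ 2 := prime_ne_two_of_dvd_card hG (H := M) ((alpha_subset_sigma hG hM hqα).2.1)
  have hXcop : (Nat.card X).Coprime q := (hq.coprime_iff_not_dvd.2 fun h => hXα q hq h hqα).symm
  have hT₁C : T₁ ≤ centralizer (X : Set G) := by
    intro t ht
    refine mem_centralizer_iff.2 fun a ha => ?_
    refine (commute_of_fix_pow_eq_one hq2 T₁ (hTp.to_le inf_le_left)
      (inf_normalizer_le_normalizer_inf ⟨hXS ha, le_normalizer (hXE ha)⟩)
      (hXcop.coprime_dvd_left (orderOf_dvd_card_of_mem ha)) ?_ t ht).eq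
    intro x hx hxq
    have hxE : x ∈ E := by
      by_contra hxE
      refine not_pRankLE_of_elementary (X := centralizer (E : Set G))
        (sup_le (le_centralizer_iff_isMulCommutative.2 hEe.1) (zpowers_le.2 hx.2))
        (elementary_sup_zpowers hEe hx.2 hxq) ?_ hC
      obtain ⟨i, hi⟩ := hEp.exists_card_eq
      rw [hi] at hEc
      have h2 : 1 < i := (Nat.pow_lt_pow_iff_right hq.one_lt).1 (by rwa [pow_one])
      calc q ^ 2 ≤ q ^ i := Nat.pow_le_pow_right hq.pos h2
        _ = Nat.card E := hi.symm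
        _ < _ := lt_of_le_of_ne (Subgroup.card_le_of_le le_sup_left) fun h => hxE (by
          rw [Subgroup.eq_of_le_of_card_ge le_sup_left h.ge]
          exact mem_sup_right (mem_zpowers x))
    exact (mem_centralizer_iff.1 (hXE ha) x hxE).symm
  have h1 := Solvable.thompson_pxq (P := T₁) (Q := X) (U := T) (hTp.to_le inf_le_left) hXcop hTp
    hT₁C (inf_le_left.trans le_normalizer) hXS (by
      rintro x ⟨hxT, hxC⟩
      refine hT₁C ⟨hxT, Subgroup.centralizer_le (le_inf hES ?_) hxC⟩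
      exact le_centralizer_iff_isMulCommutative.2 hEe.1)
  exact fun h => hTr (TwoFusion.PRank.pRankLE_mono
    (le_inf ((map_subtype_le _).trans hαM) (le_centralizer_iff.1 h1)) h)

/-- The negation of uniqueness in 10.3 leaves a Z-group. -/
theorem isZGroup_alphaCore_centralizer {x : G} (hxM : x ∈ M) (hx1 : x ≠ 1)
    (hxα : ∀ p : ℕ, p.Prime → p ∣ orderOf x → p ∉ Cfsg.alpha M)
    (hx : ¬ (centralizer ({x} : Set G) ≤ M ∧
      ∀ L : Subgroup G, IsCoatom L → centralizer ({x} : Set G) ≤ L → L = M)) :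
    IsZGroup ↥(Cfsg.alphaCore M ⊓ centralizer ({x} : Set G)) := by
  refine (isZGroup_iff _).2 fun q hq S => ?_
  haveI := Fact.mk hq
  by_contra hnc
  have hq2 : q ≠ 2 := prime_ne_two_of_dvd_card hG
    (H := Cfsg.alphaCore M ⊓ centralizer ({x} : Set G)) (by
    obtain ⟨n, hn⟩ := S.2.exists_card_eq
    rcases n with _ | n
    · refine absurd ?_ hnc
      rw [Subgroup.card_eq_one.1 (hn.trans (pow_zero q))]
      exact isCyclic_of_subsingleton
    · exact (hn ▸ dvd_pow_self q n.succ_ne_zero).trans (Subgroup.card_subgroup_dvd_card _))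
  have hz : centralizer (zpowers x : Set G) = centralizer ({x} : Set G) := by
    refine le_antisymm (Subgroup.centralizer_le (Set.singleton_subset_iff.2 (mem_zpowers x)))
      fun y hy => ?_
    rintro _ ⟨i, rfl⟩
    exact ((show Commute y x from mem_centralizer_singleton_iff.1 hy).symm.zpow_left i).eq
  have hU := centralizer_inUniqueMaximal hG hM (X := zpowers x) (zpowers_le.2 hxM)
    (fun p hp hd => hxα p hp (by rwa [Nat.card_zpowers] at hd)) (by
      rw [hz]
      exact fun h => not_pRankLE_one_of_not_isCyclic hq2 S.2 hnc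
        (TwoFusion.PRank.pRankLE_of_injective _ (subtype_injective _) (h q hq)))
  rw [hz] at hU
  have hC := centralizer_singleton_ne_top hG hx1
  exact hx ⟨le_of_inUniqueMaximal hU hM inf_le_left hC inf_le_right,
    fun L hL hle => ExistsUnique.unique hU ⟨hL, inf_le_right.trans hle⟩ ⟨hM, inf_le_left⟩⟩

/-- BG 10.4. -/
theorem exists_central_element {p : ℕ} [hp : Fact p.Prime] (hpM : p ∣ Nat.card M)
    (hpσ : p ∉ Cfsg.sigma M) (P : Sylow p M) :
    ∃ x : G, x ∈ ((center ↥(P : Subgroup M)).map (P : Subgroup M).subtype).map M.subtype ∧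
      orderOf x = p ∧ IsZGroup ↥(Cfsg.alphaCore M ⊓ centralizer ({x} : Set G)) ∧
      ¬ (centralizer ({x} : Set G) ≤ M ∧
        ∀ L : Subgroup G, IsCoatom L → centralizer ({x} : Set G) ≤ L → L = M) := by
  set Pg := (P : Subgroup M).map M.subtype with hPg
  have hPmem : ∀ x : G, x ∈ ((center ↥(P : Subgroup M)).map (P : Subgroup M).subtype).map M.subtype ↔
      x ∈ Pg ∧ ∀ y ∈ Pg, y * x = x * y := by
    intro x
    constructor
    · rintro ⟨_, ⟨z, hz, rfl⟩, rfl⟩
      refine ⟨⟨_, z.2, rfl⟩, ?_⟩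
      rintro _ ⟨y, hy, rfl⟩
      exact congrArg (fun w : (P : Subgroup M) => ((w : M) : G)) (mem_center_iff.1 hz ⟨y, hy⟩)
    · rintro ⟨⟨z, hz, rfl⟩, h⟩
      refine ⟨z, ⟨⟨z, hz⟩, mem_center_iff.2 fun y => ?_, rfl⟩, rfl⟩
      exact Subtype.ext (M.subtype_injective (h _ (mem_map_of_mem M.subtype y.2)))
  have hN : ¬ normalizer (Pg : Set G) ≤ M := fun h => hpσ ⟨hp.out, hpM, P, h⟩
  obtain ⟨z, hz⟩ : ∃ z : (P : Subgroup M), z ∈ center (P : Subgroup M) ∧ orderOf z = p := by
    obtain ⟨z, -, hz, hzo⟩ := PGroup.exists_central_orderOf_eq P.2 ⊤ (fun h => by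
      have h1 : Nat.card (P : Subgroup M) = 1 := by rw [← Subgroup.card_top, h, Subgroup.card_bot]
      rw [P.card_eq_multiplicity] at h1
      exact hp.out.ne_one ((Nat.pow_eq_one.1 h1).resolve_right
        (hp.out.factorization_pos_of_dvd Nat.card_pos.ne' hpM).ne'))
    exact ⟨z, hz, hzo⟩
  have hxo : orderOf ((z : M) : G) = p := by rw [Subgroup.orderOf_coe, Subgroup.orderOf_coe, hz.2]
  by_contra hcon
  push Not at hcon
  have hall : ∀ x ∈ ((center ↥(P : Subgroup M)).map (P : Subgroup M).subtype).map M.subtype,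
      orderOf x = p → centralizer ({x} : Set G) ≤ M ∧
        ∀ L : Subgroup G, IsCoatom L → centralizer ({x} : Set G) ≤ L → L = M := by
    intro x hx hxo
    by_contra hu
    refine hu (hcon x hx hxo (isZGroup_alphaCore_centralizer hG hM ?_ ?_ ?_ hu))
    · exact map_subtype_le _ hx
    · rintro rfl
      exact hp.out.ne_one (hxo.symm.trans orderOf_one)
    · intro s hs hd hα
      rw [hxo] at hd
      exact hpσ ((Nat.prime_dvd_prime_iff_eq hs hp.out).1 hd ▸ alpha_subset_sigma hG hM hα)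
  obtain ⟨g, hg, hgM⟩ := SetLike.not_le_iff_exists.1 hN
  set x := ((z : M) : G) with hxdef
  have hxmem : x ∈ ((center ↥(P : Subgroup M)).map (P : Subgroup M).subtype).map M.subtype :=
    ⟨_, ⟨z, hz.1, rfl⟩, rfl⟩
  obtain ⟨hxP, hxc⟩ := (hPmem x).1 hxmem
  set x' := g * x * g⁻¹ with hx'
  have hx'mem : x' ∈ ((center ↥(P : Subgroup M)).map (P : Subgroup M).subtype).map M.subtype := by
    refine (hPmem x').2 ⟨(mem_normalizer_iff.1 hg x).1 hxP, fun y hy => ?_⟩
    have := hxc _ ((mem_normalizer_iff''.1 hg y).1 hy)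
    calc y * x' = g * ((g⁻¹ * y * g) * x) * g⁻¹ := by rw [hx']; group
      _ = g * (x * (g⁻¹ * y * g)) * g⁻¹ := by rw [this]
      _ = x' * y := by rw [hx']; group
  have hx'o : orderOf x' = p := by
    rw [hx', ← MulAut.conj_apply]
    exact (orderOf_injective (MulAut.conj g).toMonoidHom (MulAut.conj g).injective x).trans hxo
  obtain ⟨h1, h2⟩ := hall x hxmem hxo
  obtain ⟨h3, -⟩ := hall x' hx'mem hx'o
  have h4 : centralizer ({x} : Set G) ≤ M.map (MulAut.conj g⁻¹).toMonoidHom := by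
    intro y hy
    rw [mem_map_conj_iff, inv_inv]
    refine h3 (mem_centralizer_singleton_iff.2 ?_)
    have := mem_centralizer_singleton_iff.1 hy
    calc g * y * g⁻¹ * x' = g * (y * x) * g⁻¹ := by rw [hx']; group
      _ = g * (x * y) * g⁻¹ := by rw [this]
      _ = x' * (g * y * g⁻¹) := by rw [hx']; group
  exact hgM (inv_mem_iff.1 (mem_of_map_conj_eq hG hM (h2 _ (isCoatom_conj hM g⁻¹) h4)))

/-- BG 10.5: the maximality of elementary subgroups of order `p ^ 2`. -/
theorem elementary_maximal {p : ℕ} [hp : Fact p.Prime] (hr2 : Cfsg.PRankLE p 2 M) {A : Subgroup G}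
    (hAM : A ≤ M) (hA : Cfsg.IsElementaryAbelian p A) (hA2 : Nat.card A = p ^ 2) {B : Subgroup G}
    (hB : Cfsg.IsElementaryAbelian p B) (hAB : A ≤ B) : B = A := by
  by_contra hne
  have hlt : p ^ 2 < Nat.card B := hA2 ▸ lt_of_le_of_ne (Subgroup.card_le_of_le hAB)
    fun h => hne (Subgroup.eq_of_le_of_card_ge hAB h.ge).symm
  have hpp : p < Nat.card A := hA2 ▸ (pow_one p).symm.trans_lt
    (Nat.pow_lt_pow_right hp.out.one_lt one_lt_two)
  have hAU : Cfsg.InUniqueMaximal A := inUniqueMaximal_of_rank_three hG hB.1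
    (not_pRankLE_of_elementary le_rfl hB hlt) (inUniqueMaximal_of_elementary_three hG hB hlt)
    (isPGroup_of_exp hA.2) (elementary_not_isCyclic hA hpp)
    (not_pRankLE_of_elementary ((le_centralizer_iff_isMulCommutative.2 hB.1).trans
      (Subgroup.centralizer_le hAB)) hB hlt)
  exact not_pRankLE_of_elementary
    (le_of_inUniqueMaximal hAU hM hAM (isPGroup_ne_top hG (isPGroup_of_exp hB.2)) hAB) hB hlt hr2

theorem not_idealPrime {p : ℕ} [hp : Fact p.Prime] (hr2 : Cfsg.PRankLE p 2 M)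
    (hr1 : ¬ Cfsg.PRankLE p 1 M) : ¬ Cfsg.IsIdealPrime p G := by
  rintro ⟨-, -, h⟩
  obtain ⟨A, hAM, hA, hAc⟩ := exists_elementary_of_not_pRankLE hr1
  have hA2 : Nat.card A = p ^ 2 := by
    obtain ⟨i, hi⟩ := (isPGroup_of_exp hA.2).exists_card_eq
    rw [hi] at hAc ⊢
    have h1 : 1 < i := (Nat.pow_lt_pow_iff_right hp.out.one_lt).1 hAc
    have h2 : i ≤ 2 := by
      by_contra h3
      exact not_pRankLE_of_elementary hAM hA
        (hi ▸ Nat.pow_lt_pow_right hp.out.one_lt (not_le.1 h3)) hr2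
    rw [show i = 2 by omega]
  obtain ⟨P, hP⟩ := (isPGroup_of_exp hA.2).exists_le_sylow
  obtain ⟨B, -, hB, hAB⟩ := h P A hP hA hA2
  exact hAB.ne (elementary_maximal hG hM hr2 hAM hA hA2 hB hAB.le).symm

/-- BG 10.6. -/
theorem rank_two_of_normalizer_le {p : ℕ} [hp : Fact p.Prime] (hpσ : p ∉ Cfsg.sigma M)
    {X : Subgroup G} (hX : Nat.card X = p) (hNX : normalizer (X : Set G) ≤ M) :
    (Cfsg.PRankLE p 2 M ∧ ¬ Cfsg.PRankLE p 1 M) ∧
      ∃ A : Subgroup G, Cfsg.IsElementaryAbelian p A ∧ Nat.card A = p ^ 2 ∧ X ≤ A := by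
  have hr2 : Cfsg.PRankLE p 2 M := by
    by_contra h
    exact hpσ (alpha_subset_sigma hG hM ⟨hp.out, h⟩)
  have hXM : X ≤ M := le_normalizer.trans hNX
  have hpM : p ∣ Nat.card M := hX ▸ Subgroup.card_dvd_of_le hXM
  have hp2 : p ≠ 2 := prime_ne_two_of_dvd_card hG hpM
  have hXp : IsPGroup p X := IsPGroup.of_card (n := 1) (by rw [hX, pow_one])
  have hXe : Cfsg.IsElementaryAbelian p X := by
    haveI : IsCyclic X := isCyclic_of_prime_card hX
    exact ⟨inferInstance, fun x hx => orderOf_dvd_iff_pow_eq_one.1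
      ((orderOf_dvd_card_of_mem hx).trans (dvd_of_eq hX))⟩
  obtain ⟨T, hT, hXT⟩ := exists_isMaxPIn_ge hXM hXp
  have hbig : ∀ {y : G}, y ∈ centralizer (X : Set G) → y ^ p = 1 → y ∉ X →
      Cfsg.IsElementaryAbelian p (X ⊔ zpowers y) ∧ p < Nat.card ↥(X ⊔ zpowers y) := by
    intro y hy hyp hyX
    refine ⟨elementary_sup_zpowers hXe hy hyp, lt_of_le_of_ne
      (hX.ge.trans (Subgroup.card_le_of_le le_sup_left)) fun h => hyX ?_⟩
    rw [Subgroup.eq_of_le_of_card_ge (le_sup_left : X ≤ X ⊔ zpowers y) (by rw [← h, hX])]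
    exact mem_sup_right (mem_zpowers y)
  have hr1 : ¬ Cfsg.PRankLE p 1 M := by
    intro h1
    have hTr : Cfsg.PRankLE p 1 T := TwoFusion.PRank.pRankLE_mono hT.le h1
    haveI : IsCyclic T := by
      by_contra h
      exact not_pRankLE_one_of_not_isCyclic hp2 hT.pgroup h hTr
    obtain ⟨S, hS⟩ := hT.exists_sylow
    refine hpσ ⟨hp.out, hpM, S, ?_⟩
    rw [hS]
    refine le_trans ?_ hNX
    intro g hg
    refine mem_normalizer_fintype fun x hx => ?_
    by_contra hgx
    have hgT : g * x * g⁻¹ ∈ T := (mem_normalizer_iff.1 hg x).1 (hXT hx)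
    obtain ⟨he, hc⟩ := hbig (Subgroup.centralizer_le hXT
      (le_centralizer_iff_isMulCommutative.2 inferInstance hgT))
      (by rw [← MulAut.conj_apply, ← map_pow, hXe.2 x hx, map_one]) hgx
    exact not_pRankLE_of_elementary (sup_le hXT (zpowers_le.2 hgT)) he (by rwa [pow_one]) hTr
  refine ⟨⟨hr2, hr1⟩, ?_⟩
  have hfix : ∀ A : Subgroup G, A ≤ M → Cfsg.IsElementaryAbelian p A → p < Nat.card A →
      X ≤ A → ∃ A : Subgroup G, Cfsg.IsElementaryAbelian p A ∧ Nat.card A = p ^ 2 ∧ X ≤ A := by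
    intro A hAM hA hAc hXA
    refine ⟨A, hA, ?_, hXA⟩
    obtain ⟨i, hi⟩ := (isPGroup_of_exp hA.2).exists_card_eq
    rw [hi] at hAc ⊢
    have h1 : 1 < i := (Nat.pow_lt_pow_iff_right hp.out.one_lt).1 (by rwa [pow_one])
    have h2 : i ≤ 2 := by
      by_contra h3
      exact not_pRankLE_of_elementary hAM hA
        (hi ▸ Nat.pow_lt_pow_right hp.out.one_lt (not_le.1 h3)) hr2
    rw [show i = 2 by omega]
  obtain ⟨z, -, hzc, hzo⟩ := PGroup.exists_central_orderOf_eq hT.pgroup ⊤ (fun h => by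
    have h1 : Nat.card T = 1 := by rw [← Subgroup.card_top, h, Subgroup.card_bot]
    have h2 := Subgroup.card_le_of_le hXT
    rw [h1, hX] at h2
    exact absurd hp.out.one_lt h2.not_gt)
  have hzT : ∀ t ∈ T, t * (z : G) = z * t := fun t ht =>
    congrArg Subtype.val (mem_center_iff.1 hzc ⟨t, ht⟩)
  have hzp : (z : G) ^ p = 1 := by
    rw [← hzo, ← Subgroup.orderOf_coe]; exact pow_orderOf_eq_one _
  by_cases hzX : (z : G) ∈ X
  swap
  · obtain ⟨he, hc⟩ := hbig (fun x hx => hzT x (hXT hx)) hzp hzX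
    exact hfix _ (sup_le hXM (zpowers_le.2 (hT.le z.2))) he hc le_sup_left
  have hXz : zpowers (z : G) = X := Subgroup.eq_of_le_of_card_ge (zpowers_le.2 hzX)
    (by rw [hX, Nat.card_zpowers, Subgroup.orderOf_coe, hzo])
  obtain ⟨E, hET, hEe, hEc⟩ := exists_elementary_of_not_pRankLE
    (fun h => hr1 (pRankLE_of_isMaxPIn hT h) : ¬ Cfsg.PRankLE p 1 T)
  rw [pow_one] at hEc
  by_cases hzE : (z : G) ∈ E
  · exact hfix E (hET.trans hT.le) hEe hEc (hXz ▸ zpowers_le.2 hzE)
  have he := elementary_sup_zpowers hEe (fun x hx => hzT x (hET hx)) hzp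
  exact hfix _ (sup_le (hET.trans hT.le) (zpowers_le.2 (hT.le z.2))) he
    (hEc.trans_le (Subgroup.card_le_of_le le_sup_left)) (hXz ▸ le_sup_right)

end CfsgLib.OddOrder
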