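import Cfsg.Agent.Lib.OddOrder.PLengthOne
import Cfsg.Agent.Lib.OddOrder.NarrowSylow
import Cfsg.Agent.Lib.Fusion.FrobeniusCriterion
import Cfsg.Agent.Lib.PGroup.CyclicMaximal
import Cfsg.Agent.S1453
import Cfsg.Agent.S1455

/-!
BG 10.8: ideal primes, `M_β` and normal `p`-complements.
-/

set_option autoImplicit false
set_option linter.style.haveILetI false

open scoped commutatorElement

namespace CfsgLib.OddOrder

open Subgroup

/-- A `p`-group of rank at least three with a maximal elementary subgroup of order `p²` is narrow. -/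
theorem isNarrow_of_maximal_elementary {R : Type*} [Group R] [Finite R] {p : ℕ} [hp : Fact p.Prime]
    (hp2 : p ≠ 2) (hR : IsPGroup p R) (hr : ¬ Cfsg.PRankLE p 2 R) (E : Subgroup R)
    (hE : Cfsg.IsElementaryAbelian p E) (hE2 : Nat.card E = p ^ 2)
    (hEmax : ∀ B : Subgroup R, Cfsg.IsElementaryAbelian p B → E ≤ B → B = E) :
    Cfsg.IsNarrow p R := by
  obtain ⟨hET, hZc, -, hTchar, hTi⟩ := Cfsg.Agent.S1453.result p hp2 hR hr E hE hE2 hEmax
  set T := centralizer ((closure {x : R | x ∈ Subgroup.upperCentralSeries R 2 ∧ x ^ p = 1} : Subgroup R) : Set R)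
  set Z := closure {x : R | x ∈ center R ∧ x ^ p = 1}
  haveI := hTchar
  haveI hTn : T.Normal := inferInstance
  have hab : ∀ a ∈ E, ∀ b ∈ E, a * b = b * a := fun a ha b hb =>
    haveI := hE.1
    setLike_mul_comm ha hb
  have hext : ∀ y : R, (∀ e ∈ E, e * y = y * e) → y ^ p = 1 → y ∈ E := by
    intro y hy hyp
    let B : Subgroup R :=
      { carrier := {g | g ^ p = 1 ∧ g ∈ E ⊔ zpowers y}
        one_mem' := ⟨one_pow p, one_mem _⟩
        mul_mem' := fun {a b} ha hb => ⟨by
          have hle : E ⊔ zpowers y ≤ centralizer ((E ⊔ zpowers y : Subgroup R) : Set R) := by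
            have h1 : E ⊔ zpowers y ≤ centralizer (E : Set R) :=
              sup_le (fun a ha e he => hab e he a ha) (zpowers_le.2 fun e he => hy e he)
            refine sup_le (le_centralizer_iff.1 h1) (zpowers_le.2 ?_)
            intro g hg
            obtain ⟨e, he, w, hw, rfl⟩ := (Solvable.mem_sup_of_le_normalizer
              (zpowers_le.2 (centralizer_le_normalizer _ (fun e he => hy e he)))).mp hg
            obtain ⟨k, rfl⟩ := mem_zpowers_iff.1 hw
            exact ((show Commute e y from hy e he).mul_left ((Commute.refl y).zpow_left k)).eq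
          have hc : Commute a b := mem_centralizer_iff.1 (hle hb.2) a ha.2
          rw [hc.mul_pow, ha.1, hb.1, one_mul], mul_mem ha.2 hb.2⟩
        inv_mem' := fun {a} ha => ⟨by rw [inv_pow, ha.1, inv_one], inv_mem ha.2⟩ }
    have hB : Cfsg.IsElementaryAbelian p B := by
      refine ⟨⟨⟨fun a b => Subtype.ext ?_⟩⟩, fun a ha => ha.1⟩
      have hle : E ⊔ zpowers y ≤ centralizer ((E ⊔ zpowers y : Subgroup R) : Set R) := by
        have h1 : E ⊔ zpowers y ≤ centralizer (E : Set R) :=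
          sup_le (fun a ha e he => hab e he a ha) (zpowers_le.2 fun e he => hy e he)
        refine sup_le (le_centralizer_iff.1 h1) (zpowers_le.2 ?_)
        intro g hg
        obtain ⟨e, he, w, hw, rfl⟩ := (Solvable.mem_sup_of_le_normalizer
          (zpowers_le.2 (centralizer_le_normalizer _ (fun e he => hy e he)))).mp hg
        obtain ⟨k, rfl⟩ := mem_zpowers_iff.1 hw
        exact ((show Commute e y from hy e he).mul_left ((Commute.refl y).zpow_left k)).eq
      exact mem_centralizer_iff.1 (hle b.2.2) a a.2.2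
    have := hEmax B hB fun e he => ⟨hE.2 e he, mem_sup_left he⟩
    rw [← this]
    exact ⟨hyp, mem_sup_right (mem_zpowers y)⟩
  have hZ : ∀ z ∈ Z, z ∈ center R ∧ z ^ p = 1 := by
    intro z hz
    induction hz using closure_induction with
    | mem z hz => exact hz
    | one => exact ⟨one_mem _, one_pow p⟩
    | mul a b _ _ iha ihb =>
      exact ⟨mul_mem iha.1 ihb.1, by
        rw [(show Commute a b from mem_center_iff.1 ihb.1 a).mul_pow, iha.2, ihb.2, one_mul]⟩
    | inv a _ iha => exact ⟨inv_mem iha.1, by rw [inv_pow, iha.2, inv_one]⟩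
  have hZE : Z ≤ E := fun z hz => hext z (fun e _ => mem_center_iff.1 (hZ z hz).1 e) (hZ z hz).2
  have hZT : Z ≤ T := fun z hz => center_le_centralizer _ (hZ z hz).1
  obtain ⟨e, heE, heT⟩ := SetLike.not_le_iff_exists.1 hET
  have he1 : e ≠ 1 := fun h => heT (h ▸ one_mem T)
  have heo : orderOf e = p := orderOf_eq_prime (hE.2 e heE) he1
  -- `E ⊓ T = Z`
  have hETZ : E ⊓ T = Z := by
    refine (eq_of_le_of_card_ge (le_inf hZE hZT) ?_).symm
    obtain ⟨i, hi⟩ := (hR.to_subgroup (E ⊓ T)).exists_card_eq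
    have hlt : Nat.card ↥(E ⊓ T) < p ^ 2 := hE2 ▸ lt_of_le_of_ne (card_le_of_le inf_le_left)
      fun h => heT ((eq_of_le_of_card_ge inf_le_left h.ge).ge heE).2
    rw [hi] at hlt ⊢
    have hi2 : i ≤ 1 := by
      have := (Nat.pow_lt_pow_iff_right hp.out.one_lt).1 hlt
      omega
    rw [hZc]
    exact (Nat.pow_le_pow_right hp.out.pos hi2).trans (pow_one p).le
  have hZe : E = Z ⊔ zpowers e := by
    refine (eq_of_le_of_card_ge (sup_le hZE (zpowers_le.2 heE)) ?_).symm
    obtain ⟨i, hi⟩ := (hR.to_subgroup (Z ⊔ zpowers e)).exists_card_eq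
    have hlt : Nat.card Z < Nat.card ↥(Z ⊔ zpowers e) :=
      lt_of_le_of_ne (card_le_of_le le_sup_left) fun h =>
        heT (hZT ((eq_of_le_of_card_ge le_sup_left h.ge).ge (mem_sup_right (mem_zpowers e))))
    rw [hZc, hi] at hlt
    have hi1 : 2 ≤ i := by
      by_contra hlt'
      exact absurd hlt (not_lt.2 ((Nat.pow_le_pow_right hp.out.pos (show i ≤ 1 by omega)).trans (pow_one p).le))
    rw [hE2, hi]
    exact Nat.pow_le_pow_right hp.out.pos hi1
  set C := centralizer (zpowers e : Set R) with hC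
  have hCE : ∀ g ∈ C, ∀ f ∈ E, f * g = g * f := by
    intro g hg f hf
    have hle : E ≤ centralizer ({g} : Set R) := by
      rw [hZe]
      exact sup_le (fun z hz => mem_centralizer_singleton_iff.2 (mem_center_iff.1 (hZ z hz).1 g).symm)
        (fun w hw => mem_centralizer_singleton_iff.2 (mem_centralizer_iff.1 hg w hw))
    exact mem_centralizer_singleton_iff.1 (hle hf)
  refine Or.inr ⟨zpowers e, C ⊓ T, by rw [Nat.card_zpowers, heo], ?_, ?_, fun a ha b hb => ?_, ?_⟩
  · haveI : Fact (Nat.card Z).Prime := ⟨hZc ▸ hp.out⟩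
    refine PGroup.isCyclic_of_unique_order_prime hp2 (hR.to_subgroup _) fun g h hg hg1 hh => ?_
    have hgZ : ∀ g : ↥(C ⊓ T), g ^ p = 1 → (g : R) ∈ Z := fun g hg => hETZ ▸
      ⟨hext g (hCE g g.2.1) (congrArg Subtype.val hg), g.2.2⟩
    obtain ⟨k, hk⟩ := mem_powers_of_prime_card (G := Z) (p := p) hZc (g := ⟨g, hgZ g hg⟩)
      (g' := ⟨h, hgZ h hh⟩) (fun h' => hg1 (Subtype.ext (congrArg Subtype.val h' :)))
    exact ⟨(k : ℤ), Subtype.ext (by
      have := congrArg Subtype.val hk
      simpa using this)⟩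
  · rw [eq_bot_iff]
    rintro g ⟨hg, -, hgT⟩
    obtain ⟨k, rfl⟩ := mem_zpowers_iff.1 hg
    by_contra hne
    refine heT (?_ : e ∈ T)
    have h1 : zpowers (e ^ k) = zpowers e := by
      refine eq_of_le_of_card_ge (zpowers_le.2 (zpow_mem (mem_zpowers e) k)) ?_
      rw [Nat.card_zpowers, Nat.card_zpowers, heo,
        orderOf_eq_prime (hE.2 _ (E.zpow_mem heE k)) (fun h => hne (mem_bot.2 h))]
    exact zpowers_le.1 (h1 ▸ zpowers_le.2 hgT)
  · exact mem_centralizer_iff.1 hb.1 a ha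
  · refine le_antisymm (sup_le ?_ inf_le_left) fun g hg => ?_
    · intro w hw
      refine mem_centralizer_iff.2 fun v hv => ?_
      obtain ⟨i, rfl⟩ := mem_zpowers_iff.1 hw
      obtain ⟨j, rfl⟩ := mem_zpowers_iff.1 hv
      exact ((Commute.refl e).zpow_zpow j i).eq
    · have hq : Nat.card (R ⧸ T) = p := hTi
      obtain ⟨k, hk⟩ := mem_powers_of_prime_card (G := R ⧸ T) (p := p) hq
        (g := QuotientGroup.mk' T e) (g' := QuotientGroup.mk' T g)
        (fun h => heT ((QuotientGroup.eq_one_iff (N := T) e).1 h))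
      have hmem : (e ^ k)⁻¹ * g ∈ T := by
        rw [← QuotientGroup.eq]
        exact hk
      have hek : e ^ k ∈ C := mem_centralizer_iff.2 fun v hv => by
        obtain ⟨j, rfl⟩ := mem_zpowers_iff.1 hv
        exact ((Commute.refl e).zpow_left j |>.pow_right k).eq
      rw [show g = e ^ k * ((e ^ k)⁻¹ * g) by group]
      exact mul_mem (mem_sup_left (pow_mem (mem_zpowers e) k))
        (mem_sup_right ⟨C.mul_mem (C.inv_mem hek) hg, hmem⟩)

variable {G : Type*} [Group G] [Finite G] (hG : Cfsg.IsMinSimpleOddOrder G) {M : Subgroup G}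
  (hM : IsCoatom M)
include hG hM

theorem isNarrow_of_not_beta {p : ℕ} [hp : Fact p.Prime] (hpM : p ∣ Nat.card M)
    (hβ : p ∉ Cfsg.beta M) (S : Sylow p M) : Cfsg.IsNarrow p (S : Subgroup M) := by
  have hp2 : p ≠ 2 := prime_ne_two_of_dvd_card hG hpM
  by_cases hα : p ∈ Cfsg.alpha M
  swap
  · refine Or.inl (TwoFusion.PRank.pRankLE_of_injective (S : Subgroup M).subtype
      (S : Subgroup M).subtype_injective ?_)
    exact by_contra fun h => hα ⟨hp.out, h⟩
  have hrM : ¬ Cfsg.PRankLE p 2 M := hα.2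
  have hrS : ¬ Cfsg.PRankLE p 2 (S : Subgroup M) := fun h => hrM (pRankLE_of_sylow S h)
  have hrG : ¬ Cfsg.PRankLE p 2 G := fun h =>
    hrM (TwoFusion.PRank.pRankLE_of_injective M.subtype M.subtype_injective h)
  have hni : ¬ Cfsg.IsIdealPrime p G := fun h => hβ ⟨hα, h⟩
  simp only [Cfsg.IsIdealPrime, hp.out, hrG, not_false_eq_true, true_and] at hni
  push Not at hni
  obtain ⟨P, A, hAP, hA, hA2, hAmax⟩ := hni
  have hmx := isMaxPIn_top_of_sigma (alpha_subset_sigma hG hM hα) (isMaxPIn_of_sylow S)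
  let Q : Sylow p G := ⟨(S : Subgroup M).map M.subtype, S.2.map _,
    fun {U} hU hle => hmx.max U hU hle le_top⟩
  let e : (S : Subgroup M) ≃* (P : Subgroup G) :=
    ((S : Subgroup M).equivMapOfInjective _ M.subtype_injective).trans (Sylow.equiv Q P)
  refine isNarrow_of_equiv e.symm ?_
  have hrP : ¬ Cfsg.PRankLE p 2 (P : Subgroup G) := fun h =>
    hrS (TwoFusion.PRank.pRankLE_of_injective e.toMonoidHom e.injective h)
  refine isNarrow_of_maximal_elementary hp2 P.isPGroup' hrP (A.subgroupOf (P : Subgroup G)) ?_ ?_ ?_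
  · haveI := hA.1
    exact ⟨⟨⟨fun a b => Subtype.ext (Subtype.ext (setLike_mul_comm (mem_subgroupOf.1 a.2) (mem_subgroupOf.1 b.2)))⟩⟩,
      fun a ha => Subtype.ext (hA.2 _ ha)⟩
  · rw [Nat.card_congr (subgroupOfEquivOfLe hAP).toEquiv, hA2]
  · intro B hB hle
    haveI := hB.1
    have h1 : A ≤ B.map (P : Subgroup G).subtype := fun a ha => ⟨⟨a, hAP ha⟩, hle ha, rfl⟩
    have h2 : Cfsg.IsElementaryAbelian p (B.map (P : Subgroup G).subtype) := by
      refine ⟨map_isMulCommutative B (P : Subgroup G).subtype, ?_⟩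
      rintro _ ⟨b, hb, rfl⟩
      rw [← map_pow, hB.2 b hb, map_one]
    have h3 : B.map (P : Subgroup G).subtype = A :=
      (eq_of_le_of_not_lt h1 (hAmax _ (map_subtype_le _) h2)).symm
    rw [← h3, subgroupOf, comap_map_eq_self_of_injective (P : Subgroup G).subtype_injective]

/-- BG 5.6 applied to `M`. -/
theorem not_beta_conclusions {p : ℕ} [hp : Fact p.Prime] (hpM : p ∣ Nat.card M)
    (hβ : p ∉ Cfsg.beta M) :
    (∀ q : ℕ, q.Prime → q ∣ (Cfsg.pPrimeCore p M).index → q ≤ p) ∧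
      Cfsg.HasNormalPComplement p ↥(commutator M) := by
  haveI := isSolvable_of_ne_top hG hM.1
  obtain ⟨S⟩ : Nonempty (Sylow p M) := inferInstance
  obtain ⟨h1, -, h3, -⟩ := Cfsg.Agent.S1455.result (odd_card_subgroup hG M) p hpM S
    (isNarrow_of_not_beta hG hM hpM hβ S) (fun _ => pLengthLE_coatom hG hM p)
  exact ⟨h1, h3⟩

/-- The kernel of `M' → ∏ M'/O_{p'}(M')` is the `β`-core. -/
theorem piCore_beta_facts :
    (Cfsg.piCore (Cfsg.beta M) (commutator M)).index.Coprime
        (Nat.card (Cfsg.piCore (Cfsg.beta M) (commutator M))) ∧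
      (∀ q : ℕ, q.Prime → q ∈ Cfsg.beta M → ¬ q ∣ (Cfsg.piCore (Cfsg.beta M) (commutator M)).index) ∧
      Group.IsNilpotent (↥(commutator M) ⧸ Cfsg.piCore (Cfsg.beta M) (commutator M)) := by
  classical
  set D := commutator M with hD
  set K := Cfsg.piCore (Cfsg.beta M) D with hK
  haveI : K.Characteristic := piCore_characteristic _ D
  let J := {p : ℕ // p.Prime ∧ p ∣ Nat.card M ∧ p ∉ Cfsg.beta M}
  have hnpc : ∀ j : J, ∃ N : Subgroup D, CfsgLib.NPC.IsNPC j.1 N := by
    rintro ⟨p, hp, hpM, hβ⟩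
    haveI := Fact.mk hp
    exact (CfsgLib.NPC.hasNormalPComplement_iff).1 (not_beta_conclusions hG hM hpM hβ).2
  choose N hN using hnpc
  let I : Subgroup D := ⨅ j : J, N j
  haveI : ∀ j, (N j).Normal := fun j => (hN j).1
  have hIn : I.Normal := normal_iInf_normal fun j => (hN j).1
  have hIK : I ≤ K := by
    refine le_piCore hIn fun q hq hd => ?_
    by_contra hβ
    have hqM : q ∣ Nat.card M := hd.trans ((card_subgroup_dvd_card I).trans (card_subgroup_dvd_card D))
    haveI := Fact.mk hq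
    exact (hq.coprime_iff_not_dvd).1 ((hN ⟨q, hq, hqM, hβ⟩).2.1.symm)
      (hd.trans (card_dvd_of_le (iInf_le _ _)))
  have hKI : K ≤ I := by
    refine le_iInf fun j g hg => ?_
    haveI := Fact.mk j.2.1
    refine (CfsgLib.NPC.mem_iff_coprime (hN j)).2 (Nat.Coprime.symm
      ((j.2.1.coprime_iff_not_dvd).2 fun h => j.2.2.2 ?_))
    exact piCore_isPiSubgroup _ D _ j.2.1 (h.trans (Subgroup.orderOf_dvd_natCard _ hg))
  have heq : I = K := le_antisymm hIK hKI
  have hβidx : ∀ q : ℕ, q.Prime → q ∈ Cfsg.beta M → ¬ q ∣ K.index := by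
    intro q hq hqβ hd
    haveI := Fact.mk hq
    obtain ⟨T⟩ : Nonempty (Sylow q D) := inferInstance
    have hTK : (T : Subgroup D) ≤ K := heq ▸ le_iInf fun j g hg => by
      haveI := Fact.mk j.2.1
      refine (CfsgLib.NPC.mem_iff_coprime (hN j)).2 ?_
      obtain ⟨n, hn⟩ := T.isPGroup'.exists_card_eq
      refine Nat.Coprime.coprime_dvd_left (Subgroup.orderOf_dvd_natCard _ hg) ?_
      rw [hn]
      exact ((Nat.coprime_primes hq j.2.1).2 fun h => j.2.2.2 (h ▸ hqβ)).pow_left n
    exact T.not_dvd_index (hd.trans (index_dvd_of_le hTK))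
  refine ⟨Nat.coprime_of_dvd fun q hq h1 h2 => hβidx q hq (piCore_isPiSubgroup _ D q hq h2) h1, hβidx, ?_⟩
  haveI hnq : ∀ j : J, Group.IsNilpotent (↥D ⧸ N j) := fun j => by
    haveI := Fact.mk j.2.1
    obtain ⟨k, hk⟩ := (hN j).2.2
    exact (IsPGroup.of_card (hk : Nat.card (↥D ⧸ N j) = _)).isNilpotent
  haveI : Finite J := Finite.of_injective
    (fun j : J => (⟨j.1, Nat.lt_succ_of_le (Nat.le_of_dvd Nat.card_pos j.2.2.1)⟩ : Fin (Nat.card M + 1)))
    fun a b h => Subtype.ext (congrArg Fin.val h :)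
  let φ : D →* (∀ j : J, ↥D ⧸ N j) := MonoidHom.pi fun j => QuotientGroup.mk' (N j)
  have hker : φ.ker = K := by
    rw [← heq]
    ext g
    simp only [φ, MonoidHom.mem_ker, funext_iff, I, mem_iInf]
    exact forall_congr' fun j => QuotientGroup.eq_one_iff g
  let e : ↥D ⧸ K ≃* φ.range :=
    (QuotientGroup.quotientMulEquivOfEq hker.symm).trans (QuotientGroup.quotientKerEquivRange φ)
  exact Group.nilpotent_of_mulEquiv e.symm

/-- BG 10.8, the Sylow subgroups for ideal primes lie in `M_β`. -/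
theorem sylow_le_betaCore {p : ℕ} [hp : Fact p.Prime] (hβ : p ∈ Cfsg.beta M) (S : Sylow p M) :
    (S : Subgroup M) ≤ Cfsg.piCore (Cfsg.beta M) M := by
  set D := commutator M
  set K := Cfsg.piCore (Cfsg.beta M) D
  haveI : K.Characteristic := piCore_characteristic _ D
  have hKn : (K.map D.subtype).Normal := inferInstance
  have hKπ : Cfsg.IsPiSubgroup (Cfsg.beta M) (K.map D.subtype) := IsPiSubgroup.map (piCore_isPiSubgroup _ D) _
  refine le_trans ?_ (le_piCore hKn hKπ)
  have hσ : p ∈ Cfsg.sigma M := alpha_subset_sigma hG hM hβ.1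
  have hSD : (S : Subgroup M) ≤ D := (sylow_le_sigmaCore hG hM hσ S).trans
    (piCore_sigma_le_commutator hG hM)
  intro g hg
  refine ⟨⟨g, hSD hg⟩, ?_, rfl⟩
  haveI : K.Normal := inferInstance
  show (⟨g, hSD hg⟩ : D) ∈ K
  rw [← QuotientGroup.eq_one_iff (N := K)]
  have hpel : IsPGroup p (zpowers (⟨g, hSD hg⟩ : D)) := by
    refine (S.2.to_le (zpowers_le.2 hg)).of_injective
      (MonoidHom.mk' (fun y => (⟨((y : D) : M), ?_⟩ : zpowers g)) fun a b => rfl) ?_
    · obtain ⟨k, hk⟩ := mem_zpowers_iff.1 y.2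
      exact ⟨k, by rw [← hk]; rfl⟩
    · intro a b hab
      exact Subtype.ext (Subtype.ext (congrArg Subtype.val hab :))
  obtain ⟨k, hk⟩ := hpel.exists_card_eq
  rw [Nat.card_zpowers] at hk
  refine orderOf_eq_one_iff.1 (Nat.eq_one_of_dvd_coprimes (a := p ^ k) (b := K.index) ?_
    (hk ▸ orderOf_map_dvd (QuotientGroup.mk' K) _) (orderOf_dvd_natCard _))
  exact ((hp.out.coprime_iff_not_dvd).2 ((piCore_beta_facts hG hM).2.1 p hp.out hβ)).pow_left k

end CfsgLib.OddOrder
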