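import Cfsg.Agent.Lib.OddOrder.Exceptional
import Cfsg.Agent.Lib.OddOrder.RankTwoTower
import Cfsg.Agent.Lib.OddOrder.RankTwoAction
import Cfsg.Agent.Lib.OddOrder.SigmaCompl
import Cfsg.Agent.Lib.OddOrder.BetaUnique
import Cfsg.Agent.S1414
import Mathlib.RingTheory.ZMod.UnitsCyclic

/-!
Tools for BG sections 11 and 12: complements of `M_σ`, cyclic groups, non-ideal primes in `M_σ`.
-/

set_option autoImplicit false
set_option linter.style.haveILetI false

open scoped commutatorElement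

namespace CfsgLib.OddOrder

open Subgroup

variable {G : Type*} [Group G] [Finite G]

theorem mem_normalizer_of_map_le {X : Subgroup G} {g : G}
    (h : X.map (MulAut.conj g).toMonoidHom ≤ X) : g ∈ normalizer (X : Set G) := by
  rw [mem_normalizer_iff_map_conj_eq]
  exact eq_of_le_of_card_ge h (le_of_eq (card_map_of_injective (MulAut.conj g).injective).symm)

omit [Finite G] in
theorem normalizer_le_normalizer_centralizer (T : Subgroup G) :
    normalizer (T : Set G) ≤ normalizer (centralizer (T : Set G) : Set G) := by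
  intro g hg
  have key : ∀ a ∈ normalizer (T : Set G), ∀ x ∈ centralizer (T : Set G),
      a * x * a⁻¹ ∈ centralizer (T : Set G) := fun a ha x hx t ht => by
    have h := hx _ ((mem_normalizer_iff''.1 ha t).1 ht)
    calc t * (a * x * a⁻¹) = a * (a⁻¹ * t * a * x) * a⁻¹ := by group
      _ = a * (x * (a⁻¹ * t * a)) * a⁻¹ := by rw [h]
      _ = a * x * a⁻¹ * t := by group
  refine mem_normalizer_iff.2 fun x => ⟨key g hg x, fun hx => ?_⟩
  have := key g⁻¹ (inv_mem hg) _ hx
  rwa [show g⁻¹ * (g * x * g⁻¹) * g⁻¹⁻¹ = x by group] at this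

theorem elementary_zpowers {q : ℕ} {y : G} (hy : y ^ q = 1) :
    Cfsg.IsElementaryAbelian q (zpowers y) := by
  refine ⟨inferInstance, ?_⟩
  rintro _ ⟨i, rfl⟩
  show (y ^ i) ^ q = 1
  rw [← zpow_natCast, ← zpow_mul, mul_comm, zpow_mul, zpow_natCast, hy, one_zpow]

/-- Proper extensions of elementary subgroups gain a factor `q`. -/
theorem card_mul_le_card_sup {q : ℕ} [Fact q.Prime] {F : Subgroup G}
    (hF : Cfsg.IsElementaryAbelian q F) {z : G} (hz : z ∈ centralizer (F : Set G))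
    (hzq : z ^ q = 1) (hzF : z ∉ F) : Nat.card F * q ≤ Nat.card ↥(F ⊔ zpowers z) := by
  obtain ⟨i, hi⟩ := (isPGroup_of_exp hF.2).exists_card_eq
  obtain ⟨j, hj⟩ := (isPGroup_of_exp (elementary_sup_zpowers hF hz hzq).2).exists_card_eq
  have hlt : Nat.card F < Nat.card ↥(F ⊔ zpowers z) :=
    lt_of_le_of_ne (card_le_of_le le_sup_left) fun h =>
      hzF ((eq_of_le_of_card_ge le_sup_left h.ge).ge (mem_sup_right (mem_zpowers z)))
  rw [hi, hj] at hlt ⊢
  rw [← pow_succ]
  exact Nat.pow_le_pow_right (Fact.out : q.Prime).pos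
    ((Nat.pow_lt_pow_iff_right (Fact.out : q.Prime).one_lt).1 hlt)

theorem eq_of_card_eq_of_le_cyclic {K X Y : Subgroup G} (hK : IsCyclic K) (hX : X ≤ K) (hY : Y ≤ K)
    (h : Nat.card X = Nat.card Y) : X = Y := by
  haveI := hK
  rw [← map_subgroupOf_eq_of_le hX, ← map_subgroupOf_eq_of_le hY]
  rw [eq_of_card_eq_of_isCyclic (C := K) (H := X.subgroupOf K) (K := Y.subgroupOf K)
    (by rw [Nat.card_congr (subgroupOfEquivOfLe hX).toEquiv,
      Nat.card_congr (subgroupOfEquivOfLe hY).toEquiv, h])]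

theorem le_normalizer_of_cyclic {H K D : Subgroup G} (hH : H ≤ normalizer (K : Set G))
    (hK : IsCyclic K) (hD : D ≤ K) : H ≤ normalizer (D : Set G) := fun g hg => by
  refine mem_normalizer_of_map_le (le_of_eq (eq_of_card_eq_of_le_cyclic hK ?_ hD
    (card_map_of_injective (MulAut.conj g).injective)))
  have := hH hg
  rw [mem_normalizer_iff_map_conj_eq] at this
  exact (map_mono hD).trans this.le

/-- A noncyclic abelian group cannot act faithfully on a group of prime order. -/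
theorem exists_mem_centralizer_zpowers {q : ℕ} [hq : Fact q.Prime] {A : Subgroup G}
    (hA : ¬ IsCyclic A) {y : G} (hy : orderOf y = q) (hAy : A ≤ normalizer (zpowers y : Set G)) :
    ∃ x ∈ A, x ≠ 1 ∧ Commute x y := by
  by_contra hcon
  push Not at hcon
  set C := zpowers y
  haveI : IsCyclic C := isCyclic_zpowers y
  haveI : IsCyclic (MulAut C) := by
    have h1 : IsCyclic (ZMod (Nat.card C))ˣ := by
      rw [Nat.card_zpowers, hy]
      exact ZMod.isCyclic_units_prime hq.out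
    exact (IsCyclic.mulAutMulEquiv C).isCyclic.2 h1
  set f := C.normalizerMonoidHom.comp (inclusion hAy)
  refine hA (isCyclic_of_injective f ((injective_iff_map_eq_one f).2 fun x hx => ?_))
  by_contra hx1
  refine hcon x x.2 (fun h => hx1 (Subtype.ext h)) ?_
  have h2 := congrArg (fun φ : MulAut C => ((φ ⟨y, mem_zpowers y⟩ : C) : G)) hx
  simp only [f, MonoidHom.comp_apply, normalizerMonoidHom_apply_apply_coe, MulAut.one_apply] at h2
  exact mul_inv_eq_iff_eq_mul.1 h2

variable (hG : Cfsg.IsMinSimpleOddOrder G) {M : Subgroup G} (hM : IsCoatom M)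
include hG hM

theorem exists_complement_ge {K : Subgroup G} (hKM : K ≤ M)
    (hK : ∀ q : ℕ, q.Prime → q ∣ Nat.card K → q ∉ Cfsg.sigma M) :
    ∃ E : Subgroup G, K ≤ E ∧ Cfsg.IsComplIn E (Cfsg.sigmaCore M) M := by
  haveI := isSolvable_of_ne_top hG hM.1
  obtain ⟨E₀, hE₀, hKE₀⟩ := Solvable.exists_isPiHall_ge (G := M) (π := {q | q ∉ Cfsg.sigma M})
    (K := K.subgroupOf M) fun q hq hd =>
      hK q hq (by rwa [Nat.card_congr (subgroupOfEquivOfLe hKM).toEquiv] at hd)
  set E := E₀.map M.subtype with hE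
  have hEM : E ≤ M := map_subtype_le _
  set S := Cfsg.sigmaCore M
  have hSM : S ≤ M := piCoreOf_le _ _
  have hEN : E ≤ normalizer (S : Set G) := hEM.trans (le_normalizer_piCoreOf _ _)
  obtain ⟨h1, -⟩ := hall_of_subset hG hM (π := Cfsg.sigma M) subset_rfl
    fun p _ S hp => sylow_le_sigmaCore hG hM hp S
  refine ⟨E, (map_subgroupOf_eq_of_le hKM).ge.trans (map_mono hKE₀), hEM, hSM, ?_, fun m hm => ?_⟩
  · refine card_eq_one.1 (Nat.eq_one_iff_not_exists_prime_dvd.2 fun q hq hd => ?_)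
    have h2 := hd.trans (card_dvd_of_le (inf_le_left : E ⊓ S ≤ E))
    rw [hE, card_map_of_injective M.subtype_injective] at h2
    exact hE₀.1 q hq h2 (sigma_of_dvd_sigmaCore hq (hd.trans (card_dvd_of_le inf_le_right)))
  · have htop : S ⊔ E = M := by
      refine eq_of_le_of_card_ge (sup_le hSM hEM) (Nat.le_of_dvd Nat.card_pos ?_)
      rw [← relIndex_bot_left M, ← relIndex_mul_relIndex ⊥ (S ⊔ E) M bot_le (sup_le hSM hEM),
        relIndex_bot_left]
      have : (S ⊔ E).relIndex M = 1 := Nat.eq_one_iff_not_exists_prime_dvd.2 fun q hq hd => by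
        by_cases hσ : q ∈ Cfsg.sigma M
        · exact h1.2.2 q hq hσ (hd.trans (relIndex_dvd_of_le_left M le_sup_left))
        · have h3 := hd.trans (relIndex_dvd_of_le_left M (le_sup_right : E ≤ S ⊔ E))
          rw [hE, relIndex, subgroupOf, comap_map_eq_self_of_injective M.subtype_injective] at h3
          exact hE₀.2 q hq hσ h3
      rw [this, mul_one]
    obtain ⟨n, hn, e, he, hne⟩ :=
      (Solvable.mem_sup_of_le_normalizer hEN).1 (htop.ge (inv_mem hm))
    exact ⟨e⁻¹, inv_mem he, n⁻¹, inv_mem hn, by rw [← mul_inv_rev, hne, inv_inv]⟩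

theorem pRankLE_two_of_not_sigma {q : ℕ} (hq : q.Prime) (hσ : q ∉ Cfsg.sigma M) :
    Cfsg.PRankLE q 2 M :=
  by_contra fun h => hσ (alpha_subset_sigma hG hM ⟨hq, h⟩)

theorem rankLE_complement {E : Subgroup G} (hE : Cfsg.IsComplIn E (Cfsg.sigmaCore M) M) :
    Cfsg.RankLE 2 E := by
  intro q hq
  haveI := Fact.mk hq
  by_cases hqE : q ∣ Nat.card E
  · exact TwoFusion.PRank.pRankLE_mono hE.1
      (pRankLE_two_of_not_sigma hG hM hq (complement_prime_not_sigma hG hM hE hq hqE))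
  · intro B hB hBq
    obtain ⟨n, hn⟩ := (isPGroup_of_exp hBq).exists_card_eq
    rcases n with _ | n
    · rw [hn, pow_zero]; exact Nat.one_le_pow _ _ hq.pos
    · exact absurd ((hn ▸ dvd_pow_self q n.succ_ne_zero : q ∣ Nat.card B).trans
        (card_subgroup_dvd_card B)) hqE

omit hG hM in
theorem dvd_card_of_isPGroup {q : ℕ} [Fact q.Prime] {W : Subgroup G} (hW : IsPGroup q W)
    (hW1 : W ≠ ⊥) : q ∣ Nat.card W := by
  obtain ⟨n, hn⟩ := hW.exists_card_eq
  rcases n with _ | n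
  · exact absurd (card_eq_one.1 (hn.trans (pow_zero q))) hW1
  · exact hn ▸ dvd_pow_self q n.succ_ne_zero

/-- A `p`-group in `M_σ` centralizes the `q`-groups it normalizes, `q ≠ p` a non-ideal prime. -/
theorem le_centralizer_of_sigma {p q : ℕ} [hp : Fact p.Prime] [hq : Fact q.Prime] (hpq : q ≠ p)
    (hσ : p ∈ Cfsg.sigma M) (hβ : q ∉ Cfsg.beta M) {A W : Subgroup G} (hA : IsPGroup p A)
    (hAM : A ≤ M) (hW : IsPGroup q W) (hWM : W ≤ M) (hWA : A ≤ normalizer (W : Set G)) :
    A ≤ centralizer (W : Set G) := by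
  by_cases hW1 : W = ⊥
  · subst hW1
    intro a _ x hx
    rw [Subgroup.coe_bot, Set.mem_singleton_iff] at hx
    simp [hx]
  set S := Cfsg.sigmaCore M
  have hAS : A ≤ S := le_sigmaCore_of_pgroup hG hM hσ hA hAM
  obtain ⟨-, -, -, -, h5⟩ := Cfsg.Agent.S1414.result hG M hM
  obtain ⟨-, hnpc, -⟩ := h5 q hq.out ((dvd_card_of_isPGroup hW hW1).trans (card_dvd_of_le hWM)) hβ
  obtain ⟨N, hN⟩ := (CfsgLib.NPC.hasNormalPComplement_iff).1 hnpc
  haveI := hN.1
  intro a ha w hw
  have haN : (⟨a, hAS ha⟩ : S) ∈ N := by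
    refine (CfsgLib.NPC.mem_iff_coprime hN).2 ?_
    obtain ⟨n, hn⟩ := hA.exists_card_eq
    refine Nat.Coprime.coprime_dvd_left ?_ (((Nat.coprime_primes hp.out hq.out).2 hpq.symm).pow_left n)
    rw [← hn, Subgroup.orderOf_mk]
    exact orderOf_dvd_card_of_mem ha
  have hcS : ⁅a, w⁆ ∈ S := by
    rw [commutatorElement_def, show a * w * a⁻¹ * w⁻¹ = a * (w * a⁻¹ * w⁻¹) by group]
    exact mul_mem (hAS ha) ((mem_normalizer_iff.1
      (le_normalizer_piCoreOf _ _ (hWM hw)) a⁻¹).1 (inv_mem (hAS ha)))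
  have hcW : ⁅a, w⁆ ∈ W := by
    rw [commutatorElement_def]
    exact mul_mem ((mem_normalizer_iff.1 (hWA ha) w).1 hw) (inv_mem hw)
  -- the commutator lies in the `q`-free complement
  have hwS : (orderOf (⁅a, w⁆)).Coprime q := by
    by_cases hwσ : q ∈ Cfsg.sigma M
    · have hw' : (⟨w, le_sigmaCore_of_pgroup hG hM hwσ hW hWM hw⟩ : S) ∈ (⊤ : Subgroup S) :=
        mem_top _
      have h1 := (CfsgLib.NPC.mem_iff_coprime hN).1 (mul_mem haN
        (hN.1.conj_mem _ (inv_mem haN) ⟨w, le_sigmaCore_of_pgroup hG hM hwσ hW hWM hw⟩))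
      rw [← Subgroup.orderOf_coe] at h1
      simpa only [Subgroup.coe_mul, Subgroup.coe_inv, commutatorElement_def, mul_assoc] using h1
    · refine ((Nat.Coprime.coprime_dvd_left (orderOf_dvd_card_of_mem hcS)) ?_)
      exact (hq.out.coprime_iff_not_dvd.2 fun hd => hwσ (sigma_of_dvd_sigmaCore hq.out hd)).symm
  obtain ⟨n, hn⟩ := hW.exists_card_eq
  have h1 : orderOf ⁅a, w⁆ ∣ q ^ n := hn ▸ orderOf_dvd_card_of_mem hcW
  have h2 : ⁅a, w⁆ = 1 :=
    orderOf_eq_one_iff.1 (Nat.eq_one_of_dvd_coprimes (hwS.pow_right n) dvd_rfl h1)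
  exact (commutatorElement_eq_one_iff_mul_comm.1 h2).symm

end CfsgLib.OddOrder
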