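import Cfsg.Agent.Lib.OddOrder.KappaComplement
import Cfsg.Agent.Lib.OddOrder.ExceptionalTools
import Cfsg.Agent.Lib.OddOrder.SigmaCompl
import Cfsg.Agent.Lib.Solvable.InvariantHall

/-!
Elementary facts on `κ(M)` and on the standard factorisation `M = K U M_σ`.
-/

set_option autoImplicit false
set_option linter.style.haveILetI false

namespace CfsgLib.OddOrder

open Subgroup

variable {G : Type*} [Group G] [Finite G] (hG : Cfsg.IsMinSimpleOddOrder G) {M : Subgroup G}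
  (hM : IsCoatom M)

theorem kappa_not_sigma {p : ℕ} (hp : p ∈ Cfsg.kappa M) : p ∉ Cfsg.sigma M := hp.2.2.1

/-- The order of a complement inside `M`. -/
theorem card_eq_relIndex_of_isComplIn {A B X : Subgroup G} (h : Cfsg.IsComplIn A B X) :
    Nat.card A = B.relIndex X := by
  obtain ⟨hAX, -, hdis, hfac⟩ := h
  rw [Subgroup.relIndex, Subgroup.index]
  refine Nat.card_congr (Equiv.ofBijective
    (fun a : A => (QuotientGroup.mk (Subgroup.inclusion hAX a) : X ⧸ B.subgroupOf X)) ⟨?_, ?_⟩)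
  · intro a a' h
    have h1 := QuotientGroup.eq.1 h
    rw [mem_subgroupOf] at h1
    refine Subtype.ext (inv_mul_eq_one.1 (mem_bot.1 (hdis ▸ (⟨?_, h1⟩ :
      (a : G)⁻¹ * a' ∈ A ⊓ B))))
    exact A.mul_mem (A.inv_mem a.2) a'.2
  · intro x
    obtain ⟨m, rfl⟩ := QuotientGroup.mk_surjective x
    obtain ⟨a, ha, b, hb, hab⟩ := hfac m m.2
    refine ⟨⟨a, ha⟩, QuotientGroup.eq.2 ?_⟩
    rw [mem_subgroupOf, Subgroup.coe_mul, Subgroup.coe_inv, Subgroup.coe_inclusion, hab,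
      inv_mul_cancel_left]
    exact hb

include hG hM

theorem tau_cases_of_not_sigma {p : ℕ} (hp : p.Prime) (hpM : p ∣ Nat.card M)
    (hps : p ∉ Cfsg.sigma M) :
    p ∈ Cfsg.tau1 M ∨ p ∈ Cfsg.tau2 M ∨ p ∈ Cfsg.tau3 M := by
  by_cases hr1 : Cfsg.PRankLE p 1 M
  · by_cases hd : p ∣ Nat.card ↥⁅M, M⁆
    · exact Or.inr (Or.inr ⟨hp, hps, hd, hr1⟩)
    · exact Or.inl ⟨hp, hps, hpM, hd, hr1⟩
  · exact Or.inr (Or.inl ⟨hp, hps, pRankLE_two_of_not_sigma hG hM hp hps, hr1⟩)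

omit hM in
theorem isCyclic_pgroup_of_rank_one {p : ℕ} [hp : Fact p.Prime] (hpM : p ∣ Nat.card M)
    (hr1 : Cfsg.PRankLE p 1 M) {P : Subgroup G} (hP : IsPGroup p P) (hPM : P ≤ M) : IsCyclic P :=
  by_contra fun h => not_pRankLE_one_of_not_isCyclic (prime_ne_two_of_dvd_card hG hpM) hP h
    (TwoFusion.PRank.pRankLE_mono hPM hr1)

omit hG hM in
theorem kappa_rank_one {p : ℕ} [hp : Fact p.Prime] (hκ : p ∈ Cfsg.kappa M) :
    Cfsg.PRankLE p 1 M := by
  by_contra h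
  obtain ⟨E, hEM, hEe, hE⟩ := exists_elementary_of_not_pRankLE h
  rw [pow_one] at hE
  obtain ⟨P, hP⟩ := ((isPGroup_of_exp hEe.2).of_equiv
    (subgroupOfEquivOfLe hEM).symm).exists_le_sylow
  haveI := (hκ.2.2.2 P).1
  exact elementary_not_isCyclic hEe hE ((subgroupOfEquivOfLe hEM).isCyclic.1 (isCyclic_of_le hP))

theorem kappa_tau13 {p : ℕ} (hκ : p ∈ Cfsg.kappa M) :
    p ∈ Cfsg.tau1 M ∨ p ∈ Cfsg.tau3 M := by
  haveI := Fact.mk hκ.1
  rcases tau_cases_of_not_sigma hG hM hκ.1 hκ.2.1 hκ.2.2.1 with h | h | h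
  · exact Or.inl h
  · exact absurd (kappa_rank_one hκ) h.2.2.2
  · exact Or.inr h

omit hG hM in
/-- Every element of order `p ∈ κ(M)` of `M` centralizes a nontrivial element of `M_σ`. -/
theorem kappa_centralizer_ne_bot {p : ℕ} [hp : Fact p.Prime] (hκ : p ∈ Cfsg.kappa M) {a : G}
    (haM : a ∈ M) (hap : a ^ p = 1) :
    Cfsg.sigmaCore M ⊓ centralizer ({a} : Set G) ≠ ⊥ := by
  intro hbot
  set a' : M := ⟨a, haM⟩ with ha'
  have ha'p : a' ^ p = 1 := Subtype.ext hap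
  obtain ⟨S, hS⟩ := (isPGroup_of_exp (X := zpowers a') (fun z hz => by
    obtain ⟨k, rfl⟩ := mem_zpowers_iff.1 hz
    rw [← zpow_natCast, ← zpow_mul, mul_comm, zpow_mul, zpow_natCast, ha'p, one_zpow] :
      ∀ z ∈ zpowers a', z ^ p = 1)).exists_le_sylow
  obtain ⟨hc, x, hxS, hx1, y, hy, hy1, hxy⟩ := hκ.2.2.2 S
  haveI := hc
  have hax : a' ∈ zpowers x := by
    by_cases ha1 : a' = 1
    · rw [ha1]; exact one_mem _
    obtain ⟨k, hk⟩ : ∃ k, orderOf (⟨x, hxS⟩ : S) = p ^ k := (IsPGroup.iff_orderOf.1 S.2) _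
    rcases k with _ | k
    · rw [pow_zero, orderOf_eq_one_iff] at hk
      exact absurd (congrArg Subtype.val hk) hx1
    set z : S := (⟨x, hxS⟩ : S) ^ (p ^ k) with hz
    have hzo : orderOf z = p := by
      rw [hz, orderOf_pow' _ (pow_ne_zero _ hp.out.ne_zero), hk,
        Nat.gcd_eq_right (pow_dvd_pow p k.le_succ), Nat.pow_div k.le_succ hp.out.pos,
        show k.succ - k = 1 by omega, pow_one]
    have hao : orderOf (⟨a', hS (mem_zpowers a')⟩ : S) = p := by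
      rw [Subgroup.orderOf_mk, orderOf_eq_prime ha'p ha1]
    have he : zpowers (⟨a', hS (mem_zpowers a')⟩ : S) = zpowers z :=
      eq_of_card_eq_of_isCyclic (by rw [Nat.card_zpowers, Nat.card_zpowers, hzo, hao])
    obtain ⟨i, hi⟩ := mem_zpowers_iff.1 (he ▸ mem_zpowers (⟨a', hS (mem_zpowers a')⟩ : S))
    have hi' := congrArg Subtype.val hi
    simp only [hz, SubgroupClass.coe_zpow, SubgroupClass.coe_pow] at hi'
    exact hi' ▸ zpow_mem (pow_mem (mem_zpowers x) _) i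
  obtain ⟨i, hi⟩ := mem_zpowers_iff.1 hax
  have hay : Commute a y := by
    have h := (show Commute (x : G) y from hxy).zpow_left i
    rwa [← Subgroup.coe_zpow, hi] at h
  exact hy1 (mem_bot.1 (hbot ▸ (⟨hy, mem_centralizer_singleton_iff.2 hay.eq.symm⟩ :
    y ∈ Cfsg.sigmaCore M ⊓ centralizer ({a} : Set G))))

theorem exists_isPiHallOf (π : Set ℕ) : ∃ H : Subgroup G, Cfsg.IsPiHallOf π H M := by
  haveI := isSolvable_of_ne_top hG hM.1
  obtain ⟨H, hH⟩ := Solvable.exists_isPiHall (G := M) π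
  exact ⟨_, Solvable.isPiHallOf_of_isPiHall hH⟩

/-- A `σ(M)'`-`p`-subgroup of `M` is abelian, given 12.5 (b). -/
theorem isMulCommutative_sigma'_pgroup {p : ℕ} [hp : Fact p.Prime]
    (h417 : p ∈ Cfsg.tau2 M → ∀ P : Sylow p M, IsMulCommutative (P : Subgroup M))
    (hps : p ∉ Cfsg.sigma M) {P : Subgroup G} (hP : IsPGroup p P) (hPM : P ≤ M) :
    IsMulCommutative P := by
  by_cases hr1 : Cfsg.PRankLE p 1 M
  · by_cases hP1 : P = ⊥
    · subst hP1; infer_instance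
    · have hpP : p ∣ Nat.card P := by
        obtain ⟨k, hk⟩ := hP.exists_card_eq
        rcases k with _ | k
        · exact absurd (card_eq_one.1 (hk.trans (pow_zero p))) hP1
        · exact hk ▸ dvd_pow_self p k.succ_ne_zero
      haveI := isCyclic_pgroup_of_rank_one hG (hpP.trans (card_dvd_of_le hPM)) hr1 hP hPM
      infer_instance
  · obtain ⟨S, hS⟩ := (hP.of_equiv (subgroupOfEquivOfLe hPM).symm).exists_le_sylow
    haveI := h417 ⟨hp.out, hps, pRankLE_two_of_not_sigma hG hM hp.out hps, hr1⟩ S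
    refine ⟨⟨fun a b => Subtype.ext ?_⟩⟩
    have h := setLike_mul_comm (s := (S : Subgroup M))
      (hS (show (⟨a, hPM a.2⟩ : M) ∈ P.subgroupOf M from a.2))
      (hS (show (⟨b, hPM b.2⟩ : M) ∈ P.subgroupOf M from b.2))
    simpa using congrArg Subtype.val h

section Decomposition

variable {K U : Subgroup G} (hKU : Cfsg.IsSigmaDecomposition M K U)
include hKU

omit hG hM in
theorem decomposition_le : K ≤ M ∧ U ≤ M := ⟨hKU.hall.1, hKU.compl.1⟩

omit hG hM in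
theorem decomposition_K_inf_sigmaCore : K ⊓ Cfsg.sigmaCore M = ⊥ :=
  inf_eq_bot_of_coprime (Nat.coprime_of_dvd fun q hq h1 h2 =>
    kappa_not_sigma (hKU.hall.2.1 q hq h1) (sigma_of_dvd_sigmaCore hq h2))

omit hG hM in
/-- `U K` is a complement of `M_σ`. -/
theorem decomposition_isComplIn : Cfsg.IsComplIn (U ⊔ K) (Cfsg.sigmaCore M) M := by
  obtain ⟨hUM, hKS, hdis, hfac⟩ := hKU.compl
  have hKn : K ≤ normalizer (Cfsg.sigmaCore M : Set G) :=
    hKU.hall.1.trans (le_normalizer_piCoreOf _ _)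
  refine ⟨sup_le hUM hKU.hall.1, piCoreOf_le _ _, (eq_bot_iff_forall _).2 ?_, fun m hm => ?_⟩
  · rintro e ⟨he, heS⟩
    obtain ⟨u, hu, k, hk, rfl⟩ := (Solvable.mem_sup_of_le_normalizer hKU.normal).mp he
    have hu' : u ∈ K ⊔ Cfsg.sigmaCore M := by
      have := (K ⊔ Cfsg.sigmaCore M).mul_mem (mem_sup_right heS) (inv_mem (mem_sup_left hk))
      rwa [mul_inv_cancel_right] at this
    have hu1 : u = 1 := mem_bot.1 (hdis ▸ (⟨hu, hu'⟩ : u ∈ U ⊓ (K ⊔ Cfsg.sigmaCore M)))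
    rw [hu1, one_mul] at heS ⊢
    exact mem_bot.1 (decomposition_K_inf_sigmaCore hKU ▸
      (⟨hk, heS⟩ : k ∈ K ⊓ Cfsg.sigmaCore M))
  · obtain ⟨u, hu, b, hb, rfl⟩ := hfac m hm
    rw [sup_comm] at hb
    obtain ⟨s, hs, k, hk, rfl⟩ := (Solvable.mem_sup_of_le_normalizer hKn).mp hb
    refine ⟨u * k, Subgroup.mul_mem _ (mem_sup_left hu) (mem_sup_right hk), k⁻¹ * s * k, ?_,
      by group⟩
    have h := (mem_normalizer_iff.1 (hKn (inv_mem hk)) s).1 hs
    rwa [inv_inv] at h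

/-- The primes of `U` lie outside `σ(M) ∪ κ(M)`. -/
theorem decomposition_U_primes {q : ℕ} (hq : q.Prime) (hd : q ∣ Nat.card U) :
    q ∉ Cfsg.sigma M ∧ q ∉ Cfsg.kappa M := by
  refine ⟨complement_prime_not_sigma hG hM (decomposition_isComplIn hKU) hq
    (hd.trans (card_dvd_of_le le_sup_left)), fun hκ => hKU.hall.2.2 q hq hκ ?_⟩
  rw [← relIndex_mul_relIndex K (K ⊔ Cfsg.sigmaCore M) M le_sup_left
    (sup_le hKU.hall.1 (piCoreOf_le _ _)), ← card_eq_relIndex_of_isComplIn hKU.compl]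
  exact hd.mul_left _

end Decomposition

end CfsgLib.OddOrder
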