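import Cfsg.Agent.Lib.OddOrder.SemiPrime
import Cfsg.Agent.Lib.Solvable.InvariantHall
import Cfsg.Agent.Lib.CN.Nilpotent
import Cfsg.Agent.S1414

/-!
BG section 13: an element of order `p ∉ σ(M)` with `p ∤ |M'|` whose centraliser moves a
`σ(M)`-subgroup belongs to an ideal prime, and the structure of the overgroup of its normaliser.
-/

set_option autoImplicit false
set_option linter.style.haveILetI false

open scoped commutatorElement Pointwise

namespace CfsgLib.OddOrder

open Subgroup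

variable {G : Type*} [Group G] [Finite G]

/-- A normalising element centralises a subgroup of prime order avoiding the derived group. -/
theorem inf_normalizer_le_centralizer_of_not_dvd {p : ℕ} [hp : Fact p.Prime] {J P : Subgroup G}
    (hP : Nat.card P = p) (hPJ : P ≤ J) (hd : ¬ p ∣ Nat.card ↥⁅J, J⁆) :
    J ⊓ normalizer (P : Set G) ≤ centralizer (P : Set G) := by
  rintro m ⟨hmJ, hmN⟩ x hx
  have h1 : ⁅m, x⁆ ∈ P := by
    rw [commutatorElement_def]
    exact mul_mem ((mem_normalizer_iff.1 hmN x).1 hx) (inv_mem hx)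
  have h2 : ⁅m, x⁆ ∈ P ⊓ ⁅J, J⁆ := ⟨h1, commutator_mem_commutator hmJ (hPJ hx)⟩
  rw [disjoint_iff.1 (disjoint_of_coprime_natCard (H := P) (K := ⁅J, J⁆)
    (by rw [hP]; exact hp.out.coprime_iff_not_dvd.2 hd)), mem_bot,
    commutatorElement_eq_one_iff_mul_comm] at h2
  exact h2.symm

/-- Sylow's theorem inside `X`. -/
theorem IsMaxPIn.exists_conj_mem {p : ℕ} [Fact p.Prime] {X T R : Subgroup G} (h : IsMaxPIn p X T)
    (hR : IsPGroup p R) (hRX : R ≤ X) : ∃ x ∈ X, ∀ y ∈ R, x * y * x⁻¹ ∈ T := by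
  obtain ⟨S, hS⟩ := h.exists_sylow
  obtain ⟨S', hS'⟩ := (hR.of_equiv (subgroupOfEquivOfLe hRX).symm).exists_le_sylow
  obtain ⟨c, hc⟩ := MulAction.exists_smul_eq X S' S
  refine ⟨c, c.2, fun y hy => ?_⟩
  rw [← hS]
  refine ⟨c * ⟨y, hRX hy⟩ * c⁻¹, ?_, rfl⟩
  rw [← hc]
  exact smul_mem_pointwise_smul _ _ _ (hS' (mem_subgroupOf.2 hy))

/-- In a simple group the normaliser of an abelian Sylow subgroup centralises none of its
nontrivial subgroups. -/
theorem not_le_centralizer_normalizer_sylow (hG : Cfsg.IsMinSimpleOddOrder G) {p : ℕ}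
    [Fact p.Prime] (S : Sylow p G) [IsMulCommutative (S : Subgroup G)] {T : Subgroup G}
    (hTS : T ≤ (S : Subgroup G)) (hT : T ≠ ⊥) :
    ¬ normalizer ((S : Subgroup G) : Set G) ≤ centralizer (T : Set G) := by
  intro hle
  set S' := (S : Subgroup G)
  set NS := normalizer (S' : Set G)
  have hSN : S' ≤ NS := le_normalizer
  haveI : (S'.subgroupOf NS).Normal := normal_subgroupOf_of_le_normalizer le_rfl
  obtain ⟨V, hV⟩ := exists_right_complement'_of_coprime (N := S'.subgroupOf NS)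
    ((S.subtype hSN).card_coprime_index)
  set V' := V.map NS.subtype with hV'
  have hV'N : V' ≤ NS := map_subtype_le _
  have hdis : S' ⊓ V' = ⊥ := by
    rw [eq_bot_iff]
    rintro x ⟨hx, ⟨y, hy, rfl⟩⟩
    rw [mem_bot, show y = 1 from disjoint_def.1 hV.disjoint (mem_subgroupOf.2 hx) hy]
    rfl
  have hcompl : Cfsg.IsComplIn S' V' NS := by
    refine ⟨hSN, hV'N, hdis, fun n hn => ?_⟩
    obtain ⟨⟨⟨a, ha⟩, ⟨b, hb⟩⟩, hab, -⟩ := hV.existsUnique ⟨n, hn⟩
    exact ⟨a, mem_subgroupOf.1 ha, b, mem_map_of_mem NS.subtype hb,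
      (congrArg Subtype.val hab).symm⟩
  have hS := sylow_eq_commutator_complement hG S V' hcompl
  have hcop : (Nat.card V').Coprime (Nat.card S') := by
    rw [hV', card_map_of_injective NS.subtype_injective, ← hV.symm.index_eq_card,
      ← Nat.card_congr (subgroupOfEquivOfLe hSN).toEquiv]
    exact (S.subtype hSN).card_coprime_index.symm
  have h1 := Solvable.centralizer_inf_commutator_eq_bot (A := V') (V := S') hV'N hcop
  rw [← hS, inf_eq_left.2 inf_le_left] at h1
  exact hT (le_bot_iff.1 (h1 ▸ le_inf hTS (le_centralizer_iff.1 (hV'N.trans hle))))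

/-- Commuting subgroups of order `p` in a group of `p`-rank one coincide. -/
theorem mem_of_rank_one {p : ℕ} [hp : Fact p.Prime] {M P : Subgroup G}
    (hr : Cfsg.PRankLE p 1 M) (hP : Nat.card P = p) (hPM : P ≤ M) {y : G} (hyM : y ∈ M)
    (hy : y ∈ centralizer (P : Set G)) (hy1 : y ^ p = 1) : y ∈ P := by
  by_contra hyP
  haveI : IsCyclic P := isCyclic_of_prime_card hP
  have hPe : Cfsg.IsElementaryAbelian p P := ⟨inferInstance, fun x hx =>
    orderOf_dvd_iff_pow_eq_one.1 ((orderOf_dvd_card_of_mem hx).trans (dvd_of_eq hP))⟩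
  refine not_pRankLE_of_elementary (sup_le hPM (zpowers_le.2 hyM))
    (elementary_sup_zpowers hPe hy hy1) ?_ hr
  rw [pow_one]
  refine lt_of_le_of_ne (hP.ge.trans (card_le_of_le le_sup_left)) fun h => hyP ?_
  rw [eq_of_le_of_card_ge (le_sup_left : P ≤ P ⊔ zpowers y) (by rw [← h, hP])]
  exact mem_sup_right (mem_zpowers y)

variable (hG : Cfsg.IsMinSimpleOddOrder G) {M : Subgroup G} (hM : IsCoatom M)
include hG hM

/-- Elements of a normal subgroup `K` with `K ⊓ M_σ = 1` lying in `M` centralise the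
`σ(M)`-prime power subgroups of `M` normalising `K`. -/
theorem mem_centralizer_of_core {q : ℕ} [Fact q.Prime] (hqσ : q ∈ Cfsg.sigma M) {K B : Subgroup G}
    (hdisj : K ⊓ Cfsg.sigmaCore M = ⊥) (hBK : B ≤ normalizer (K : Set G)) (hB : IsPGroup q B)
    (hBM : B ≤ M) {x : G} (hxK : x ∈ K) (hxM : x ∈ M) : x ∈ centralizer (B : Set G) := by
  intro b hb
  have h1 : ⁅x, b⁆ ∈ K := by
    rw [commutatorElement_def, mul_assoc x, mul_assoc x]
    exact mul_mem hxK ((mem_normalizer_iff.1 (hBK hb) x⁻¹).1 (inv_mem hxK))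
  have h2 : ⁅x, b⁆ ∈ Cfsg.sigmaCore M := by
    have hbS : b ∈ Cfsg.sigmaCore M := le_sigmaCore_of_pgroup hG hM hqσ hB hBM hb
    rw [commutatorElement_def]
    exact mul_mem ((mem_normalizer_iff.1 (le_normalizer_piCoreOf _ _ hxM) b).1 hbS) (inv_mem hbS)
  have h3 : ⁅x, b⁆ ∈ K ⊓ Cfsg.sigmaCore M := ⟨h1, h2⟩
  rw [hdisj, mem_bot, commutatorElement_eq_one_iff_mul_comm] at h3
  exact h3.symm

theorem sigmaCore_inf_eq_bot_of_nilpotent {L : Subgroup G} (hL : IsCoatom L)
    (hnil : Group.IsNilpotent (Cfsg.sigmaCore L))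
    (hconj : ∀ g : G, M.map (MulAut.conj g).toMonoidHom ≠ L) :
    Cfsg.sigmaCore L ⊓ Cfsg.sigmaCore M = ⊥ := by
  refine card_eq_one.1 (Nat.eq_one_iff_not_exists_prime_dvd.2 fun r hr hd => ?_)
  exact sigma_disjoint_of_nilpotent hG hL hM hconj hnil
    (sigma_of_dvd_sigmaCore hr (hd.trans (card_dvd_of_le inf_le_left)))
    (sigma_of_dvd_sigmaCore hr (hd.trans (card_dvd_of_le inf_le_right)))

theorem betaCore_inf_eq_bot {L : Subgroup G} (hL : IsCoatom L)
    (hconj : ∀ g : G, M.map (MulAut.conj g).toMonoidHom ≠ L) :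
    Cfsg.piCoreOf (Cfsg.beta L) L ⊓ Cfsg.sigmaCore M = ⊥ := by
  refine card_eq_one.1 (Nat.eq_one_iff_not_exists_prime_dvd.2 fun r hr hd => ?_)
  exact not_mem_sigma_of_alpha hG hL hM hconj
    (piCoreOf_isPiSubgroup _ L r hr (hd.trans (card_dvd_of_le inf_le_left))).1
    (sigma_of_dvd_sigmaCore hr (hd.trans (card_dvd_of_le inf_le_right)))

/-- A prime `p ∉ σ(M)`, `p ∤ |M'|`, with cyclic Sylow subgroups in `G`: no element of prime order
of `M_σ` commutes with a subgroup of order `p` of `M`. -/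
theorem cyclic_false {p q : ℕ} [hp : Fact p.Prime] [hq : Fact q.Prime] (hpσ : p ∉ Cfsg.sigma M)
    (hpM' : ¬ p ∣ Nat.card ↥⁅M, M⁆) {P : Subgroup G} (hP : Nat.card P = p) (hPM : P ≤ M)
    (hcyc : ∀ S : Subgroup G, IsPGroup p S → IsCyclic S) {X : Subgroup G} (hX : Nat.card X = q)
    (hXC : X ≤ Cfsg.sigmaCore M ⊓ centralizer (P : Set G)) : False := by
  have hXq := isPGroup_of_prime_card hX
  have hX1 := ne_bot_of_prime_card hX
  have hXM : X ≤ M := (hXC.trans inf_le_left).trans (piCoreOf_le _ _)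
  have hqσ : q ∈ Cfsg.sigma M :=
    sigma_of_dvd_sigmaCore hq.out (hX ▸ card_dvd_of_le (hXC.trans inf_le_left))
  have hqp : q ≠ p := fun h => hpσ (h ▸ hqσ)
  have hPX : P ≤ centralizer (X : Set G) := le_centralizer_iff.1 (hXC.trans inf_le_right)
  have hMN := inf_normalizer_le_centralizer_of_not_dvd hP hPM hpM'
  have hPp := isPGroup_of_prime_card hP
  have hNC : ¬ normalizer (P : Set G) ≤ centralizer (P : Set G) := by
    intro hle
    obtain ⟨S, hPS⟩ := hPp.exists_le_sylow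
    set S' := (S : Subgroup G)
    have hSc : IsCyclic S' := hcyc S' S.2
    haveI : IsMulCommutative S' := by
      letI := hSc.commGroup (α := S')
      exact ⟨⟨mul_comm⟩⟩
    refine not_le_centralizer_normalizer_sylow hG S hPS (ne_bot_of_prime_card hP) ?_
    refine le_trans (fun g hg => ?_) hle
    refine mem_normalizer_of_map_le (le_of_eq (eq_of_card_eq_of_le_cyclic hSc ?_ hPS
      (card_map_of_injective (MulAut.conj g).injective)))
    rintro _ ⟨x, hx, rfl⟩
    exact (mem_normalizer_iff.1 hg x).1 (hPS hx)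
  have hno : ∀ A : Subgroup G, IsPGroup q A → A ≤ M → A ≤ centralizer (P : Set G) → IsCyclic A := by
    intro A hA hAM hAP
    by_contra hAc
    obtain ⟨T, hT, hAT⟩ := exists_isMaxPIn_ge hAP hA
    set U := T ⊓ M
    have hUc : ¬ IsCyclic U := fun h => by
      haveI := h
      exact hAc (isCyclic_of_injective (Subgroup.inclusion (le_inf hAT hAM : A ≤ U))
        (Subgroup.inclusion_injective _))
    have hAC : ∀ B : Subgroup G, B ≤ M → Cfsg.IsElementaryAbelian q B → Nat.card B = q ^ 2 →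
        centralizer (B : Set G) ≤ M := fun B hB hBe hB2 =>
      centralizer_elementary_le hG hM hB hBe hB2
    have hNU := normalizer_le_of_noncyclic hG hM hqσ hAC (hT.pgroup.to_le inf_le_left)
      inf_le_right hUc
    have hTM : T ≤ M := by
      rcases (inf_le_left : U ≤ T).eq_or_lt with h | h
      · exact h ▸ inf_le_right
      · exact absurd (le_inf (le_inf inf_le_left ((inf_le_right).trans hNU)) le_rfl |>.trans
          inf_le_left) (lt_inf_normalizer hT.pgroup h).not_ge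
    have hNT : normalizer (T : Set G) ≤ M := by
      refine normalizer_le_of_noncyclic hG hM hqσ hAC hT.pgroup hTM fun h => hAc ?_
      haveI := h
      exact isCyclic_of_injective (Subgroup.inclusion hAT) (Subgroup.inclusion_injective _)
    refine hNC ((frattini_le hT (centralizer_le_normalizer _)
      (normalizer_le_normalizer_centralizer P)).trans (sup_le le_rfl (le_trans ?_ hMN)))
    exact le_inf (inf_le_right.trans hNT) inf_le_left
  obtain ⟨L, hL, hNL⟩ := exists_isCoatom_ge (normalizer_ne_top hG hX1 (isPGroup_ne_top hG hXq))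
  have hPL : P ≤ L := hPX.trans ((centralizer_le_normalizer _).trans hNL)
  have hkey : L ≠ M → ∃ K : Subgroup G, L ≤ normalizer (K : Set G) ∧
      (∀ s : ℕ, s.Prime → s ∣ Nat.card K → s ∉ Cfsg.sigma M) ∧ L ≤ K ⊔ (M ⊓ L) ∧
      ¬ p ∣ Nat.card K ∧ L ⊓ normalizer (P : Set G) ≤ centralizer (P : Set G) := by
    intro hLM
    have hAC : ∀ B : Subgroup G, B ≤ M → Cfsg.IsElementaryAbelian q B → Nat.card B = q ^ 2 →
        centralizer (B : Set G) ≤ M := fun B hB hBe hB2 =>
      centralizer_elementary_le hG hM hB hBe hB2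
    obtain ⟨K, hLK, hKL, hKσ, hLle, hK⟩ := exists_sigma'_supplement hG hM hqσ hAC
      (fun L hL hqL B hB hBe hB2 => ⟨(tau2_facts hG hL hqL hB hBe hB2).1,
        (tau2_facts hG hL hqL hB hBe hB2).2.1⟩) hXq hX1 hXM hL hLM hNL
    have hpK : ¬ p ∣ Nat.card K := by
      intro hpK
      rcases hK with rfl | ⟨rfl, hqL, B, hBM, hBL, hBe, hB2⟩
      · refine (piCoreOf_isPiSubgroup _ L p hp.out hpK).2.2.1 fun B hBc hBe => ?_
        have hBp : IsPGroup p B := isPGroup_of_exp hBe
        haveI := hcyc B hBp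
        obtain ⟨b, hb⟩ := IsCyclic.exists_generator (α := B)
        rw [← orderOf_eq_card_of_forall_mem_zpowers hb]
        exact (Nat.le_of_dvd hp.out.pos (orderOf_dvd_of_pow_eq_one
          (Subtype.ext (hBe b b.2)))).trans (Nat.le_self_pow two_ne_zero p)
      obtain ⟨hnil, -, hfix⟩ := tau2_facts hG hL hqL hBL hBe hB2
      obtain ⟨S, hS, hXS⟩ := exists_isMaxPIn_ge (le_inf hXM (le_normalizer.trans hNL)) hXq
      obtain ⟨hconj, -, -⟩ := sigma_subgroup_embedding hG hM hqσ hAC hXq hX1 hXM hLM hNL hS hXS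
      have hPK : P ≤ Cfsg.sigmaCore L :=
        le_sigmaCore_of_pgroup hG hL (sigma_of_dvd_sigmaCore hp.out hpK) hPp hPL
      have hdisj := sigmaCore_inf_eq_bot_of_nilpotent hG hM hL hnil fun g e => hconj g e.symm
      refine ne_bot_of_prime_card hP (le_bot_iff.1 (hfix ▸ le_inf hPK fun x hx => ?_))
      exact mem_centralizer_of_core hG hM hqσ hdisj (hBL.trans hLK) (isPGroup_of_exp hBe.2) hBM
        (hPK hx) (hPM hx)
    refine ⟨K, hLK, hKσ, hLle, hpK,
      inf_normalizer_le_centralizer_of_not_dvd hP hPL fun hd => ?_⟩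
    rcases dvd_commutator_supplement hKL hLK inf_le_right hLle hp.out hd with h | h
    · exact hpK h
    · exact hpM' (h.trans (card_dvd_of_le (commutator_mono inf_le_left inf_le_left)))
  obtain ⟨T, hT, hXT⟩ := exists_isMaxPIn_ge (hXC.trans inf_le_right) hXq
  by_cases hTc : IsCyclic T
  · obtain ⟨w, hw, hwC⟩ : ∃ w ∈ normalizer (P : Set G) ⊓ normalizer (T : Set G),
        w ∉ centralizer (P : Set G) := by
      by_contra hcon
      push Not at hcon
      exact hNC ((frattini_le hT (centralizer_le_normalizer _)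
        (normalizer_le_normalizer_centralizer P)).trans (sup_le le_rfl hcon))
    have hwX : w ∈ normalizer (X : Set G) := by
      refine mem_normalizer_of_map_le (le_of_eq (eq_of_card_eq_of_le_cyclic hTc ?_ hXT
        (card_map_of_injective (MulAut.conj w).injective)))
      rintro _ ⟨x, hx, rfl⟩
      exact (mem_normalizer_iff.1 hw.2 x).1 (hXT hx)
    by_cases hLM : L = M
    · exact hwC (hMN ⟨hLM ▸ hNL hwX, hw.1⟩)
    · obtain ⟨K, -, -, -, -, hLN⟩ := hkey hLM
      exact hwC (hLN ⟨hNL hwX, hw.1⟩)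
  · have hq2 : q ≠ 2 := prime_ne_two_of_dvd_card hG hqσ.2.1
    have hWc : ¬ IsCyclic ↥(T ⊓ centralizer (X : Set G)) := by
      intro hW
      obtain ⟨z, -, hz, hzo⟩ := PGroup.exists_central_orderOf_eq hT.pgroup ⊤ fun h => by
        have h1 : Nat.card T = 1 := by rw [← Subgroup.card_top, h, Subgroup.card_bot]
        have h2 := Subgroup.card_le_of_le hXT
        rw [h1, hX] at h2
        exact absurd hq.out.one_lt h2.not_gt
      have hzT : T ≤ centralizer (zpowers (z : G) : Set G) := by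
        intro t ht y hy
        obtain ⟨i, rfl⟩ := mem_zpowers_iff.1 hy
        exact ((show Commute (z : G) t from
          (congrArg Subtype.val (mem_center_iff.1 hz ⟨t, ht⟩)).symm).zpow_left i).eq
      have hXc : X ≤ centralizer (X : Set G) := by
        haveI : IsCyclic X := isCyclic_of_prime_card hX
        exact le_centralizer_iff_isMulCommutative.2 inferInstance
      have he : zpowers (z : G) = X := eq_of_card_eq_of_le_cyclic hW
        (zpowers_le.2 ⟨z.2, le_centralizer_iff.1 (hXT.trans hzT) (mem_zpowers _)⟩)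
        (le_inf hXT hXc) (by rw [Nat.card_zpowers, Subgroup.orderOf_coe, hzo, hX])
      rw [inf_eq_left.2 (he ▸ hzT)] at hW
      exact hTc hW
    obtain ⟨A, hAW, hA, hA2⟩ := exists_elementary_sq hq2 (hT.pgroup.to_le inf_le_left) hWc
    have hAP : A ≤ centralizer (P : Set G) := (hAW.trans inf_le_left).trans hT.le
    have hAN : A ≤ L :=
      ((hAW.trans inf_le_right).trans (centralizer_le_normalizer _)).trans hNL
    by_cases hLM : L = M
    · exact not_le_cyclic hA hA2 le_rfl (hno A (isPGroup_of_exp hA.2) (hLM ▸ hAN) hAP)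
    obtain ⟨K, hLK, hKσ, hLle, hpK, hLN⟩ := hkey hLM
    obtain ⟨l, hlL, hl⟩ := exists_conj_into (Y := A ⊔ P) (isSolvable_of_ne_top hG hL.1) hLK
      inf_le_right hLle (sup_le hAN hPL) fun r hr hd hrK => by
        have h1 := hd.trans (card_sup_dvd_mul_of_le_normalizer
          ((le_centralizer_iff.1 hAP).trans (centralizer_le_normalizer _)))
        rcases hr.dvd_mul.1 h1 with h | h
        · rw [hA2] at h
          exact hKσ r hr hrK
            (((Nat.prime_dvd_prime_iff_eq hr hq.out).1 (hr.dvd_of_dvd_pow h)).symm ▸ hqσ)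
        · rw [hP, Nat.prime_dvd_prime_iff_eq hr hp.out] at h
          exact hpK (h ▸ hrK)
    set J := M ⊓ L
    obtain ⟨S, hS, hPS⟩ := exists_isMaxPIn_ge (le_inf hPM hPL : P ≤ J) hPp
    obtain ⟨j, hj, hjS⟩ := hS.exists_conj_mem (hPp.map _) ((map_mono le_sup_right).trans hl)
    have hmapP : P.map (MulAut.conj (j * l)).toMonoidHom = P := by
      refine eq_of_card_eq_of_le_cyclic (hcyc S hS.pgroup) ?_ hPS
        (card_map_of_injective (MulAut.conj _).injective)
      rw [← map_conj_map_conj]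
      rintro _ ⟨x, hx, rfl⟩
      exact hjS x hx
    have hjl : j * l ∈ centralizer (P : Set G) :=
      hLN ⟨mul_mem hj.2 hlL, mem_normalizer_of_map_le hmapP.le⟩
    set A' := A.map (MulAut.conj (j * l)).toMonoidHom
    have hA'M : A' ≤ M := by
      rw [show A' = (A.map (MulAut.conj l).toMonoidHom).map (MulAut.conj j).toMonoidHom from
        (map_conj_map_conj _ _ _).symm]
      rintro _ ⟨a, ha, rfl⟩
      have h1 := ((map_mono le_sup_left).trans hl) ha
      exact (M.mul_mem (M.mul_mem hj.1 h1.1) (M.inv_mem hj.1) :)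
    have hA'P : A' ≤ centralizer (P : Set G) := by
      rintro _ ⟨a, ha, rfl⟩
      exact mul_mem (mul_mem hjl (hAP ha)) (inv_mem hjl)
    haveI := hA.1
    refine not_le_cyclic (A := A') (p := q) ⟨map_isMulCommutative A _, ?_⟩ ?_ le_rfl
      (hno A' ((isPGroup_of_exp hA.2).map _) hA'M hA'P)
    · rintro _ ⟨a, ha, rfl⟩
      rw [← map_pow, hA.2 a ha, map_one]
    · rw [card_map_of_injective (MulAut.conj _).injective, hA2]

/-- A `v`-moved `σ(M)`-group centralised by a subgroup of order `p` makes `p` ideal. -/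
theorem ideal_of_pair {p q : ℕ} [hp : Fact p.Prime] [hq : Fact q.Prime] (hpσ : p ∉ Cfsg.sigma M)
    (hr : Cfsg.PRankLE p 1 M) (hpM' : ¬ p ∣ Nat.card ↥⁅M, M⁆) {P : Subgroup G}
    (hP : Nat.card P = p) (hPM : P ≤ M) {Y : Subgroup G} (hY : IsPGroup q Y) (hY1 : Y ≠ ⊥)
    (hYC : Y ≤ Cfsg.sigmaCore M ⊓ centralizer (P : Set G)) {v : G}
    (hvP : v ∈ centralizer (P : Set G)) (hYv : ⁅Y, zpowers v⁆ = Y) :
    Cfsg.IsIdealPrime p G := by
  by_contra hid
  have hqσ : q ∈ Cfsg.sigma M := sigma_of_dvd_sigmaCore hq.out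
    ((dvd_card_of_isPGroup hY hY1).trans (card_dvd_of_le (hYC.trans inf_le_left)))
  obtain ⟨H, hH, hNP⟩ := exists_isCoatom_ge (normalizer_ne_top hG (ne_bot_of_prime_card hP)
    (isPGroup_ne_top hG (isPGroup_of_prime_card hP)))
  obtain ⟨hne, hconj, -⟩ := overgroup_normalizer hG hM hpσ hr hP hNP
  by_cases hpH : p ∈ Cfsg.sigma H
  swap
  · obtain ⟨⟨h2, h1⟩, -⟩ := rank_two_of_normalizer_le hG hH hpH hP hNP
    exact tau2_pair hG hM hpσ hP hPM hH (fun g e => hconj g e.symm) ⟨hp.out, hpH, h2, h1⟩ hNP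
      hY hY1 hYC hvP hYv
  obtain ⟨X, hXY, hX⟩ := exists_le_card_prime hY hY1
  by_cases hcyc : ∀ S : Subgroup G, IsPGroup p S → IsCyclic S
  · exact cyclic_false hG hM hpσ hpM' hP hPM hcyc hX (hXY.trans hYC)
  push Not at hcyc
  obtain ⟨S₁, hS₁, hS₁c⟩ := hcyc
  have hCH : centralizer (P : Set G) ≤ H := (centralizer_le_normalizer _).trans hNP
  have hYH' : Y ≤ ⁅H, H⁆ := hYv.ge.trans (commutator_mono ((hYC.trans inf_le_right).trans hCH)
    (zpowers_le.2 (hCH hvP)))
  obtain ⟨S₀, hS₀, -⟩ := exists_isMaxPIn_ge (hCH.trans' (le_centralizer_iff_isMulCommutative.2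
    (by haveI : IsCyclic P := isCyclic_of_prime_card hP; infer_instance)))
    (isPGroup_of_prime_card hP)
  have hS₀' : S₀ ≤ ⁅H, H⁆ := le_commutator_of_sigma hG hH hpH hS₀
  have hqβ : q ∉ Cfsg.beta H := fun h =>
    not_mem_sigma_of_alpha hG hH hM (fun g e => hconj g e.symm) h.1 hqσ
  have hpβ : p ∉ Cfsg.beta H := fun h => hid h.2
  set π : Set ℕ := {r | r.Prime ∧ r ∉ Cfsg.beta H}
  obtain ⟨N, hN, hNnil⟩ := (Cfsg.Agent.S1414.result hG H hH).2.2.1
  haveI := isSolvable_of_ne_top hG hH.1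
  haveI : Group.IsSolvable ↥⁅H, H⁆ :=
    Group.isSolvable_of_isSolvable_injective (Subgroup.inclusion_injective (commutator_le_self H))
  have hNh := Solvable.isPiHall_of_isPiHallOf hN
  have hconjN : ∀ Z : Subgroup G, Z ≤ ⁅H, H⁆ → Cfsg.IsPiSubgroup π Z →
      ∃ d : G, Z.map (MulAut.conj d).toMonoidHom ≤ N := by
    intro Z hZ hZπ
    obtain ⟨d, hd⟩ := Solvable.exists_conj_le_isPiHall hNh (K := Z.subgroupOf ⁅H, H⁆)
      fun r hr hrd => hZπ r hr (by rwa [Nat.card_congr (subgroupOfEquivOfLe hZ).toEquiv] at hrd)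
    refine ⟨d, ?_⟩
    rintro _ ⟨z, hz, rfl⟩
    exact mem_subgroupOf.1 (hd (smul_mem_pointwise_smul _ _ _
      (mem_subgroupOf.2 hz : (⟨z, hZ hz⟩ : ↥⁅H, H⁆) ∈ Z.subgroupOf ⁅H, H⁆)))
  obtain ⟨d₁, hd₁⟩ := hconjN S₀ hS₀' fun r hr hd => by
    obtain ⟨n, hn⟩ := hS₀.pgroup.exists_card_eq
    rw [(Nat.prime_dvd_prime_iff_eq hr hp.out).1 (hr.dvd_of_dvd_pow (hn ▸ hd))]
    exact ⟨hp.out, hpβ⟩
  obtain ⟨d₂, hd₂⟩ := hconjN Y hYH' fun r hr hd => by
    obtain ⟨n, hn⟩ := hY.exists_card_eq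
    rw [(Nat.prime_dvd_prime_iff_eq hr hq.out).1 (hr.dvd_of_dvd_pow (hn ▸ hd))]
    exact ⟨hq.out, hqβ⟩
  set S₂ := S₀.map (MulAut.conj d₁).toMonoidHom
  have hS₂c : ¬ IsCyclic S₂ := by
    intro h
    apply hS₁c
    have hmx := isMaxPIn_top_of_sigma hpH hS₀
    let Q : Sylow p G := ⟨S₀, hS₀.pgroup, fun {R} hR hle => hmx.max R hR hle le_top⟩
    obtain ⟨S', hS'⟩ := hS₁.exists_le_sylow
    haveI : IsCyclic (Q : Subgroup G) := isCyclic_of_surjective _
      (S₀.equivMapOfInjective (MulAut.conj d₁).toMonoidHom (MulAut.conj d₁).injective).symm.surjective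
    haveI : IsCyclic (S' : Subgroup G) := isCyclic_of_surjective _ (Q.equiv S').surjective
    exact isCyclic_of_injective (Subgroup.inclusion hS') (Subgroup.inclusion_injective _)
  obtain ⟨A, hAS, hA, hA2⟩ := exists_elementary_sq (prime_ne_two_of_dvd_card hG hpH.2.1)
    (hS₀.pgroup.map _) hS₂c
  have hqp : q ≠ p := fun h => hpσ (h ▸ hqσ)
  set c := (MulAut.conj d₂⁻¹).toMonoidHom
  have hAY : A.map c ≤ centralizer (Y : Set G) := by
    rintro _ ⟨a, ha, rfl⟩ y hy
    have h1 : a * (MulAut.conj d₂ y) = MulAut.conj d₂ y * a :=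
      CN.commute_of_nilpotent (p := p) (q := q) hqp.symm hNnil (hd₁ (hAS ha))
        (hd₂ (mem_map_of_mem _ hy)) (CN.pElem_of_mem (hS₀.pgroup.map _) (hAS ha))
        (CN.pElem_of_mem (hY.map (MulAut.conj d₂).toMonoidHom)
          (mem_map_of_mem (MulAut.conj d₂).toMonoidHom hy))
    show y * MulAut.conj d₂⁻¹ a = MulAut.conj d₂⁻¹ a * y
    have h2 := congrArg (MulAut.conj d₂⁻¹) h1
    rw [map_mul, map_mul] at h2
    simpa [mul_assoc] using h2.symm
  haveI := hA.1
  obtain ⟨⟨x, hxP⟩, hx⟩ := exists_prime_orderOf_dvd_card' (G := P) p (hP ▸ dvd_rfl)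
  rw [orderOf_mk] at hx
  refine false_of_elementary_centralizer hG hM hpσ hqσ hX
    ((hXY.trans (hYC.trans inf_le_left)).trans (piCoreOf_le _ _)) (x := x)
    (fun h => hp.out.ne_one (hx ▸ h ▸ orderOf_one))
    ((isPGroup_of_prime_card hP).to_le (zpowers_le.2 hxP)) (hPM hxP)
    (centralizer_le_normalizer _ (le_centralizer_iff.1 (hXY.trans (hYC.trans inf_le_right)) hxP))
    (A := A.map c) ⟨map_isMulCommutative A c, ?_⟩ ?_ (hAY.trans (centralizer_le hXY)) hid
  · rintro _ ⟨a, ha, rfl⟩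
    rw [← map_pow, hA.2 a ha, map_one]
  · rw [card_map_of_injective (MulAut.conj d₂⁻¹).injective, hA2]

/-- The overgroup `H` of `N(P)` for an ideal prime `p`: `q ∈ σ(H)`, the moved group centralises a
noncyclic `p`-group, and `P` centralises the Sylow `q`-subgroups of `M ⊓ H` over `Y`, which are
Sylow subgroups of `G`. -/
theorem ideal_pair {p q s : ℕ} [hp : Fact p.Prime] [hq : Fact q.Prime] [hs : Fact s.Prime]
    (hpσ : p ∉ Cfsg.sigma M) (hr : Cfsg.PRankLE p 1 M) {P : Subgroup G} (hP : Nat.card P = p)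
    (hPM : P ≤ M) (hid : Cfsg.IsIdealPrime p G) {H : Subgroup G} (hH : IsCoatom H)
    (hNP : normalizer (P : Set G) ≤ H) {Y : Subgroup G} (hY : IsPGroup q Y) (hY1 : Y ≠ ⊥)
    (hYC : Y ≤ Cfsg.sigmaCore M ⊓ centralizer (P : Set G)) {v : G} (hvM : v ∈ M)
    (hvP : v ∈ centralizer (P : Set G)) (hvo : orderOf v = s) (hsq : s ≠ q)
    (hYv : ⁅Y, zpowers v⁆ = Y) :
    q ∈ Cfsg.sigma H ∧
      (∃ S : Subgroup G, IsPGroup p S ∧ ¬ IsCyclic S ∧ S ≤ centralizer (Y : Set G)) ∧
      ∀ U : Subgroup G, IsMaxPIn q (M ⊓ H) U → Y ≤ U →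
        IsMaxPIn q ⊤ U ∧ U ≤ centralizer (P : Set G) := by
  have hPp := isPGroup_of_prime_card hP
  have hqσ : q ∈ Cfsg.sigma M := sigma_of_dvd_sigmaCore hq.out
    ((dvd_card_of_isPGroup hY hY1).trans (card_dvd_of_le (hYC.trans inf_le_left)))
  have hqp : q ≠ p := fun h => hpσ (h ▸ hqσ)
  obtain ⟨hne, hconj, -⟩ := overgroup_normalizer hG hM hpσ hr hP hNP
  have hconj' : ∀ g : G, M.map (MulAut.conj g).toMonoidHom ≠ H := fun g e => hconj g e.symm
  have hYM : Y ≤ M := (hYC.trans inf_le_left).trans (piCoreOf_le _ _)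
  have hCH : centralizer (P : Set G) ≤ H := (centralizer_le_normalizer _).trans hNP
  have hYH : Y ≤ H := (hYC.trans inf_le_right).trans hCH
  have hvH : v ∈ H := hCH hvP
  obtain ⟨X, hXY, hX⟩ := exists_le_card_prime hY hY1
  have hvp : IsPGroup s (zpowers v) := IsPGroup.of_card (n := 1) (by rw [Nat.card_zpowers, hvo, pow_one])
  have hsp : s ≠ p := by
    rintro rfl
    have hvP' := mem_of_rank_one hr hP hPM hvM hvP (by rw [← hvo, pow_orderOf_eq_one])
    exact hY1 (hYv.symm.trans (commutator_eq_bot_iff_le_centralizer.2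
      ((hYC.trans inf_le_right).trans (centralizer_le (zpowers_le.2 hvP')))))
  have hpH : p ∈ Cfsg.sigma H := by
    by_contra h
    obtain ⟨⟨h2, h1⟩, -⟩ := rank_two_of_normalizer_le hG hH h hP hNP
    exact not_idealPrime hG hH h2 h1 hid
  obtain ⟨T₀, hT₀, -⟩ := exists_isMaxPIn_ge (le_normalizer.trans hNP) hPp
  have hmx := isMaxPIn_top_of_sigma hpH hT₀
  let Q₀ : Sylow p G := ⟨T₀, hT₀.pgroup, fun {R} hR hle => hmx.max R hR hle le_top⟩
  have hpβ : p ∈ Cfsg.beta H :=
    ⟨⟨hp.out, fun h => hid.2.1 (pRankLE_of_sylow Q₀ (TwoFusion.PRank.pRankLE_mono hT₀.le h))⟩, hid⟩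
  have hqβ : q ∉ Cfsg.beta H := fun h => not_mem_sigma_of_alpha hG hH hM hconj' h.1 hqσ
  have hYa : IsMulCommutative Y := by
    by_contra h
    exact hne (ExistsUnique.unique (nonabelian_inUniqueMaximal hG hY h) ⟨hH, hYH⟩ ⟨hM, hYM⟩)
  have hsσ : s ∉ Cfsg.sigma H := by
    intro h
    have hvσ : v ∈ Cfsg.sigmaCore H :=
      le_sigmaCore_of_pgroup hG hH h hvp (zpowers_le.2 hvH) (mem_zpowers v)
    have h1 : Y ≤ Cfsg.sigmaCore H := by
      refine hYv.ge.trans ((commutator_mono le_rfl (zpowers_le.2 hvσ)).trans ?_)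
      rw [commutator_comm]
      exact Solvable.commutator_le_of_normalizes (hYH.trans (le_normalizer_piCoreOf _ _))
    exact false_of_sigma_derived hG hM hH hne hqσ hX (hXY.trans hYM)
      (hXY.trans (hYv.ge.trans (commutator_mono h1 (zpowers_le.2 hvσ))))
  set K := Cfsg.piCoreOf (Cfsg.beta H) H with hK
  have hPK : P ≤ K := by
    obtain ⟨S, hS⟩ := (hPp.of_equiv
      (subgroupOfEquivOfLe ((le_normalizer).trans hNP)).symm).exists_le_sylow
    refine (map_subgroupOf_eq_of_le ((le_normalizer).trans hNP)).ge.trans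
      (map_mono (hS.trans (sylow_le_betaCore hG hH hpβ S)))
  have hvY : v ∈ normalizer (Y : Set G) := by
    rw [← hYv]
    exact Solvable.le_normalizer_commutator_right Y (zpowers v) (mem_zpowers v)
  set A := Y ⊔ zpowers v
  have hAK : A ≤ normalizer (K : Set G) :=
    (sup_le hYH (zpowers_le.2 hvH)).trans (le_normalizer_piCoreOf _ _)
  have hcop : (Nat.card A).Coprime (Nat.card K) := by
    refine Nat.coprime_of_dvd fun r hr h1 h2 => ?_
    have h3 := h1.trans (card_sup_dvd_mul_of_le_normalizer (zpowers_le.2 hvY))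
    have hrβ := piCoreOf_isPiSubgroup _ H r hr h2
    rcases hr.dvd_mul.1 h3 with h | h
    · obtain ⟨n, hn⟩ := hY.exists_card_eq
      exact hqβ ((Nat.prime_dvd_prime_iff_eq hr hq.out).1 (hr.dvd_of_dvd_pow (hn ▸ h)) ▸ hrβ)
    · rw [Nat.card_zpowers, hvo, Nat.prime_dvd_prime_iff_eq hr hs.out] at h
      exact hsσ (alpha_subset_sigma hG hH (h ▸ hrβ.1))
  haveI := isSolvable_of_ne_top hG hH.1
  have hKs : Group.IsSolvable K :=
    Group.isSolvable_of_isSolvable_injective (Subgroup.inclusion_injective (piCoreOf_le _ _))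
  obtain ⟨S₀, hPS, hSA⟩ := Solvable.exists_invariant_sylow_ge hAK hcop (Or.inr hKs) p hPK hPp
    ((sup_le (hYC.trans inf_le_right) (zpowers_le.2 hvP)).trans (centralizer_le_normalizer _))
  set S := (S₀ : Subgroup K).map K.subtype with hS
  have hSmax : IsMaxPIn p H S := by
    refine ⟨(map_subtype_le _).trans (piCoreOf_le _ _), S₀.2.map _, fun R hR hle hRH => ?_⟩
    refine (isMaxPIn_of_sylow S₀).max R hR hle ?_
    obtain ⟨T, hT⟩ := (hR.of_equiv (subgroupOfEquivOfLe hRH).symm).exists_le_sylow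
    exact (map_subgroupOf_eq_of_le hRH).ge.trans
      (map_mono (hT.trans (sylow_le_betaCore hG hH hpβ T)))
  have hSc : ¬ IsCyclic S := by
    intro hc
    haveI := hc
    have hmx' := isMaxPIn_top_of_sigma hpH hSmax
    let Q : Sylow p G := ⟨S, hSmax.pgroup, fun {R} hR hle => hmx'.max R hR hle le_top⟩
    haveI : IsCyclic (Q : Subgroup G) := hc
    refine hid.2.1 (pRankLE_of_sylow Q fun B hB hBp => ?_)
    obtain ⟨b, hb⟩ := IsCyclic.exists_generator (α := B)
    rw [← orderOf_eq_card_of_forall_mem_zpowers hb]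
    exact (Nat.le_of_dvd hp.out.pos (orderOf_dvd_of_pow_eq_one
      (Subtype.ext (by rw [SubgroupClass.coe_pow]; exact hBp b b.2)))).trans
        (Nat.le_self_pow two_ne_zero p)
  have hPv : P ≤ centralizer ({v} : Set G) := fun x hx =>
    mem_centralizer_singleton_iff.2 (hvP x hx)
  have hSY : S ≤ centralizer (Y : Set G) := by
    by_cases hc : IsCyclic ↥(S ⊓ centralizer ({v} : Set G))
    · haveI := hYa
      exact le_centralizer_of_fixed_cyclic (P := P) (prime_ne_two_of_dvd_card hG hpH.2.1)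
        (prime_ne_two_of_dvd_card hG hqσ.2.1) hsq.symm hqp hsp hSmax.pgroup hY
        (by rw [← hvo, pow_orderOf_eq_one]) ((le_sup_left).trans hSA)
        (hSA (mem_sup_right (mem_zpowers v))) hvY hYv hc hP hPS hPv
        (le_centralizer_iff.1 (le_centralizer_iff.1 (hYC.trans inf_le_right)))
    exfalso
    set W := S ⊓ centralizer ({v} : Set G)
    have hWU := inUniqueMaximal_of_ideal hG hid (hSmax.pgroup.to_le inf_le_left) hc
    have hv1 : zpowers v ≠ ⊥ := fun h => hs.out.ne_one (by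
      rw [← hvo, ← Nat.card_zpowers, h, card_bot])
    have hWN : W ≤ normalizer (zpowers v : Set G) := by
      refine inf_le_right.trans (le_trans ?_ (centralizer_le_normalizer _))
      rw [zpowers_eq_closure, centralizer_closure]
    have hNv : normalizer (zpowers v : Set G) ≤ H := le_of_inUniqueMaximal hWU hH
      (inf_le_left.trans hSmax.le) (normalizer_ne_top hG hv1 (isPGroup_ne_top hG hvp)) hWN
    obtain ⟨⟨h2, h1⟩, B, hB, hB2, hvB⟩ := rank_two_of_normalizer_le hG hH hsσ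
      (by rw [Nat.card_zpowers, hvo]) hNv
    haveI := hB.1
    have hBC : B ≤ centralizer (zpowers v : Set G) := fun b hb x hx =>
      setLike_mul_comm (hvB hx) hb
    have hBH : B ≤ H := (hBC.trans (centralizer_le_normalizer _)).trans hNv
    obtain ⟨hnil, hW, -⟩ := tau2_facts hG hH ⟨hs.out, hsσ, h2, h1⟩ hBH hB hB2
    set W' := Cfsg.sigmaCore H ⊔ B
    have hYW : Y ≤ W' := by
      refine hYv.ge.trans ((commutator_mono le_rfl (hvB.trans (le_sup_right : B ≤ W'))).trans ?_)
      rw [commutator_comm]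
      exact Solvable.commutator_le_of_normalizes (hYH.trans hW)
    have hqH : q ∈ Cfsg.sigma H := by
      have h3 := ((dvd_card_of_isPGroup hY hY1).trans (card_dvd_of_le hYW)).trans
        (card_sup_dvd_mul_of_le_normalizer (hBH.trans (le_normalizer_piCoreOf _ _)))
      rcases hq.out.dvd_mul.1 h3 with h | h
      · exact sigma_of_dvd_sigmaCore hq.out h
      · rw [hB2] at h
        exact absurd ((Nat.prime_dvd_prime_iff_eq hq.out hs.out).1 (hq.out.dvd_of_dvd_pow h)) hsq.symm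
    exact sigma_disjoint_of_nilpotent hG hH hM hconj' hnil hqH hqσ
  have hXq := isPGroup_of_prime_card hX
  have hNX : normalizer (X : Set G) ≤ H := by
    refine le_of_inUniqueMaximal (inUniqueMaximal_of_ideal hG hid hSmax.pgroup hSc) hH hSmax.le
      (normalizer_ne_top hG (ne_bot_of_prime_card hX) (isPGroup_ne_top hG hXq)) ?_
    exact (hSY.trans (centralizer_le hXY)).trans (centralizer_le_normalizer _)
  have hAC : ∀ B : Subgroup G, B ≤ M → Cfsg.IsElementaryAbelian q B → Nat.card B = q ^ 2 →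
      centralizer (B : Set G) ≤ M := fun B hB hBe hB2 => centralizer_elementary_le hG hM hB hBe hB2
  have hemb : ∀ U : Subgroup G, IsMaxPIn q (M ⊓ H) U → Y ≤ U → IsMaxPIn q H U := fun U hU hYU =>
    (sigma_subgroup_embedding hG hM hqσ hAC hXq (ne_bot_of_prime_card hX) (hXY.trans hYM) hne hNX
      hU (hXY.trans hYU)).2.2
  have hqH : q ∈ Cfsg.sigma H := by
    by_contra h
    obtain ⟨⟨h2, h1⟩, -⟩ := rank_two_of_normalizer_le hG hH h hX hNX
    obtain ⟨T, hT, hYT⟩ := exists_isMaxPIn_ge (le_inf hYM hYH) hY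
    have hTH := hemb T hT hYT
    obtain ⟨B, hBT, hB, hB2⟩ := exists_elementary_two fun h3 => h1 (pRankLE_of_isMaxPIn hTH h3)
    obtain ⟨hnil, -, hfix⟩ := tau2_facts hG hH ⟨hq.out, h, h2, h1⟩ (hBT.trans hTH.le) hB hB2
    have hPσ : P ≤ Cfsg.sigmaCore H :=
      le_sigmaCore_of_pgroup hG hH hpH hPp (le_normalizer.trans hNP)
    refine ne_bot_of_prime_card hP (le_bot_iff.1 (hfix ▸ le_inf hPσ fun x hx => ?_))
    exact mem_centralizer_of_core hG hM hqσ (sigmaCore_inf_eq_bot_of_nilpotent hG hM hH hnil hconj')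
      ((hBT.trans hTH.le).trans (le_normalizer_piCoreOf _ _)) (isPGroup_of_exp hB.2)
      ((hBT.trans hT.le).trans inf_le_left) (hPσ hx) (hPM hx)
  refine ⟨hqH, ⟨S, hSmax.pgroup, hSc, hSY⟩, fun U hU hYU =>
    ⟨isMaxPIn_top_of_sigma hqH (hemb U hU hYU), le_centralizer_iff.1 fun x hx => ?_⟩⟩
  exact mem_centralizer_of_core hG hM hqσ (betaCore_inf_eq_bot hG hM hH hconj')
    ((hU.le.trans inf_le_right).trans (le_normalizer_piCoreOf _ _)) hU.pgroup
    (hU.le.trans inf_le_left) (hPK hx) (hPM hx)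

end CfsgLib.OddOrder
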