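import Cfsg.Agent.Lib.OddOrder.Section12
import Cfsg.Agent.Lib.OddOrder.SemiPrimeIdeal
import Cfsg.Agent.Lib.OddOrder.KappaBasic
import Cfsg.Agent.Lib.OddOrder.FittingHallSigma
import Cfsg.Agent.Lib.CN.Nilpotent

/-!
BG 14.4: for `x ∈ M_σ` the group `C(x)` permutes the conjugates of `M` containing `x` through a
normal complement to `C_M(x)`.
-/

set_option autoImplicit false
set_option linter.style.haveILetI false

open scoped Pointwise

namespace CfsgLib.OddOrder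

open Subgroup

variable {G : Type*} [Group G] [Finite G]

omit [Finite G] in
/-- Factor of a product in a complemented pair, with the normal factor first. -/
theorem mem_centralizer_of_mul_mem {A B : Subgroup G} (hdis : A ⊓ B = ⊥) {x a b : G}
    (hxA : x ∈ A) (hBn : A ≤ normalizer (B : Set G)) (ha : a ∈ A) (hb : b ∈ B)
    (h : a * b * x = x * (a * b)) : a * x = x * a ∧ b * x = x * b := by
  have h1 : x⁻¹ * b * x ∈ B := by
    simpa using (mem_normalizer_iff.1 (hBn (inv_mem hxA)) b).1 hb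
  have e : a⁻¹ * (x⁻¹ * a * x) = b * (x⁻¹ * b * x)⁻¹ := by
    have e1 : x⁻¹ * a * x * (x⁻¹ * b * x) = a * b := by
      have : x⁻¹ * (a * b * x) = a * b := by rw [h]; group
      rw [← this]; group
    calc a⁻¹ * (x⁻¹ * a * x)
        = a⁻¹ * (x⁻¹ * a * x * (x⁻¹ * b * x)) * (x⁻¹ * b * x)⁻¹ := by group
      _ = b * (x⁻¹ * b * x)⁻¹ := by rw [e1]; group
  have h2 : a⁻¹ * (x⁻¹ * a * x) ∈ A ⊓ B :=
    mem_inf.2 ⟨mul_mem (inv_mem ha) (mul_mem (mul_mem (inv_mem hxA) ha) hxA),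
      e ▸ mul_mem hb (inv_mem h1)⟩
  rw [hdis, mem_bot] at h2
  refine ⟨?_, ?_⟩
  · have h3 : a = x⁻¹ * a * x := inv_mul_eq_one.1 h2
    calc a * x = x * (x⁻¹ * a * x) := by group
      _ = x * a := by rw [← h3]
  · have h3 : b * (x⁻¹ * b * x)⁻¹ = 1 := e ▸ h2
    have h4 : b = x⁻¹ * b * x := mul_inv_eq_one.1 h3
    calc b * x = x * (x⁻¹ * b * x) := by group
      _ = x * b := by rw [← h4]

variable (hG : Cfsg.IsMinSimpleOddOrder G) {M : Subgroup G} (hM : IsCoatom M)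
include hG hM

/-- BG 14.4, transitivity of `C(x)` on the conjugates of `M` containing `x`. -/
theorem exists_mul_centralizer_of_sigma {x : G} (hx : x ∈ Cfsg.sigmaCore M) (hx1 : x ≠ 1)
    {g : G} (hg : g * x * g⁻¹ ∈ M) :
    ∃ m ∈ M, ∃ c ∈ centralizer ({x} : Set G), g = m * c := by
  have hxM : x ∈ M := piCoreOf_le _ _ hx
  have hxσ : ∀ s : ℕ, s.Prime → s ∣ orderOf x → s ∈ Cfsg.sigma M := fun s hs hd =>
    piCoreOf_isPiSubgroup (Cfsg.sigma M) M s hs (hd.trans (orderOf_dvd_card_of_mem hx))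
  obtain ⟨p, hp, hpd⟩ := Nat.exists_prime_and_dvd (n := orderOf x)
    fun h => hx1 (orderOf_eq_one_iff.1 h)
  haveI := Fact.mk hp
  have hpσ := hxσ p hp hpd
  set y := x ^ (orderOf x / p) with hy
  have hyo : orderOf y = p := orderOf_pow_orderOf_div (orderOf_pos x).ne' hpd
  set X := zpowers y with hX
  have hXc : Nat.card X = p := by rw [hX, Nat.card_zpowers, hyo]
  have hXp := isPGroup_of_prime_card hXc
  have hX1 := ne_bot_of_prime_card hXc
  have hXM : X ≤ M := (zpowers_le).2 (pow_mem hxM _)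
  obtain ⟨m, hm, c₁, hc₁, hgm⟩ := exists_eq_mul_centralizer hG hM hpσ hXp hX1 hXM (g := g) (by
    rw [hX, MonoidHom.map_zpowers, zpowers_le]
    show g * y * g⁻¹ ∈ M
    rw [hy, ← conj_pow]
    exact pow_mem hg _)
  by_cases hNM : normalizer (X : Set G) ≤ M
  · refine ⟨g, ?_, 1, one_mem _, (mul_one g).symm⟩
    rw [hgm]
    exact mul_mem hm (hNM (centralizer_le_normalizer _ hc₁))
  have hc₁x : c₁ * x * c₁⁻¹ ∈ M := by
    have : c₁ * x * c₁⁻¹ = m⁻¹ * (g * x * g⁻¹) * m := by rw [hgm]; group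
    rw [this]
    exact mul_mem (mul_mem (inv_mem hm) hg) hm
  have hXt : X ≠ ⊤ := fun h => hM.1 (eq_top_iff.2 (h ▸ hXM))
  obtain ⟨L, hL, hNL⟩ := (eq_top_or_exists_le_coatom (normalizer (X : Set G))).resolve_left
    (normalizer_ne_top hG hX1 hXt)
  have hLM : L ≠ M := fun h => hNM (h ▸ hNL)
  have hxL : x ∈ L := hNL (centralizer_le_normalizer _ (mem_centralizer_iff.2 fun z hz => by
    obtain ⟨i, rfl⟩ := mem_zpowers_iff.1 hz
    exact ((Commute.refl x).pow_left _).zpow_left i))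
  obtain ⟨K, hKn, hKL, hKσ, hLK, -⟩ := exists_sigma'_supplement hG hM hpσ
    (fun A hAM hA hA2 => centralizer_elementary_le hG hM hAM hA hA2)
    (fun L' hL' hqL' A hAL hA hA2 => ⟨(tau2_facts hG hL' hqL' hAL hA hA2).1,
      (tau2_facts hG hL' hqL' hAL hA hA2).2.1⟩) hXp hX1 hXM hL hLM hNL
  have hc₁L : c₁ ∈ L := hNL (centralizer_le_normalizer _ hc₁)
  have hmem : c₁⁻¹ ∈ K ⊔ (M ⊓ L) := hLK (inv_mem hc₁L)
  rw [← SetLike.mem_coe, Subgroup.coe_mul_of_right_le_normalizer_left K (M ⊓ L)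
    (inf_le_right.trans hKn)] at hmem
  obtain ⟨k, hk, j, hj, hkj⟩ := hmem
  have hc₁e : c₁ = j⁻¹ * k⁻¹ := inv_injective (by rw [← hkj]; simp)
  set u := k⁻¹ * x * k with hu
  have huM : u ∈ M := by
    have : u = j * (c₁ * x * c₁⁻¹) * j⁻¹ := by rw [hu, hc₁e]; group
    rw [this]
    exact mul_mem (mul_mem hj.1 hc₁x) (inv_mem hj.1)
  have huL : u ∈ L := mul_mem (mul_mem (inv_mem (hKL hk)) hxL) (hKL hk)
  have hcong : u * x⁻¹ ∈ K ⊓ (M ⊓ L) := by
    refine mem_inf.2 ⟨?_, mem_inf.2 ⟨mul_mem huM (inv_mem hxM), mul_mem huL (inv_mem hxL)⟩⟩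
    have e : u * x⁻¹ = k⁻¹ * (x * k * x⁻¹) := by rw [hu]; group
    rw [e]
    exact mul_mem (inv_mem hk) ((mem_normalizer_iff.1 (hKn hxL) k).1 hk)
  set D := K ⊓ (M ⊓ L) with hD
  have hDσ : ∀ s : ℕ, s.Prime → s ∣ Nat.card D → s ∉ Cfsg.sigma M := fun s hs hd =>
    hKσ s hs (hd.trans (card_dvd_of_le inf_le_left))
  have hDn : zpowers x ≤ normalizer (D : Set G) := by
    rw [zpowers_le, mem_normalizer_iff]
    intro z
    rw [hD, mem_inf, mem_inf, mem_inf, mem_inf, (mem_normalizer_iff.1 (hKn hxL)) z,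
      mul_mem_cancel_right (inv_mem hxM), mul_mem_cancel_left hxM,
      mul_mem_cancel_right (inv_mem hxL), mul_mem_cancel_left hxL]
  have huo : orderOf u = orderOf x := by
    rw [hu, show k⁻¹ * x * k = MulAut.conj k⁻¹ x by simp [MulAut.conj_apply], MulEquiv.orderOf_eq]
  haveI : IsMulCommutative (zpowers x) := inferInstance
  obtain ⟨d, hd, hdeq⟩ := Solvable.exists_conj_eq_of_coprime (N := D) (B := zpowers u)
    (B' := zpowers x) (by
      rw [zpowers_le, show u = u * x⁻¹ * x by group]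
      exact mul_mem (le_normalizer hcong) (hDn (mem_zpowers x))) (by
      rw [zpowers_le, show x = (u * x⁻¹)⁻¹ * u by group]
      exact mul_mem (mem_sup_left (inv_mem hcong)) (mem_sup_right (mem_zpowers u)))
    (by rw [Nat.card_zpowers, Nat.card_zpowers, huo])
    (Nat.coprime_of_dvd fun s hs h1 h2 => hDσ s hs h1 (hxσ s hs (by
      rwa [Nat.card_zpowers, huo] at h2)))
    (Or.inr inferInstance)
  have hdu : d * u * d⁻¹ ∈ zpowers x := by
    rw [← hdeq]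
    exact ⟨u, mem_zpowers u, rfl⟩
  have hone : d * u * d⁻¹ * x⁻¹ ∈ D ⊓ zpowers x := by
    refine mem_inf.2 ⟨?_, mul_mem hdu (inv_mem (mem_zpowers x))⟩
    have e : d * u * d⁻¹ * x⁻¹ = d * (u * x⁻¹) * (x * d⁻¹ * x⁻¹) := by group
    rw [e]
    exact mul_mem (mul_mem hd hcong) ((mem_normalizer_iff.1 (hDn (mem_zpowers x)) _).1 (inv_mem hd))
  rw [disjoint_iff.1 (disjoint_of_coprime_natCard (H := D) (K := zpowers x)
    (Nat.coprime_of_dvd fun s hs h1 h2 => hDσ s hs h1 (hxσ s hs (by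
      rwa [Nat.card_zpowers] at h2)))), mem_bot, mul_inv_eq_one] at hone
  refine ⟨m * (j⁻¹ * d⁻¹), mul_mem hm (mul_mem (inv_mem hj.1) (inv_mem hd.2.1)), d * k⁻¹, ?_, ?_⟩
  · rw [mem_centralizer_singleton_iff]
    calc d * k⁻¹ * x = d * u * d⁻¹ * (d * k⁻¹) := by rw [hu]; group
      _ = x * (d * k⁻¹) := by rw [hone]
  · rw [hgm, hc₁e]; group

variable (hdisj : ∀ M N : Subgroup G, IsCoatom M → IsCoatom N →
  (Cfsg.sigma M ∩ Cfsg.sigma N).Nonempty → ∃ g : G, N = M.map (MulAut.conj g).toMonoidHom)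
include hdisj

/-- BG 14.4: the maximal subgroup supporting `C(x)` when `C(x) ⊄ M`. -/
theorem exists_supporting {x : G} (hx : x ∈ Cfsg.sigmaCore M) (hx1 : x ≠ 1)
    (hxM : ¬ centralizer ({x} : Set G) ≤ M) :
    ∃ L : Subgroup G, IsCoatom L ∧ centralizer ({x} : Set G) ≤ L ∧
      (∀ g : G, L ≠ M.map (MulAut.conj g).toMonoidHom) ∧
      (∀ s : ℕ, s.Prime → s ∣ orderOf x → s ∉ Cfsg.sigma L) ∧
      (∃ p : ℕ, p ∈ Cfsg.tau2 L ∧ p ∣ orderOf x) ∧
      Group.IsNilpotent (Cfsg.sigmaCore L) ∧ Cfsg.IsComplIn (M ⊓ L) (Cfsg.sigmaCore L) L := by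
  obtain ⟨p, hp, hpd⟩ := Nat.exists_prime_and_dvd (n := orderOf x)
    fun h => hx1 (orderOf_eq_one_iff.1 h)
  haveI := Fact.mk hp
  have hxσ : ∀ s : ℕ, s.Prime → s ∣ orderOf x → s ∈ Cfsg.sigma M := fun s hs hd =>
    piCoreOf_isPiSubgroup (Cfsg.sigma M) M s hs (hd.trans (orderOf_dvd_card_of_mem hx))
  set X := zpowers (x ^ (orderOf x / p)) with hX
  have hXc : Nat.card X = p := by
    rw [hX, Nat.card_zpowers, orderOf_pow_orderOf_div (orderOf_pos x).ne' hpd]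
  have hXp := isPGroup_of_prime_card hXc
  have hX1 := ne_bot_of_prime_card hXc
  have hXM : X ≤ M := (zpowers_le).2 (pow_mem (piCoreOf_le _ _ hx) _)
  have hCN : centralizer ({x} : Set G) ≤ normalizer (X : Set G) := fun c hc =>
    centralizer_le_normalizer _ (mem_centralizer_iff.2 fun z hz => by
      obtain ⟨i, rfl⟩ := mem_zpowers_iff.1 hz
      exact ((Commute.pow_left (mem_centralizer_singleton_iff.1 hc).symm _).zpow_left i))
  obtain ⟨L, hL, hNL⟩ := (eq_top_or_exists_le_coatom (normalizer (X : Set G))).resolve_left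
    (normalizer_ne_top hG hX1 fun h => hM.1 (eq_top_iff.2 (h ▸ hXM)))
  have hLM : L ≠ M := fun h => hxM (h ▸ hCN.trans hNL)
  have hA : ∀ A : Subgroup G, A ≤ M → Cfsg.IsElementaryAbelian p A → Nat.card A = p ^ 2 →
      centralizer (A : Set G) ≤ M := fun A hAM hA hA2 => centralizer_elementary_le hG hM hAM hA hA2
  obtain ⟨S, hS, hXS⟩ := exists_isMaxPIn_ge (le_inf hXM (le_normalizer.trans hNL)) hXp
  obtain ⟨hconj, -, hSL⟩ := sigma_subgroup_embedding hG hM (hxσ p hp hpd) hA hXp hX1 hXM hLM hNL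
    hS hXS
  have hnσ : ∀ s : ℕ, s.Prime → s ∣ orderOf x → s ∉ Cfsg.sigma L := fun s hs hd h => by
    obtain ⟨g, hg⟩ := hdisj M L hM hL ⟨s, hxσ s hs hd, h⟩
    exact hconj g hg
  have hpL := hnσ p hp hpd
  obtain ⟨⟨h2, h1⟩, -⟩ := rank_two_of_normalizer_le hG hL hpL hXc hNL
  have hτ : p ∈ Cfsg.tau2 L := ⟨hp, hpL, h2, h1⟩
  obtain ⟨A₀, hA₀L, hA₀e, hA₀2⟩ := exists_elementary_two h1
  obtain ⟨l, hl, hlA⟩ := IsMaxPIn.exists_conj_mem hSL (isPGroup_of_exp hA₀e.2) hA₀L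
  set A := A₀.map (MulAut.conj l).toMonoidHom with hAdef
  have hAS : A ≤ S := by
    rintro _ ⟨a, ha, rfl⟩
    exact hlA a ha
  have hAe : Cfsg.IsElementaryAbelian p A := by
    refine ⟨?_, ?_⟩
    · haveI := hA₀e.1
      exact map_isMulCommutative A₀ _
    · rintro _ ⟨a, ha, rfl⟩
      rw [← map_pow, hA₀e.2 a ha, map_one]
  have hA2 : Nat.card A = p ^ 2 := by
    rw [hAdef, card_map_of_injective (MulAut.conj l).injective, hA₀2]
  have hAM : A ≤ M := hAS.trans (hS.le.trans inf_le_left)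
  have hAL : A ≤ L := hAS.trans (hS.le.trans inf_le_right)
  have hdis : Cfsg.sigmaCore L ⊓ M = ⊥ :=
    (Cfsg.Agent.S1417.result hG L hL p hτ A ⟨hAL, hAe, hA2⟩).2.2.2.2.1 M hM hLM.symm hAM
  obtain ⟨K, -, -, -, hLK, hKc⟩ := exists_sigma'_supplement hG hM (hxσ p hp hpd) hA
    (fun L' hL' hqL' B hBL hB hB2 => ⟨(tau2_facts hG hL' hqL' hBL hB hB2).1,
      (tau2_facts hG hL' hqL' hBL hB hB2).2.1⟩) hXp hX1 hXM hL hLM hNL
  have hKle : K ≤ Cfsg.sigmaCore L := by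
    rcases hKc with rfl | ⟨rfl, -⟩
    · exact le_sigmaCore_of_piSubgroup hG hL (fun s hs hd =>
        alpha_subset_sigma hG hL (piCoreOf_isPiSubgroup _ L s hs hd).1) (piCoreOf_le _ _)
    · exact le_rfl
  refine ⟨L, hL, hCN.trans hNL, hconj, hnσ, ⟨p, hτ, hpd⟩,
    (tau2_facts hG hL hτ hAL hAe hA2).1, inf_le_right, piCoreOf_le _ _, ?_, ?_⟩
  · rw [← le_bot_iff, ← hdis, inf_comm]
    exact inf_le_inf_left _ inf_le_left
  · intro l hl
    have h : l ∈ (M ⊓ L) ⊔ Cfsg.sigmaCore L := by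
      rw [sup_comm]; exact sup_le_sup_right hKle _ (hLK hl)
    have hn : M ⊓ L ≤ normalizer ((Cfsg.sigmaCore L : Subgroup G) : Set G) :=
      inf_le_right.trans (le_normalizer_piCoreOf (Cfsg.sigma L) L)
    rw [← SetLike.mem_coe, Subgroup.coe_mul_of_left_le_normalizer_right _ _ hn] at h
    obtain ⟨a, ha, b, hb, rfl⟩ := h
    exact ⟨a, ha, b, hb, rfl⟩

omit hdisj in
/-- The normal complement `C_{L_σ}(x)` to `C_M(x)` in `C(x)`. -/
theorem centralizer_split {x : G} (hxM : x ∈ M) {L : Subgroup G} (hL : IsCoatom L)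
    (hCL : centralizer ({x} : Set G) ≤ L)
    (hE : Cfsg.IsComplIn (M ⊓ L) (Cfsg.sigmaCore L) L) :
    centralizer ({x} : Set G) ≤
        normalizer ((Cfsg.sigmaCore L ⊓ centralizer ({x} : Set G) : Subgroup G) : Set G) ∧
      Cfsg.IsComplIn (M ⊓ centralizer ({x} : Set G))
        (Cfsg.sigmaCore L ⊓ centralizer ({x} : Set G)) (centralizer ({x} : Set G)) ∧
      (Nat.card ↥(M ⊓ centralizer ({x} : Set G))).Coprime
        ((M ⊓ centralizer ({x} : Set G)).relIndex (centralizer ({x} : Set G))) := by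
  obtain ⟨-, -, hdis, hfac⟩ := hE
  set C := centralizer ({x} : Set G) with hC
  set R := Cfsg.sigmaCore L ⊓ C with hR
  have hxL : x ∈ L := hCL (mem_centralizer_singleton_iff.2 rfl)
  have hn : C ≤ normalizer (R : Set G) := fun c hc => by
    rw [mem_normalizer_iff]
    intro z
    have h2 : z ∈ Cfsg.sigmaCore L ↔ c * z * c⁻¹ ∈ Cfsg.sigmaCore L :=
      (mem_normalizer_iff.1 (le_normalizer_piCoreOf (Cfsg.sigma L) L (hCL hc))) z
    rw [hR, mem_inf, mem_inf, h2, mul_mem_cancel_right (inv_mem hc), mul_mem_cancel_left hc]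
  have hdisR : (M ⊓ C) ⊓ R = ⊥ := by
    rw [← le_bot_iff, ← hdis]
    exact le_inf (le_inf (inf_le_left.trans inf_le_left)
      ((inf_le_left.trans inf_le_right).trans hCL)) (inf_le_right.trans inf_le_left)
  have hsplit : ∀ c ∈ C, ∃ a ∈ M ⊓ C, ∃ b ∈ R, c = a * b := by
    intro c hc
    obtain ⟨a, ha, b, hb, rfl⟩ := hfac c (hCL hc)
    obtain ⟨h1, h2⟩ := mem_centralizer_of_mul_mem hdis ⟨hxM, hxL⟩
      (inf_le_right.trans (le_normalizer_piCoreOf _ _)) ha hb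
      (mem_centralizer_singleton_iff.1 hc)
    exact ⟨a, ⟨ha.1, mem_centralizer_singleton_iff.2 h1⟩, b,
      ⟨hb, mem_centralizer_singleton_iff.2 h2⟩, rfl⟩
  refine ⟨hn, ⟨inf_le_right, inf_le_right, hdisR, hsplit⟩, ?_⟩
  have hidx : (M ⊓ C).relIndex C = Nat.card R := by
    refine (card_eq_relIndex_of_isComplIn ⟨inf_le_right, inf_le_right, by rw [inf_comm, hdisR],
      fun c hc => ?_⟩).symm
    obtain ⟨a, ha, b, hb, hab⟩ := hsplit _ (inv_mem hc)
    exact ⟨b⁻¹, inv_mem hb, a⁻¹, inv_mem ha, by rw [← mul_inv_rev, ← hab, inv_inv]⟩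
  rw [hidx]
  refine Nat.coprime_of_dvd fun s hs h1 h2 => ?_
  haveI := Fact.mk hs
  obtain ⟨⟨z, hz⟩, hzo⟩ := exists_prime_orderOf_dvd_card' s h1
  rw [orderOf_mk] at hzo
  have hzσ : zpowers z ≤ Cfsg.sigmaCore L := le_sigmaCore_of_piSubgroup hG hL (fun q hq hd => by
    rw [Nat.card_zpowers, hzo, Nat.prime_dvd_prime_iff_eq hq hs] at hd
    subst hd
    exact piCoreOf_isPiSubgroup (Cfsg.sigma L) L q hq (h2.trans (card_dvd_of_le inf_le_left)))
    ((zpowers_le).2 (hCL hz.2))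
  have h3 : z ∈ (M ⊓ L) ⊓ Cfsg.sigmaCore L :=
    ⟨⟨hz.1, hCL hz.2⟩, hzσ (mem_zpowers z)⟩
  rw [hdis, mem_bot] at h3
  exact hs.ne_one (by rw [← hzo, h3, orderOf_one])

omit hdisj in
/-- A normal complement to `C_M(x)` in `C(x)` acts regularly on the conjugates of `M` containing
`x`. -/
theorem existsUnique_conj {x : G} (hx : x ∈ Cfsg.sigmaCore M) (hx1 : x ≠ 1) {R : Subgroup G}
    (hR : Cfsg.IsComplIn (M ⊓ centralizer ({x} : Set G)) R (centralizer ({x} : Set G))) (g : G)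
    (hg : x ∈ M.map (MulAut.conj g).toMonoidHom) :
    ∃! r : G, r ∈ R ∧
      M.map (MulAut.conj r).toMonoidHom = M.map (MulAut.conj g).toMonoidHom := by
  have hfix : ∀ a ∈ M, M.map (MulAut.conj a).toMonoidHom = M := fun a ha => by
    have h := le_normalizer (H := M) ha
    rw [mem_normalizer_iff_map_conj_eq] at h
    exact h
  obtain ⟨m, hm, c, hc, hgm⟩ := exists_mul_centralizer_of_sigma hG hM hx hx1 (g := g⁻¹) (by
    rw [inv_inv]; exact mem_map_conj_iff.1 hg)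
  obtain ⟨b, hb, r, hr, rfl⟩ := hR.2.2.2 c hc
  have hge : g = r⁻¹ * (b⁻¹ * m⁻¹) := by
    rw [← inv_inv g, hgm]; group
  have hMr : M.map (MulAut.conj r⁻¹).toMonoidHom = M.map (MulAut.conj g).toMonoidHom := by
    rw [hge, ← map_conj_map_conj, hfix _ (mul_mem (inv_mem hb.1) (inv_mem hm))]
  refine ⟨r⁻¹, ⟨inv_mem hr, hMr⟩, fun s ⟨hs, hMs⟩ => ?_⟩
  have h1 : M.map (MulAut.conj (r * s)).toMonoidHom = M := by
    rw [← map_conj_map_conj, hMs, ← hMr, map_conj_map_conj, mul_inv_cancel, map_conj_one]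
  have h2 : r * s ∈ normalizer (M : Set G) := by
    rw [mem_normalizer_iff_map_conj_eq]; exact h1
  rw [normalizer_eq_of_isCoatom hG hM] at h2
  have hrsR : r * s ∈ R := mul_mem hr hs
  have h3 : r * s ∈ (M ⊓ centralizer ({x} : Set G)) ⊓ R := ⟨⟨h2, hR.2.1 hrsR⟩, hrsR⟩
  rw [hR.2.2.1, mem_bot] at h3
  exact eq_inv_of_mul_eq_one_right h3

end CfsgLib.OddOrder
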