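import Cfsg.Agent.Lib.OddOrder.Tau13Basic

/-!
Small tools for section 13: complements containing a given subgroup, conjugation invariance of
`σ` and `τ₁`.
-/

set_option autoImplicit false
set_option linter.style.haveILetI false

namespace CfsgLib.OddOrder

open Subgroup

variable {G : Type*} [Group G] [Finite G]

/-- A Hall `π`-subgroup contains a Sylow subgroup for every prime of `π`. -/
theorem exists_sylow_le_hall {X H : Subgroup G} {π : Set ℕ} (hH : Cfsg.IsPiHallOf π H X) {s : ℕ}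
    [hs : Fact s.Prime] (hsπ : s ∈ π) :
    ∃ S : Sylow s X, (S : Subgroup X).map X.subtype ≤ H := by
  obtain ⟨Q⟩ : Nonempty (Sylow s H) := inferInstance
  have hQH : (Q : Subgroup H).map H.subtype ≤ H := map_subtype_le _
  obtain ⟨S, hS⟩ := ((Q.2.map H.subtype).of_equiv
    (subgroupOfEquivOfLe (hQH.trans hH.1)).symm).exists_le_sylow
  refine ⟨S, le_trans (le_of_eq (eq_of_le_of_card_ge ((map_subgroupOf_eq_of_le
    (hQH.trans hH.1)).ge.trans (map_mono hS)) ?_).symm) hQH⟩
  rw [card_map_of_injective X.subtype_injective, card_map_of_injective H.subtype_injective,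
    S.card_eq_multiplicity, Q.card_eq_multiplicity]
  refine Nat.pow_le_pow_right hs.out.pos (le_of_eq ?_)
  rw [← relIndex_bot_left X, ← relIndex_mul_relIndex ⊥ H X bot_le hH.1, relIndex_bot_left,
    Nat.factorization_mul Nat.card_pos.ne' (fun h => hH.2.2 s hs.out hsπ (by rw [h]; exact dvd_zero s)),
    Finsupp.add_apply, Nat.factorization_eq_zero_of_not_dvd (hH.2.2 s hs.out hsπ), add_zero]

theorem map_commutator_self {X : Subgroup G} (φ : G →* G) :
    (⁅X, X⁆).map φ = ⁅X.map φ, X.map φ⁆ := map_commutator X X φ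

theorem pRankLE_map_equiv {X : Subgroup G} (φ : G ≃* G) {p k : ℕ} (h : Cfsg.PRankLE p k X) :
    Cfsg.PRankLE p k ↥(X.map φ.toMonoidHom) :=
  TwoFusion.PRank.pRankLE_of_injective
    (X.equivMapOfInjective φ.toMonoidHom φ.injective).symm.toMonoidHom
    (MulEquiv.injective _) h

theorem mem_tau1_map {M : Subgroup G} (φ : G ≃* G) {p : ℕ}
    (hσ : p ∉ Cfsg.sigma (M.map φ.toMonoidHom)) (hp : p ∈ Cfsg.tau1 M) :
    p ∈ Cfsg.tau1 (M.map φ.toMonoidHom) := by
  refine ⟨hp.1, hσ, ?_, ?_, pRankLE_map_equiv φ hp.2.2.2.2⟩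
  · rw [card_map_of_injective (show Function.Injective φ.toMonoidHom from φ.injective)]
    exact hp.2.2.1
  · rw [← map_commutator_self,
      card_map_of_injective (show Function.Injective φ.toMonoidHom from φ.injective)]
    exact hp.2.2.2.1

theorem mem_sigma_map {M : Subgroup G} (φ : G ≃* G) {p : ℕ} (hp : p ∈ Cfsg.sigma M) :
    p ∈ Cfsg.sigma (M.map φ.toMonoidHom) := by
  haveI := Fact.mk hp.1
  obtain ⟨P, hPN⟩ := hp.2.2
  set T := (P : Subgroup M).map M.subtype with hT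
  have hm : IsMaxPIn p (M.map φ.toMonoidHom) (T.map φ.toMonoidHom) := by
    refine ⟨map_mono (map_subtype_le _), (P.2.map _).map _, fun Q hQ hle hQM => ?_⟩
    have h1 := (isMaxPIn_of_sylow P).max (Q.map φ.symm.toMonoidHom) (hQ.map _) (fun x hx =>
      ⟨φ x, hle (mem_map_of_mem _ hx), φ.symm_apply_apply x⟩) (by
        rintro _ ⟨x, hx, rfl⟩
        obtain ⟨m, hm, rfl⟩ := hQM hx
        simpa using hm)
    refine le_antisymm (fun x hx => ⟨φ.symm x, ?_, φ.apply_symm_apply x⟩) hle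
    rw [hT, ← h1]
    exact mem_map_of_mem φ.symm.toMonoidHom hx
  refine ⟨hp.1, ?_, ?_⟩
  · rw [card_map_of_injective (show Function.Injective φ.toMonoidHom from φ.injective)]
    exact hp.2.1
  · obtain ⟨S, hS⟩ := hm.exists_sylow
    refine ⟨S, ?_⟩
    rw [hS, ← map_equiv_normalizer_eq]
    exact map_mono hPN

variable (hG : Cfsg.IsMinSimpleOddOrder G) {M : Subgroup G} (hM : IsCoatom M)
include hG hM

/-- The `τ₃(M)`-elements of prime power order of `M` lie in `M'`. -/
theorem mem_derived_of_tau3 {s : ℕ} [hs : Fact s.Prime] (h3 : s ∈ Cfsg.tau3 M) {v : G}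
    (hvM : v ∈ M) (hv : IsPGroup s (zpowers v)) : v ∈ ⁅M, M⁆ := by
  have hprime : ∀ q : ℕ, q.Prime → q ∣ Nat.card (zpowers v) → q = s := fun q hq hd => by
    obtain ⟨n, hn⟩ := hv.exists_card_eq
    exact (Nat.prime_dvd_prime_iff_eq hq hs.out).1 (hq.dvd_of_dvd_pow (hn ▸ hd))
  obtain ⟨E, hvE, hE⟩ := exists_complement_ge hG hM (zpowers_le.2 hvM)
    fun q hq hd => hprime q hq hd ▸ h3.2.1
  haveI := isSolvable_of_ne_top hG (H := E) fun h => hM.1 (top_le_iff.1 (h ▸ hE.1))
  obtain ⟨E₃, hE₃, hvE₃⟩ := exists_isPiHallOf_ge (π := Cfsg.tau3 M) inferInstance hvE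
    fun q hq hd => hprime q hq hd ▸ h3
  obtain ⟨-, hE₃D, -⟩ := tau3_hall hG hM hE hE₃
  exact (hE₃D.trans (commutator_mono hE.1 hE.1)) (hvE₃ (mem_zpowers v))

end CfsgLib.OddOrder
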