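import Cfsg.Agent.Lib.OddOrder.Tau13Unique
import Cfsg.Agent.Lib.OddOrder.Tau13Tools
import Cfsg.Agent.Lib.Schur.Sylow

/-!
BG 13.9: `σ(M)` and `σ(H)` are disjoint for nonconjugate maximal subgroups.
-/

set_option autoImplicit false
set_option linter.style.haveILetI false

open scoped commutatorElement Pointwise

namespace CfsgLib.OddOrder

open Subgroup

variable {G : Type*} [Group G] [Finite G] (hG : Cfsg.IsMinSimpleOddOrder G)
include hG

omit hG in
theorem le_centralizer_singleton_of_le {A : Subgroup G} {v : G}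
    (h : A ≤ centralizer ({v} : Set G)) : zpowers v ≤ centralizer (A : Set G) := by
  rw [zpowers_le]
  exact fun a ha => mem_centralizer_singleton_iff.1 (h ha)

/-- In a maximal subgroup `H` without `τ₂` prime, an element of prime power order moving the Sylow
subgroup `Q`, `q ∈ σ(H)`, has its prime in `τ₁(H)`. -/
theorem tau1_of_moves {H : Subgroup G} (hH : IsCoatom H) {q s : ℕ} [hq : Fact q.Prime]
    [hs : Fact s.Prime] (hqσ : q ∈ Cfsg.sigma H) (hqβ : q ∉ Cfsg.beta H)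
    (hτ2 : s ∉ Cfsg.tau2 H) {Q : Subgroup G} [IsMulCommutative Q] (hQ : IsMaxPIn q ⊤ Q)
    (hQH : Q ≤ H) {v : G} (hvH : v ∈ H) (hv : IsPGroup s (zpowers v))
    (hvQ : v ∈ normalizer (Q : Set G)) (hvC : v ∉ centralizer (Q : Set G)) :
    s ∈ Cfsg.tau1 H := by
  have hv1 : v ≠ 1 := fun h => hvC (h ▸ one_mem _)
  have hsH : s ∣ Nat.card H := (dvd_card_of_isPGroup hv fun h => hv1 (zpowers_eq_bot.1 h)).trans
    (card_dvd_of_le (zpowers_le.2 hvH))
  have hsσ : s ∉ Cfsg.sigma H := fun h => hvC (sigma_normalizer_le_centralizer hG hH hqσ hqβ hQ hQH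
    ⟨le_sigmaCore_of_pgroup hG hH h hv (zpowers_le.2 hvH) (mem_zpowers v), hvQ⟩)
  rcases tau_cases_of_not_sigma hG hH hs.out hsH hsσ with h | h | h
  · exact h
  · exact absurd h hτ2
  · refine absurd (mem_centralizer_of_derived hG hH hQH (mem_derived_of_tau3 hG hH h hvH hv) hvQ
      fun t ht hd => ?_) hvC
    obtain ⟨n, hn⟩ := hQ.pgroup.exists_card_eq
    have htq : t = q := (Nat.prime_dvd_prime_iff_eq ht hq.out).1 (ht.dvd_of_dvd_pow (hn ▸ hd))
    subst htq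
    refine ⟨hqβ, fun hd' => ?_⟩
    obtain ⟨k, hk⟩ := hv.exists_card_eq
    rw [Nat.card_zpowers] at hk
    have hts := (Nat.prime_dvd_prime_iff_eq ht hs.out).1 (ht.dvd_of_dvd_pow (hk ▸ hd'))
    exact hsσ (hts ▸ hqσ)

variable {M H : Subgroup G} (hM : IsCoatom M) (hH : IsCoatom H)
  (hconj : ∀ g : G, M.map (MulAut.conj g).toMonoidHom ≠ H)
include hM hH hconj

/-- A prime of `σ(M) ∩ σ(H)` leaves no room for `τ₂` primes. -/
theorem tau2_empty_of_common {q : ℕ} (hqM : q ∈ Cfsg.sigma M) (hqH : q ∈ Cfsg.sigma H)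
    (s : ℕ) : s ∉ Cfsg.tau2 M ∧ s ∉ Cfsg.tau2 H := by
  refine ⟨fun hs => ?_, fun hs => ?_⟩
  · haveI := Fact.mk hs.1
    obtain ⟨A, hAM, hA, hA2⟩ := exists_elementary_two hs.2.2.2
    refine sigma_disjoint_of_nilpotent hG hM hH (fun g hg => hconj g⁻¹ ?_)
      (tau2_facts hG hM hs hAM hA hA2).1 hqM hqH
    rw [← hg, map_conj_map_conj, inv_mul_cancel, map_conj_one]
  · haveI := Fact.mk hs.1
    obtain ⟨A, hAH, hA, hA2⟩ := exists_elementary_two hs.2.2.2
    exact sigma_disjoint_of_nilpotent hG hH hM hconj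
      (tau2_facts hG hH hs hAH hA hA2).1 hqH hqM

/-- The basic facts about a common Sylow subgroup `Q`. -/
theorem common_sylow {q : ℕ} [Fact q.Prime] (hqM : q ∈ Cfsg.sigma M) (hqH : q ∈ Cfsg.sigma H)
    {Q : Subgroup G} (hQ : IsMaxPIn q ⊤ Q) (hQM : Q ≤ M) (hQH : Q ≤ H) :
    IsMulCommutative Q ∧ q ∉ Cfsg.beta M ∧ q ∉ Cfsg.beta H ∧ Q ≠ ⊥ ∧
      normalizer (Q : Set G) ≤ M ∧ normalizer (Q : Set G) ≤ H := by
  refine ⟨?_, fun h => ?_, fun h => not_mem_sigma_of_alpha hG hH hM hconj h.1 hqM, fun h => ?_,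
    normalizer_le_of_sigma hqM (hQ.of_le le_top hQM),
    normalizer_le_of_sigma hqH (hQ.of_le le_top hQH)⟩
  · by_contra hna
    exact hconj 1 (by
      rw [map_conj_one]
      exact ExistsUnique.unique (nonabelian_inUniqueMaximal hG hQ.pgroup hna) ⟨hM, hQM⟩ ⟨hH, hQH⟩)
  · refine not_mem_sigma_of_alpha hG hM hH (fun g hg => hconj g⁻¹ ?_) h.1 hqH
    rw [← hg, map_conj_map_conj, inv_mul_cancel, map_conj_one]
  · obtain ⟨x, hx⟩ := exists_prime_orderOf_dvd_card' q hqM.2.1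
    have hx1 : (x : G) ≠ 1 := fun h1 => by
      rw [← orderOf_coe, h1, orderOf_one] at hx
      exact (Fact.out : q.Prime).ne_one hx.symm
    have h2 := hQ.max (zpowers (x : G)) (IsPGroup.of_card (n := 1)
      (by rw [Nat.card_zpowers, orderOf_coe, hx, pow_one])) (h ▸ bot_le) le_top
    exact hx1 (zpowers_eq_bot.1 (h2.trans h))

/-- Some `τ₁` element of a complement in `N(Q)` moves `Q`. -/
theorem exists_moving_tau1 {q : ℕ} [hq : Fact q.Prime] (hqM : q ∈ Cfsg.sigma M)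
    (hqH : q ∈ Cfsg.sigma H) {Q : Subgroup G} (hQ : IsMaxPIn q ⊤ Q) (hQM : Q ≤ M) (hQH : Q ≤ H)
    {E E₁ : Subgroup G} (hE : Cfsg.IsComplIn E (Cfsg.sigmaCore M) M)
    (hEQ : E ≤ normalizer (Q : Set G)) (hE₁ : Cfsg.IsPiHallOf (Cfsg.tau1 M) E₁ E) :
    ∃ (s : ℕ) (v : G), s.Prime ∧ v ∈ E₁ ∧ IsPGroup s (zpowers v) ∧ v ∉ centralizer (Q : Set G) ∧
      s ∈ Cfsg.tau1 M ∧ s ∈ Cfsg.tau1 H := by
  obtain ⟨hab, hβM, hβH, hQ1, hNM, hNH⟩ := common_sylow hG hM hH hconj hqM hqH hQ hQM hQH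
  haveI := hab
  have hne : ¬ E₁ ≤ centralizer (Q : Set G) := by
    intro h
    haveI := isSolvable_of_ne_top hG (H := E) fun h => hM.1 (top_le_iff.1 (h ▸ hE.1))
    have hEC : E ≤ centralizer (Q : Set G) := by
      refine le_of_sylows_le fun s hs hsE => ?_
      haveI := Fact.mk hs
      have hsσ := complement_prime_not_sigma hG hM hE hs hsE
      rcases tau_cases_of_not_sigma hG hM hs (hsE.trans (card_dvd_of_le hE.1)) hsσ with h1 | h2 | h3
      · obtain ⟨S, hS⟩ := exists_sylow_le_hall hE₁ h1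
        exact ⟨S, hS.trans h⟩
      · exact absurd h2 (tau2_empty_of_common hG hM hH hconj hqM hqH s).1
      · obtain ⟨S⟩ : Nonempty (Sylow s E) := inferInstance
        refine ⟨S, fun w hw => ?_⟩
        have hwE : w ∈ E := map_subtype_le _ hw
        have hwp : IsPGroup s (zpowers w) := (S.2.map E.subtype).to_le (zpowers_le.2 hw)
        refine mem_centralizer_of_derived hG hM hQM
          (mem_derived_of_tau3 hG hM h3 (hE.1 hwE) hwp) (hEQ hwE) fun t ht hd => ?_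
        obtain ⟨n, hn⟩ := hQ.pgroup.exists_card_eq
        have htq : t = q := (Nat.prime_dvd_prime_iff_eq ht hq.out).1 (ht.dvd_of_dvd_pow (hn ▸ hd))
        subst htq
        refine ⟨hβM, fun hd' => ?_⟩
        obtain ⟨k, hk⟩ := hwp.exists_card_eq
        rw [Nat.card_zpowers] at hk
        exact hsσ ((Nat.prime_dvd_prime_iff_eq ht hs).1 (ht.dvd_of_dvd_pow (hk ▸ hd')) ▸ hqM)
    obtain ⟨S, hS⟩ : ∃ S : Sylow q G, (S : Subgroup G) = Q :=
      ⟨⟨Q, hQ.pgroup, fun {R} hR hle => hQ.max R hR hle le_top⟩, rfl⟩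
    haveI : IsMulCommutative (S : Subgroup G) := hS ▸ hab
    refine not_le_centralizer_normalizer_sylow hG S (T := Q) hS.ge hQ1 fun n hn => ?_
    rw [hS] at hn
    obtain ⟨e, he, k, hk, rfl⟩ := hE.2.2.2 n (hNM hn)
    exact mul_mem (hEC he) (sigma_normalizer_le_centralizer hG hM hqM hβM hQ hQM
      ⟨hk, ((normalizer (Q : Set G)).mul_mem_cancel_left (hEQ he)).1 hn⟩)
  obtain ⟨s, hs, P, hP, hPE, hPC⟩ : ∃ (s : ℕ), s.Prime ∧ ∃ P : Subgroup G,
      IsPGroup s P ∧ P ≤ E₁ ∧ ¬ P ≤ centralizer (Q : Set G) := by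
    by_contra hno
    push Not at hno
    exact hne (le_of_pgroups_le fun s hs P hP hPE => hno s hs P hP hPE)
  obtain ⟨v, hvP, hvC⟩ := SetLike.not_le_iff_exists.1 hPC
  haveI := Fact.mk hs
  have hvp : IsPGroup s (zpowers v) := hP.to_le (zpowers_le.2 hvP)
  have hvE : v ∈ E := hE₁.1 (hPE hvP)
  refine ⟨s, v, hs, hPE hvP, hvp, hvC, hE₁.2.1 s hs ?_,
    tau1_of_moves hG hH hqH hβH (tau2_empty_of_common hG hM hH hconj hqM hqH s).2 hQ hQH
      (hNH (hEQ hvE)) hvp (hEQ hvE) hvC⟩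
  exact (dvd_card_of_isPGroup hvp fun h => hvC ((zpowers_eq_bot.1 h) ▸ one_mem _)).trans
    (card_dvd_of_le (zpowers_le.2 (hPE hvP)))

/-- BG 13.9, the step on a common Sylow subgroup: `τ₁(M)`-elements of prime order normalizing `Q` act
on it without fixed points, and their primes are in `τ₁(H)`. -/
theorem common_sylow_fpf {q r : ℕ} [hq : Fact q.Prime] [hr : Fact r.Prime]
    (hqM : q ∈ Cfsg.sigma M) (hqH : q ∈ Cfsg.sigma H) {Q : Subgroup G} (hQ : IsMaxPIn q ⊤ Q)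
    (hQM : Q ≤ M) (hQH : Q ≤ H) (hrt : r ∈ Cfsg.tau1 M) {R : Subgroup G} (hR : Nat.card R = r)
    (hRM : R ≤ M) (hRQ : R ≤ normalizer (Q : Set G)) :
    Q ⊓ centralizer (R : Set G) = ⊥ ∧ r ∈ Cfsg.tau1 H ∧ R ≤ H := by
  obtain ⟨hab, hβM, hβH, hQ1, hNM, hNH⟩ := common_sylow hG hM hH hconj hqM hqH hQ hQM hQH
  haveI := hab
  have hQσ : Q ≤ Cfsg.sigmaCore M := le_sigmaCore_of_pgroup hG hM hqM hQ.pgroup hQM
  have hRr : ∀ t : ℕ, t.Prime → t ∣ Nat.card R → t = r := fun t ht hd =>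
    (Nat.prime_dvd_prime_iff_eq ht hr.out).1 (hR ▸ hd)
  obtain ⟨E, hE, hRE, hEQ⟩ := exists_complement_normalizer hG hM
    (hQ.of_le le_top hQσ) hRM hRQ fun t ht hd => hRr t ht hd ▸ hrt.2.1
  obtain ⟨E₁, hE₁, hRE₁, hc⟩ := exists_tau1_hall_ge hG hM hE hRE fun t ht hd => hRr t ht hd ▸ hrt
  obtain ⟨s, v, hs, hvE₁, hvp, hvC, hsM, hsH⟩ :=
    exists_moving_tau1 hG hM hH hconj hqM hqH hQ hQM hQH hE hEQ hE₁
  haveI := Fact.mk hs
  haveI := hc
  have hfix : Q ⊓ centralizer (R : Set G) = ⊥ := by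
    by_contra hne
    obtain ⟨X, hXC, hX⟩ := exists_le_card_prime (hQ.pgroup.to_le inf_le_left) hne
    obtain ⟨V, hVv, hV⟩ := exists_le_card_prime hvp fun h => hvC (zpowers_eq_bot.1 h ▸ one_mem _)
    have hVE₁ : V ≤ E₁ := hVv.trans (zpowers_le.2 hvE₁)
    have hVR : V ≤ centralizer (R : Set G) := fun a ha b hb =>
      setLike_mul_comm (hRE₁ hb) (hVE₁ ha)
    have hXV : X ≤ Cfsg.sigmaCore M ⊓ centralizer (V : Set G) :=
      (le_inf ((hXC.trans inf_le_left).trans hQσ) (hXC.trans inf_le_right)).trans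
        (centralizer_le_of_commute hG hM hrt.2.1 hrt.2.2.2.2 hrt.2.2.2.1 hR hRM hV
          ((hVE₁.trans hE₁.1).trans hE.1) hVR hsM.2.1)
    have hXVH : X ≤ Cfsg.sigmaCore H ⊓ centralizer (V : Set G) :=
      le_inf ((hXC.trans inf_le_left).trans (le_sigmaCore_of_pgroup hG hH hqH hQ.pgroup hQH))
        (hXV.trans inf_le_right)
    obtain ⟨-, hu⟩ := tau1_centralizer_unique hG hM hsM hV ((hVE₁.trans hE₁.1).trans hE.1) hX hXV
    obtain ⟨hle, -⟩ := tau1_centralizer_unique hG hH hsH hV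
      (((hVE₁.trans hE₁.1).trans hEQ).trans hNH) hX hXVH
    exact hconj 1 (by rw [map_conj_one, hu H hH hle])
  refine ⟨hfix, ?_, hRQ.trans hNH⟩
  obtain ⟨a, ha, hac⟩ : ∃ a ∈ R, a ∉ centralizer (Q : Set G) := by
    refine SetLike.not_le_iff_exists.1 fun h => hQ1 ?_
    rw [← hfix, inf_eq_left.2 (le_centralizer_iff.1 h)]
  exact tau1_of_moves hG hH hqH hβH (tau2_empty_of_common hG hM hH hconj hqM hqH r).2 hQ hQH
    (hNH (hRQ ha)) ((isPGroup_of_prime_card hR).to_le (zpowers_le.2 ha)) (hRQ ha) hac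

/-- With a common prime of `σ`, `τ₁(M) ⊆ τ₁(H)`. -/
theorem tau1_subset_of_common {q : ℕ} [hq : Fact q.Prime] (hqM : q ∈ Cfsg.sigma M)
    (hqH : q ∈ Cfsg.sigma H) {Q : Subgroup G} (hQ : IsMaxPIn q ⊤ Q) (hQM : Q ≤ M) (hQH : Q ≤ H)
    {t : ℕ} (ht : t ∈ Cfsg.tau1 M) : t ∈ Cfsg.tau1 H := by
  haveI := Fact.mk ht.1
  have hQσ : Q ≤ Cfsg.sigmaCore M := le_sigmaCore_of_pgroup hG hM hqM hQ.pgroup hQM
  obtain ⟨E, hE, -, hEQ⟩ := exists_complement_normalizer hG hM (hQ.of_le le_top hQσ)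
    (bot_le : (⊥ : Subgroup G) ≤ M) bot_le fun s hs hd =>
      absurd (Subgroup.card_bot (G := G) ▸ hd) hs.not_dvd_one
  have htE : t ∣ Nat.card E := by
    have h1 := ht.2.2.1
    rw [← relIndex_bot_left M, ← relIndex_mul_relIndex ⊥ (Cfsg.sigmaCore M) M bot_le
      (piCoreOf_le _ _), relIndex_bot_left, ← card_complement hE] at h1
    exact (ht.1.dvd_mul.1 h1).resolve_left fun h => ht.2.1 (sigma_of_dvd_sigmaCore ht.1 h)
  obtain ⟨x, hx⟩ := exists_prime_orderOf_dvd_card' t htE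
  exact (common_sylow_fpf hG hM hH hconj hqM hqH hQ hQM hQH ht (R := zpowers (x : G))
    (by rw [Nat.card_zpowers, orderOf_coe, hx]) ((zpowers_le.2 x.2).trans hE.1)
    ((zpowers_le.2 x.2).trans hEQ)).2.1

/-- BG 13.9, first reduction: a `σ(M)`-prime of `C_{M_σ}(R)` is not in `σ(H)`. -/
theorem not_sigma_of_fixed {b r : ℕ} [hb : Fact b.Prime] [Fact r.Prime] (hrt : r ∈ Cfsg.tau1 M)
    {R X : Subgroup G} (hR : Nat.card R = r) (hRM : R ≤ M) (hX : Nat.card X = b)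
    (hXC : X ≤ Cfsg.sigmaCore M ⊓ centralizer (R : Set G)) : b ∉ Cfsg.sigma H := by
  intro hbH
  set K := Cfsg.sigmaCore M with hK
  have hXK : X ≤ K := hXC.trans inf_le_left
  have hbM : b ∈ Cfsg.sigma M := sigma_of_dvd_sigmaCore hb.out (hX ▸ card_dvd_of_le hXK)
  have hRK : R ≤ normalizer (K : Set G) := hRM.trans (le_normalizer_piCoreOf _ _)
  obtain ⟨B, hXB, hRB⟩ := Solvable.exists_invariant_sylow_ge hRK
    (Nat.coprime_of_dvd fun t ht h1 h2 => hrt.2.1 (by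
      rw [hR, Nat.prime_dvd_prime_iff_eq ht hrt.1] at h1
      exact h1 ▸ sigma_of_dvd_sigmaCore ht h2))
    (Or.inl (isSolvable_of_ne_top hG fun h => hM.1 (top_le_iff.1 (h ▸ hRM)))) b hXK
    (isPGroup_of_prime_card hX)
    ((le_centralizer_iff.1 (hXC.trans inf_le_right)).trans (centralizer_le_normalizer _))
  set T := (B : Subgroup K).map K.subtype
  have hTM : IsMaxPIn b M T := isMaxPIn_of_sigmaCore_sylow hG hM hbM B
  obtain ⟨T', hT'⟩ := hTM.exists_sylow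
  obtain ⟨g, hg⟩ := exists_conj_normalizer_le hbM hbH T'
  rw [hT'] at hg
  have h1 := (common_sylow_fpf hG hM (isCoatom_conj hH g) (fun g' hg' => hconj (g⁻¹ * g') ?_)
    hbM (mem_sigma_map _ hbH) (isMaxPIn_top_of_sigma hbM hTM) hTM.le (le_normalizer.trans hg)
    hrt hR hRM hRB).1
  · exact ne_bot_of_prime_card hX (le_bot_iff.1 (h1 ▸ le_inf hXB (hXC.trans inf_le_right)))
  · rw [← map_conj_map_conj, hg', map_conj_map_conj, inv_mul_cancel, map_conj_one]

omit hH hconj in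
/-- A subgroup of `C(R)` with a nontrivial normal `t`-subgroup, `t ∈ σ(M)`, and containing a
subgroup of order `t` of `C_{M_σ}(R)`, lies in `M`. -/
theorem le_of_normal_pgroup {t r : ℕ} [ht : Fact t.Prime] (hrt : r ∈ Cfsg.tau1 M)
    {R X F N : Subgroup G} (hR : Nat.card R = r) (hRM : R ≤ M) (hX : Nat.card X = t)
    (hXC : X ≤ Cfsg.sigmaCore M ⊓ centralizer (R : Set G)) (hXF : X ≤ F)
    (hFR : F ≤ centralizer (R : Set G)) (hN : IsPGroup t N) (hN1 : N ≠ ⊥) (hNF : N ≤ F)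
    (hFN : F ≤ normalizer (N : Set G)) : F ≤ M := by
  have hXK : X ≤ Cfsg.sigmaCore M := hXC.trans inf_le_left
  have htσ : t ∈ Cfsg.sigma M := sigma_of_dvd_sigmaCore ht.out (hX ▸ card_dvd_of_le hXK)
  obtain ⟨B, hB, hXB⟩ := exists_isMaxPIn_ge hXF (isPGroup_of_prime_card hX)
  have hNB : N ≤ B := by
    have h1 : IsPGroup t ↥(N ⊔ B) := sup_comm B N ▸
      hB.pgroup.to_sup_of_normal_right' hN (hB.le.trans hFN)
    exact le_sup_left.trans (hB.max _ h1 le_sup_right (sup_le hNF hB.le)).le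
  haveI : (N.subgroupOf B).Normal := normal_subgroupOf_of_le_normalizer (hB.le.trans hFN)
  obtain ⟨z, hz, hz1⟩ := Solvable.exists_ne_one_mem_inf_center_of_normal hB.pgroup
    (N := N.subgroupOf B) fun h => hN1 (by rw [← map_subgroupOf_eq_of_le hNB, h, Subgroup.map_bot])
  obtain ⟨Z, hZz, hZ⟩ := exists_le_card_prime (Y := zpowers (z : G))
    (hB.pgroup.to_le (zpowers_le.2 z.2)) (fun h => hz1 (Subtype.ext (zpowers_eq_bot.1 h)))
  have hZN : Z ≤ N := hZz.trans (zpowers_le.2 (mem_subgroupOf.1 hz.1))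
  have hBZ : B ≤ centralizer (Z : Set G) := fun a ha x hx => by
    obtain ⟨i, rfl⟩ := mem_zpowers_iff.1 (hZz hx)
    have h2 : Commute ((z : B) : G) a :=
      congrArg Subtype.val (mem_center_iff.1 hz.2 ⟨a, ha⟩).symm
    exact (h2.zpow_left i).eq
  have hZC : Z ≤ Cfsg.sigmaCore M ⊓ centralizer (R : Set G) := by
    refine le_inf (le_sigmaCore_of_pgroup hG hM htσ (isPGroup_of_prime_card hZ) ?_)
      ((hZN.trans hNF).trans hFR)
    exact (le_centralizer_iff.1 (hXB.trans hBZ)).trans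
      (tau1_centralizer_unique hG hM hrt hR hRM hX hXC).1
  have hCZ := (tau1_centralizer_unique hG hM hrt hR hRM hZ hZC).1
  have hNM : N ≤ M := hNB.trans (hBZ.trans hCZ)
  exact hFN.trans (normalizer_le_of_centralizer_le hG hM htσ hN hN1 hNM
    ((centralizer_le hZN).trans hCZ))

/-- BG 13.9. -/
theorem sigma_disjoint {q : ℕ} (hqM : q ∈ Cfsg.sigma M) : q ∉ Cfsg.sigma H := by
  intro hqH₀
  haveI := Fact.mk hqM.1
  obtain ⟨S⟩ : Nonempty (Sylow q M) := inferInstance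
  obtain ⟨g, hg⟩ := exists_conj_normalizer_le hqM hqH₀ S
  set H' := H.map (MulAut.conj g).toMonoidHom with hH'def
  have hH' : IsCoatom H' := isCoatom_conj hH g
  have hconj' : ∀ g' : G, M.map (MulAut.conj g').toMonoidHom ≠ H' := fun g' hg' =>
    hconj (g⁻¹ * g') (by
      rw [← map_conj_map_conj, hg', hH'def, map_conj_map_conj, inv_mul_cancel, map_conj_one])
  have hqH : q ∈ Cfsg.sigma H' := mem_sigma_map _ hqH₀
  set Q := (S : Subgroup M).map M.subtype with hQdef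
  have hQM : Q ≤ M := map_subtype_le _
  have hQ : IsMaxPIn q ⊤ Q := isMaxPIn_top_of_sigma hqM (isMaxPIn_of_sylow S)
  have hQH : Q ≤ H' := le_normalizer.trans hg
  have hQσ : Q ≤ Cfsg.sigmaCore M := le_sigmaCore_of_pgroup hG hM hqM hQ.pgroup hQM
  -- a prime order `R` of `τ₁(M) ∩ τ₁(H')`
  obtain ⟨E, hE, -, hEQ⟩ := exists_complement_normalizer hG hM (hQ.of_le le_top hQσ)
    (bot_le : (⊥ : Subgroup G) ≤ M) bot_le fun s hs hd =>
      absurd (Subgroup.card_bot (G := G) ▸ hd) hs.not_dvd_one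
  obtain ⟨E₁, hE₁, -, -⟩ := exists_tau1_hall_ge hG hM hE (bot_le : (⊥ : Subgroup G) ≤ E)
    fun s hs hd => absurd (Subgroup.card_bot (G := G) ▸ hd) hs.not_dvd_one
  obtain ⟨r, v, hr, hvE₁, hvp, hvC, hrM, -⟩ :=
    exists_moving_tau1 hG hM hH' hconj' hqM hqH hQ hQM hQH hE hEQ hE₁
  haveI := Fact.mk hr
  obtain ⟨R, hRv, hR⟩ := exists_le_card_prime hvp fun h => hvC (zpowers_eq_bot.1 h ▸ one_mem _)
  have hRE : R ≤ E := hRv.trans (zpowers_le.2 (hE₁.1 hvE₁))
  have hRM : R ≤ M := hRE.trans hE.1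
  obtain ⟨-, hrH, hRH⟩ :=
    common_sylow_fpf hG hM hH' hconj' hqM hqH hQ hQM hQH hrM hR hRM (hRE.trans hEQ)
  obtain ⟨a, haR, hgen⟩ : ∃ a ∈ R, R = zpowers a := by
    obtain ⟨a, ha⟩ := (isCyclic_iff_exists_zpowers_eq_top).1 (isCyclic_of_prime_card hR)
    refine ⟨a, a.2, le_antisymm (fun x hx => ?_) (zpowers_le.2 a.2)⟩
    obtain ⟨i, hi⟩ := mem_zpowers_iff.1 (ha.ge (mem_top (⟨x, hx⟩ : R)))
    exact ⟨i, congrArg Subtype.val hi⟩
  have hap : a ^ r = 1 := orderOf_dvd_iff_pow_eq_one.1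
    ((orderOf_dvd_card_of_mem haR).trans (dvd_of_eq hR))
  have hconjHM : ∀ g' : G, H'.map (MulAut.conj g').toMonoidHom ≠ M := fun g' hg' =>
    hconj' g'⁻¹ (by rw [← hg', map_conj_map_conj, inv_mul_cancel, map_conj_one])
  have hfix : ∀ L : Subgroup G, R ≤ L → ¬ Group.IsNilpotent (Cfsg.sigmaCore L) →
      Cfsg.sigmaCore L ⊓ centralizer (R : Set G) ≠ ⊥ := by
    intro L hRL hnil h
    refine hnil (isNilpotent_of_prime_fpf hr hap (le_normalizer_piCoreOf _ _ (hRL haR)) ?_)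
    rwa [hgen, zpowers_eq_closure, centralizer_closure] at h
  have hMnil : ¬ Group.IsNilpotent (Cfsg.sigmaCore M) := fun h =>
    sigma_disjoint_of_nilpotent hG hM hH' hconjHM h hqM hqH
  have hHnil : ¬ Group.IsNilpotent (Cfsg.sigmaCore H') := fun h =>
    sigma_disjoint_of_nilpotent hG hH' hM hconj' h hqH hqM
  obtain ⟨b, hb, X, hXC, hX⟩ : ∃ b : ℕ, b.Prime ∧ ∃ X : Subgroup G,
      X ≤ Cfsg.sigmaCore M ⊓ centralizer (R : Set G) ∧ Nat.card X = b := by
    obtain ⟨b, hb, hd⟩ := Nat.exists_prime_and_dvd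
      (fun h => hfix M hRM hMnil (card_eq_one.1 h))
    haveI := Fact.mk hb
    obtain ⟨x, hx⟩ := exists_prime_orderOf_dvd_card' b hd
    exact ⟨b, hb, zpowers (x : G), zpowers_le.2 x.2, by rw [Nat.card_zpowers, orderOf_coe, hx]⟩
  obtain ⟨c, hc, X₀, hX₀C, hX₀⟩ : ∃ c : ℕ, c.Prime ∧ ∃ X : Subgroup G,
      X ≤ Cfsg.sigmaCore H' ⊓ centralizer (R : Set G) ∧ Nat.card X = c := by
    obtain ⟨b, hb, hd⟩ := Nat.exists_prime_and_dvd
      (fun h => hfix H' hRH hHnil (card_eq_one.1 h))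
    haveI := Fact.mk hb
    obtain ⟨x, hx⟩ := exists_prime_orderOf_dvd_card' b hd
    exact ⟨b, hb, zpowers (x : G), zpowers_le.2 x.2, by rw [Nat.card_zpowers, orderOf_coe, hx]⟩
  haveI := Fact.mk hb
  haveI := Fact.mk hc
  have hbM : b ∈ Cfsg.sigma M :=
    sigma_of_dvd_sigmaCore hb (hX ▸ card_dvd_of_le (hXC.trans inf_le_left))
  have hcH : c ∈ Cfsg.sigma H' :=
    sigma_of_dvd_sigmaCore hc (hX₀ ▸ card_dvd_of_le (hX₀C.trans inf_le_left))
  have hcM : c ∉ Cfsg.sigma M :=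
    not_sigma_of_fixed hG hH' hM hconjHM hrH hR hRH hX₀ hX₀C
  have hc1 : c ∉ Cfsg.tau1 M := fun h =>
    (tau1_subset_of_common hG hM hH' hconj' hqM hqH hQ hQM hQH h).2.1 hcH
  have hτ2 : ∀ s, s ∉ Cfsg.tau2 M := fun s =>
    (tau2_empty_of_common hG hM hH' hconj' hqM hqH s).1
  -- a Hall `{b, c}`-subgroup of `C(R)` and a conjugate of `X₀` in it
  set C := centralizer (R : Set G) with hCdef
  have hR1 : R ≠ ⊥ := ne_bot_of_prime_card hR
  haveI hCs : Group.IsSolvable C := isSolvable_of_ne_top hG fun h =>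
    normalizer_ne_top hG hR1 (fun ht => hM.1 (top_le_iff.1 (ht ▸ hRM)))
      (top_le_iff.1 (h.ge.trans (centralizer_le_normalizer _)))
  obtain ⟨F, hF, hXF⟩ := exists_isPiHallOf_ge (π := {b, c}) hCs (hXC.trans inf_le_right)
    fun s hs hd => Or.inl ((Nat.prime_dvd_prime_iff_eq hs hb).1 (hX ▸ hd))
  obtain ⟨l, hl⟩ := Solvable.exists_conj_le_isPiHall (Solvable.isPiHall_of_isPiHallOf hF)
    (K := X₀.subgroupOf C) fun s hs hd => Or.inr (by
      rw [Nat.card_congr (subgroupOfEquivOfLe (hX₀C.trans inf_le_right)).toEquiv, hX₀,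
        Nat.prime_dvd_prime_iff_eq hs hc] at hd
      exact hd)
  set cl := (MulAut.conj (l : G)).toMonoidHom with hcl
  have hinj : Function.Injective cl := (MulAut.conj (l : G)).injective
  set H₂ := H'.map cl with hH₂def
  set X₂ := X₀.map cl with hX₂def
  have hX₂c : Nat.card X₂ = c := by rw [hX₂def, card_map_of_injective hinj, hX₀]
  have hX₂F : X₂ ≤ F := by
    rintro _ ⟨x, hx, rfl⟩
    have h1 := hl (smul_mem_pointwise_smul _ (MulAut.conj l) _
      (mem_subgroupOf.2 hx : (⟨x, (hX₀C hx).2⟩ : C) ∈ X₀.subgroupOf C))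
    exact mem_subgroupOf.1 h1
  have hFC : F ≤ C := hF.1
  have hlR : ∀ x ∈ R, MulAut.conj (l : G) x = x := fun x hx => by
    show (l : G) * x * (l : G)⁻¹ = x
    rw [← l.2 x hx, mul_inv_cancel_right]
  have hH₂ : IsCoatom H₂ := isCoatom_conj hH' l
  have hRH₂ : R ≤ H₂ := fun x hx => ⟨x, hRH hx, hlR x hx⟩
  have hrH₂ : r ∈ Cfsg.tau1 H₂ := by
    refine mem_tau1_map _ (fun h => hrH.2.1 ?_) hrH
    have := mem_sigma_map (MulAut.conj (l : G)⁻¹) h
    rwa [map_conj_map_conj, inv_mul_cancel, map_conj_one] at this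
  have hcH₂ : c ∈ Cfsg.sigma H₂ := mem_sigma_map _ hcH
  have hX₂H : X₂ ≤ H₂ := map_mono ((hX₀C.trans inf_le_left).trans (piCoreOf_le _ _))
  have hX₂C : X₂ ≤ Cfsg.sigmaCore H₂ ⊓ C :=
    le_inf (le_sigmaCore_of_pgroup hG hH₂ hcH₂ (isPGroup_of_prime_card hX₂c) hX₂H)
      (hX₂F.trans hFC)
  have hconj₂ : ∀ g' : G, H₂.map (MulAut.conj g').toMonoidHom ≠ M := fun g' hg' =>
    hconjHM (g' * (l : G)) (by rw [← map_conj_map_conj]; exact hg')
  have hbH₂ : b ∉ Cfsg.sigma H₂ := not_sigma_of_fixed hG hM hH₂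
    (fun g' hg' => hconj₂ g'⁻¹ (by rw [← hg', map_conj_map_conj, inv_mul_cancel, map_conj_one]))
    hrM hR hRM hX hXC
  -- `X₂ ≤ M`
  have hX₂M : X₂ ≤ M := by
    haveI : Group.IsSolvable F :=
      Group.isSolvable_of_isSolvable_injective (Subgroup.inclusion_injective hFC)
    haveI : Nontrivial F := (nontrivial_iff_ne_bot _).2 fun h =>
      ne_bot_of_prime_card hX (le_bot_iff.1 (h ▸ hXF))
    obtain ⟨t, N₀, ht, hN₀, hN₀p, hN₀1⟩ := Solvable.exists_normal_pgroup_ne_bot (G := F)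
    haveI := Fact.mk ht
    set N := N₀.map F.subtype
    have hNp : IsPGroup t N := hN₀p.map _
    have hN1 : N ≠ ⊥ := fun h => hN₀1 ((map_eq_bot_iff_of_injective _ F.subtype_injective).1 h)
    have hFN : F ≤ normalizer (N : Set G) := by
      haveI := hN₀
      have h1 := le_normalizer_map (H := N₀) F.subtype
      rwa [normalizer_eq_top, ← MonoidHom.range_eq_map, range_subtype] at h1
    have htbc : t = b ∨ t = c := hF.2.1 t ht
      ((dvd_card_of_isPGroup hNp hN1).trans (card_dvd_of_le (map_subtype_le _)))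
    rcases htbc with rfl | rfl
    · exact hX₂F.trans (le_of_normal_pgroup hG hM hrM hR hRM hX hXC hXF hFC hNp hN1
        (map_subtype_le _) hFN)
    · have hFH₂ := le_of_normal_pgroup hG hH₂ hrH₂ hR hRH₂ hX₂c hX₂C hX₂F hFC hNp hN1
        (map_subtype_le _) hFN
      have hXX₂ : X₂ ≤ centralizer (X : Set G) :=
        (hX₂C.trans (centralizer_le_of_commute hG hH₂ hrH₂.2.1 hrH₂.2.2.2.2 hrH₂.2.2.2.1 hR hRH₂
          hX (hXF.trans hFH₂) (hXC.trans inf_le_right) hbH₂)).trans inf_le_right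
      exact hXX₂.trans (tau1_centralizer_unique hG hM hrM hR hRM hX hXC).1
  -- `c ∈ τ₃(M)`, and some `τ₁` element commuting with `R` moves `X₂`
  have hc3 : c ∈ Cfsg.tau3 M := by
    rcases tau_cases_of_not_sigma hG hM hc (hX₂c ▸ card_dvd_of_le hX₂M) hcM with h | h | h
    · exact absurd h hc1
    · exact absurd h (hτ2 c)
    · exact h
  have hRX₂ : R ≤ normalizer (X₂ : Set G) :=
    (le_centralizer_iff.1 (hX₂F.trans hFC)).trans (centralizer_le_normalizer _)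
  obtain ⟨D, hYD, hD⟩ := exists_complement_ge hG hM (sup_le hX₂M hRM : X₂ ⊔ R ≤ M)
    fun s hs hd => by
      rcases hs.dvd_mul.1 (hd.trans (card_sup_dvd_mul_of_le_normalizer hRX₂)) with h | h
      · rw [hX₂c, Nat.prime_dvd_prime_iff_eq hs hc] at h
        exact h ▸ hcM
      · rw [hR, Nat.prime_dvd_prime_iff_eq hs hr] at h
        exact h ▸ hrM.2.1
  haveI hDs := isSolvable_of_ne_top hG (H := D) fun h => hM.1 (top_le_iff.1 (h ▸ hD.1))
  obtain ⟨D₁, hD₁, hRD₁, hD₁c⟩ := exists_tau1_hall_ge hG hM hD (le_sup_right.trans hYD)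
    fun s hs hd => ((Nat.prime_dvd_prime_iff_eq hs hr).1 (hR ▸ hd)) ▸ hrM
  obtain ⟨D₃, hD₃, hX₂D₃⟩ := exists_isPiHallOf_ge (π := Cfsg.tau3 M) hDs (le_sup_left.trans hYD)
    fun s hs hd => ((Nat.prime_dvd_prime_iff_eq hs hc).1 (hX₂c ▸ hd)) ▸ hc3
  obtain ⟨hD₃c, hD₃D, hD₃n⟩ := tau3_hall hG hM hD hD₃
  have hmove : ¬ D₁ ≤ centralizer (X₂ : Set G) := by
    intro h
    haveI := hD₃c
    have hDX : D ≤ centralizer (X₂ : Set G) := by
      refine le_of_sylows_le fun s hs hsD => ?_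
      haveI := Fact.mk hs
      rcases tau_cases_of_not_sigma hG hM hs (hsD.trans (card_dvd_of_le hD.1))
        (complement_prime_not_sigma hG hM hD hs hsD) with h1 | h2 | h3
      · obtain ⟨S', hS'⟩ := exists_sylow_le_hall hD₁ h1
        exact ⟨S', hS'.trans h⟩
      · exact absurd h2 (hτ2 s)
      · obtain ⟨S', hS'⟩ := exists_sylow_le_hall hD₃ h3
        exact ⟨S', fun y hy x hx => setLike_mul_comm (hX₂D₃ hx) (hS' hy)⟩
    obtain ⟨x, hx⟩ := exists_prime_orderOf_dvd_card' c (dvd_of_eq hX₂c.symm)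
    have hxD : (x : G) ∈ D := hD₃.1 (hX₂D₃ x.2)
    obtain ⟨P, hP⟩ := exists_sylow_le_hall hD₃ hc3
    have hxP : (⟨x, hxD⟩ : D) ∈ (P : Subgroup D) :=
      SchurSylow.center_pElement_mem_sylow P (k := 1) (mem_center_iff.2 fun y => Subtype.ext
        (hDX y.2 x x.2).symm) (Subtype.ext (by
          rw [pow_one, ← hx]
          show (x : G) ^ orderOf x = 1
          rw [← orderOf_coe, pow_orderOf_eq_one]))
    have hmem := SchurSylow.center_inf_commutator_inf_sylow_le P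
      (mem_center_iff.2 fun y => Subtype.ext (hDX y.2 x x.2).symm) (by
        obtain ⟨y, hy, hyx⟩ := (map_subtype_commutator D).ge (hD₃D (hX₂D₃ x.2))
        rwa [show (⟨x, hxD⟩ : D) = y from Subtype.ext hyx.symm]) hxP
    have hbot : commutator (P : Subgroup D) = ⊥ := SchurSylow.commutator_eq_bot_of_comm fun y z =>
      Subtype.ext (Subtype.ext (setLike_mul_comm (hP (mem_map_of_mem _ y.2))
        (hP (mem_map_of_mem _ z.2))))
    rw [hbot, Subgroup.map_bot, mem_bot] at hmem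
    have hx1 : x = 1 := Subtype.ext (congrArg Subtype.val hmem :)
    rw [hx1, orderOf_one] at hx
    exact hc.ne_one hx.symm
  obtain ⟨s, hs, P, hP, hPD, hPC⟩ : ∃ (s : ℕ), s.Prime ∧ ∃ P : Subgroup G,
      IsPGroup s P ∧ P ≤ D₁ ∧ ¬ P ≤ centralizer (X₂ : Set G) := by
    by_contra hno
    push Not at hno
    exact hmove (le_of_pgroups_le fun s hs P hP hPE => hno s hs P hP hPE)
  obtain ⟨w, hwP, hwC⟩ := SetLike.not_le_iff_exists.1 hPC
  haveI := Fact.mk hs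
  haveI := hD₁c
  have hwp : IsPGroup s (zpowers w) := hP.to_le (zpowers_le.2 hwP)
  have hwD : w ∈ D := hD₁.1 (hPD hwP)
  have hX₂w : w ∈ normalizer (X₂ : Set G) := by
    haveI := hD₃c
    haveI : (X₂.subgroupOf D₃).Characteristic := by
      refine characteristic_iff_map_eq.2 fun e => ?_
      exact eq_of_card_eq_of_isCyclic (card_map_of_injective e.injective)
    have h1 := normalizer_le_normalizer_map_of_characteristic D₃ (X₂.subgroupOf D₃)
    rw [map_subgroupOf_eq_of_le hX₂D₃] at h1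
    exact h1 (hD₃n hwD)
  have hwH₂ : w ∈ H₂ := tau1_normalizer_le hG hH₂ hrH₂ hR hRH₂ hX₂c hX₂C hX₂w
  have hsM : s ∈ Cfsg.tau1 M := hD₁.2.1 s hs ((dvd_card_of_isPGroup hwp fun h =>
    hwC (zpowers_eq_bot.1 h ▸ one_mem _)).trans (card_dvd_of_le (zpowers_le.2 (hPD hwP))))
  have hsH₂ : s ∈ Cfsg.tau1 H₂ := mem_tau1_map _ (fun h => by
      have h' := mem_sigma_map (MulAut.conj (l : G)⁻¹) h
      rw [map_conj_map_conj, inv_mul_cancel, map_conj_one] at h'
      exact (tau1_subset_of_common hG hM hH' hconj' hqM hqH hQ hQM hQH hsM).2.1 h')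
    (tau1_subset_of_common hG hM hH' hconj' hqM hqH hQ hQM hQH hsM)
  refine hwC fun y hy => ?_
  exact mem_centralizer_singleton_iff.1 ((centralizer_le_of_tau1_commute hG hH₂ hrH₂ hR hRH₂
    hsH₂.2.1 hsH₂.2.2.2.2 hwp hwH₂ fun x hx => setLike_mul_comm (hRD₁ hx) (hPD hwP)) (hX₂C hy))

end CfsgLib.OddOrder
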