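import Cfsg.Agent.Lib.OddOrder.KappaStructure
import Cfsg.Agent.Lib.OddOrder.SigmaSignalizer
import Cfsg.Agent.S1378

/-!
BG 14.3: the two kinds of `σ(M)'`-elements centralizing elements of `M_σ`.
-/

set_option autoImplicit false
set_option linter.style.haveILetI false

open scoped commutatorElement Pointwise

namespace CfsgLib.OddOrder

open Subgroup

variable {G : Type*} [Group G] [Finite G] (hG : Cfsg.IsMinSimpleOddOrder G) {M : Subgroup G}
  (hM : IsCoatom M)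
include hG hM

/-- A `τ₃(M)`-element of prime order fixing `x ∈ M_σ` keeps `C(x)` inside `M`. -/
theorem centralizer_le_of_tau3 {q : ℕ} [hq : Fact q.Prime] (h3 : q ∈ Cfsg.tau3 M) {u : G}
    (huM : u ∈ M) (huo : orderOf u = q) {x : G} (hx : x ∈ Cfsg.sigmaCore M) (hx1 : x ≠ 1)
    (hxu : Commute u x) : centralizer ({x} : Set G) ≤ M := by
  by_contra hxM
  obtain ⟨p, hp, hpd⟩ := Nat.exists_prime_and_dvd fun h => hx1 (orderOf_eq_one_iff.1 h)
  haveI := Fact.mk hp
  set z := x ^ (orderOf x / p) with hz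
  have hzo : orderOf z = p := orderOf_pow_orderOf_div (orderOf_pos x).ne' hpd
  have hzσ : z ∈ Cfsg.sigmaCore M := pow_mem hx _
  have hz1 : z ≠ 1 := fun h => hp.ne_one (by rw [← hzo, h, orderOf_one])
  have hzM : ¬ centralizer ({z} : Set G) ≤ M := fun h => hxM fun c hc => h
    (mem_centralizer_singleton_iff.2
      ((show Commute c x from mem_centralizer_singleton_iff.1 hc).pow_right _).eq)
  obtain ⟨L, hL, hCL, hconj, -, ⟨p', hτ', hp'⟩, -, hE⟩ :=
    exists_supporting hG hM (Cfsg.Agent.S1378.result hG).2 hzσ hz1 hzM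
  have hpp : p' = p := (Nat.prime_dvd_prime_iff_eq hτ'.1 hp).1 (hzo ▸ hp')
  subst hpp
  have hpσ : p' ∈ Cfsg.sigma M := sigma_of_dvd_sigmaCore hp
    (hzo ▸ orderOf_dvd_card_of_mem hzσ)
  obtain ⟨B, hBE, hB, hB2⟩ := exists_elementary_in_complement hG hL hE hτ'
  obtain ⟨⟨hEB, -⟩, -, -⟩ := Cfsg.Agent.S1418.result hG L hL (M ⊓ L) hE p' hτ' B ⟨hBE, hB, hB2⟩
  have hBM : B ≤ M := hBE.trans inf_le_left
  have huz : u ∈ centralizer ({z} : Set G) :=
    mem_centralizer_singleton_iff.2 (hxu.pow_right _).eq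
  have hup : IsPGroup q (zpowers u) :=
    IsPGroup.of_card (n := 1) (by rw [Nat.card_zpowers, huo, pow_one])
  have huB : u ∈ centralizer (B : Set G) := by
    refine mem_centralizer_of_derived hG hM hBM (mem_derived_of_tau3 hG hM h3 huM hup)
      (hEB ⟨huM, hCL huz⟩) fun t ht hd => ?_
    rw [hB2] at hd
    rw [(Nat.prime_dvd_prime_iff_eq ht hp).1 (ht.dvd_of_dvd_pow hd)]
    refine ⟨fun hβ => not_idealPrime hG hL hτ'.2.2.1 hτ'.2.2.2 hβ.2, fun hd' => h3.2.1 ?_⟩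
    rw [huo, Nat.prime_dvd_prime_iff_eq hp hq.out] at hd'
    exact hd' ▸ hpσ
  set Q := zpowers u with hQdef
  have hQ : Nat.card Q = q := by rw [Nat.card_zpowers, huo]
  obtain ⟨H, hH, hNH⟩ := exists_isCoatom_ge (normalizer_ne_top hG (ne_bot_of_prime_card hQ)
    (isPGroup_ne_top hG hup))
  obtain ⟨hne, -, hHM⟩ := overgroup_normalizer hG hM h3.2.1 h3.2.2.2 hQ hNH
  have hMH : ∀ g : G, M.map (MulAut.conj g).toMonoidHom ≠ H := fun g hg => hHM g⁻¹ (by
    rw [← hg, map_conj_map_conj, inv_mul_cancel, map_conj_one])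
  have hBH : B ≤ H := by
    refine le_trans ?_ ((centralizer_le_normalizer _).trans hNH)
    rw [hQdef, zpowers_eq_closure, centralizer_closure]
    exact fun b hb => mem_centralizer_singleton_iff.2 (huB b hb)
  have hpH : p' ∈ Cfsg.tau2 H :=
    mem_tau2_of_elementary hG hH (sigma_disjoint hG hM hH hMH hpσ) hBH hB hB2
  have h0 : Cfsg.sigmaCore H ⊓ M = ⊥ :=
    (Cfsg.Agent.S1417.result hG H hH p' hpH B ⟨hBH, hB, hB2⟩).2.2.2.2.1 M hM (fun h => hne h.symm) hBM
  have hQH : Q ≤ H := le_normalizer.trans hNH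
  by_cases hqH : q ∈ Cfsg.sigma H
  · exact ne_bot_of_prime_card hQ (le_bot_iff.1
      (h0 ▸ le_inf (le_sigmaCore_of_pgroup hG hH hqH hup hQH) (zpowers_le.2 huM)))
  · obtain ⟨⟨hr2, hr1⟩, -⟩ := rank_two_of_normalizer_le hG hH hqH hQ hNH
    have hqτ : q ∈ Cfsg.tau2 H := ⟨hq.out, hqH, hr2, hr1⟩
    obtain ⟨D, hBD, hD⟩ := exists_complement_ge hG hH hBH fun t ht hd => by
      rw [hB2] at hd
      rw [(Nat.prime_dvd_prime_iff_eq ht hp).1 (ht.dvd_of_dvd_pow hd)]
      exact hpH.2.1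
    obtain ⟨A, hAD, hA, hA2⟩ := exists_elementary_in_complement hG hH hD hqτ
    obtain ⟨⟨hDA, -⟩, -, -⟩ := Cfsg.Agent.S1418.result hG H hH D hD q hqτ A ⟨hAD, hA, hA2⟩
    obtain ⟨⟨hDB, -⟩, -, -⟩ := Cfsg.Agent.S1418.result hG H hH D hD p' hpH B ⟨hBD, hB, hB2⟩
    have hAB : A ≤ centralizer (B : Set G) := commute_of_normalize_disjoint (hAD.trans hDB)
      (hBD.trans hDA) (disjoint_of_coprime_natCard (by
        rw [hA2, hB2]
        exact Nat.coprime_pow_primes _ _ hq.out hp fun h => h3.2.1 (h ▸ hpσ)))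
    exact not_pRankLE_of_elementary (hAB.trans (centralizer_elementary_le hG hM hBM hB hB2)) hA
      (by rw [hA2]; exact Nat.pow_lt_pow_right hq.out.one_lt one_lt_two) h3.2.2.2

/-- A `τ₃(M)`-element of prime order with fixed points on `M_σ` leaves no room for `τ₂` primes. -/
theorem tau2_empty_of_tau3_fixed {q : ℕ} [hq : Fact q.Prime] (h3 : q ∈ Cfsg.tau3 M) {Q : Subgroup G}
    (hQ : Nat.card Q = q) (hQM : Q ≤ M)
    (hW : Cfsg.sigmaCore M ⊓ centralizer (Q : Set G) ≠ ⊥) (s : ℕ) : s ∉ Cfsg.tau2 M := by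
  have hQτ : ∀ s : ℕ, s.Prime → s ∣ Nat.card Q → s ∈ Cfsg.tau3 M := fun s hs hd =>
    ((Nat.prime_dvd_prime_iff_eq hs hq.out).1 (hQ ▸ hd)) ▸ h3
  obtain ⟨E, hQE, hE⟩ := exists_complement_ge hG hM hQM fun s hs hd => (hQτ s hs hd).2.1
  haveI hEs := isSolvable_of_ne_top hG (H := E) fun h => hM.1 (top_le_iff.1 (h ▸ hE.1))
  obtain ⟨E₃, hE₃, hQE₃⟩ := exists_isPiHallOf_ge (π := Cfsg.tau3 M) hEs hQE hQτ
  obtain ⟨hE₃c, -, hE₃n⟩ := tau3_hall hG hM hE hE₃
  haveI := hE₃c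
  obtain ⟨H, hH, hNH⟩ := exists_isCoatom_ge (normalizer_ne_top hG (ne_bot_of_prime_card hQ)
    (isPGroup_ne_top hG (isPGroup_of_prime_card hQ)))
  obtain ⟨hne, -, -⟩ := overgroup_normalizer hG hM h3.2.1 h3.2.2.2 hQ hNH
  exact tau2_empty_of_kappa3 hG hM hE hQ hQE (hE₃n.trans (le_normalizer_of_le_cyclic hG hQE₃))
    h3.2.2.2 hH hne hNH hW s

/-- BG 14.3. -/
theorem sigma_element_dichotomy {x : G} (hx : x ∈ Cfsg.sigmaCore M) (hx1 : x ≠ 1) {x' : G}
    (hx' : x' ∈ M ⊓ centralizer ({x} : Set G)) (hx'1 : x' ≠ 1)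
    (hσ : ∀ p : ℕ, p.Prime → p ∣ orderOf x' → p ∉ Cfsg.sigma M) :
    ((∀ p : ℕ, p.Prime → p ∣ orderOf x' → p ∈ Cfsg.kappa M) ∧ centralizer ({x} : Set G) ≤ M) ∨
      ((∀ p : ℕ, p.Prime → p ∣ orderOf x' → p ∈ Cfsg.tau2 M) ∧
        (∃ L : Subgroup G, IsCoatom L ∧ ∀ p : ℕ, p.Prime → p ∣ orderOf x' → p ∈ Cfsg.sigma L) ∧
        (centralizer ({x'} : Set G) ≤ M ∧
          ∀ L : Subgroup G, IsCoatom L → centralizer ({x'} : Set G) ≤ L → L = M)) := by
  have hcomm : Commute x' x := mem_centralizer_singleton_iff.1 hx'.2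
  have hord : ∀ {p : ℕ}, p.Prime → p ∣ orderOf x' → orderOf (x' ^ (orderOf x' / p)) = p :=
    fun _ hd => orderOf_pow_orderOf_div (orderOf_pos x').ne' hd
  have hfix : ∀ n : ℕ, x ∈ Cfsg.sigmaCore M ⊓ centralizer ({x' ^ n} : Set G) := fun n =>
    ⟨hx, mem_centralizer_singleton_iff.2 (hcomm.pow_left n).symm.eq⟩
  have hcases : ∀ p : ℕ, p.Prime → p ∣ orderOf x' → p ∈ Cfsg.kappa M ∨ p ∈ Cfsg.tau2 M := by
    intro p hp hd
    haveI := Fact.mk hp
    by_cases hκ : p ∈ Cfsg.kappa M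
    · exact Or.inl hκ
    have hpM : p ∣ Nat.card M := hd.trans (orderOf_dvd_card_of_mem hx'.1)
    by_cases hr1 : Cfsg.PRankLE p 1 M
    · exfalso
      refine hx1 (mem_bot.1 (?_ : x ∈ (⊥ : Subgroup G)))
      rw [← sigmaCore_inf_centralizer_eq_bot_of_not_kappa hG hM hpM (hσ p hp hd) hκ hr1
        (a := x' ^ (orderOf x' / p)) (pow_mem hx'.1 _)
        (by
          have h1 := hord hp hd
          have h2 := pow_orderOf_eq_one (x' ^ (orderOf x' / p))
          rwa [h1] at h2)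
        (fun h => hp.ne_one (by rw [← hord hp hd, h, orderOf_one]))]
      exact hfix _
    · exact Or.inr ⟨hp, hσ p hp hd, pRankLE_two_of_not_sigma hG hM hp (hσ p hp hd), hr1⟩
  by_cases hex : ∃ p : ℕ, p.Prime ∧ p ∣ orderOf x' ∧ p ∈ Cfsg.kappa M
  · obtain ⟨p, hp, hpd, hpκ⟩ := hex
    haveI := Fact.mk hp
    set y := x' ^ (orderOf x' / p) with hy
    have hyo : orderOf y = p := hord hp hpd
    have hyM : y ∈ M := pow_mem hx'.1 _
    have hyx : Commute y x := hcomm.pow_left _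
    refine Or.inl ⟨fun r hr hrd => ?_, ?_⟩
    · haveI := Fact.mk hr
      rcases hcases r hr hrd with h | hr2
      · exact h
      exfalso
      rcases kappa_tau13 hG hM hpκ with hp1 | hp3
      · exact false_of_tau1_commute hG hM hpκ hp1 hyM hyo (u := x' ^ (orderOf x' / r))
          (pow_mem hx'.1 _) (hord hr hrd) ((Commute.refl x').pow_pow _ _) hr2.2.1
          fun h => hr2.2.2.2 (kappa_rank_one h)
      · refine tau2_empty_of_tau3_fixed hG hM hp3 (Q := zpowers y)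
          (by rw [Nat.card_zpowers, hyo]) (zpowers_le.2 hyM) (fun h => hx1 ?_) r hr2
        have h1 : x ∈ Cfsg.sigmaCore M ⊓ centralizer (zpowers y : Set G) := by
          rw [zpowers_eq_closure, centralizer_closure]
          exact hfix _
        exact mem_bot.1 (h ▸ h1)
    · rcases kappa_tau13 hG hM hpκ with hp1 | hp3
      · obtain ⟨r, hr, hrd⟩ := Nat.exists_prime_and_dvd fun h => hx1 (orderOf_eq_one_iff.1 h)
        haveI := Fact.mk hr
        set z := x ^ (orderOf x / r) with hz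
        have hzo : orderOf z = r := orderOf_pow_orderOf_div (orderOf_pos x).ne' hrd
        have h1 := (tau1_centralizer_unique hG hM hp1 (P := zpowers y)
          (by rw [Nat.card_zpowers, hyo]) (zpowers_le.2 hyM) (X := zpowers z)
          (by rw [Nat.card_zpowers, hzo]) (zpowers_le.2 ⟨pow_mem hx _, by
            rw [zpowers_eq_closure, centralizer_closure]
            exact mem_centralizer_singleton_iff.2 (hyx.pow_right _).symm.eq⟩)).1
        rw [zpowers_eq_closure, centralizer_closure] at h1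
        exact fun c hc => h1 (mem_centralizer_singleton_iff.2
          ((show Commute c x from mem_centralizer_singleton_iff.1 hc).pow_right _).eq)
      · exact centralizer_le_of_tau3 hG hM hp3 hyM hyo hx hx1 hyx
  push Not at hex
  have hall : ∀ p : ℕ, p.Prime → p ∣ orderOf x' → p ∈ Cfsg.tau2 M := fun p hp hd =>
    (hcases p hp hd).resolve_left (hex p hp hd)
  obtain ⟨E, hxE, hE⟩ := exists_complement_ge hG hM (zpowers_le.2 hx'.1) fun q hq hd =>
    hσ q hq (by rwa [Nat.card_zpowers] at hd)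
  refine Or.inr ⟨hall, ?_, (Cfsg.Agent.S1420.result hG M hM E hE).2.2.2 x' hx'.1 hx'1 hall
    ⟨hx'.1, x, hx, hx1, hcomm.eq⟩⟩
  obtain ⟨p, hp, hpd⟩ := Nat.exists_prime_and_dvd fun h => hx'1 (orderOf_eq_one_iff.1 h)
  haveI := Fact.mk hp
  obtain ⟨A, hAE, hA, hA2⟩ := exists_elementary_in_complement hG hM hE (hall p hp hpd)
  have hA1 : A ≠ ⊥ := fun h => by
    rw [h, Subgroup.card_bot] at hA2
    exact (Nat.one_lt_pow two_ne_zero hp.one_lt).ne hA2
  obtain ⟨L, hL, hNL⟩ := exists_isCoatom_ge (normalizer_ne_top hG hA1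
    (isPGroup_ne_top hG (isPGroup_of_exp hA.2)))
  have hAL : A ≤ L := le_normalizer.trans hNL
  have hAe : E ≤ normalizer (A : Set G) :=
    (Cfsg.Agent.S1418.result hG M hM E hE p (hall p hp hpd) A ⟨hAE, hA, hA2⟩).1.1
  have hpL : p ∈ Cfsg.sigma L := by
    by_contra hpL
    obtain ⟨D, hAD, hD⟩ := exists_complement_ge hG hL hAL fun q hq hd => by
      rw [hA2] at hd
      rw [(Nat.prime_dvd_prime_iff_eq hq hp).1 (hq.dvd_of_dvd_pow hd)]
      exact hpL
    exact (Cfsg.Agent.S1418.result hG L hL D hD p (mem_tau2_of_elementary hG hL hpL hAL hA hA2) A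
      ⟨hAD, hA, hA2⟩).2.1.2.2 hNL
  refine ⟨L, hL, fun r hr hrd => ?_⟩
  by_cases hrp : r = p
  · exact hrp ▸ hpL
  haveI := Fact.mk hr
  by_contra hrL
  obtain ⟨B, hBE, hB, hB2⟩ := exists_elementary_in_complement hG hM hE (hall r hr hrd)
  have hBe : E ≤ normalizer (B : Set G) :=
    (Cfsg.Agent.S1418.result hG M hM E hE r (hall r hr hrd) B ⟨hBE, hB, hB2⟩).1.1
  have hBA : B ≤ centralizer (A : Set G) := commute_of_normalize_disjoint (hBE.trans hAe)
    (hAE.trans hBe) (disjoint_of_coprime_natCard (by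
      rw [hA2, hB2]; exact Nat.coprime_pow_primes _ _ hr hp hrp))
  have hBL : B ≤ L := (hBA.trans (centralizer_le_normalizer _)).trans hNL
  obtain ⟨-, -, h0⟩ := tau2_facts hG hL (mem_tau2_of_elementary hG hL hrL hBL hB hB2) hBL hB hB2
  exact hA1 (le_bot_iff.1 (h0 ▸ le_inf
    (le_sigmaCore_of_pgroup hG hL hpL (isPGroup_of_exp hA.2) hAL) (le_centralizer_iff.1 hBA)))

end CfsgLib.OddOrder
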