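import Cfsg.Agent.Lib.OddOrder.OperatorTools
import Cfsg.Agent.Lib.PGroup.Huppert

/-!
`p`-groups without subgroups of exponent `p` and order `p³` and with operators without fixed
quotients are abelian.
-/

set_option autoImplicit false
set_option linter.style.haveILetI false

namespace CfsgLib.OddOrder.Operator

open Subgroup
open scoped commutatorElement

universe u v

variable {Γ : Type v} {Q : Type u} [Group Γ] [Finite Γ] [Group Q] [Finite Q] {φ : Γ →* MulAut Q}
  {p : ℕ} [hp : Fact p.Prime]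

theorem commute_of_cyclic_over_central {K : Subgroup Q} [K.Normal] (hK : K ≤ center Q)
    (hi : K.index ≤ p) (hQ : IsPGroup p Q) (a b : Q) : a * b = b * a := by
  obtain ⟨j, hj⟩ := hQ.index K
  have hcyc : IsCyclic (Q ⧸ K) := by
    rcases j with _ | j
    · haveI : Subsingleton (Q ⧸ K) :=
        (Nat.card_eq_one_iff_unique.1 (by rw [← Subgroup.index_eq_card, hj, pow_zero])).1
      infer_instance
    · refine isCyclic_of_prime_card (p := p) ?_
      rw [← Subgroup.index_eq_card]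
      refine le_antisymm hi ?_
      rw [hj]
      exact Nat.le_self_pow (Nat.succ_ne_zero j) p
  exact commutative_of_cyclic_center_quotient (QuotientGroup.mk' K)
    (by rw [QuotientGroup.ker_mk']; exact hK) a b

/-- The core case: class two with commutator subgroup of order `p`. -/
theorem false_of_class_two (hp3 : 3 < p) (hQ : IsPGroup p Q) (hb : CfsgLib.PGroup.ExpBound p Q)
    (hnt : NoTrivialQuotient φ) (hcop : (Nat.card Γ).Coprime p)
    {c : Q} (hc1 : c ≠ 1) (hcp : c ^ p = 1) (hcc : c ∈ center Q)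
    (hgen : ∀ x y : Q, ⁅x, y⁆ ∈ zpowers c) (hnc : ∃ x y : Q, ⁅x, y⁆ ≠ 1)
    (hcinv : Inv φ (zpowers c)) : False := by
  have hZc : zpowers c ≤ center Q := zpowers_le.2 hcc
  have hcomp : ∀ x y : Q, ⁅x, y⁆ ^ p = 1 := fun x y => by
    obtain ⟨i, hi⟩ := hgen x y
    rw [← hi, ← zpow_natCast, ← zpow_mul, mul_comm, zpow_mul, zpow_natCast, hcp, one_zpow]
  let pw : Q →* Q := MonoidHom.mk' (fun x => x ^ p) fun x y => by
    refine CfsgLib.PGroup.mul_pow_prime_eq hp.out x y ?_ ?_ (hcomp y x) (Or.inl ⟨by omega, ?_, ?_⟩)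
    · rw [commutatorElement_eq_one_iff_mul_comm.2 (mem_center_iff.1 (hZc (hgen y x)) x)]
      exact one_mem _
    · rw [commutatorElement_eq_one_iff_mul_comm.2 (mem_center_iff.1 (hZc (hgen y x)) y)]
      exact one_mem _
    · exact commutatorElement_eq_one_iff_mul_comm.2 (mem_center_iff.1 (hZc (hgen y x)) x)
    · exact commutatorElement_eq_one_iff_mul_comm.2 (mem_center_iff.1 (hZc (hgen y x)) y)
  have hpwc : ∀ x, x ^ p ∈ center Q := fun x => mem_center_iff.2 fun y => by
    refine (commutatorElement_eq_one_iff_mul_comm.1 ?_).symm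
    rw [CfsgLib.PGroup.commutator_pow_left x y
      (mem_center_iff.1 (hZc (hgen x y)) x) p, hcomp]
  set P := pw.range with hP
  have hPc : P ≤ center Q := by rintro _ ⟨x, rfl⟩; exact hpwc x
  haveI hPn : P.Normal := ⟨fun n hn g => by
    rw [mem_center_iff.1 (hPc hn) g, mul_inv_cancel_right]; exact hn⟩
  have hPi : P.index ≤ p ^ 2 := by
    have h1 := pw.ker.card_mul_index
    rw [Subgroup.index_ker] at h1
    rw [← P.card_mul_index, ← hP, mul_comm, Nat.mul_right_inj Nat.card_pos.ne'] at h1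
    rw [← h1]
    exact hb _ fun x hx => hx
  have hbig : ∀ K : Subgroup Q, K ≤ center Q → ¬ K.index ≤ p := by
    intro K hK hKi
    haveI : K.Normal := ⟨fun n hn g => by
      rw [mem_center_iff.1 (hK hn) g, mul_inv_cancel_right]; exact hn⟩
    obtain ⟨x, y, hxy⟩ := hnc
    exact hxy (commutatorElement_eq_one_iff_mul_comm.2
      (commute_of_cyclic_over_central hK hKi hQ x y))
  have hPi2 : P.index = p ^ 2 := by
    obtain ⟨j, hj⟩ := hQ.index P
    rw [hj] at hPi ⊢
    have h1 : ¬ j ≤ 1 := fun h => hbig P hPc (hj ▸ (Nat.pow_le_pow_right hp.out.pos h).trans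
      (le_of_eq (pow_one p)))
    have h2 := (Nat.pow_le_pow_iff_right hp.out.one_lt).1 hPi
    congr 1; omega
  have hcP : c ∈ P := by
    by_contra hcP
    refine hbig (P ⊔ zpowers c) (sup_le hPc hZc) ?_
    have h1 : P.relIndex (P ⊔ zpowers c) * (P ⊔ zpowers c).index = p ^ 2 := by
      rw [Subgroup.relIndex_mul_index le_sup_left, hPi2]
    have h2 : P.relIndex (P ⊔ zpowers c) = p := by
      have h3 := relIndex_mul_relIndex ⊥ P (P ⊔ zpowers c) bot_le le_sup_left
      rw [relIndex_bot_left, relIndex_bot_left,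
        CfsgLib.PGroup.card_sup_zpowers hcP (by rw [hcp]; exact one_mem _), mul_comm p] at h3
      exact Nat.eq_of_mul_eq_mul_left Nat.card_pos h3
    rw [h2, sq] at h1
    exact (Nat.eq_of_mul_eq_mul_left hp.out.pos h1).le
  have hab : ∀ x y : Q, ⁅x, y⁆ ∈ P := fun x y => (zpowers_le.2 hcP) (hgen x y)
  -- the iterated power maps
  have hψex : ∀ i, ∃ f : Q →* Q, ∀ x, f x = x ^ p ^ i := by
    intro i
    induction i with
    | zero => exact ⟨MonoidHom.id Q, fun x => by rw [pow_zero, pow_one]; rfl⟩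
    | succ i ih =>
      obtain ⟨f, hf⟩ := ih
      exact ⟨pw.comp f, fun x => by
        show (f x) ^ p = _
        rw [hf, ← pow_mul, pow_succ]⟩
  choose ψ hψ using hψex
  have hinvψ : ∀ i, Inv φ (ψ i).range := by
    rintro i a _ ⟨x, rfl⟩
    exact ⟨φ a x, by rw [hψ, hψ, map_pow]⟩
  have hψc : ∀ i, 1 ≤ i → (ψ i).range ≤ center Q := by
    rintro i hi _ ⟨x, rfl⟩
    rw [hψ, ← Nat.sub_add_cancel hi, pow_succ, pow_mul]
    exact hpwc _
  obtain ⟨n, hn⟩ : ∃ n, ∀ x : Q, x ^ p ^ n = 1 := by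
    obtain ⟨n, hn⟩ := IsPGroup.iff_card.1 hQ
    exact ⟨n, fun x => hn ▸ pow_card_eq_one'⟩
  have hex : ∃ i, c ∉ (ψ i).range := ⟨n, fun ⟨x, hx⟩ => hc1 (by rw [← hx, hψ, hn])⟩
  letI : DecidablePred fun i => c ∉ (ψ i).range := Classical.decPred _
  have hnext := Nat.find_spec hex
  have h0 : 2 ≤ Nat.find hex := by
    by_contra h
    rcases Nat.le_one_iff_eq_zero_or_eq_one.1 (by omega : Nat.find hex ≤ 1) with h' | h' <;>
      rw [h'] at hnext
    · exact hnext ⟨c, by rw [hψ, pow_zero, pow_one]⟩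
    · obtain ⟨x, hx⟩ := hcP
      exact hnext ⟨x, by rw [hψ, pow_one]; exact hx⟩
  obtain ⟨i, hi⟩ : ∃ i, Nat.find hex = i + 2 := ⟨Nat.find hex - 2, by omega⟩
  rw [hi] at hnext
  have hin : c ∈ (ψ (i + 1)).range := by
    have := Nat.find_min hex (show i + 1 < Nat.find hex by omega)
    exact not_not.1 this
  set T := (ψ (i + 2)).range with hT
  haveI hTn : T.Normal := ⟨fun m hm g => by
    rw [mem_center_iff.1 (hψc _ (by omega) hm) g, mul_inv_cancel_right]; exact hm⟩
  set Λ := (T ⊔ zpowers c).comap (ψ (i + 1)) with hΛ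
  set K := T.comap (ψ (i + 1)) with hKdef
  haveI hKn : K.Normal := hTn.comap _
  haveI hΛn : Λ.Normal := (Subgroup.sup_normal T (zpowers c) (hK := ⟨fun m hm g => by
    rw [mem_center_iff.1 (hZc hm) g, mul_inv_cancel_right]; exact hm⟩)).comap _
  have hKinv : Inv φ K := fun a x hx => by
    show ψ (i + 1) (φ a x) ∈ T
    rw [hψ, ← map_pow, ← hψ]
    exact hinvψ _ a _ hx
  have hΛinv : Inv φ Λ := fun a x hx => by
    show ψ (i + 1) (φ a x) ∈ T ⊔ zpowers c
    rw [hψ, ← map_pow, ← hψ]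
    exact (hinvψ _).sup hcinv a _ hx
  have hPK : P ≤ K := by
    rintro _ ⟨x, rfl⟩
    exact ⟨x, by rw [hψ, hψ]; show _ = (x ^ p) ^ p ^ (i + 1); rw [← pow_mul, ← pow_succ']⟩
  obtain ⟨w, hw⟩ := hin
  have hwK : w ∉ K := fun h => hnext (by rw [← hw]; exact h)
  have hwΛ : w ∈ Λ := show ψ (i + 1) w ∈ T ⊔ zpowers c by rw [hw]; exact mem_sup_right (mem_zpowers c)
  have hKΛ : K ≤ Λ := Subgroup.comap_mono le_sup_left
  have hcT : ∀ {k : ℤ}, c ^ k ∈ T → (p : ℤ) ∣ k := fun h =>
    (zpow_mem_iff hnext (by rw [hcp]; exact one_mem _)).1 h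
  -- two elements generating `Q` modulo `P`
  have hsecond : ∀ {L : Subgroup Q}, P ≤ L → L ≠ ⊤ → ∀ {v : Q}, v ∈ L → v ∉ P →
      L = P ⊔ zpowers v ∧ ∀ w ∉ L, ⁅v, w⁆ ≠ 1 ∧ ∀ g, ∃ k : ℤ, g * (w ^ k)⁻¹ ∈ L := by
    intro L hPL hLt v hv hvP
    have hle : P ⊔ zpowers v ≤ L := sup_le hPL (zpowers_le.2 hv)
    have hvpP : v ^ p ∈ P := ⟨v, rfl⟩
    have h1 : P.relIndex L * L.index = p ^ 2 := by rw [Subgroup.relIndex_mul_index hPL, hPi2]
    have h2 : L.index = p := by
      obtain ⟨j, hj⟩ := hQ.index L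
      rw [hj] at h1 ⊢
      have hj0 : j ≠ 0 := fun h => hLt (Subgroup.index_eq_one.1 (by rw [hj, h, pow_zero]))
      have hj2 : j ≤ 2 := (Nat.pow_dvd_pow_iff_le_right hp.out.one_lt).1 (Dvd.intro_left _ h1)
      rcases (by omega : j = 1 ∨ j = 2) with h | h
      · rw [h, pow_one]
      · exfalso
        rw [h] at h1
        have h3 : P.relIndex L = 1 := Nat.eq_of_mul_eq_mul_right (pow_pos hp.out.pos 2)
          (h1.trans (one_mul _).symm)
        exact hvP (Subgroup.relIndex_eq_one.1 h3 hv)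
    have h3 : Nat.card L = p * Nat.card P := by
      have h4 := L.card_mul_index
      rw [← P.card_mul_index, h2, hPi2, sq] at h4
      refine Nat.eq_of_mul_eq_mul_right hp.out.pos ?_
      rw [h4]; ring
    have heq : L = P ⊔ zpowers v := (eq_of_le_of_card_ge hle
      (by rw [CfsgLib.PGroup.card_sup_zpowers hvP hvpP, h3])).symm
    refine ⟨heq, fun w hw => ?_⟩
    haveI : L.Normal := heq ▸ ⟨fun m hm g => by
      rw [show g * m * g⁻¹ = ⁅g, m⁆ * m by rw [commutatorElement_def]; group]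
      exact mul_mem (mem_sup_left (hab g m)) hm⟩
    have hwp : w ^ p ∈ L := hPL ⟨w, rfl⟩
    have htop : L ⊔ zpowers w = ⊤ := by
      refine Subgroup.eq_top_of_card_eq _ ?_
      rw [CfsgLib.PGroup.card_sup_zpowers hw hwp, ← L.card_mul_index, h2, mul_comm]
    have hdec : ∀ g, ∃ k : ℤ, g * (w ^ k)⁻¹ ∈ L := fun g => by
      obtain ⟨m, k, hm, rfl⟩ := exists_zpow_decomp (N := L) (x := w) (htop ▸ mem_top g)
      exact ⟨k, by rwa [mul_inv_cancel_right]⟩
    refine ⟨fun hvw => ?_, hdec⟩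
    refine hbig L (heq ▸ sup_le hPc (zpowers_le.2 (mem_center_iff.2 fun g => ?_))) h2.le
    have hcen : (⊤ : Subgroup Q) ≤ centralizer {v} := by
      rw [← htop, heq]
      refine sup_le (sup_le (fun x hx => mem_centralizer_singleton_iff.2
        (mem_center_iff.1 (hPc hx) v).symm) (zpowers_le.2 (mem_centralizer_singleton_iff.2 rfl)))
        (zpowers_le.2 (mem_centralizer_singleton_iff.2
          (commutatorElement_eq_one_iff_mul_comm.1 hvw).symm))
    exact mem_centralizer_singleton_iff.1 (hcen (mem_top g))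
  have hpw : ∀ x : Q, x ^ p ∈ P := fun x => ⟨x, rfl⟩
  -- scalars on the commutator
  have hcomm : ∀ (v w : Q) (a : Γ) (n m : Q) (α β : ℤ), n ∈ center Q → ⁅m, v⁆ = 1 →
      φ a v = n * v ^ α → φ a w = m * w ^ β → φ a ⁅v, w⁆ = ⁅v, w⁆ ^ (α * β) := by
    intro v w a n m α β hn hm hv hw'
    have hvm : Commute m (v ^ α) :=
      (show Commute m v from commutatorElement_eq_one_iff_mul_comm.1 hm).zpow_right α
    have hnall : ∀ g, Commute n g := fun g => (mem_center_iff.1 hn g).symm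
    have hcc' : ⁅v ^ α, w ^ β⁆ ∈ center Q := hZc (hgen _ _)
    rw [map_commutatorElement, hv, hw', ← commutator_zpow_zpow (hZc (hgen v w))]
    have e1 : ⁅n * v ^ α, m * w ^ β⁆ = ⁅v ^ α, m * w ^ β⁆ := by
      have h2 : ∀ g : Q, n * g * n⁻¹ = g := fun g => by rw [(hnall g).eq, mul_inv_cancel_right]
      calc ⁅n * v ^ α, m * w ^ β⁆
          = n * (v ^ α * (m * w ^ β) * (v ^ α)⁻¹) * n⁻¹ * (m * w ^ β)⁻¹ := by
            rw [commutatorElement_def]; group
        _ = ⁅v ^ α, m * w ^ β⁆ := by rw [h2, commutatorElement_def]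
    rw [e1]
    calc ⁅v ^ α, m * w ^ β⁆ = (v ^ α * m * (v ^ α)⁻¹) * ⁅v ^ α, w ^ β⁆ * m⁻¹ := by
          simp only [commutatorElement_def]; group
      _ = ⁅v ^ α, w ^ β⁆ := by
          rw [← hvm.eq, mul_inv_cancel_right, mem_center_iff.1 hcc' m, mul_inv_cancel_right]
  -- the scalar on `w`, transported to `c`
  have hcpow : ∀ (a : Γ) (m : Q) (β : ℤ), m ∈ K → φ a w = m * w ^ β →
      ∃ t ∈ T, φ a c = t * c ^ β := fun a m β hm h =>
    ⟨ψ (i + 1) m, hm, by rw [← hw, ← map_zpow (ψ (i + 1)), ← map_mul, ← h, hψ, hψ, map_pow]⟩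
  by_cases hKP : K ≤ P
  · -- `Λ` has index `p`, `w` generates it modulo `P`
    have hwP : w ∉ P := fun h => hwK (hPK h)
    have hΛt : Λ ≠ ⊤ := by
      intro h
      -- then `Q = ⟨P, w⟩` is abelian
      refine hbig P hPc ?_
      have hall : ∀ g : Q, ∃ k : ℤ, ψ (i + 1) g * (c ^ k)⁻¹ ∈ T := fun g => by
        obtain ⟨t, k, ht, he⟩ := exists_zpow_decomp (N := T) (x := c)
          (show ψ (i + 1) g ∈ T ⊔ zpowers c from (h ▸ mem_top g : g ∈ Λ))
        exact ⟨k, by rw [he, mul_inv_cancel_right]; exact ht⟩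
      have htop : P ⊔ zpowers w = ⊤ := eq_top_iff.2 fun g _ => by
        obtain ⟨k, hk⟩ := hall g
        have hgK : g * (w ^ k)⁻¹ ∈ K := by
          show ψ (i + 1) _ ∈ T
          rw [map_mul, map_inv, map_zpow, hw]; exact hk
        rw [← inv_mul_cancel_right g (w ^ k)]
        exact mul_mem (mem_sup_left (hKP hgK)) (mem_sup_right (zpow_mem (mem_zpowers w) k))
      have h4 := P.card_mul_index
      have h5 := CfsgLib.PGroup.card_sup_zpowers hwP (hpw w)
      rw [htop, Subgroup.card_top] at h5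
      rw [h5, mul_comm p] at h4
      exact (Nat.eq_of_mul_eq_mul_left Nat.card_pos h4).le
    obtain ⟨hΛeq, hout⟩ := hsecond (hPK.trans hKΛ) hΛt hwΛ hwP
    obtain ⟨u, hu⟩ : ∃ u, u ∉ Λ := by
      by_contra h
      push Not at h
      exact hΛt (eq_top_iff.2 fun g _ => h g)
    obtain ⟨hwu, hdec⟩ := hout u hu
    obtain ⟨s, hs⟩ := hgen w u
    simp only at hs
    refine hu ((hnt Λ hΛn hΛinv fun a x => ?_) ▸ mem_top u)
    obtain ⟨n', α, hn', hα, -⟩ := exists_scalar (N := P) (p := p)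
      (fun a x hx => by obtain ⟨y, rfl⟩ := hx; exact ⟨φ a y, (map_pow (φ a) y p).symm⟩)
      (hΛeq ▸ hΛinv) hwP (hpw w) a
    obtain ⟨m, β, hm, hβ, -⟩ := exists_scalar (N := Λ) (p := p) hΛinv
      (fun b y _ => by
        obtain ⟨k, hk⟩ := hdec (φ b y)
        rw [← inv_mul_cancel_right (φ b y) (u ^ k)]
        exact mul_mem (mem_sup_left hk) (mem_sup_right (zpow_mem (mem_zpowers u) k)))
      hu (hPK.trans hKΛ (hpw u)) a
    have hmw : ⁅m, w⁆ = 1 := by
      rw [hΛeq] at hm
      exact commutatorElement_eq_one_iff_mul_comm.2 (mem_centralizer_singleton_iff.1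
        ((sup_le (fun x hx => mem_centralizer_singleton_iff.2 (mem_center_iff.1 (hPc hx) w).symm)
          (zpowers_le.2 (mem_centralizer_singleton_iff.2 rfl)) :
            P ⊔ zpowers w ≤ centralizer {w}) hm))
    have h1 := hcomm w u a n' m α β (hPc hn') hmw hα hβ
    obtain ⟨t, ht, hc'⟩ := hcpow a n' α (hPK hn') hα
    have hs' : ¬ (p : ℤ) ∣ s := fun h => hwu (by
      rw [← hs]; obtain ⟨j, rfl⟩ := h
      rw [zpow_mul, zpow_natCast, hcp, one_zpow])
    have h2 : (p : ℤ) ∣ s * α * (β - 1) := by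
      refine hcT ?_
      have e : φ a (c ^ s) = c ^ (s * (α * β)) := by rw [zpow_mul, hs]; exact h1
      rw [map_zpow, hc', (show Commute t (c ^ α) from
        (mem_center_iff.1 (zpow_mem hcc α) t)).mul_zpow, ← zpow_mul] at e
      have : c ^ (s * α * (β - 1)) = t ^ s := by
        rw [show s * α * (β - 1) = s * (α * β) - α * s by ring, zpow_sub, ← e, mul_inv_cancel_right]
      rw [this]; exact zpow_mem ht s
    have hβ1 : (p : ℤ) ∣ β - 1 := by
      rcases (Nat.prime_iff_prime_int.1 hp.out).dvd_or_dvd h2 with h | h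
      · rcases (Nat.prime_iff_prime_int.1 hp.out).dvd_or_dvd h with h | h
        · exact absurd h hs'
        · exfalso
          refine hnext ?_
          have hcinvT : φ a c ∈ T := by
            rw [hc']; exact mul_mem ht (zpow_mem_of_dvd (by rw [hcp]; exact one_mem _) h)
          exact (hinvψ (i + 2)).symm_mem hcinvT
      · exact h
    obtain ⟨k, hk⟩ := hdec x
    have hux : φ a (u ^ k) * (u ^ k)⁻¹ ∈ Λ := by
      rw [← QuotientGroup.eq_one_iff, map_zpow, hβ, QuotientGroup.mk_mul, QuotientGroup.mk_zpow,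
        QuotientGroup.mk_mul, (QuotientGroup.eq_one_iff m).2 hm, one_mul, QuotientGroup.mk_inv,
        QuotientGroup.mk_zpow, QuotientGroup.mk_zpow, ← zpow_mul, ← zpow_sub,
        show β * k - k = (β - 1) * k by ring, ← QuotientGroup.mk_zpow, QuotientGroup.eq_one_iff]
      exact zpow_mem_of_dvd (hPK.trans hKΛ (hpw u)) (hβ1.mul_right k)
    rw [show φ a x * x⁻¹ = φ a (x * (u ^ k)⁻¹) * (φ a (u ^ k) * (u ^ k)⁻¹) *
      (x * (u ^ k)⁻¹)⁻¹ by rw [map_mul, map_inv]; group]
    exact mul_mem (mul_mem (hΛinv a _ hk) hux) (inv_mem hk)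
  · -- `K` has index `p` and is generated by some `v` modulo `P`
    obtain ⟨v, hvK, hvP⟩ := SetLike.not_le_iff_exists.1 hKP
    obtain ⟨hKeq, hout⟩ := hsecond hPK (fun h => hwK (h ▸ mem_top w)) hvK hvP
    obtain ⟨hvw, hdec⟩ := hout w hwK
    obtain ⟨s, hs⟩ := hgen v w
    simp only at hs
    refine hvP (mem_of_fixed hcop hnt P
      (fun a x hx => by obtain ⟨y, rfl⟩ := hx; exact ⟨φ a y, (map_pow (φ a) y p).symm⟩)
      hab (hpw v) fun a => ?_)
    obtain ⟨n', α, hn', hα, -⟩ := exists_scalar (N := P) (p := p)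
      (fun a x hx => by obtain ⟨y, rfl⟩ := hx; exact ⟨φ a y, (map_pow (φ a) y p).symm⟩)
      (hKeq ▸ hKinv) hvP (hpw v) a
    obtain ⟨m, β, hm, hβ, hβp⟩ := exists_scalar (N := K) (p := p) hKinv
      (fun b y _ => by
        obtain ⟨k, hk⟩ := hdec (φ b y)
        rw [← inv_mul_cancel_right (φ b y) (w ^ k)]
        exact mul_mem (mem_sup_left hk) (mem_sup_right (zpow_mem (mem_zpowers w) k)))
      hwK (hPK (hpw w)) a
    have hmv : ⁅m, v⁆ = 1 := by
      rw [hKeq] at hm
      exact commutatorElement_eq_one_iff_mul_comm.2 (mem_centralizer_singleton_iff.1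
        ((sup_le (fun x hx => mem_centralizer_singleton_iff.2 (mem_center_iff.1 (hPc hx) v).symm)
          (zpowers_le.2 (mem_centralizer_singleton_iff.2 rfl)) :
            P ⊔ zpowers v ≤ centralizer {v}) hm))
    have h1 := hcomm v w a n' m α β (hPc hn') hmv hα hβ
    obtain ⟨t, ht, hc'⟩ := hcpow a m β hm hβ
    have hs' : ¬ (p : ℤ) ∣ s := fun h => hvw (by
      rw [← hs]; obtain ⟨j, rfl⟩ := h
      rw [zpow_mul, zpow_natCast, hcp, one_zpow])
    have h2 : (p : ℤ) ∣ s * β * (α - 1) := by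
      refine hcT ?_
      have e : φ a (c ^ s) = c ^ (s * (α * β)) := by rw [zpow_mul, hs]; exact h1
      rw [map_zpow, hc', (show Commute t (c ^ β) from
        (mem_center_iff.1 (zpow_mem hcc β) t)).mul_zpow, ← zpow_mul] at e
      have : c ^ (s * β * (α - 1)) = t ^ s := by
        rw [show s * β * (α - 1) = s * (α * β) - β * s by ring, zpow_sub, ← e, mul_inv_cancel_right]
      rw [this]; exact zpow_mem ht s
    have hα1 : (p : ℤ) ∣ α - 1 := by
      rcases (Nat.prime_iff_prime_int.1 hp.out).dvd_or_dvd h2 with h | h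
      · rcases (Nat.prime_iff_prime_int.1 hp.out).dvd_or_dvd h with h | h
        · exact absurd h hs'
        · exact absurd h hβp
      · exact h
    rw [hα, mul_assoc, ← zpow_sub_one]
    exact mul_mem hn' (zpow_mem_of_dvd (hpw v) hα1)

/-- The exponent-bound case is abelian. -/
theorem isMulCommutative_of_expBound (hp3 : 3 < p) (hQ : IsPGroup p Q)
    (hb : CfsgLib.PGroup.ExpBound p Q) (hnt : NoTrivialQuotient φ)
    (hcop : (Nat.card Γ).Coprime p) : IsMulCommutative Q := by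
  by_contra hna
  haveI : IsCyclic (commutator Q) := CfsgLib.PGroup.commutator_isCyclic hp3 hQ hb
  have hD : commutator Q ≤ center Q :=
    cyclic_le_center hnt (commutator Q) (inv_of_characteristic φ _)
  obtain ⟨c, hc⟩ := (Subgroup.isCyclic_iff_exists_zpowers_eq_top (commutator Q)).1 inferInstance
  have hc1 : c ≠ 1 := fun h => hna ⟨⟨fun x y => by
    have hm := CfsgLib.PGroup.commutatorElement_mem_commutator' x y
    rw [← hc, h, zpowers_one_eq_bot, mem_bot] at hm
    exact commutatorElement_eq_one_iff_mul_comm.1 hm⟩⟩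
  have hcc : c ∈ center Q := hD (hc ▸ mem_zpowers c)
  set N := zpowers (c ^ p) with hN
  haveI hNn : N.Normal := ⟨fun m hm g => by
    rw [mem_center_iff.1 (zpowers_le.2 (pow_mem hcc p) hm) g, mul_inv_cancel_right]; exact hm⟩
  have hNinv : Inv φ N := by
    rintro a _ ⟨k, rfl⟩
    obtain ⟨j, hj⟩ : φ a c ∈ zpowers c :=
      hc ▸ inv_of_characteristic φ (commutator Q) a c (hc ▸ mem_zpowers c)
    refine ⟨j * k, ?_⟩
    show (c ^ p) ^ (j * k) = φ a ((c ^ p) ^ k)
    simp only at hj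
    rw [map_zpow, map_pow, ← hj]
    simp only [← zpow_natCast, ← zpow_mul]
    congr 1
    ring
  have hcN : c ∉ N := by
    rintro ⟨j, hj⟩
    obtain ⟨e, he⟩ := IsPGroup.iff_orderOf.1 hQ c
    have hj' : c ^ ((p : ℤ) * j - 1) = 1 := by
      rw [zpow_sub_one, zpow_mul, zpow_natCast]
      exact mul_inv_eq_one.2 hj
    have hd := orderOf_dvd_iff_zpow_eq_one.2 hj'
    rcases e with _ | e
    · exact hc1 (orderOf_eq_one_iff.1 (by rw [he, pow_zero]))
    · rw [he, pow_succ', Nat.cast_mul] at hd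
      have h1 : (p : ℤ) ∣ 1 := by simpa using dvd_sub (dvd_mul_right (p : ℤ) j) (dvd_of_mul_right_dvd hd)
      exact hp.out.not_dvd_one (Int.natCast_dvd_natCast.1 h1)
  set f := QuotientGroup.mk' N with hf
  refine false_of_class_two (φ := quot φ N hNinv) (c := f c) hp3 (hQ.to_quotient N)
    (CfsgLib.PGroup.expBound_quotient hp3 hQ hb N) (noTrivialQuotient_quot hnt N hNinv) hcop
    (fun h => hcN ((QuotientGroup.eq_one_iff c).1 h)) ?_ ?_ ?_ ?_ ?_
  · rw [← map_pow]; exact (QuotientGroup.eq_one_iff _).2 (mem_zpowers _)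
  · rw [mem_center_iff]
    intro y
    obtain ⟨y, rfl⟩ := QuotientGroup.mk'_surjective N y
    rw [← map_mul, ← map_mul, mem_center_iff.1 hcc y]
  · intro x y
    obtain ⟨x, rfl⟩ := QuotientGroup.mk'_surjective N x
    obtain ⟨y, rfl⟩ := QuotientGroup.mk'_surjective N y
    rw [← map_commutatorElement, ← MonoidHom.map_zpowers]
    exact mem_map_of_mem f (hc.symm ▸ CfsgLib.PGroup.commutatorElement_mem_commutator' x y)
  · by_contra h
    push Not at h
    have hle : commutator Q ≤ N := by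
      rw [_root_.commutator_def, commutator_le]
      intro x _ y _
      refine (QuotientGroup.eq_one_iff _).1 ?_
      show f ⁅x, y⁆ = 1
      rw [map_commutatorElement]
      exact h (f x) (f y)
    exact hcN (hle (hc ▸ mem_zpowers c))
  · rw [← MonoidHom.map_zpowers, hc]
    exact inv_map_quot hNinv (inv_of_characteristic φ (commutator Q))

end CfsgLib.OddOrder.Operator
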