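import Cfsg.Agent.Lib.PGroup.Basic
import Cfsg.Agent.Lib.PGroup.PowerMap
import Mathlib.GroupTheory.SpecificGroups.Cyclic
import Mathlib.Algebra.Ring.GeomSum

/-!
# Groups with operators that have no fixed quotient

`φ : Γ →* MulAut Q` and the hypothesis `NoTrivialQuotient φ`: no proper invariant normal subgroup
contains all displacements.
-/

set_option autoImplicit false
set_option linter.style.haveILetI false

namespace CfsgLib.OddOrder.Operator

open Subgroup
open scoped commutatorElement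

variable {Γ Q : Type*} [Group Γ] [Group Q]

/-- Invariance of a subgroup. -/
def Inv (φ : Γ →* MulAut Q) (D : Subgroup Q) : Prop := ∀ a : Γ, ∀ x ∈ D, φ a x ∈ D

/-- `[Q, Γ] = Q`. -/
def NoTrivialQuotient (φ : Γ →* MulAut Q) : Prop :=
  ∀ D : Subgroup Q, D.Normal → Inv φ D → (∀ a x, φ a x * x⁻¹ ∈ D) → D = ⊤

variable {φ : Γ →* MulAut Q}

theorem Inv.symm_mem {D : Subgroup Q} (hD : Inv φ D) {a : Γ} {x : Q} (hx : φ a x ∈ D) : x ∈ D := by
  have h := hD a⁻¹ _ hx
  rwa [← MulAut.mul_apply, ← map_mul, inv_mul_cancel, map_one] at h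

theorem Inv.inf {D E : Subgroup Q} (hD : Inv φ D) (hE : Inv φ E) : Inv φ (D ⊓ E) :=
  fun a x hx => ⟨hD a x hx.1, hE a x hx.2⟩

theorem Inv.sup {D E : Subgroup Q} (hD : Inv φ D) (hE : Inv φ E) : Inv φ (D ⊔ E) := by
  intro a x hx
  have h : (D ⊔ E).map (φ a).toMonoidHom ≤ D ⊔ E := by
    rw [Subgroup.map_sup, sup_le_iff, Subgroup.map_le_iff_le_comap, Subgroup.map_le_iff_le_comap]
    exact ⟨fun y hy => mem_sup_left (hD a y hy), fun y hy => mem_sup_right (hE a y hy)⟩
  exact h ⟨x, hx, rfl⟩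

theorem Inv.centralizer {D : Subgroup Q} (hD : Inv φ D) :
    Inv φ (Subgroup.centralizer (D : Set Q)) := by
  intro a x hx y hy
  have h := congrArg (φ a) (hx ((φ a).symm y) (hD.symm_mem (a := a) (by simpa using hy)))
  simpa using h

theorem inv_of_characteristic (φ : Γ →* MulAut Q) (D : Subgroup Q) [hD : D.Characteristic] :
    Inv φ D :=
  fun a x hx => characteristic_iff_le_comap.1 hD (φ a) hx

/-- An invariant cyclic normal subgroup is central. -/
theorem cyclic_le_center [Finite Q] (hnt : NoTrivialQuotient φ) (K : Subgroup Q) [K.Normal]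
    (hK : Inv φ K) [IsCyclic K] : K ≤ center Q := by
  let θ : Q →* MulAut K := MulAut.conjNormal
  have hcomm : ∀ u v : MulAut K, u * v = v * u := fun u v =>
    (IsCyclic.mulAutMulEquiv K).injective (by rw [map_mul, map_mul, mul_comm])
  have hres : ∀ a : Γ, ∃ b : MulAut K, ∀ x : K, ((b x : K) : Q) = φ a x := fun a =>
    ⟨{ toFun := fun x => ⟨φ a x, hK a x x.2⟩
       invFun := fun x => ⟨(φ a).symm x, hK.symm_mem (a := a) (by simpa using x.2)⟩
       left_inv := fun x => Subtype.ext (by simp)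
       right_inv := fun x => Subtype.ext (by simp)
       map_mul' := fun x y => Subtype.ext (by simp) }, fun x => rfl⟩
  have key : ∀ a x, θ (φ a x) = θ x := by
    intro a x
    obtain ⟨b, hb⟩ := hres a
    have h1 : θ (φ a x) * b = b * θ x := MulEquiv.ext fun y => Subtype.ext (by
      rw [MulAut.mul_apply, MulAut.mul_apply, hb, MulAut.conjNormal_apply, MulAut.conjNormal_apply,
        hb, map_mul, map_mul, map_inv])
    rw [hcomm b] at h1
    exact mul_right_cancel h1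
  have htop := hnt θ.ker inferInstance (fun a x hx => by
    rw [MonoidHom.mem_ker] at hx ⊢
    rw [key, hx]) (fun a x => by
    rw [MonoidHom.mem_ker, map_mul, map_inv, key, mul_inv_cancel])
  intro k hk
  rw [mem_center_iff]
  intro g
  have hg : θ g = 1 := MonoidHom.mem_ker.1 (htop ▸ mem_top g)
  have h := congrArg (fun u : MulAut K => ((u ⟨k, hk⟩ : K) : Q)) hg
  simp only [θ, MulAut.conjNormal_apply, MulAut.one_apply] at h
  exact mul_inv_eq_iff_eq_mul.1 h

/-- Induced operators on a quotient. -/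
noncomputable def quot (φ : Γ →* MulAut Q) (N : Subgroup Q) [N.Normal] (hN : Inv φ N) :
    Γ →* MulAut (Q ⧸ N) where
  toFun a := QuotientGroup.congr N N (φ a) (le_antisymm
    (Subgroup.map_le_iff_le_comap.2 fun x hx => hN a x hx)
    fun x hx => ⟨(φ a).symm x, hN.symm_mem (a := a) (by simpa using hx), by simp⟩)
  map_one' := by
    ext x
    obtain ⟨y, rfl⟩ := QuotientGroup.mk'_surjective N x
    rw [QuotientGroup.congr_mk', map_one]
    rfl
  map_mul' a b := by
    ext x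
    obtain ⟨y, rfl⟩ := QuotientGroup.mk'_surjective N x
    rw [MulAut.mul_apply, QuotientGroup.congr_mk', QuotientGroup.congr_mk',
      QuotientGroup.congr_mk', map_mul]
    rfl

theorem quot_mk (N : Subgroup Q) [N.Normal] (hN : Inv φ N) (a : Γ) (x : Q) :
    quot φ N hN a (QuotientGroup.mk' N x) = QuotientGroup.mk' N (φ a x) := rfl

theorem noTrivialQuotient_quot (hnt : NoTrivialQuotient φ) (N : Subgroup Q) [N.Normal]
    (hN : Inv φ N) : NoTrivialQuotient (quot φ N hN) := by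
  intro D hD hinv hdisp
  have h := hnt (D.comap (QuotientGroup.mk' N)) (hD.comap _)
    (fun a x hx => by
      rw [mem_comap] at hx ⊢
      rw [← quot_mk N hN]
      exact hinv a _ hx)
    (fun a x => by
      rw [mem_comap, map_mul, map_inv, ← quot_mk N hN]
      exact hdisp a _)
  rw [← map_comap_eq_self_of_surjective (QuotientGroup.mk'_surjective N) D, h,
    Subgroup.map_top_of_surjective _ (QuotientGroup.mk'_surjective N)]

theorem inv_map_quot {N : Subgroup Q} [N.Normal] (hN : Inv φ N) {S : Subgroup Q} (hS : Inv φ S) :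
    Inv (quot φ N hN) (S.map (QuotientGroup.mk' N)) := by
  rintro a _ ⟨x, hx, rfl⟩
  exact ⟨φ a x, hS a x hx, (quot_mk N hN a x).symm⟩

/-- A coset fixed by all operators in an abelian quotient of coprime order is trivial. -/
theorem mem_of_fixed [Finite Γ] {p : ℕ} (hcop : (Nat.card Γ).Coprime p) (hnt : NoTrivialQuotient φ)
    (N : Subgroup Q) [N.Normal] (hN : Inv φ N) (hab : ∀ x y : Q, ⁅x, y⁆ ∈ N) {v : Q}
    (hvp : v ^ p ∈ N) (hfix : ∀ a, φ a v * v⁻¹ ∈ N) : v ∈ N := by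
  letI : Fintype Γ := Fintype.ofFinite Γ
  letI : CommGroup (Q ⧸ N) :=
    { (inferInstance : Group (Q ⧸ N)) with
      mul_comm := fun x y => by
        obtain ⟨x, rfl⟩ := QuotientGroup.mk'_surjective N x
        obtain ⟨y, rfl⟩ := QuotientGroup.mk'_surjective N y
        rw [← commutatorElement_eq_one_iff_mul_comm, ← map_commutatorElement]
        exact (QuotientGroup.eq_one_iff _).2 (hab x y) }
  let Nm : Q →* Q ⧸ N := ∏ a : Γ, (QuotientGroup.mk' N).comp (φ a).toMonoidHom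
  have hNm : ∀ x, Nm x = ∏ a : Γ, QuotientGroup.mk' N (φ a x) := fun x => by
    simp [Nm, MonoidHom.finsetProd_apply]
  have htop := hnt Nm.ker inferInstance ?_ ?_
  · have h1 : Nm v = 1 := MonoidHom.mem_ker.1 (htop ▸ mem_top v)
    have hconst : ∀ a ∈ (Finset.univ : Finset Γ),
        QuotientGroup.mk' N (φ a v) = QuotientGroup.mk' N v := fun a _ => by
      rw [← mul_inv_eq_one, ← map_inv, ← map_mul]
      exact (QuotientGroup.eq_one_iff _).2 (hfix a)
    rw [hNm, Finset.prod_congr rfl hconst, Finset.prod_const, Finset.card_univ,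
      ← Nat.card_eq_fintype_card] at h1
    refine (QuotientGroup.eq_one_iff v).1 ?_
    have h2 : (QuotientGroup.mk' N v) ^ p = 1 := by
      rw [← map_pow]; exact (QuotientGroup.eq_one_iff _).2 hvp
    exact orderOf_eq_one_iff.1 (Nat.eq_one_of_dvd_coprimes hcop (orderOf_dvd_of_pow_eq_one h1)
      (orderOf_dvd_of_pow_eq_one h2))
  · intro a x hx
    rw [MonoidHom.mem_ker, hNm] at hx ⊢
    rw [← hx]
    exact Fintype.prod_equiv (Equiv.mulRight a) _ _ fun b => by
      simp [map_mul, MulAut.mul_apply]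
  · intro a x
    rw [MonoidHom.mem_ker, map_mul, map_inv, mul_inv_eq_one, hNm, hNm]
    exact Fintype.prod_equiv (Equiv.mulRight a) _ _ fun b => by
      simp [map_mul, MulAut.mul_apply]

section Scalar

variable {p : ℕ} [hp : Fact p.Prime]

/-- Membership in a subgroup extended by one element. -/
theorem exists_zpow_decomp {N : Subgroup Q} [N.Normal] {x g : Q} (h : g ∈ N ⊔ zpowers x) :
    ∃ (n : Q) (k : ℤ), n ∈ N ∧ g = n * x ^ k := by
  obtain ⟨n, hn, _, ⟨k, rfl⟩, rfl⟩ := Subgroup.mem_sup_of_normal_left.1 h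
  exact ⟨n, k, hn, rfl⟩

omit hp in
theorem zpow_mem_of_dvd {N : Subgroup Q} {x : Q} (hx : x ^ p ∈ N) {k : ℤ} (hk : (p : ℤ) ∣ k) :
    x ^ k ∈ N := by
  obtain ⟨m, rfl⟩ := hk
  rw [zpow_mul, zpow_natCast]
  exact zpow_mem hx m

theorem zpow_mem_iff {N : Subgroup Q} {x : Q} (hxN : x ∉ N) (hx : x ^ p ∈ N) {k : ℤ} :
    x ^ k ∈ N ↔ (p : ℤ) ∣ k := by
  refine ⟨fun h => ?_, zpow_mem_of_dvd hx⟩
  by_contra hk
  have hcop : IsCoprime (p : ℤ) k :=
    (Nat.prime_iff_prime_int.1 hp.out).coprime_iff_not_dvd.2 hk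
  obtain ⟨u, v, huv⟩ := hcop
  apply hxN
  rw [← zpow_one x, ← huv, zpow_add, mul_comm u, mul_comm v, zpow_mul, zpow_mul, zpow_natCast]
  exact mul_mem (zpow_mem hx u) (zpow_mem h v)

/-- The scalar by which an operator acts on a section of order `p`. -/
theorem exists_scalar {N : Subgroup Q} [N.Normal] (hN : Inv φ N) {x : Q}
    (hM : Inv φ (N ⊔ zpowers x)) (hxN : x ∉ N) (hx : x ^ p ∈ N) (a : Γ) :
    ∃ (n : Q) (k : ℤ), n ∈ N ∧ φ a x = n * x ^ k ∧ ¬ (p : ℤ) ∣ k := by
  obtain ⟨n, k, hn, h⟩ := exists_zpow_decomp (hM a x (mem_sup_right (mem_zpowers x)))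
  refine ⟨n, k, hn, h, fun hk => hxN (hN.symm_mem (a := a) ?_)⟩
  rw [h]
  exact mul_mem hn ((zpow_mem_iff hxN hx).2 hk)

/-- A scalar of an operator of odd order with square congruent to one is congruent to one. -/
theorem scalar_eq_one {N : Subgroup Q} [N.Normal] (hN : Inv φ N) {x : Q} (hxN : x ∉ N)
    (hx : x ^ p ∈ N) {a : Γ} (hodd : Odd (orderOf a)) {n : Q} {k : ℤ} (hn : n ∈ N)
    (h : φ a x = n * x ^ k) (hk : (p : ℤ) ∣ k * k - 1) : (p : ℤ) ∣ k - 1 := by
  have hit : ∀ m : ℕ, ∃ n' ∈ N, φ (a ^ m) x = n' * x ^ (k ^ m) := by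
    intro m
    induction m with
    | zero => exact ⟨1, one_mem _, by simp⟩
    | succ m ih =>
      obtain ⟨n', hn', hm⟩ := ih
      obtain ⟨n'', hn'', hpow⟩ : ∃ n'' ∈ N, (n * x ^ k) ^ (k ^ m) = n'' * (x ^ k) ^ (k ^ m) := by
        refine ⟨(n * x ^ k) ^ (k ^ m) * ((x ^ k) ^ (k ^ m))⁻¹, ?_, by simp⟩
        rw [← QuotientGroup.eq_one_iff, QuotientGroup.mk_mul, QuotientGroup.mk_inv,
          QuotientGroup.mk_zpow, QuotientGroup.mk_zpow, QuotientGroup.mk_mul,
          (QuotientGroup.eq_one_iff n).2 hn, one_mul, mul_inv_cancel]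
      refine ⟨φ a n' * n'', mul_mem (hN a n' hn') hn'', ?_⟩
      rw [pow_succ', map_mul, MulAut.mul_apply, hm, map_mul, map_zpow, h, hpow, mul_assoc,
        ← zpow_mul, pow_succ']
  obtain ⟨n', hn', hm⟩ := hit (orderOf a)
  rw [pow_orderOf_eq_one, map_one, MulAut.one_apply] at hm
  have h1 : (p : ℤ) ∣ k ^ orderOf a - 1 := by
    refine (zpow_mem_iff hxN hx).1 ?_
    have : x ^ (k ^ orderOf a - 1) = n'⁻¹ := by
      rw [zpow_sub_one]
      conv_lhs => arg 2; rw [hm]
      group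
    rw [this]; exact inv_mem hn'
  obtain ⟨j, hj⟩ := hodd
  rw [hj] at h1
  have h2 : (p : ℤ) ∣ k ^ (2 * j) - 1 := by
    rw [pow_mul, sq]
    exact hk.trans ((sub_one_dvd_pow_sub_one _ _))
  have h3 : k - 1 = (k ^ (2 * j + 1) - 1) - k * (k ^ (2 * j) - 1) := by ring
  rw [h3]
  exact dvd_sub h1 (h2.mul_left k)

omit hp in
/-- Bilinearity of a central commutator. -/
theorem commutator_zpow_zpow {x y : Q} (h : ⁅x, y⁆ ∈ center Q) (m n : ℤ) :
    ⁅x ^ m, y ^ n⁆ = ⁅x, y⁆ ^ (m * n) := by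
  set c := ⁅x, y⁆ with hc
  have hcy : Commute c y := mem_center_iff.1 h y |>.symm
  have h1 : x * y ^ n * x⁻¹ = c ^ n * y ^ n := by
    rw [← conj_zpow, show x * y * x⁻¹ = c * y by rw [hc, commutatorElement_def]; group,
      hcy.mul_zpow]
  have hx : Commute (y ^ n) c := (hcy.zpow_right n).symm
  have h2 : y ^ n * x * (y ^ n)⁻¹ = c ^ (-n) * x := by
    calc y ^ n * x * (y ^ n)⁻¹ = (c ^ n)⁻¹ * (c ^ n * y ^ n) * x * (y ^ n)⁻¹ := by group
      _ = (c ^ n)⁻¹ * (x * y ^ n * x⁻¹) * x * (y ^ n)⁻¹ := by rw [h1]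
      _ = c ^ (-n) * x := by group
  have h3 : y ^ n * x ^ m * (y ^ n)⁻¹ = c ^ (-n * m) * x ^ m := by
    rw [← conj_zpow, h2, (show Commute (c ^ (-n)) x from
      (mem_center_iff.1 (zpow_mem h _) x).symm).mul_zpow, ← zpow_mul]
  have hxm : Commute (x ^ m) (c ^ (-n * m)) := mem_center_iff.1 (zpow_mem h _) _
  calc ⁅x ^ m, y ^ n⁆ = x ^ m * (y ^ n * x ^ m * (y ^ n)⁻¹)⁻¹ := by
        rw [commutatorElement_def]; group
    _ = x ^ m * ((x ^ m)⁻¹ * (c ^ (-n * m))⁻¹) := by rw [h3, mul_inv_rev]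
    _ = c ^ (m * n) := by
        rw [mul_inv_cancel_left, ← zpow_neg]; congr 1; ring

end Scalar

end CfsgLib.OddOrder.Operator
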