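import Cfsg.Agent.Lib.OddOrder.MaxTwoElem
import Cfsg.Agent.Lib.OddOrder.SigmaApps
import Cfsg.Agent.Lib.OddOrder.RankTwoTower
import Cfsg.Agent.Lib.Solvable.Hall

/-!
BG 10.11 (a), (b): `σ(M)'`-subgroups of a maximal subgroup.
-/

set_option autoImplicit false
set_option linter.style.haveILetI false

open scoped commutatorElement

namespace CfsgLib.OddOrder

open Subgroup

/-- The Sylow subgroup for the largest prime of an odd solvable group of rank at most two. -/
theorem exists_characteristic_sylow {Y : Type*} [Group Y] [Finite Y] [Group.IsSolvable Y]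
    (hodd : Odd (Nat.card Y)) (hr : Cfsg.RankLE 2 Y) (hY : Nat.card Y ≠ 1) :
    ∃ p : ℕ, p.Prime ∧ p ∣ Nat.card Y ∧
      ∃ N : Subgroup Y, N.Characteristic ∧ IsPGroup p N ∧ ¬ p ∣ N.index := by
  classical
  have hne : ((Nat.card Y).primeFactors).Nonempty := by
    obtain ⟨q, hq, hqd⟩ := Nat.exists_prime_and_dvd hY
    exact ⟨q, Nat.mem_primeFactors.2 ⟨hq, hqd, Nat.card_pos.ne'⟩⟩
  set p := (Nat.card Y).primeFactors.max' hne
  obtain ⟨hp, hpd, -⟩ := Nat.mem_primeFactors.1 ((Nat.card Y).primeFactors.max'_mem hne)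
  haveI := Fact.mk hp
  obtain ⟨N, hNc, hN⟩ := exists_characteristic_hall hodd (Or.inl hr) (p - 1)
  refine ⟨p, hp, hpd, N, hNc, isPiSubgroup_singleton.1 fun q hq hd => ?_,
    hN.2 p hp ⟨hp, Nat.sub_lt hp.pos one_pos⟩⟩
  have h1 : q ≤ p := Finset.le_max' _ q
    (Nat.mem_primeFactors.2 ⟨hq, hd.trans (card_subgroup_dvd_card N), Nat.card_pos.ne'⟩)
  have h2 := (hN.1 q hq hd).2
  exact Set.mem_singleton_iff.2 (by omega)

variable {G : Type*} [Group G] [Finite G] (hG : Cfsg.IsMinSimpleOddOrder G) {M : Subgroup G}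
  (hM : IsCoatom M)
include hG hM

theorem sigma_nonempty : (Cfsg.sigma M).Nonempty := by
  by_contra hne
  have hr : Cfsg.RankLE 2 M := fun q hq => by_contra fun h =>
    hne ⟨q, alpha_subset_sigma hG hM ⟨hq, h⟩⟩
  haveI := isSolvable_of_ne_top hG hM.1
  obtain ⟨p, hp, hpd, N, hNc, hNp, hNi⟩ := exists_characteristic_sylow (odd_card_subgroup hG M) hr
    fun h => ne_bot_of_isCoatom hG hM (card_eq_one.1 h)
  haveI := Fact.mk hp
  haveI := hNc
  haveI : N.Normal := inferInstance
  refine hne ⟨p, hp, hpd, hNp.toSylow hNi, ?_⟩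
  rw [IsPGroup.toSylow_coe]
  refine le_of_eq (normalizer_eq_of_isCoatom_of_le hG hM ?_ (map_subtype_le _)
    (le_normalizer.trans (normalizer_le_normalizer_map_of_characteristic M N)))
  rw [Ne, map_eq_bot_iff_of_injective _ M.subtype_injective]
  intro h
  exact hNi (by rwa [h, index_bot])

/-- BG 10.11 (a). -/
theorem not_inUniqueMaximal_of_sigma' {K : Subgroup G} (hKM : K ≤ M)
    (hK : ∀ q : ℕ, q.Prime → q ∣ Nat.card K → q ∉ Cfsg.sigma M) :
    ¬ Cfsg.InUniqueMaximal K := by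
  intro hU
  haveI := isSolvable_of_ne_top hG hM.1
  obtain ⟨E₀, hE₀, hKE₀⟩ := Solvable.exists_isPiHall_ge (G := M) (π := {q | q ∉ Cfsg.sigma M})
    (K := K.subgroupOf M) fun q hq hd =>
      hK q hq (by rwa [Nat.card_congr (subgroupOfEquivOfLe hKM).toEquiv] at hd)
  set E := E₀.map M.subtype
  have hEM : E ≤ M := map_subtype_le _
  have hKE : K ≤ E := by
    rw [← map_subgroupOf_eq_of_le hKM]
    exact map_mono hKE₀
  have hE1 : E ≠ ⊥ := fun h => by
    have hK1 : K = ⊥ := le_bot_iff.1 (hKE.trans h.le)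
    exact ne_bot_of_inUniqueMaximal hG hU hK1
  have hEσ : ∀ q : ℕ, q.Prime → q ∣ Nat.card E → q ∉ Cfsg.sigma M := fun q hq hd => by
    rw [card_map_of_injective M.subtype_injective] at hd
    exact hE₀.1 q hq hd
  have hEt : E ≠ ⊤ := fun h => hM.1 (top_le_iff.1 (h ▸ hEM))
  haveI := isSolvable_of_ne_top hG hEt
  have hr : Cfsg.RankLE 2 E := by
    intro q hq
    haveI := Fact.mk hq
    by_contra h
    have hα : q ∈ Cfsg.alpha M := ⟨hq, fun h' => h (TwoFusion.PRank.pRankLE_mono hEM h')⟩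
    obtain ⟨B, hB, hBe, hBc⟩ := exists_elementary_of_not_pRankLE h
    refine hEσ q hq ?_ (alpha_subset_sigma hG hM hα)
    obtain ⟨n, hn⟩ := (isPGroup_of_exp hBe.2).exists_card_eq
    rcases n with _ | n
    · rw [hn, pow_zero] at hBc
      exact absurd hBc (Nat.one_le_pow _ _ hq.pos).not_gt
    · exact (hn ▸ dvd_pow_self q n.succ_ne_zero).trans (card_dvd_of_le hB)
  obtain ⟨p, hp, hpd, N, hNc, hNp, hNi⟩ := exists_characteristic_sylow (odd_card_subgroup hG E) hr
    fun h => hE1 (card_eq_one.1 h)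
  haveI := Fact.mk hp
  haveI := hNc
  set P := N.map E.subtype with hP
  have hPE : P ≤ E := map_subtype_le _
  have hPp : IsPGroup p P := hNp.map _
  have hPi : ¬ p ∣ (P.subgroupOf M).index := by
    show ¬ p ∣ P.relIndex M
    rw [← relIndex_mul_relIndex P E M hPE hEM]
    intro hd
    rcases hp.dvd_mul.1 hd with h | h
    · rw [hP, relIndex, subgroupOf, comap_map_eq_self_of_injective E.subtype_injective] at h
      exact hNi h
    · rw [relIndex, subgroupOf, comap_map_eq_self_of_injective M.subtype_injective] at h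
      exact hE₀.2 p hp (hEσ p hp hpd) h
  refine hEσ p hp hpd ⟨hp, hpd.trans (card_dvd_of_le hEM),
    (hPp.of_equiv (subgroupOfEquivOfLe (hPE.trans hEM)).symm).toSylow hPi, ?_⟩
  rw [IsPGroup.toSylow_coe, map_subgroupOf_eq_of_le (hPE.trans hEM)]
  have hP1 : P ≠ ⊥ := fun h => by
    rw [hP, map_eq_bot_iff_of_injective _ E.subtype_injective] at h
    exact hNi (by rwa [h, index_bot])
  refine le_of_inUniqueMaximal hU hM hKM
    (normalizer_ne_top hG hP1 (isPGroup_ne_top hG hPp)) ?_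
  exact hKE.trans (le_normalizer.trans (normalizer_le_normalizer_map_of_characteristic E N))

/-- BG 10.11 (b): no noncyclic elementary `σ(M)'`-subgroup of `M` centralizes `M_σ`. -/
theorem not_le_centralizer_sigmaCore {p : ℕ} [hp : Fact p.Prime] (hpσ : p ∉ Cfsg.sigma M)
    {X : Subgroup G} (hXM : X ≤ M) (hXe : Cfsg.IsElementaryAbelian p X)
    (hX2 : Nat.card X = p ^ 2) : ¬ X ≤ centralizer (Cfsg.sigmaCore M : Set G) := by
  intro hXC
  have hXσ : ∀ s : ℕ, s.Prime → s ∣ Nat.card X → s ∉ Cfsg.sigma M := fun s hs hd => by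
    rw [hX2] at hd
    rwa [(Nat.prime_dvd_prime_iff_eq hs hp.out).1 (hs.dvd_of_dvd_pow hd)]
  have hXnU := not_inUniqueMaximal_of_sigma' hG hM hXM hXσ
  have hXt : X ≠ ⊤ := isPGroup_ne_top hG (isPGroup_of_exp hXe.2)
  have hα : ∀ s : ℕ, s.Prime → Cfsg.PRankLE s 2 M := by
    intro s hs
    haveI := Fact.mk hs
    by_contra h
    refine hXnU (uniqueness_theorem hG hXt ?_ (Or.inr ?_))
    · exact not_rankLE_of_not_pRankLE (not_pRankLE_of_elementary le_rfl hXe
        (hX2 ▸ Nat.pow_lt_pow_right hp.out.one_lt one_lt_two))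
    obtain ⟨B, hBM, hBe, hB⟩ := exists_elementary_of_not_pRankLE h
    obtain ⟨S, hS⟩ :=
      ((isPGroup_of_exp hBe.2).of_equiv (subgroupOfEquivOfLe hBM).symm).exists_le_sylow
    refine not_rankLE_of_not_pRankLE (not_pRankLE_of_elementary
      ((?_ : B ≤ Cfsg.sigmaCore M).trans (le_centralizer_iff.1 hXC)) hBe hB)
    rw [← map_subgroupOf_eq_of_le hBM]
    exact map_mono (hS.trans (sylow_le_sigmaCore hG hM (alpha_subset_sigma hG hM ⟨hs, h⟩) S))
  have hXmax : ∀ B : Subgroup G, Cfsg.IsElementaryAbelian p B → X ≤ B → B = X :=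
    fun B hB hXB => elementary_maximal hG hM (hα p hp.out) hXM hXe hX2 hB hXB
  obtain ⟨q, hq⟩ := sigma_nonempty hG hM
  haveI := Fact.mk hq.1
  have hpq : p ≠ q := fun h => hpσ (h ▸ hq)
  obtain ⟨S⟩ : Nonempty (Sylow q M) := inferInstance
  set Q := (S : Subgroup M).map M.subtype with hQ
  have hmx := isMaxPIn_top_of_sigma hq (isMaxPIn_of_sylow S)
  have hXQ : X ≤ centralizer (Q : Set G) :=
    hXC.trans (centralizer_le (map_mono (sylow_le_sigmaCore hG hM hq S)))
  have hQmax : Q ∈ Cfsg.maxInvSubgroups ⊤ X {q} :=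
    ⟨⟨le_top, isPiSubgroup_singleton.2 hmx.pgroup, hXQ.trans (centralizer_le_normalizer _)⟩,
      fun R hR hle => hmx.max R (isPiSubgroup_singleton.1 hR.2.1) hle le_top⟩
  have hqC : q ∣ Nat.card (centralizer (X : Set G)) := by
    refine dvd_trans ?_ (card_dvd_of_le (le_centralizer_iff.1 hXQ))
    rw [hQ, card_map_of_injective M.subtype_injective]
    exact S.dvd_card_of_dvd_card hq.2.1
  obtain ⟨P, hXP, -, -, hPQ⟩ :=
    exists_sylow_normalizer_factor hG hpq hXe hX2 hXmax hqC hQmax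
  have hNQ : normalizer (Q : Set G) ≤ M := normalizer_le_of_sigma hq (isMaxPIn_of_sylow S)
  have hPD : (P : Subgroup G) ≤ ⁅M, M⁆ := hPQ.trans (commutator_mono hNQ hNQ)
  have hPM : (P : Subgroup G) ≤ M := hPD.trans (Solvable.commutator_le_of_normalizes le_normalizer)
  haveI := isSolvable_of_ne_top hG hM.1
  set F := Cfsg.fittingSubgroup M
  haveI : F.Normal := Solvable.fittingSubgroup_normal _
  have hDF : commutator M ≤ F :=
    commutator_le_fittingSubgroup (odd_card_subgroup hG M) (Or.inl fun s hs => hα s hs)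
  set S₀ := P.subtype hPM
  have hS₀F : (S₀ : Subgroup M) ≤ F := by
    refine le_trans ?_ hDF
    rw [Sylow.coe_subtype, ← map_le_map_iff_of_injective M.subtype_injective,
      subgroupOf_map_subtype, inf_eq_left.2 hPM, map_subtype_commutator]
    exact hPD
  set T := S₀.subtype hS₀F
  haveI hTn : (T : Subgroup F).Normal :=
    ((Group.isNilpotent_of_finite_tfae (G := F)).out 0 3 rfl rfl).mp
      (Solvable.fittingSubgroup_isNilpotent M) p ‹_› T
  haveI : (T : Subgroup F).Characteristic := Sylow.characteristic_of_normal T hTn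
  haveI hS₀n : (S₀ : Subgroup M).Normal := by
    have h := (inferInstance : ((T : Subgroup F).map F.subtype).Normal)
    rwa [Sylow.coe_subtype, subgroupOf_map_subtype, inf_eq_left.2 hS₀F] at h
  have hP1 : (P : Subgroup G) ≠ ⊥ := fun h => by
    have := card_dvd_of_le hXP
    rw [h, card_bot, Nat.dvd_one, hX2] at this
    exact absurd this (Nat.one_lt_pow two_ne_zero hp.out.one_lt).ne'
  refine hpσ ⟨hp.out, (hX2 ▸ dvd_pow_self p two_ne_zero : p ∣ Nat.card X).trans (card_dvd_of_le hXM),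
    S₀, ?_⟩
  rw [Sylow.coe_subtype, subgroupOf_map_subtype, inf_eq_left.2 hPM]
  refine le_of_eq (normalizer_eq_of_isCoatom_of_le hG hM hP1 hPM ?_)
  have h := le_normalizer_map (H := (S₀ : Subgroup M)) M.subtype
  rw [Sylow.coe_subtype, subgroupOf_map_subtype, inf_eq_left.2 hPM] at h
  refine le_trans ?_ h
  rw [← Sylow.coe_subtype, normalizer_eq_top, ← MonoidHom.range_eq_map, range_subtype]

/-- BG 10.11 (b). -/
theorem pRankLE_one_inf_centralizer {K : Subgroup G} (hKM : K ≤ M)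
    (hK : ∀ q : ℕ, q.Prime → q ∣ Nat.card K → q ∉ Cfsg.sigma M) :
    Cfsg.RankLE 1 ↥(K ⊓ centralizer (Cfsg.sigmaCore M : Set G)) := by
  intro p hp
  haveI := Fact.mk hp
  by_contra h
  obtain ⟨E, hE, hEe, hEc⟩ := exists_elementary_of_not_pRankLE h
  rw [pow_one] at hEc
  obtain ⟨n, hn⟩ := (isPGroup_of_exp hEe.2).exists_card_eq
  have hn2 : 2 ≤ n := by
    rw [hn] at hEc
    exact (Nat.pow_lt_pow_iff_right hp.one_lt).1 (by rwa [pow_one] : p ^ 1 < p ^ n)
  obtain ⟨A₀, hA₀⟩ := Sylow.exists_subgroup_card_pow_prime (G := E) p (n := 2)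
    (hn ▸ pow_dvd_pow p hn2)
  have hAE : A₀.map E.subtype ≤ E := map_subtype_le _
  refine not_le_centralizer_sigmaCore hG hM (hK p hp ?_) (hAE.trans (hE.trans (inf_le_left.trans hKM)))
    ⟨?_, fun a ha => hEe.2 a (hAE ha)⟩ (by rw [card_map_of_injective E.subtype_injective, hA₀])
    (hAE.trans (hE.trans inf_le_right))
  · exact (hn ▸ dvd_pow_self p (by omega) : p ∣ Nat.card E).trans (card_dvd_of_le (hE.trans inf_le_left))
  · haveI := hEe.1
    exact map_isMulCommutative A₀ E.subtype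

/-- BG 10.11 (b): the part in `M'` is cyclic. -/
theorem isCyclic_inf_centralizer_commutator {K : Subgroup G} (hKM : K ≤ M)
    (hK : ∀ q : ℕ, q.Prime → q ∣ Nat.card K → q ∉ Cfsg.sigma M) :
    IsCyclic ↥(K ⊓ centralizer (Cfsg.sigmaCore M : Set G) ⊓ ⁅M, M⁆) := by
  set Z := K ⊓ centralizer (Cfsg.sigmaCore M : Set G) ⊓ ⁅M, M⁆
  haveI := isSolvable_of_ne_top hG hM.1
  set N := Cfsg.piCore (Cfsg.sigma M) M with hN
  have hr : Cfsg.RankLE 2 (↥M ⧸ N) := by
    intro q hq
    haveI := Fact.mk hq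
    by_cases hqσ : q ∈ Cfsg.sigma M
    · intro A _ hAq
      obtain ⟨S⟩ : Nonempty (Sylow q M) := inferInstance
      obtain ⟨n, hn⟩ := (isPGroup_of_exp hAq).exists_card_eq
      rcases n with _ | n
      · rw [hn, pow_zero]; exact Nat.one_le_pow _ _ hq.pos
      · refine absurd ?_ (fun hd : q ∣ N.index =>
          S.not_dvd_index (hd.trans (index_dvd_of_le (sylow_le_sigmaCore hG hM hqσ S))))
        rw [index_eq_card]
        exact (hn ▸ dvd_pow_self q n.succ_ne_zero).trans (card_subgroup_dvd_card A)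
    · refine pRankLE_of_coprime_ker (QuotientGroup.mk'_surjective N) ?_ (by
        by_contra h
        exact hqσ (alpha_subset_sigma hG hM ⟨hq, h⟩))
      rw [QuotientGroup.ker_mk']
      exact Nat.coprime_of_dvd fun s hs h1 h2 =>
        hqσ ((Nat.prime_dvd_prime_iff_eq hs hq).1 h2 ▸ piCore_isPiSubgroup _ _ s hs h1)
  haveI : Group.IsSolvable (↥M ⧸ N) :=
    Group.isSolvable_of_surjective (QuotientGroup.mk'_surjective _)
  haveI := Solvable.fittingSubgroup_isNilpotent (↥M ⧸ N)
  haveI := isNilpotent_of_subgroup_le inferInstance (commutator_le_fittingSubgroup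
    (Odd.of_dvd_nat (odd_card_subgroup hG M) (card_quotient_dvd_card N)) (Or.inl hr))
  have hZM : Z ≤ M := inf_le_left.trans (inf_le_left.trans hKM)
  have hmap : ∀ z : Z, QuotientGroup.mk' N ⟨(z : G), hZM z.2⟩ ∈ commutator (↥M ⧸ N) := by
    intro z
    have h : (z : G) ∈ (commutator M).map M.subtype := by
      rw [map_subtype_commutator]; exact z.2.2
    obtain ⟨d, hd, hdz⟩ := h
    rw [show (⟨(z : G), hZM z.2⟩ : M) = d from Subtype.ext hdz.symm]
    have h2 := mem_map_of_mem (QuotientGroup.mk' N) hd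
    rw [_root_.commutator_def, map_commutator] at h2
    exact commutator_mono le_top le_top h2
  let φ : Z →* commutator (↥M ⧸ N) :=
    MonoidHom.mk' (fun z => ⟨_, hmap z⟩) fun a b => Subtype.ext (map_mul (QuotientGroup.mk' N)
      (⟨(a : G), hZM a.2⟩ : M) ⟨(b : G), hZM b.2⟩)
  have hinj : Function.Injective φ := by
    refine (injective_iff_map_eq_one φ).2 fun z hz => Subtype.ext ?_
    have h1 : (⟨(z : G), hZM z.2⟩ : M) ∈ N := (QuotientGroup.eq_one_iff _).1 (congrArg Subtype.val hz)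
    refine orderOf_eq_one_iff.1 (Nat.eq_one_iff_not_exists_prime_dvd.2 fun s hs hd => ?_)
    exact hK s hs (hd.trans (orderOf_dvd_card_of_mem z.2.1.1))
      (piCore_isPiSubgroup _ M s hs (((Subgroup.orderOf_mk (H := M) (z : G) (hZM z.2)).symm ▸ hd : s ∣ orderOf
        (⟨(z : G), hZM z.2⟩ : M)).trans (orderOf_dvd_card_of_mem h1)))
  haveI : Group.IsNilpotent Z := Group.nilpotent_of_mulEquiv (MonoidHom.ofInjective hinj).symm
  haveI : IsZGroup Z := by
    refine (isZGroup_iff _).2 fun q hq S => ?_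
    haveI := Fact.mk hq
    obtain ⟨n, hn⟩ := S.2.exists_card_eq
    rcases n with _ | n
    · haveI : Subsingleton (S : Subgroup Z) := (Nat.card_eq_one_iff_unique.1 (hn.trans (pow_zero q))).1
      exact isCyclic_of_subsingleton
    · by_contra hnc
      exact not_pRankLE_one_of_not_isCyclic (prime_ne_two_of_dvd_card hG
          ((hn ▸ dvd_pow_self q n.succ_ne_zero).trans (card_subgroup_dvd_card _))) S.2 hnc
        (TwoFusion.PRank.pRankLE_of_injective _ (subtype_injective _)
          (TwoFusion.PRank.pRankLE_mono inf_le_left (pRankLE_one_inf_centralizer hG hM hKM hK q hq)))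
  infer_instance

end CfsgLib.OddOrder
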