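import Cfsg.Agent.Lib.OddOrder.TransitivityRank
import Cfsg.Agent.Lib.OddOrder.PPrime
import Cfsg.Agent.Lib.Solvable.CoprimeGeneration
import Cfsg.Agent.Lib.PGroup.Basic

/-!
Criteria for the transitivity hypothesis (BG 7.5), relative to odd-order `p`-stability.
-/

set_option autoImplicit false
set_option linter.style.haveILetI false

namespace CfsgLib.OddOrder

open Subgroup

universe u

section General

variable {G : Type u} [Group G] [Finite G] {p : ℕ} [hp : Fact p.Prime]

omit [Finite G] in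
theorem primesNotDvd_prime_pow {n : ℕ} (hn : n ≠ 0) :
    Cfsg.primesNotDvd (p ^ n) = Cfsg.primesNotDvd p := by
  ext q
  constructor
  · rintro ⟨hq, hd⟩
    exact ⟨hq, fun h => hd (h.trans (dvd_pow_self p hn))⟩
  · rintro ⟨hq, hd⟩
    exact ⟨hq, fun h => hd (hq.dvd_of_dvd_pow h)⟩

theorem map_pPrimeCore_subtype (X : Subgroup G) :
    (Cfsg.pPrimeCore p X).map X.subtype = Cfsg.piCoreOf (Cfsg.primesNotDvd p) X := by
  rw [pPrimeCore_eq_piCore]; rfl

theorem coprime_subgroupOf {V : Subgroup G} (hV : (Nat.card V).Coprime p) (X : Subgroup G) :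
    (Nat.card (V.subgroupOf X)).Coprime p :=
  hV.coprime_dvd_left (Subgroup.card_comap_dvd_of_injective _ _ X.subtype_injective)

omit [Finite G] hp in
theorem subgroupOf_le_normalizer {A V X : Subgroup G} (h : A ≤ normalizer (V : Set G)) :
    A.subgroupOf X ≤ normalizer (V.subgroupOf X : Set X) := by
  intro x hx
  rw [mem_normalizer_iff]
  exact fun y => mem_normalizer_iff.1 (h (mem_subgroupOf.1 hx)) (y : G)

/-- Ambient form of `inv_le_pPrimeCore_of_mem_pPrimePCore`. -/
theorem inv_le_piCoreOf_of_mem {X A V : Subgroup G} (hXs : Group.IsSolvable X) (hAX : A ≤ X)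
    (hA : IsPGroup p A) (hAR : A.subgroupOf X ≤ Cfsg.pPrimePCore p X)
    (hCA : ∀ x ∈ centralizer (A : Set G), IsPGroup p (zpowers x) → x ∈ A)
    (hVX : V ≤ X) (hV : (Nat.card V).Coprime p) (hAV : A ≤ normalizer (V : Set G)) :
    V ≤ Cfsg.piCoreOf (Cfsg.primesNotDvd p) X := by
  haveI := hXs
  rw [← map_subgroupOf_eq_of_le hVX, ← map_pPrimeCore_subtype]
  refine Subgroup.map_mono (inv_le_pPrimeCore_of_mem_pPrimePCore
    (hA.of_equiv (subgroupOfEquivOfLe hAX).symm) hAR (fun x hx hxp => ?_) (coprime_subgroupOf hV X)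
    (subgroupOf_le_normalizer hAV))
  refine mem_subgroupOf.2 (hCA (x : G) (fun a ha => ?_) ?_)
  · exact congrArg Subtype.val (mem_centralizer_iff.1 hx ⟨a, hAX ha⟩ (mem_subgroupOf.2 ha))
  · obtain ⟨n, hn⟩ := hxp.exists_card_eq
    exact IsPGroup.of_card (n := n) (by rw [Nat.card_zpowers, Subgroup.orderOf_coe, ← Nat.card_zpowers, hn])

/-- Ambient form of `pPrimeCore_centralizer_le`, for a single `p`-element. -/
theorem inf_centralizer_le_piCoreOf {X : Subgroup G} (hXs : Group.IsSolvable X) {e : G}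
    (heX : e ∈ X) (he : IsPGroup p (zpowers e)) {V : Subgroup G} (hV : (Nat.card V).Coprime p)
    (hVX : V ≤ X ⊓ centralizer ({e} : Set G))
    (hn : X ⊓ centralizer ({e} : Set G) ≤ normalizer (V : Set G)) :
    V ≤ Cfsg.piCoreOf (Cfsg.primesNotDvd p) X := by
  haveI := hXs
  have hVX' : V ≤ X := hVX.trans inf_le_left
  rw [← map_subgroupOf_eq_of_le hVX', ← map_pPrimeCore_subtype]
  have hP : IsPGroup p (zpowers (⟨e, heX⟩ : X)) := by
    obtain ⟨n, hn'⟩ := he.exists_card_eq
    exact IsPGroup.of_card (n := n)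
      (by rw [Nat.card_zpowers, Subgroup.orderOf_mk, ← Nat.card_zpowers, hn'])
  have hC : ∀ x : X, x ∈ centralizer (zpowers (⟨e, heX⟩ : X) : Set X) ↔
      (x : G) ∈ centralizer ({e} : Set G) := by
    intro x
    constructor
    · intro h
      exact mem_centralizer_singleton_iff.2
        (congrArg Subtype.val (mem_centralizer_iff.1 h _ (mem_zpowers _))).symm
    · intro h
      rintro _ ⟨i, rfl⟩
      have hc : Commute (⟨e, heX⟩ : X) x := Subtype.ext (mem_centralizer_singleton_iff.1 h).symm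
      exact (hc.zpow_left i).eq
  refine Subgroup.map_mono (le_pPrimeCore_of_le_centralizer hP (coprime_subgroupOf hV X) ?_ ?_)
  · exact fun x hx => (hC x).2 (hVX (mem_subgroupOf.1 hx)).2
  · intro x hx
    exact subgroupOf_le_normalizer (X := X) hn (mem_subgroupOf.2 ⟨x.2, (hC x).1 hx⟩)

/-- In odd order, an abelian normal subgroup of a Sylow `p`-subgroup lies in `O_{p',p}`. -/
theorem abelian_normal_le_pPrimePCore (hstab : OddPStable.{u} p) {Y : Type u} [Group Y] [Finite Y]
    (hYs : Group.IsSolvable Y) (hodd : Odd (Nat.card Y)) (S : Sylow p Y) {A : Subgroup Y}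
    (hA : A ≤ (S : Subgroup Y)) (hAc : ∀ x ∈ A, ∀ y ∈ A, x * y = y * x)
    (hn : (S : Subgroup Y) ≤ normalizer (A : Set Y)) : A ≤ Cfsg.pPrimePCore p Y := by
  intro a ha
  rw [pPrimePCore_eq_comap_barHom, mem_comap]
  set f := barHom Y p
  haveI : Group.IsSolvable (Y ⧸ Cfsg.piCore (Cfsg.primesNotDvd p) Y) :=
    Group.isSolvable_of_surjective (QuotientGroup.mk'_surjective _)
  refine hstab _ inferInstance (Odd.of_dvd_nat hodd (Subgroup.card_dvd_of_surjective f barHom_surjective))
    barHom_pPrimeCore (f a) ?_ fun r hr => ?_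
  · rw [← MonoidHom.map_zpowers]
    exact ((S.2.to_le hA).to_le (zpowers_le.2 ha)).map f
  · have hr' := Solvable.pCore_le_sylow (S.mapSurjective barHom_surjective) hr
    rw [Sylow.coe_mapSurjective] at hr'
    obtain ⟨s, hs, rfl⟩ := hr'
    rw [← map_inv, ← map_inv, ← map_mul, ← map_mul, ← map_mul]
    refine Commute.map (hAc _ ?_ _ ha) f
    exact mul_mem ((mem_normalizer_iff.1 (hn hs) a).1 ha) (inv_mem ha)

end General

section MinSimple

variable {G : Type u} [Group G] [Finite G] (hG : Cfsg.IsMinSimpleOddOrder G)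
  {p : ℕ} [hp : Fact p.Prime]

include hp in
theorem transitivityHypothesis_of_pGroup {A : Subgroup G} (hAp : IsPGroup p A) (hA1 : A ≠ ⊥)
    (hA : A ≠ ⊤) (h : ∀ X : Subgroup G, X ≠ ⊤ → A ≤ X → ∀ V ≤ X, (Nat.card V).Coprime p →
      A ≤ normalizer (V : Set G) → V ≤ Cfsg.piCoreOf (Cfsg.primesNotDvd p) X) :
    Cfsg.TransitivityHypothesis A := by
  obtain ⟨n, hn⟩ := hAp.exists_card_eq
  have hn0 : n ≠ 0 := fun h0 => hA1 (Subgroup.card_eq_one.1 (by rw [hn, h0, pow_zero]))
  refine ⟨hA1, hA, fun X hX hAX => le_antisymm (sSup_le ?_)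
    (le_sSup ⟨piCoreOf_le _ _, piCoreOf_isPiSubgroup _ _,
      hAX.trans (le_normalizer_piCoreOf _ _)⟩)⟩
  rintro V ⟨hVX, hV, hAV⟩
  rw [hn, primesNotDvd_prime_pow hn0]
  rw [hn] at hV
  refine h X hX hAX V hVX ?_ hAV
  exact (Nat.coprime_pow_right_iff (Nat.pos_of_ne_zero hn0) _ _).1 (isPiSubgroup_primesNotDvd.1 hV)

include hG hp in
theorem transitivityHypothesis_of_elementary (hpG : p ∣ Nat.card G) {A : Subgroup G}
    (hAp : IsPGroup p A) (hAc : IsMulCommutative A)
    (hfix : ∀ x ∈ centralizer (A : Set G), x ^ p = 1 → x ∈ A)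
    (hpl : ∀ H : Subgroup G, H ≠ ⊤ → Cfsg.PLengthLE p 1 H) :
    Cfsg.TransitivityHypothesis A := by
  have hA1 : A ≠ ⊥ := by
    rintro rfl
    obtain ⟨x, hx⟩ := exists_prime_orderOf_dvd_card' p hpG
    have := hfix x (fun a ha => by rw [mem_bot.1 ha]; simp) (hx ▸ pow_orderOf_eq_one x)
    rw [mem_bot.1 this, orderOf_one] at hx
    exact hp.out.ne_one hx.symm
  refine transitivityHypothesis_of_pGroup hAp hA1 (isPGroup_ne_top hG hAp)
    fun X hX hAX V hVX hV hAV => ?_
  haveI := isSolvable_of_ne_top hG hX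
  rw [← map_subgroupOf_eq_of_le hVX, ← map_pPrimeCore_subtype]
  refine Subgroup.map_mono (inv_le_pPrimeCore_of_elementary (prime_ne_two hG hpG) (hpl X hX)
    (hAp.of_equiv (subgroupOfEquivOfLe hAX).symm) ?_ (fun x hx hxp => ?_) (coprime_subgroupOf hV X)
    (subgroupOf_le_normalizer hAV))
  · exact ⟨⟨fun a b => Subtype.ext (Subtype.ext (show ((a : X) : G) * ((b : X) : G) = b * a from
      mem_centralizer_iff.1 (le_centralizer_iff_isMulCommutative.2 hAc (mem_subgroupOf.1 b.2)) _
        (mem_subgroupOf.1 a.2)))⟩⟩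
  · refine mem_subgroupOf.2 (hfix (x : G) (fun a ha => ?_) ?_)
    · exact congrArg Subtype.val (mem_centralizer_iff.1 hx ⟨a, hAX ha⟩ (mem_subgroupOf.2 ha))
    · rw [← SubmonoidClass.coe_pow, hxp]; rfl

/-- `A` contains every `p`-element centralizing it. -/
theorem mem_of_isSCN {P : Sylow p G} {A : Subgroup G} (hA : Cfsg.IsSCN (P : Subgroup G) A) {x : G}
    (hx : x ∈ centralizer (A : Set G)) (hxp : IsPGroup p (zpowers x)) : x ∈ A := by
  set N := normalizer (A : Set G)
  have hxN : x ∈ N := centralizer_le_normalizer _ hx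
  have hPN : (P : Subgroup G) ≤ N := hA.2.1
  obtain ⟨T, hT⟩ := (hxp.of_equiv (subgroupOfEquivOfLe (zpowers_le.2 hxN)).symm).exists_le_sylow
  obtain ⟨n, hn⟩ := MulAction.exists_smul_eq N T (P.subtype hPN)
  have h1 : n * ⟨x, hxN⟩ * n⁻¹ ∈ (P.subtype hPN : Subgroup N) := by
    rw [← hn, Sylow.coe_subgroup_smul]
    exact ⟨⟨x, hxN⟩, hT (mem_subgroupOf.2 (mem_zpowers x)), rfl⟩
  have h2 : (n : G) * x * (n : G)⁻¹ ∈ A := by
    rw [← hA.2.2]
    refine ⟨h1, fun a ha => ?_⟩
    have := mem_centralizer_iff.1 hx _ ((mem_normalizer_iff''.1 n.2 a).1 ha)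
    calc a * ((n : G) * x * (n : G)⁻¹) = n * (((n : G)⁻¹ * a * n) * x) * (n : G)⁻¹ := by group
      _ = n * (x * ((n : G)⁻¹ * a * n)) * (n : G)⁻¹ := by rw [this]
      _ = ((n : G) * x * (n : G)⁻¹) * a := by group
  exact (mem_normalizer_iff.1 n.2 x).2 h2

theorem isSCN_abelian {P A : Subgroup G} (hA : Cfsg.IsSCN P A) :
    ∀ x ∈ A, ∀ y ∈ A, x * y = y * x := fun x hx y hy => by
  have : y ∈ P ⊓ centralizer (A : Set G) := hA.2.2.symm ▸ hy
  exact mem_centralizer_iff.1 this.2 x hx

include hp in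
theorem exists_normal_pair {P : Sylow p G} {A : Subgroup G} (hA : Cfsg.IsSCN (P : Subgroup G) A)
    (hA2 : ¬ Cfsg.PRankLE p 1 A) :
    ∃ E : Subgroup G, E ≤ A ∧ Cfsg.IsElementaryAbelian p E ∧ Nat.card E = p ^ 2 ∧
      (P : Subgroup G) ≤ normalizer (E : Set G) ∧
      ∃ z ∈ E, z ≠ 1 ∧ ∀ g ∈ (P : Subgroup G), g * z = z * g := by
  simp only [Cfsg.PRankLE] at hA2
  push Not at hA2
  obtain ⟨B, -, hBe, hBcard⟩ := hA2
  let Ω : Subgroup P :=
    { carrier := {x | (x : G) ∈ A ∧ (x : G) ^ p = 1}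
      one_mem' := ⟨one_mem A, one_pow p⟩
      mul_mem' := fun {a b} ha hb => ⟨mul_mem ha.1 hb.1, by
        rw [Subgroup.coe_mul, (show Commute (a : G) b from isSCN_abelian hA _ ha.1 _ hb.1).mul_pow,
          ha.2, hb.2, one_mul]⟩
      inv_mem' := fun {a} ha => ⟨inv_mem ha.1, by rw [Subgroup.coe_inv, inv_pow, ha.2, inv_one]⟩ }
  haveI hΩn : Ω.Normal := ⟨fun x hx g => ⟨(mem_normalizer_iff.1 (hA.2.1 g.2) _).1 hx.1, by
    rw [Subgroup.coe_mul, Subgroup.coe_mul, Subgroup.coe_inv, ← MulAut.conj_apply, ← map_pow, hx.2,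
      map_one]⟩⟩
  obtain ⟨a, ha⟩ := (P.2.to_subgroup Ω).exists_card_eq
  have ha2 : 2 ≤ a := by
    have hle : Nat.card B ≤ Nat.card Ω := by
      refine Nat.card_le_card_of_injective (fun b => (⟨⟨(b.1 : G), hA.1 b.1.2⟩, b.1.2, ?_⟩ : Ω)) ?_
      · have := congrArg Subtype.val (hBe b.1 b.2)
        simpa using this
      · intro b c h
        exact Subtype.ext (Subtype.ext (congrArg (fun w : Ω => ((w : P) : G)) h))
    have h1 : p ^ 1 < p ^ a := ha ▸ lt_of_lt_of_le hBcard hle
    exact (Nat.pow_lt_pow_iff_right hp.out.one_lt).1 h1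
  obtain ⟨E₀, hE₀n, hE₀Ω, hE₀c⟩ := PGroup.exists_normal_card_le P.2 2 a Ω ha ha2
  refine ⟨E₀.map (P : Subgroup G).subtype, ?_, ⟨?_, ?_⟩, ?_, ?_, ?_⟩
  · rintro _ ⟨x, hx, rfl⟩
    exact (hE₀Ω hx).1
  · refine ⟨⟨fun x y => Subtype.ext ?_⟩⟩
    obtain ⟨_, x', hx', rfl⟩ := x
    obtain ⟨_, y', hy', rfl⟩ := y
    exact isSCN_abelian hA _ (hE₀Ω hx').1 _ (hE₀Ω hy').1
  · rintro _ ⟨x, hx, rfl⟩
    exact (hE₀Ω hx).2
  · rw [Subgroup.card_map_of_injective (P : Subgroup G).subtype_injective, hE₀c]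
  · haveI := hE₀n
    have h := le_normalizer_map (P : Subgroup G).subtype (H := E₀)
    rwa [normalizer_eq_top, ← MonoidHom.range_eq_map, range_subtype] at h
  · haveI := hE₀n
    have hne : E₀ ≠ ⊥ := fun h => by
      rw [h, Subgroup.card_bot] at hE₀c
      exact (one_lt_pow₀ hp.out.one_lt two_ne_zero).ne hE₀c
    obtain ⟨z, ⟨hz, hzc⟩, hz1⟩ := Solvable.exists_ne_one_mem_inf_center_of_normal P.2 hne
    exact ⟨(z : G), mem_map_of_mem (P : Subgroup G).subtype hz, fun h => hz1 (Subtype.ext h),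
      fun g hg => congrArg Subtype.val (mem_center_iff.1 hzc ⟨g, hg⟩)⟩

include hG hp in
/-- In `C(x)`, `x` central in `P`, the invariant `p'`-subgroups lie in the core. -/
theorem inv_le_piCoreOf_central (hstab : OddPStable.{u} p) {P : Sylow p G} {A : Subgroup G}
    (hA : Cfsg.IsSCN (P : Subgroup G) A) {x : G} (hx1 : x ≠ 1)
    (hxP : ∀ g ∈ (P : Subgroup G), g * x = x * g) {V : Subgroup G}
    (hVX : V ≤ centralizer ({x} : Set G)) (hV : (Nat.card V).Coprime p)
    (hAV : A ≤ normalizer (V : Set G)) :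
    V ≤ Cfsg.piCoreOf (Cfsg.primesNotDvd p) (centralizer ({x} : Set G)) := by
  set X := centralizer ({x} : Set G)
  have hPX : (P : Subgroup G) ≤ X := fun g hg => mem_centralizer_singleton_iff.2 (hxP g hg)
  have hXs : Group.IsSolvable X := isSolvable_of_ne_top hG (centralizer_singleton_ne_top hG hx1)
  refine inv_le_piCoreOf_of_mem hXs (hA.1.trans hPX) (P.2.to_le hA.1) ?_
    (fun y hy hyp => mem_of_isSCN hA hy hyp) hVX hV hAV
  refine abelian_normal_le_pPrimePCore hstab hXs (odd_card_subgroup hG X) (P.subtype hPX) ?_ ?_ ?_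
  · exact fun y hy => hA.1 hy
  · exact fun y hy w hw => Subtype.ext (isSCN_abelian hA _ hy _ hw)
  · exact subgroupOf_le_normalizer hA.2.1

include hG hp in
theorem transitivityHypothesis_of_scn (hstab : OddPStable.{u} p) {P : Sylow p G} {A : Subgroup G}
    (hA : Cfsg.IsSCN (P : Subgroup G) A) (hA2 : ¬ Cfsg.PRankLE p 1 A) :
    Cfsg.TransitivityHypothesis A := by
  obtain ⟨E, hEA, hEe, hEc, hPE, z, hzE, hz1, hzP⟩ := exists_normal_pair hA hA2
  have hE1 : ∀ e ∈ E, e ≠ 1 → orderOf e = p := fun e he he1 => orderOf_eq_prime (hEe.2 e he) he1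
  have hep : ∀ e ∈ E, IsPGroup p (zpowers e) := fun e he =>
    (P.2.to_le (hEA.trans hA.1)).to_le (zpowers_le.2 he)
  have hA1 : A ≠ ⊥ := fun h => hz1 (mem_bot.1 (h ▸ hEA hzE))
  have hAC : ∀ e ∈ E, A ≤ centralizer ({e} : Set G) := fun e he a ha =>
    mem_centralizer_singleton_iff.2 (isSCN_abelian hA a ha e (hEA he))
  -- invariant `p'`-subgroups of `C(e)` lie in its core
  have key : ∀ e ∈ E, e ≠ 1 → ∀ V ≤ centralizer ({e} : Set G), (Nat.card V).Coprime p →
      A ≤ normalizer (V : Set G) →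
      V ≤ Cfsg.piCoreOf (Cfsg.primesNotDvd p) (centralizer ({e} : Set G)) := by
    intro e he he1 V hVe hV hAV
    by_cases hcen : ∀ g ∈ (P : Subgroup G), g * e = e * g
    · exact inv_le_piCoreOf_central hG hstab hA he1 hcen hVe hV hAV
    set X := centralizer ({e} : Set G) with hX
    have hXs : Group.IsSolvable X := isSolvable_of_ne_top hG (centralizer_singleton_ne_top hG he1)
    have hzX : z ∈ X := hAC e he (hEA hzE)
    set D := (P : Subgroup G) ⊓ X with hD
    -- `D` has index at most `p` in `P`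
    have hidx : Nat.card (P : Subgroup G) ≤ p * Nat.card D := by
      let φ : (P : Subgroup G) ⧸ (D.subgroupOf (P : Subgroup G)) → {w : E // (w : G) ∉ zpowers z} :=
        Quotient.lift (fun g => ⟨⟨(g : G) * e * (g : G)⁻¹,
            (mem_normalizer_iff.1 (hPE g.2) e).1 he⟩, fun hmem => hcen fun g' hg' => by
              obtain ⟨i, hi⟩ := hmem
              have hgz : Commute ((g : G)⁻¹) z :=
                (show Commute (g : G) z from hzP g g.2).inv_left
              have hei : e = z ^ i := by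
                calc e = (g : G)⁻¹ * ((g : G) * e * (g : G)⁻¹) * g := by group
                  _ = (g : G)⁻¹ * z ^ i * g := congrArg (fun t => (g : G)⁻¹ * t * g) hi.symm
                  _ = z ^ i := by rw [(hgz.zpow_right i).eq]; group
              rw [hei]
              exact ((show Commute g' z from hzP g' hg').zpow_right i).eq⟩)
          (fun g g' h => by
            have h1 : ((g : G)⁻¹ * (g' : G)) * e = e * ((g : G)⁻¹ * (g' : G)) :=
              mem_centralizer_singleton_iff.1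
                (mem_subgroupOf.1 (QuotientGroup.leftRel_apply.1 h)).2
            refine Subtype.ext (Subtype.ext ?_)
            change (g : G) * e * (g : G)⁻¹ = (g' : G) * e * (g' : G)⁻¹
            calc (g : G) * e * (g : G)⁻¹
                = (g : G) * (e * ((g : G)⁻¹ * g')) * (g' : G)⁻¹ := by group
              _ = (g : G) * (((g : G)⁻¹ * g') * e) * (g' : G)⁻¹ := by rw [h1]
              _ = (g' : G) * e * (g' : G)⁻¹ := by group)
      have hφ : Function.Injective φ := by
        intro a b h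
        induction a using QuotientGroup.induction_on with
        | _ g =>
          induction b using QuotientGroup.induction_on with
          | _ g' =>
            apply QuotientGroup.eq.2
            have h' : (g : G) * e * (g : G)⁻¹ = (g' : G) * e * (g' : G)⁻¹ :=
              congrArg (fun w : {w : E // (w : G) ∉ zpowers z} => ((w : E) : G)) h
            refine mem_subgroupOf.2 ⟨(g⁻¹ * g').2, mem_centralizer_singleton_iff.2 ?_⟩
            push_cast
            calc (g : G)⁻¹ * g' * e = (g : G)⁻¹ * ((g' : G) * e * (g' : G)⁻¹) * g' := by group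
              _ = (g : G)⁻¹ * ((g : G) * e * (g : G)⁻¹) * g' := by rw [h']
              _ = e * ((g : G)⁻¹ * g') := by group
      have hle := Nat.card_le_card_of_injective φ hφ
      have hlt : Nat.card {w : E // (w : G) ∉ zpowers z} < p ^ 2 := by
        rw [← hEc]
        exact Finite.card_subtype_lt (x := (⟨z, hzE⟩ : E)) (fun h => h (mem_zpowers z))
      have hmul : Nat.card (P : Subgroup G) =
          Nat.card ((P : Subgroup G) ⧸ D.subgroupOf (P : Subgroup G)) * Nat.card D := by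
        rw [Subgroup.card_eq_card_quotient_mul_card_subgroup (D.subgroupOf (P : Subgroup G)),
          Nat.card_congr (subgroupOfEquivOfLe (inf_le_left : D ≤ _)).toEquiv]
      obtain ⟨i, hi⟩ : ∃ i, Nat.card ((P : Subgroup G) ⧸ D.subgroupOf (P : Subgroup G)) = p ^ i :=
        P.2.index _
      have : i < 2 := (Nat.pow_lt_pow_iff_right hp.out.one_lt).1 (hi ▸ lt_of_le_of_lt hle hlt)
      rw [hmul, hi]
      exact Nat.mul_le_mul_right _ (le_of_le_of_eq (Nat.pow_le_pow_right hp.out.pos
        (Nat.lt_succ_iff.1 this)) (pow_one p))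
    obtain ⟨S, hS⟩ := ((P.2.to_le (inf_le_left : D ≤ _)).of_equiv
      (subgroupOfEquivOfLe (inf_le_right : D ≤ X)).symm).exists_le_sylow
    set S' := (S : Subgroup X).map X.subtype with hS'
    have hDS : D ≤ S' := by
      rw [← map_subgroupOf_eq_of_le (show D ≤ X from inf_le_right)]
      exact Subgroup.map_mono hS
    have hS'n : S' ≤ normalizer (D : Set G) := by
      rcases hDS.eq_or_lt with h | h
      · exact h ▸ le_normalizer
      have hS'p : IsPGroup p S' := S.2.map _
      have hgrow := lt_inf_normalizer hS'p h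
      obtain ⟨T, hT⟩ := hS'p.exists_le_sylow
      have hcS : Nat.card S' ≤ p * Nat.card D := by
        refine (Subgroup.card_le_of_le hT).trans (le_of_eq_of_le ?_ hidx)
        rw [T.card_eq_multiplicity, P.card_eq_multiplicity]
      obtain ⟨d, hd⟩ := (P.2.to_le (inf_le_left : D ≤ _)).exists_card_eq
      obtain ⟨j, hj⟩ := (hS'p.to_le (inf_le_left : S' ⊓ normalizer (D : Set G) ≤ S')).exists_card_eq
      have h1 := Set.Finite.card_lt_card (Set.toFinite _) hgrow
      simp only [SetLike.coe_sort_coe] at h1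
      have hdj : d < j := (Nat.pow_lt_pow_iff_right hp.out.one_lt).1 (hd ▸ hj ▸ h1)
      have hle : Nat.card S' ≤ Nat.card ↥(S' ⊓ normalizer (D : Set G)) := by
        refine hcS.trans ?_
        rw [hd, hj, ← pow_succ']
        exact Nat.pow_le_pow_right hp.out.pos hdj
      exact inf_eq_left.1 (Subgroup.eq_of_le_of_card_ge inf_le_left hle)
    -- `z` lies in `O_{p',p}(C(e))`
    have hzR : (⟨z, hzX⟩ : X) ∈ Cfsg.pPrimePCore p X := by
      haveI := hXs
      haveI : Group.IsSolvable (X ⧸ Cfsg.piCore (Cfsg.primesNotDvd p) X) :=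
        Group.isSolvable_of_surjective (QuotientGroup.mk'_surjective _)
      rw [pPrimePCore_eq_comap_barHom, mem_comap]
      set f := barHom X p
      refine hstab _ inferInstance (Odd.of_dvd_nat (odd_card_subgroup hG X)
        (Subgroup.card_dvd_of_surjective f barHom_surjective)) barHom_pPrimeCore _ ?_ fun r hr => ?_
      · rw [← MonoidHom.map_zpowers]
        refine IsPGroup.map ?_ f
        exact IsPGroup.of_card (n := 1)
          (by rw [Nat.card_zpowers, Subgroup.orderOf_mk, hE1 z hzE hz1, pow_one])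
      · have hr' := Solvable.pCore_le_sylow (S.mapSurjective barHom_surjective) hr
        rw [Sylow.coe_mapSurjective] at hr'
        obtain ⟨s, hs, rfl⟩ := hr'
        rw [← map_inv, ← map_inv, ← map_mul, ← map_mul, ← map_mul]
        refine Commute.map (Subtype.ext ?_) f
        have hzD : z ∈ D := ⟨hA.1 (hEA hzE), hzX⟩
        have h1 : (s : G) * z * (s : G)⁻¹ * z⁻¹ ∈ D :=
          mul_mem ((mem_normalizer_iff.1 (hS'n (mem_map_of_mem X.subtype hs)) z).1 hzD) (inv_mem hzD)
        exact hzP _ h1.1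
    -- lift to `C_V(z)`
    intro v hv
    set O := Cfsg.piCoreOf (Cfsg.primesNotDvd p) X
    have hcop : (Nat.card (zpowers z)).Coprime (Nat.card V) := by
      rw [Nat.card_zpowers, hE1 z hzE hz1]; exact hV.symm
    have hzV : zpowers z ≤ normalizer (V : Set G) := zpowers_le.2 (hAV (hEA hzE))
    have hzO : zpowers z ≤ normalizer ((V ⊓ O : Subgroup G) : Set G) :=
      (le_inf hzV ((zpowers_le.2 hzX).trans (le_normalizer_piCoreOf _ _))).trans
        inf_normalizer_le_normalizer_inf
    obtain ⟨d, hd, hvd⟩ := Solvable.exists_fixed_mem_coset hzV inf_le_left hzO hcop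
      (Or.inr (isSolvable_of_ne_top hG fun h => (centralizer_singleton_ne_top hG he1)
        (eq_top_iff.2 (h ▸ inf_le_left.trans hVe)))) hv (x := v) (by
      rintro _ ⟨i, rfl⟩
      haveI := hXs
      have hcomm : Commute (barHom X p (⟨z, hzX⟩ : X)) (barHom X p ⟨v, hVe hv⟩) :=
        barHom_commute (coprime_subgroupOf hV X) hzR
          (subgroupOf_le_normalizer hzV (mem_subgroupOf.2 (mem_zpowers z))) (mem_subgroupOf.2 hv)
      refine mem_inf.2 ⟨mul_mem (inv_mem (show v ∈ V from hv))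
        ((mem_normalizer_iff.1 (hzV (zpow_mem (mem_zpowers z) i)) v).1 hv), ?_⟩
      change _ ∈ Cfsg.piCoreOf (Cfsg.primesNotDvd p) X
      rw [← map_pPrimeCore_subtype]
      refine ⟨(⟨v, hVe hv⟩ : X)⁻¹ * ((⟨z, hzX⟩ : X) ^ i * ⟨v, hVe hv⟩ * ((⟨z, hzX⟩ : X) ^ i)⁻¹),
        mem_pPrimeCore_of_barHom_eq_one ?_, by simp⟩
      rw [map_mul, map_mul, map_mul, map_inv, map_inv, map_zpow, (hcomm.zpow_left i).eq]
      group)
    -- the fixed part lies in `O_{p'}(C(z))`
    have hW : V ⊓ centralizer (zpowers z : Set G) ≤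
        Cfsg.piCoreOf (Cfsg.primesNotDvd p) (centralizer ({z} : Set G)) ⊓ X := by
      refine le_inf (inv_le_piCoreOf_central hG hstab hA hz1 hzP
        (inf_le_right.trans (centralizer_le (Set.singleton_subset_iff.2 (mem_zpowers z))))
        (hV.coprime_dvd_left (Subgroup.card_dvd_of_le inf_le_left))
        (le_normalizer_inf_of_le hAV ?_)) (inf_le_left.trans hVe)
      refine le_normalizer_centralizer_of_le ?_
      refine le_trans ?_ (centralizer_le_normalizer _)
      intro a ha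
      rintro _ ⟨i, rfl⟩
      exact ((show Commute z a from isSCN_abelian hA z (hEA hzE) a ha).zpow_left i).eq
    have hWO : Cfsg.piCoreOf (Cfsg.primesNotDvd p) (centralizer ({z} : Set G)) ⊓ X ≤ O := by
      refine inf_centralizer_le_piCoreOf hXs hzX (hep z hzE) ?_
        (le_inf inf_le_right (inf_le_left.trans (piCoreOf_le _ _))) ?_
      · exact (isPiSubgroup_primesNotDvd.1 (piCoreOf_isPiSubgroup _ _)).coprime_dvd_left
          (Subgroup.card_dvd_of_le inf_le_left)
      · exact le_normalizer_inf_of_le (inf_le_right.trans (le_normalizer_piCoreOf _ _))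
          (inf_le_left.trans le_normalizer)
    have h2 := hWO (hW hvd)
    have := mul_mem h2 (inv_mem hd.2)
    rwa [mul_inv_cancel_right] at this
  refine transitivityHypothesis_of_pGroup (P.2.to_le hA.1) hA1
    (isPGroup_ne_top hG (P.2.to_le hA.1)) fun X hX hAX V hVX hV hAV => ?_
  have hXs := isSolvable_of_ne_top hG hX
  have hzo := hE1 z hzE hz1
  obtain ⟨e, he, hez, he1, -⟩ := exists_pair_of_card hp.out hEe (n := 1)
    (hEc ▸ Nat.pow_lt_pow_right hp.out.one_lt one_lt_two) (zpowers z)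
    (by rw [Nat.card_zpowers, hzo, pow_one])
  have hsub : ∀ y ∈ E, y ≠ 1 → V ⊓ centralizer ({y} : Set G) ≤
      Cfsg.piCoreOf (Cfsg.primesNotDvd p) X := by
    intro y hy hy1
    have hAy : A ≤ normalizer ((V ⊓ centralizer ({y} : Set G) : Subgroup G) : Set G) :=
      le_normalizer_inf_of_le hAV ((hAC y hy).trans le_normalizer)
    have h := key y hy hy1 _ inf_le_right
      (hV.coprime_dvd_left (Subgroup.card_dvd_of_le inf_le_left)) hAy
    refine (le_inf h (inf_le_left.trans hVX)).trans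
      (inf_centralizer_le_piCoreOf hXs (hAX (hEA hy)) (hep y hy) ?_ ?_ ?_)
    · exact (isPiSubgroup_primesNotDvd.1 (piCoreOf_isPiSubgroup _ _)).coprime_dvd_left
        (Subgroup.card_dvd_of_le inf_le_left)
    · exact le_inf inf_le_right (inf_le_left.trans (piCoreOf_le _ _))
    · exact le_normalizer_inf_of_le (inf_le_right.trans (le_normalizer_piCoreOf _ _))
        (inf_le_left.trans le_normalizer)
  refine Solvable.le_of_lines_centralizer_le (r := p) (a := e) (b := z)
    (elementary_comm hEe he hzE) (hAV (hEA he)) (hAV (hEA hzE))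
    (fun h => hp.out.ne_one (Nat.eq_one_of_dvd_coprimes hV h dvd_rfl))
    (by rw [hEe.2 e he]; exact one_mem _) (by rw [hEe.2 z hzE]; exact one_mem _)
    (fun i => hsub _ (mul_mem he (pow_mem hzE i)) fun h => hez ?_) (hsub z hzE hz1)
  rw [eq_inv_of_mul_eq_one_left h]
  exact inv_mem (pow_mem (mem_zpowers z) i)

end MinSimple

end CfsgLib.OddOrder
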