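import Cfsg.Agent.Lib.OddOrder.PLengthCommutator
import Cfsg.Agent.Lib.OddOrder.SigmaApps
import Cfsg.Agent.S1459
import Cfsg.Agent.S1461

/-!
BG 10.7 - 10.9 (a): every proper subgroup of a minimal simple group of odd order has `p`-length one,
with the first consequences for Sylow normalizers.
-/

set_option autoImplicit false
set_option linter.style.haveILetI false

open scoped commutatorElement

namespace CfsgLib.OddOrder

open Subgroup

section Aux

variable {G H : Type*} [Group G] [Finite G] [Group H] [Finite H] {p : ℕ} [hp : Fact p.Prime]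

/-- `p`-length passes back along a homomorphism with kernel of order prime to `p`. -/
theorem pLengthLE_of_hom (f : G →* H) (hker : (Nat.card f.ker).Coprime p) {k : ℕ}
    (h : Cfsg.PLengthLE p k H) : Cfsg.PLengthLE p k G := by
  have key : ∀ j, (Cfsg.upperPSeries p H (j + 1)).1.comap f ≤ (Cfsg.upperPSeries p G (j + 1)).1 := by
    intro j
    induction j with
    | zero =>
      refine PLengthHH.le_upper_odd (k := 0) ((Cfsg.upperPSeries p H 1).2.comap f) fun g hg hgp => ?_
      have h1 : f g = 1 := mem_bot.1 (PLengthHH.pel_mem_of_upper_odd (k := 0) hg (hgp.map f))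
      rw [hgp.eq_one (hker.coprime_dvd_left (Subgroup.orderOf_dvd_natCard _ (MonoidHom.mem_ker.2 h1)))]
      exact one_mem _
    | succ j ih =>
      rcases Nat.even_or_odd' j with ⟨m, rfl | rfl⟩
      · exact PLengthHH.le_upper_even (k := m) ((Cfsg.upperPSeries p H _).2.comap f) fun g hg hgc =>
          ih (PLengthHH.coprime_mem_of_upper_even (k := m) hg (hgc.coprime_dvd_left (orderOf_map_dvd f g)))
      · exact PLengthHH.le_upper_odd (k := m + 1) ((Cfsg.upperPSeries p H _).2.comap f) fun g hg hgp =>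
          ih (PLengthHH.pel_mem_of_upper_odd (k := m + 1) hg (hgp.map f))
  refine top_le_iff.1 (le_trans ?_ (key (2 * k)))
  rw [show (Cfsg.upperPSeries p H (2 * k + 1)).1 = ⊤ from h, comap_top]

theorem pLengthLE_of_le {A B : Subgroup G} (hAB : A ≤ B) {k : ℕ} (h : Cfsg.PLengthLE p k B) :
    Cfsg.PLengthLE p k A :=
  pLengthLE_of_hom (Subgroup.inclusion hAB)
    (by rw [(MonoidHom.ker_eq_bot_iff _).2 (Subgroup.inclusion_injective hAB)]; simp) h

theorem pLengthLE_of_normal_coprime_index (N : Subgroup G) [hN : N.Normal] (hidx : N.index.Coprime p)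
    (h : Cfsg.PLengthLE p 1 N) : Cfsg.PLengthLE p 1 G := by
  haveI := Solvable.pPrimeCore_characteristic p N
  have hX2c : (Cfsg.pPrimePCore p N).Characteristic := by
    rw [characteristic_iff_map_le]
    intro φ
    have hchar : ∀ K : Subgroup N, K.Normal → (∀ y ∈ K, (orderOf y).Coprime p →
        y ∈ Cfsg.pPrimeCore p N) → K ≤ Cfsg.pPrimePCore p N := fun K hK hKc => by
      rw [← FGS68.upperPSeries_two]
      refine PLengthHH.le_upper_even (k := 0) hK fun y hy hyc => ?_
      rw [show 2 * 0 + 1 = 1 from rfl, FGS68.upperPSeries_one]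
      exact hKc y hy hyc
    refine hchar _ (((FGS68.upperPSeries_two (G := N) (p := p)) ▸ (Cfsg.upperPSeries p N 2).2).map _
      φ.surjective) ?_
    rintro _ ⟨y, hy, rfl⟩ hyc
    rw [← Solvable.map_pPrimeCore_mulEquiv φ]
    exact mem_map_of_mem _ (PLengthHH.pel_mem_pPrimeCore_quotient hy (by
      rwa [MulEquiv.coe_toMonoidHom, MulEquiv.orderOf_eq] at hyc))
  haveI : ((Cfsg.pPrimePCore p N).map N.subtype).Normal := inferInstance
  haveI : ((Cfsg.pPrimeCore p N).map N.subtype).Normal := inferInstance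
  have h2 : (Cfsg.pPrimePCore p N).map N.subtype ≤ (Cfsg.upperPSeries p G 2).1 := by
    refine PLengthHH.le_upper_even (k := 0) inferInstance ?_
    rintro _ ⟨y, hy, rfl⟩ hyc
    rw [show 2 * 0 + 1 = 1 from rfl, FGS68.upperPSeries_one]
    refine (Solvable.le_pPrimeCore (N := (Cfsg.pPrimeCore p N).map N.subtype) inferInstance ?_)
      (mem_map_of_mem _ (PLengthHH.pel_mem_pPrimeCore_quotient hy ?_))
    · rw [Nat.card_congr (equivMapOfInjective _ _ N.subtype_injective).symm.toEquiv]
      exact Solvable.pPrimeCore_card_coprime p N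
    · rwa [show orderOf y = orderOf (N.subtype y) from (Subgroup.orderOf_coe y).symm]
  refine top_le_iff.1 (PLengthHH.le_upper_odd (k := 1) inferInstance fun g _ hg => ?_)
  have hgN : g ∈ N := by
    rw [← QuotientGroup.eq_one_iff (N := N)]
    exact (hg.map (QuotientGroup.mk' N)).eq_one
      (hidx.coprime_dvd_left (orderOf_dvd_natCard (QuotientGroup.mk' N g)))
  have h3 := PLengthHH.pel_mem_of_upper_odd (k := 1) (x := (⟨g, hgN⟩ : N))
    (by rw [show (Cfsg.upperPSeries p N (2 * 1 + 1)).1 = ⊤ from h]; trivial)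
    (hg.imp fun k hk => Subtype.ext hk)
  rw [show 2 * 1 = 2 from rfl, FGS68.upperPSeries_two] at h3
  exact h2 ⟨_, h3, rfl⟩

end Aux

variable {G : Type*} [Group G] [Finite G] (hG : Cfsg.IsMinSimpleOddOrder G) {M : Subgroup G}
  (hM : IsCoatom M)
include hG hM

/-- `M_σ ≤ M'`. -/
theorem piCore_sigma_le_commutator : Cfsg.piCore (Cfsg.sigma M) M ≤ commutator M := by
  set N := Cfsg.piCore (Cfsg.sigma M) M
  have hdvd : Nat.card N ∣ Nat.card ↥(N ⊓ commutator M) := by
    rw [Nat.dvd_iff_prime_pow_dvd_dvd]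
    intro q k hq hd
    rcases Nat.eq_zero_or_pos k with rfl | hk
    · simp
    haveI := Fact.mk hq
    have hσ : q ∈ Cfsg.sigma M := piCore_isPiSubgroup _ M q hq ((dvd_pow_self q hk.ne').trans hd)
    obtain ⟨S⟩ : Nonempty (Sylow q M) := inferInstance
    refine (S.pow_dvd_card_of_pow_dvd_card (hd.trans N.card_subgroup_dvd_card)).trans
      (card_dvd_of_le (le_inf (sylow_le_sigmaCore hG hM hσ S) ?_))
    have h1 := le_commutator_of_sigma hG hM hσ (isMaxPIn_of_sylow S)
    rw [← map_subtype_commutator] at h1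
    exact (map_le_map_iff_of_injective M.subtype_injective).1 h1
  exact inf_eq_left.1 (eq_of_le_of_card_ge inf_le_left (Nat.le_of_dvd Nat.card_pos hdvd))

/-- BG 10.7. -/
theorem pLengthLE_coatom (p : ℕ) [hp : Fact p.Prime] : Cfsg.PLengthLE p 1 M := by
  haveI := isSolvable_of_ne_top hG hM.1
  have hodd := odd_card_subgroup hG M
  by_cases hpM : p ∣ Nat.card M
  swap
  · exact PLengthHH.pLengthLE_mono (Nat.zero_le 1)
      (PLengthHH.pLengthLE_zero_iff.2 ((hp.out.coprime_iff_not_dvd).2 hpM).symm)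
  have hp2 : p ≠ 2 := prime_ne_two_of_dvd_card hG hpM
  by_cases hα : p ∈ Cfsg.alpha M
  swap
  · have hr : Cfsg.PRankLE p 2 M := by_contra fun h => hα ⟨hp.out, h⟩
    obtain ⟨-, hidx, -⟩ := rank_two_structure hodd hp2 hr
    refine top_le_iff.1 (PLengthHH.le_upper_odd (k := 1) inferInstance fun g _ hg => ?_)
    rw [show 2 * 1 = 2 from rfl, FGS68.upperPSeries_two]
    haveI : (Cfsg.pPrimePCore p M).Normal := FGS68.upperPSeries_two (G := M) ▸ (Cfsg.upperPSeries p M 2).2
    rw [← QuotientGroup.eq_one_iff (N := Cfsg.pPrimePCore p M)]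
    exact (hg.map (QuotientGroup.mk' _)).eq_one
      (hidx.coprime_dvd_left (orderOf_dvd_natCard (QuotientGroup.mk' (Cfsg.pPrimePCore p M) g)))
  set A := Cfsg.piCore (Cfsg.alpha M) M with hA
  haveI hAchar : A.Characteristic := piCore_characteristic _ M
  have hαHall := hall_of_subset hG hM (π := Cfsg.alpha M) (fun q hq => alpha_subset_sigma hG hM hq)
    fun q _ S hq => sylow_le_alphaCore hG hM hq S
  have hcard : Nat.card (A.map M.subtype) = Nat.card A :=
    (Nat.card_congr (A.equivMapOfInjective _ M.subtype_injective).toEquiv).symm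
  have hAidx : ∀ q, q.Prime → q ∈ Cfsg.alpha M → ¬ q ∣ A.index := fun q hq hqα => by
    have := hαHall.1.2.2 q hq hqα
    rwa [show Cfsg.piCoreOf (Cfsg.alpha M) M = A.map M.subtype from rfl, relIndex, subgroupOf,
      comap_map_eq_self_of_injective M.subtype_injective] at this
  have hAπ : Cfsg.IsPiSubgroup (Cfsg.alpha M) A := piCore_isPiSubgroup _ M
  have hcop : (Nat.card A).Coprime A.index := Nat.coprime_of_dvd fun q hq hd => hAidx q hq (hAπ q hq hd)
  obtain ⟨R, hR⟩ := exists_right_complement'_of_coprime hcop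
  have hRcard : A.index = Nat.card R := hR.symm.index_eq_card
  -- a prime outside `σ`
  obtain ⟨r, hr, hrd, hrσ⟩ : ∃ r, r.Prime ∧ r ∣ Nat.card M ∧ r ∉ Cfsg.sigma M := by
    by_contra hall
    push Not at hall
    have htop : Cfsg.piCore (Cfsg.sigma M) M = ⊤ := by
      refine eq_top_of_card_eq _ ((Nat.card_pos (α := M)) |> fun _ => ?_)
      refine Nat.dvd_antisymm (card_subgroup_dvd_card _) ?_
      rw [Nat.dvd_iff_prime_pow_dvd_dvd]
      intro q k hq hd
      rcases Nat.eq_zero_or_pos k with rfl | hk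
      · simp
      haveI := Fact.mk hq
      obtain ⟨S⟩ : Nonempty (Sylow q M) := inferInstance
      exact (S.pow_dvd_card_of_pow_dvd_card hd).trans
        (card_dvd_of_le (sylow_le_sigmaCore hG hM (hall q hq ((dvd_pow_self q hk.ne').trans hd)) S))
    haveI : Nontrivial M := (nontrivial_iff_ne_bot M).2 (ne_bot_of_isCoatom hG hM)
    exact (Group.IsSolvable.commutator_lt_top_of_nontrivial M).ne
      (top_le_iff.1 (htop ▸ piCore_sigma_le_commutator hG hM))
  haveI := Fact.mk hr
  have hrα : r ∉ Cfsg.alpha M := fun h => hrσ (alpha_subset_sigma hG hM h)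
  -- a Sylow `r`-subgroup inside `R`
  obtain ⟨PR⟩ : Nonempty (Sylow r R) := inferInstance
  obtain ⟨P, hP⟩ := (PR.isPGroup'.map R.subtype).exists_le_sylow
  have hPR : (P : Subgroup M) = (PR : Subgroup R).map R.subtype := by
    refine (eq_of_le_of_card_ge hP (Nat.le_of_dvd Nat.card_pos ?_)).symm
    obtain ⟨j, hj⟩ := P.isPGroup'.exists_card_eq
    rw [hj, Nat.card_congr (equivMapOfInjective _ _ R.subtype_injective).symm.toEquiv]
    refine PR.pow_dvd_card_of_pow_dvd_card ?_
    have hd : r ^ j ∣ Nat.card A * Nat.card R := by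
      rw [hR.card_mul, ← hj]; exact card_subgroup_dvd_card _
    refine (Nat.Coprime.dvd_of_dvd_mul_left ?_ hd)
    exact ((hr.coprime_iff_not_dvd).2 fun h => hrα (hAπ r hr h)).pow_left j
  obtain ⟨x, hxZ, hxo, hxZG, -⟩ := exists_central_element hG hM hrd hrσ P
  obtain ⟨xM, ⟨⟨xP, _, hxP⟩, rfl⟩⟩ : ∃ xM : M, (∃ xP : (P : Subgroup M), True ∧ (xP : M) = xM) ∧ (xM : G) = x := by
    obtain ⟨_, ⟨z, _, rfl⟩, rfl⟩ := hxZ
    exact ⟨z, ⟨z, trivial, rfl⟩, rfl⟩
  have hxR : xM ∈ R := by
    rw [← hxP]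
    exact map_subtype_le _ (hPR.le xP.2)
  have hZ : IsZGroup ↥(A ⊓ centralizer ({xM} : Set M)) := by
    haveI := hxZG
    refine IsZGroup.of_injective (f := MonoidHom.mk'
      (fun g => (⟨((g : M) : G), ⟨(g : M), g.2.1, rfl⟩, ?_⟩ :
        ↥(Cfsg.alphaCore M ⊓ centralizer ({(xM : G)} : Set G)))) fun a b => rfl) ?_
    · exact mem_centralizer_singleton_iff.2 (congrArg Subtype.val (mem_centralizer_singleton_iff.1 g.2.2))
    · intro a b hab
      exact Subtype.ext (Subtype.ext (congrArg Subtype.val hab :))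
  have hAc : A ≤ commutator M := by
    refine le_trans ?_ (piCore_sigma_le_commutator hG hM)
    exact le_piCore inferInstance (IsPiSubgroup.mono hAπ fun q hq => alpha_subset_sigma hG hM hq)
  obtain ⟨hAR, -⟩ := (Cfsg.Agent.S1459.result (G := M)).1 A R inferInstance hcop hR hAc
  have hpl := pLengthLE_commutator hodd A R xM (by rw [normalizer_eq_top]; exact le_top)
    (hRcard ▸ hcop.symm) hxR (by rw [← Subgroup.orderOf_coe xM, hxo]; exact hr) hZ p
  rw [← hAR] at hpl
  exact pLengthLE_of_normal_coprime_index A ((hp.out.coprime_iff_not_dvd).2 (hAidx p hp.out hα)).symm hpl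

omit hM in
theorem pLengthLE_proper (p : ℕ) [Fact p.Prime] {H : Subgroup G} (hH : H ≠ ⊤) :
    Cfsg.PLengthLE p 1 H := by
  obtain ⟨M, hM, hHM⟩ := exists_isCoatom_ge hH
  exact pLengthLE_of_le hHM (pLengthLE_coatom hG hM p)

omit hM in
/-- A maximal subgroup over the normalizer of a nontrivial Sylow subgroup. -/
theorem exists_sigma_maximal {p : ℕ} [hp : Fact p.Prime] (P : Sylow p G) (hP : (P : Subgroup G) ≠ ⊥) :
    ∃ M, IsCoatom M ∧ normalizer ((P : Subgroup G) : Set G) ≤ M ∧ p ∈ Cfsg.sigma M := by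
  obtain ⟨M, hM, hNM⟩ := exists_isCoatom_ge
    (normalizer_ne_top hG hP (isPGroup_ne_top hG P.isPGroup'))
  have hPM : (P : Subgroup G) ≤ M := le_normalizer.trans hNM
  refine ⟨M, hM, hNM, hp.out, ?_, P.subtype hPM, ?_⟩
  · obtain ⟨n, hn⟩ := P.isPGroup'.exists_card_eq
    have hn0 : n ≠ 0 := fun h0 => hP (card_eq_one.1 (by rw [hn, h0, pow_zero]))
    exact (hn ▸ dvd_pow_self p hn0).trans (card_dvd_of_le hPM)
  · rwa [Sylow.coe_subtype, subgroupOf_map_subtype, inf_eq_left.2 hPM]

omit hM in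
/-- BG 10.8 / 10.9: control of fusion by the normalizer of a Sylow subgroup. -/
theorem exists_normalizer_conj_eq {p : ℕ} [hp : Fact p.Prime] (P : Sylow p G) {Q : Subgroup G} {x : G}
    (hQ : Q ≤ P) (hQx : Q.map (MulAut.conj x).toMonoidHom ≤ P) :
    ∃ y ∈ normalizer ((P : Subgroup G) : Set G),
      Q.map (MulAut.conj x).toMonoidHom = Q.map (MulAut.conj y).toMonoidHom := by
  by_cases hQ1 : Q = ⊥
  · exact ⟨1, one_mem _, by rw [hQ1, Subgroup.map_bot, Subgroup.map_bot]⟩
  have hP : (P : Subgroup G) ≠ ⊥ := fun h => hQ1 (le_bot_iff.1 (h ▸ hQ))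
  obtain ⟨M, hM, hNM, hσ⟩ := exists_sigma_maximal hG P hP
  have hPM : (P : Subgroup G) ≤ M := le_normalizer.trans hNM
  obtain ⟨m, hm, c, hc, rfl⟩ := exists_eq_mul_centralizer hG hM hσ (P.isPGroup'.to_le hQ) hQ1
    (hQ.trans hPM) (hQx.trans hPM)
  have hconj : ∀ (d : G), d ∈ centralizer (Q : Set G) → ∀ g : G,
      Q.map (MulAut.conj (g * d)).toMonoidHom = Q.map (MulAut.conj g).toMonoidHom := by
    intro d hd g
    ext t
    rw [mem_map_conj_iff, mem_map_conj_iff]
    constructor <;> intro ht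
    · have h1 := mem_centralizer_iff.1 hd _ ht
      have : g⁻¹ * t * g = (g * d)⁻¹ * t * (g * d) := by
        calc g⁻¹ * t * g = d * ((g * d)⁻¹ * t * (g * d)) * d⁻¹ := by group
          _ = ((g * d)⁻¹ * t * (g * d)) * d * d⁻¹ := by rw [h1]
          _ = (g * d)⁻¹ * t * (g * d) := by rw [mul_inv_cancel_right]
      rw [this]; exact ht
    · have h1 := mem_centralizer_iff.1 hd _ ht
      have : (g * d)⁻¹ * t * (g * d) = g⁻¹ * t * g := by
        calc (g * d)⁻¹ * t * (g * d) = d⁻¹ * ((g⁻¹ * t * g) * d) := by group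
          _ = d⁻¹ * (d * (g⁻¹ * t * g)) := by rw [h1]
          _ = g⁻¹ * t * g := by rw [inv_mul_cancel_left]
      rw [this]; exact ht
  rw [hconj c hc] at hQx ⊢
  haveI := isSolvable_of_ne_top hG hM.1
  obtain ⟨-, hfus, -⟩ := Cfsg.Agent.S1461.result (G := M) p (pLengthLE_coatom hG hM p) (P.subtype hPM)
  obtain ⟨g, hg, d, hd, hgd⟩ := hfus (M.subtype ⁻¹' (Q : Set G)) ⟨m, hm⟩ (fun y hy => hQ hy) (by
    rintro _ ⟨y, hy, rfl⟩
    exact hQx ⟨(y : G), hy, rfl⟩)
  have hgN : (g : G) ∈ normalizer ((P : Subgroup G) : Set G) := by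
    refine mem_normalizer_iff.2 fun t => ⟨fun ht => ?_, fun ht => ?_⟩
    · exact (mem_normalizer_iff.1 hg ⟨t, hPM ht⟩).1 ht
    · have htM : t ∈ M := by
        have := M.mul_mem (M.mul_mem (M.inv_mem g.2) (hPM ht)) g.2
        rwa [show (g : G)⁻¹ * ((g : G) * t * (g : G)⁻¹) * g = t by group] at this
      exact (mem_normalizer_iff.1 hg ⟨t, htM⟩).2 ht
  have hdQ : (d : G) ∈ centralizer (Q : Set G) := mem_centralizer_iff.2 fun t ht =>
    congrArg Subtype.val (mem_centralizer_iff.1 hd ⟨t, hPM (hQ ht)⟩ ht)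
  refine ⟨g, hgN, ?_⟩
  rw [show m = (g : G) * d from (congrArg Subtype.val hgd).symm, hconj _ hdQ]

omit hM in
/-- BG 10.9 (a). -/
theorem sylow_le_commutator_normalizer {p : ℕ} [hp : Fact p.Prime] (P : Sylow p G) :
    (P : Subgroup G) ≤ ⁅normalizer ((P : Subgroup G) : Set G), normalizer ((P : Subgroup G) : Set G)⁆ := by
  by_cases hP : (P : Subgroup G) = ⊥
  · rw [hP]; exact bot_le
  obtain ⟨M, hM, hNM, hσ⟩ := exists_sigma_maximal hG P hP
  have hPM : (P : Subgroup G) ≤ M := le_normalizer.trans hNM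
  haveI := isSolvable_of_ne_top hG hM.1
  set S := P.subtype hPM
  have hS : (S : Subgroup M).map M.subtype = P := by
    rw [Sylow.coe_subtype, subgroupOf_map_subtype, inf_eq_left.2 hPM]
  have h1 : (S : Subgroup M) ≤ commutator M := by
    have h := le_commutator_of_sigma hG hM hσ (isMaxPIn_of_sylow S)
    rw [← map_subtype_commutator] at h
    exact (map_le_map_iff_of_injective M.subtype_injective).1 h
  have h2 := Subgroup.map_mono (f := M.subtype)
    ((Cfsg.Agent.S1461.result (G := M) p (pLengthLE_coatom hG hM p) S).1 h1)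
  rw [hS, map_commutator] at h2
  have h3 := le_normalizer_map (H := (S : Subgroup M)) M.subtype
  rw [hS] at h3
  exact h2.trans (commutator_mono h3 h3)

omit hM in
/-- BG 10.9 (b). -/
theorem sylow_eq_commutator_complement {p : ℕ} [hp : Fact p.Prime] (P : Sylow p G) (V : Subgroup G)
    (hV : Cfsg.IsComplIn (P : Subgroup G) V (normalizer ((P : Subgroup G) : Set G))) :
    (P : Subgroup G) = ⁅(P : Subgroup G), V⁆ := by
  by_cases hP : (P : Subgroup G) = ⊥
  · rw [hP, commutator_bot_left]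
  set N := normalizer ((P : Subgroup G) : Set G) with hN
  haveI : Group.IsSolvable N := isSolvable_of_ne_top hG (normalizer_ne_top hG hP (isPGroup_ne_top hG P.isPGroup'))
  obtain ⟨hPN, hVN, hdis, hprod⟩ := hV
  have hPc : (P : Subgroup G).subgroupOf N ≤ commutator N := by
    intro y hy
    have h := sylow_le_commutator_normalizer hG P hy
    rw [← map_subtype_commutator] at h
    obtain ⟨z, hz, he⟩ := h
    rwa [← Subtype.ext he]
  have hcompl : IsComplement' ((P : Subgroup G).subgroupOf N) (V.subgroupOf N) := by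
    refine isComplement'_of_disjoint_and_mul_eq_univ ?_ ?_
    · rw [disjoint_iff, eq_bot_iff]
      intro y hy
      exact mem_bot.2 (Subtype.ext (mem_bot.1 (hdis ▸ ⟨hy.1, hy.2⟩ : (y : G) ∈ (⊥ : Subgroup G))))
    · ext y
      simp only [Set.mem_univ, iff_true]
      obtain ⟨a, ha, b, hb, he⟩ := hprod y y.2
      exact ⟨⟨a, hPN ha⟩, ha, ⟨b, hVN hb⟩, hb, Subtype.ext he.symm⟩
  haveI : ((P : Subgroup G).subgroupOf N).Normal := normal_in_normalizer
  have hcop : (Nat.card ((P : Subgroup G).subgroupOf N)).Coprime ((P : Subgroup G).subgroupOf N).index := by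
    exact (P.subtype hPN).card_coprime_index
  obtain ⟨h1, -⟩ := (Cfsg.Agent.S1459.result (G := N)).1 _ _ inferInstance hcop hcompl hPc
  have h2 := congrArg (Subgroup.map N.subtype) h1
  rwa [map_commutator, subgroupOf_map_subtype, subgroupOf_map_subtype, inf_eq_left.2 hPN,
    inf_eq_left.2 hVN] at h2

end CfsgLib.OddOrder
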