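import Cfsg.Agent.Lib.OddOrder.OperatorTools
import Cfsg.Agent.Lib.Fusion.CriticalSmall
import Cfsg.Agent.S3771
import Mathlib.Tactic.IntervalCases

/-!
A nontrivial `p`-group of rank at most two with operators of odd coprime order and without fixed
quotient has `p > 3`.
-/

set_option autoImplicit false

namespace CfsgLib.OddOrder.Operator

open Subgroup

universe u v

theorem rankLE_subgroup {Q : Type*} [Group Q] {p k : ℕ} (h : Cfsg.PRankLE p k Q) (D : Subgroup Q) :
    Cfsg.PRankLE p k D := by
  intro A hA hexp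
  haveI := hA
  have hc : IsMulCommutative (A.map D.subtype) := inferInstance
  have := h (A.map D.subtype) hc (by
    rintro _ ⟨a, ha, rfl⟩
    rw [← map_pow, hexp a ha, map_one])
  rwa [card_map_of_injective D.subtype_injective] at this

theorem card_inf_fixed_modEq {Q : Type*} [Group Q] [Finite Q] {r : ℕ} [Fact r.Prime] (b : MulAut Q)
    (hb : b ^ r = 1) (S : Subgroup Q) (hS : ∀ x ∈ S, b x ∈ S) :
    Nat.card S ≡
      Nat.card (S ⊓ b.toMonoidHom.eqLocus (MonoidHom.id Q) : Subgroup Q) [MOD r] := by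
  let e : Equiv.Perm S := Equiv.ofBijective (fun x : S => (⟨b x, hS x x.2⟩ : S))
    (Finite.injective_iff_bijective.1 fun x y h => Subtype.ext (b.injective (congrArg Subtype.val h)))
  have he : ∀ x : S, ((e x : S) : Q) = b x := fun _ => rfl
  have hpow : ∀ (n : ℕ) (x : S), (((e ^ n) x : S) : Q) = (b ^ n) x := by
    intro n
    induction n with
    | zero => intro x; rfl
    | succ n ih => intro x; rw [pow_succ', pow_succ', Equiv.Perm.mul_apply, MulAut.mul_apply, he, ih]
  have her : e ^ r = 1 := Equiv.ext fun x => Subtype.ext (by rw [hpow, hb]; rfl)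
  have hpg : IsPGroup r (zpowers e) := by
    rintro ⟨g, i, rfl⟩
    refine ⟨1, Subtype.ext ?_⟩
    simp only [pow_one, coe_pow, coe_one]
    rw [← zpow_natCast, ← zpow_mul, mul_comm, zpow_mul, zpow_natCast, her, one_zpow]
  refine (hpg.card_modEq_card_fixedPoints S).trans (congrArg (· % r) ?_)
  refine Nat.card_congr ⟨fun x => ⟨((x : S) : Q), (x : S).2,
    congrArg Subtype.val (x.2 ⟨e, mem_zpowers e⟩)⟩,
    fun x => ⟨⟨x, x.2.1⟩, ?_⟩, fun _ => rfl, fun _ => rfl⟩
  intro g
  have h1 : e ∈ MulAction.stabilizer (Equiv.Perm S) (⟨x, x.2.1⟩ : S) :=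
    Subtype.ext x.2.2
  exact zpowers_le.2 h1 g.2

variable {Γ : Type v} {Q : Type u} [Group Γ] [Finite Γ] [Group Q] [Finite Q] {φ : Γ →* MulAut Q}
  {p : ℕ} [hp : Fact p.Prime]

theorem three_lt (hp2 : p ≠ 2) (hQ : IsPGroup p Q) (hr : Cfsg.PRankLE p 2 Q) [Nontrivial Q]
    (hodd : Odd (Nat.card Γ)) (hcop : (Nat.card Γ).Coprime p) (hnt : NoTrivialQuotient φ) :
    3 < p := by
  by_contra h
  obtain rfl : p = 3 := by have := hp.out.two_le; omega
  obtain ⟨D, hDc, hDs, hD⟩ := CfsgLib.Fusion.SmallFix.exists_small_characteristic hQ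
  haveI := hDc
  have hexp : ∀ x ∈ D, x ^ 3 = 1 := fun x hx =>
    (hDs x hx).resolve_right fun h => by simpa using h.1
  have hcard := Cfsg.Agent.S3771.result (hQ.to_subgroup D) (rankLE_subgroup hr D)
    fun x => Subtype.ext (by simpa using hexp x x.2)
  have key : ∀ (b : MulAut Q) (r : ℕ), r.Prime → 5 ≤ r → orderOf b = r → ∀ x ∈ D, b x = x := by
    intro b r hrp hr5 hb x hx
    haveI := Fact.mk hrp
    set F := b.toMonoidHom.eqLocus (MonoidHom.id Q) with hF
    by_contra hne
    have hlt : D ⊓ F < D := lt_of_le_of_ne inf_le_left fun he => hne ((he.symm ▸ hx : x ∈ D ⊓ F).2)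
    have h1 := card_inf_fixed_modEq b (hb ▸ pow_orderOf_eq_one b) D
      (fun y hy => characteristic_iff_le_comap.1 hDc b hy)
    rw [← hF] at h1
    obtain ⟨k, hk⟩ := (hQ.to_subgroup D).exists_card_eq
    obtain ⟨j, hj⟩ := (hQ.to_subgroup (D ⊓ F)).exists_card_eq
    have hjk : j < k := by
      have h2 : Nat.card (D ⊓ F : Subgroup Q) < Nat.card D := by
        refine lt_of_le_of_ne (card_le_of_le hlt.le) fun he => hlt.ne ?_
        exact eq_of_le_of_card_ge hlt.le he.ge
      rw [hk, hj] at h2
      exact (Nat.pow_lt_pow_iff_right (by norm_num)).1 h2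
    rw [hk] at hcard
    have hk3 : k ≤ 3 := (Nat.pow_le_pow_iff_right (by norm_num)).1 hcard
    rw [hk, hj] at h1
    have hd := (Nat.modEq_iff_dvd' (Nat.pow_le_pow_right (by norm_num) hjk.le)).1 h1.symm
    by_cases h30 : k = 3 ∧ j = 0
    · obtain ⟨rfl, rfl⟩ := h30
      set S := D ⊓ Subgroup.centralizer (D : Set Q) with hS
      have hSinv : ∀ y ∈ S, b y ∈ S := by
        rintro y ⟨hy, hyc⟩
        refine ⟨characteristic_iff_le_comap.1 hDc b hy, fun w hw => ?_⟩
        have hw' : b.symm w ∈ D := characteristic_iff_le_comap.1 hDc b.symm hw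
        simpa using congrArg b (hyc _ hw')
      have h2 := card_inf_fixed_modEq b (hb ▸ pow_orderOf_eq_one b) S hSinv
      rw [← hF] at h2
      have h3 : S ⊓ F = ⊥ := by
        refine le_bot_iff.1 ((inf_le_inf_right F inf_le_left).trans (le_of_eq ?_))
        exact eq_bot_of_card_eq _ (by rw [hj, pow_zero])
      rw [h3, card_bot] at h2
      obtain ⟨i, hi⟩ := (hQ.to_subgroup S).exists_card_eq
      rw [hi] at h2
      have hd2 := (Nat.modEq_iff_dvd' (Nat.one_le_pow _ _ (by norm_num))).1 h2.symm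
      have hi2 : i ≤ 2 := by
        by_contra hi2
        have hle : S ≤ D := inf_le_left
        have := hr S ⟨⟨fun u w => Subtype.ext (w.2.2 u u.2.1)⟩⟩ (fun u hu => hexp u hu.1)
        rw [hi, Nat.pow_le_pow_iff_right (by norm_num)] at this
        omega
      have hi1 : i ≠ 0 := by
        rintro rfl
        haveI : Nontrivial D := D.nontrivial_iff_ne_bot.2 fun he => by
          rw [he, card_bot] at hk; norm_num at hk
        haveI := (hQ.to_subgroup D).center_nontrivial
        obtain ⟨⟨⟨u, hu⟩, huc⟩, hne1⟩ := exists_ne (1 : Subgroup.center D)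
        have huS : u ∈ S := ⟨hu, fun w hw => congrArg Subtype.val (mem_center_iff.1 huc ⟨w, hw⟩)⟩
        rw [eq_bot_of_card_eq S (by rw [hi, pow_zero]), mem_bot] at huS
        exact hne1 (Subtype.ext (Subtype.ext huS))
      have hi1' : 1 ≤ i := Nat.one_le_iff_ne_zero.2 hi1
      interval_cases i <;> norm_num at hd2 <;>
        (have hle := Nat.le_of_dvd (by norm_num) hd2; interval_cases r <;> norm_num at *)
    · have hpos : 0 < 3 ^ k - 3 ^ j := by
        have := Nat.pow_lt_pow_right (by norm_num : 1 < 3) hjk; omega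
      have hle := Nat.le_of_dvd hpos hd
      interval_cases k <;> interval_cases j <;> norm_num at hd hle h30 <;>
        interval_cases r <;> norm_num at *
  have htriv : ∀ a, φ a = 1 := by
    intro a
    by_contra ha
    set n := orderOf (φ a) with hn
    have hn1 : n ≠ 1 := fun e => ha (orderOf_eq_one_iff.1 e)
    have hrp := Nat.minFac_prime hn1
    set r := n.minFac with hr'
    have hrd : r ∣ n := Nat.minFac_dvd n
    have hrG : r ∣ Nat.card Γ := hrd.trans ((orderOf_map_dvd φ a).trans (orderOf_dvd_natCard a))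
    have hr3 : r ≠ 3 := fun e => by
      rw [e] at hrG
      have := Nat.eq_one_of_dvd_coprimes hcop hrG (dvd_refl 3)
      omega
    have hr2 : r ≠ 2 := fun e => by
      rw [e] at hrG
      exact hodd.not_two_dvd_nat hrG
    have hr5 : 5 ≤ r := by
      have := hrp.two_le
      have : r ≠ 4 := fun e => by rw [e] at hrp; norm_num at hrp
      omega
    have hb : orderOf (φ a ^ (n / r)) = r := orderOf_pow_orderOf_div (orderOf_pos (φ a)).ne' hrd
    have := hD _ (by rw [hb]; exact (Nat.coprime_primes hrp Nat.prime_three).2 hr3)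
      (key _ r hrp hr5 hb)
    rw [this, orderOf_one] at hb
    exact hrp.one_lt.ne hb
  have htop := hnt ⊥ inferInstance (fun a x hx => by rw [htriv]; exact hx)
    (fun a x => by rw [htriv]; simp)
  exact bot_ne_top htop

end CfsgLib.OddOrder.Operator
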