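import Cfsg.Agent.Lib.OddOrder.OperatorExpBound
import Cfsg.Agent.Lib.OddOrder.OperatorPrimeThree
import Cfsg.Agent.Lib.PGroup.OmegaRankTwo
import Mathlib.Tactic.LinearCombination

/-!
`p`-groups of rank two, `p > 3`, with operators of odd coprime order and without fixed quotient:
either abelian or a central product of an extraspecial group of exponent `p` with a cyclic group.
-/

set_option autoImplicit false
set_option linter.style.haveILetI false

namespace CfsgLib.OddOrder.Operator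

open Subgroup
open scoped commutatorElement

universe u v

variable {Q : Type u} [Group Q] [Finite Q] {p : ℕ} [hp : Fact p.Prime]

theorem scalar_commutator {Γ : Type v} [Group Γ] {R : Type*} [Group R] {φ : Γ →* MulAut R}
    {v w : R} (hvw : ⁅v, w⁆ ∈ center R) (a : Γ) {n m : R} {α β : ℤ} (hn : n ∈ center R)
    (hm : Commute m v) (hv : φ a v = n * v ^ α) (hw : φ a w = m * w ^ β) :
    φ a ⁅v, w⁆ = ⁅v, w⁆ ^ (α * β) := by
  have hnall : ∀ g, n * g * n⁻¹ = g := fun g => by
    rw [← mem_center_iff.1 hn g, mul_inv_cancel_right]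
  have hcc : ⁅v ^ α, w ^ β⁆ ∈ center R := by
    rw [commutator_zpow_zpow hvw]; exact zpow_mem hvw _
  rw [map_commutatorElement, hv, hw, ← commutator_zpow_zpow hvw]
  have e1 : ⁅n * v ^ α, m * w ^ β⁆ = ⁅v ^ α, m * w ^ β⁆ := by
    calc ⁅n * v ^ α, m * w ^ β⁆
        = n * (v ^ α * (m * w ^ β) * (v ^ α)⁻¹) * n⁻¹ * (m * w ^ β)⁻¹ := by
          rw [commutatorElement_def]; group
      _ = ⁅v ^ α, m * w ^ β⁆ := by rw [hnall, commutatorElement_def]
  rw [e1]
  calc ⁅v ^ α, m * w ^ β⁆ = (v ^ α * m * (v ^ α)⁻¹) * ⁅v ^ α, w ^ β⁆ * m⁻¹ := by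
        simp only [commutatorElement_def]; group
    _ = ⁅v ^ α, w ^ β⁆ := by
        rw [← (hm.zpow_right α).eq, mul_inv_cancel_right, mem_center_iff.1 hcc m,
          mul_inv_cancel_right]

omit [Finite Q] hp in
theorem commutator_mul_left' (x y g : Q) : ⁅x * y, g⁆ = x * ⁅y, g⁆ * x⁻¹ * ⁅x, g⁆ := by
  simp only [commutatorElement_def]; group

/-- In rank two a normal elementary subgroup of order `p²` contains the elements of order `p`
centralizing it. -/
theorem mem_of_rank (hr : Cfsg.PRankLE p 2 Q) {E : Subgroup Q} [E.Normal]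
    (hE : Nat.card E = p ^ 2) (hexp : ∀ u ∈ E, u ^ p = 1)
    (hcm : ∀ u ∈ E, ∀ w ∈ E, u * w = w * u) {x : Q} (hx : ∀ u ∈ E, u * x = x * u)
    (hxp : x ^ p = 1) : x ∈ E := by
  by_contra hxE
  have hA := hr (E ⊔ zpowers x) ⟨⟨fun u w => Subtype.ext ?_⟩⟩ ?_
  · rw [CfsgLib.PGroup.card_sup_zpowers hxE (by rw [hxp]; exact one_mem _), hE, ← pow_succ',
      Nat.pow_le_pow_iff_right hp.out.one_lt] at hA
    omega
  · obtain ⟨n, i, hn, hu⟩ := exists_zpow_decomp (N := E) u.2
    obtain ⟨m, j, hm, hw⟩ := exists_zpow_decomp (N := E) w.2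
    show (u : Q) * w = w * u
    rw [hu, hw]
    exact (Commute.mul_left ((show Commute n m from hcm n hn m hm).mul_right
        ((show Commute n x from hx n hn).zpow_right j))
      (((show Commute m x from hx m hm).zpow_right i).symm.mul_right
        ((Commute.refl x).zpow_zpow i j))).eq
  · intro u hu
    obtain ⟨n, i, hn, rfl⟩ := exists_zpow_decomp (N := E) hu
    rw [((show Commute n x from hx n hn).zpow_right i).mul_pow, hexp n hn, one_mul,
      ← zpow_natCast, ← zpow_mul, mul_comm, zpow_mul, zpow_natCast, hxp, one_zpow]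

/-- A normal subgroup of order `p²` lies in the second centre and its centralizer has index at most
`p`. -/
theorem sq_normal_props (hQ : IsPGroup p Q) (E : Subgroup Q) [E.Normal]
    (hE : Nat.card E = p ^ 2) :
    (∀ u ∈ E, ∀ g, ⁅u, g⁆ ∈ center Q) ∧ (Subgroup.centralizer (E : Set Q)).index ≤ p := by
  obtain ⟨z, hzE, hzc, hzo⟩ := CfsgLib.PGroup.exists_central_orderOf_eq hQ E (fun h => by
    rw [h, card_bot] at hE
    exact (Nat.one_lt_pow two_ne_zero hp.out.one_lt).ne hE)
  haveI : (zpowers z).Normal := ⟨fun x hx g => by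
    rw [mem_center_iff.1 (zpowers_le.2 hzc hx) g, mul_inv_cancel_right]; exact hx⟩
  have hlt : zpowers z < E := lt_of_le_of_ne (zpowers_le.2 hzE) fun h => by
    rw [← h, Nat.card_zpowers, hzo] at hE
    exact (lt_self_pow₀ hp.out.one_lt (by norm_num)).ne hE
  obtain ⟨x, hxE, hxz, hxp, hxg⟩ := CfsgLib.PGroup.exists_step hQ (zpowers z) E hlt
  have hsup : zpowers z ⊔ zpowers x = E := by
    refine eq_of_le_of_card_ge (sup_le hlt.le (zpowers_le.2 hxE)) ?_
    rw [CfsgLib.PGroup.card_sup_zpowers hxz hxp, Nat.card_zpowers, hzo, hE, sq]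
  have hzc' : zpowers z ≤ center Q := zpowers_le.2 hzc
  let θ : Q →* zpowers z := MonoidHom.mk' (fun g => ⟨⁅x, g⁆, hxg g⟩) fun g h => Subtype.ext (by
    show ⁅x, g * h⁆ = ⁅x, g⁆ * ⁅x, h⁆
    calc ⁅x, g * h⁆ = ⁅x, g⁆ * (g * ⁅x, h⁆ * g⁻¹) := by simp only [commutatorElement_def]; group
      _ = _ := by rw [mem_center_iff.1 (hzc' (hxg h)) g, mul_inv_cancel_right])
  have hker : θ.ker ≤ Subgroup.centralizer (E : Set Q) := by
    intro g hg u hu
    have hgx : x * g = g * x :=
      commutatorElement_eq_one_iff_mul_comm.1 (congrArg Subtype.val (MonoidHom.mem_ker.1 hg))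
    rw [← hsup] at hu
    obtain ⟨n, i, hn, rfl⟩ := exists_zpow_decomp (N := zpowers z) hu
    exact ((show Commute n g from (mem_center_iff.1 (hzc' hn) g).symm).mul_left
      ((show Commute x g from hgx).zpow_left i)).eq
  refine ⟨fun u hu g => ?_, ?_⟩
  · rw [← hsup] at hu
    obtain ⟨n, i, hn, rfl⟩ := exists_zpow_decomp (N := zpowers z) hu
    rw [show ⁅n * x ^ i, g⁆ = n * ⁅x ^ i, g⁆ * n⁻¹ * ⁅n, g⁆ from commutator_mul_left' _ _ _,
      commutatorElement_eq_one_iff_mul_comm.2 (mem_center_iff.1 (hzc' hn) g).symm, mul_one,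
      ← zpow_one g, commutator_zpow_zpow (hzc' (hxg g)), ← mem_center_iff.1 (hzc' hn) _,
      mul_inv_cancel_right]
    exact zpow_mem (hzc' (hxg g)) _
  · refine le_trans ?_ (le_of_eq ((Nat.card_zpowers z).trans hzo))
    refine le_trans (Nat.le_of_dvd (Nat.pos_of_ne_zero index_ne_zero_of_finite)
      (index_dvd_of_le hker)) ?_
    rw [index_ker]
    exact card_le_card_group _

/-- An element of order `p` not centralizing a normal elementary subgroup of order `p²` forces the
quotient of its centralizer by it to be cyclic. -/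
theorem isCyclic_map_centralizer (hp3 : 3 < p) (hQ : IsPGroup p Q) (hr : Cfsg.PRankLE p 2 Q)
    {E : Subgroup Q} [E.Normal] (hE : Nat.card E = p ^ 2) (hexp : ∀ u ∈ E, u ^ p = 1)
    (hcm : ∀ u ∈ E, ∀ w ∈ E, u * w = w * u) {y : Q} (hy : y ^ p = 1)
    (hyD : y ∉ Subgroup.centralizer (E : Set Q)) :
    IsCyclic ((Subgroup.centralizer (E : Set Q)).map (QuotientGroup.mk' E)) := by
  by_contra hnc
  set D := Subgroup.centralizer (E : Set Q) with hD
  set f := QuotientGroup.mk' E with hf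
  haveI : (D.map f).Normal :=
    (inferInstance : D.Normal).map f (QuotientGroup.mk'_surjective E)
  obtain ⟨A, hAD, hAn, ⟨hAc, hAp⟩, hA⟩ :=
    CfsgLib.PGroup.exists_normal_elementary_sq (by omega) (hQ.to_quotient E) (D.map f) hnc
  have hED : E ≤ D := fun u hu w hw => hcm w hw u hu
  set M := A.comap f with hM
  haveI : M.Normal := hAn.comap f
  have hMD : M ≤ D := (comap_mono hAD).trans (le_of_eq (comap_map_eq_self (by
    rw [hf, QuotientGroup.ker_mk']; exact hED)))
  have hEM : E ≤ M := fun u hu => show f u ∈ A by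
    rw [show f u = 1 from (QuotientGroup.eq_one_iff u).2 hu]; exact one_mem _
  have hMp : ∀ x ∈ M, x ^ p ∈ E := fun x hx => (QuotientGroup.eq_one_iff _).1 (hAp _ hx)
  have hMc : ∀ x ∈ M, ∀ w ∈ M, ⁅x, w⁆ ∈ E := fun x hx w hw => by
    refine (QuotientGroup.eq_one_iff _).1 ?_
    show f ⁅x, w⁆ = 1
    rw [map_commutatorElement, commutatorElement_eq_one_iff_mul_comm]
    exact setLike_mul_comm (s := A) hx hw
  have hcomD : ∀ u ∈ E, ∀ x ∈ D, Commute u x := fun u hu x hx => hx u hu
  let ψ : M →* Q := MonoidHom.mk' (fun x => (x : Q) ^ p) fun x w => by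
    have h1 : ∀ g ∈ D, ⁅g, ⁅(w : Q), (x : Q)⁆⁆ = 1 := fun g hg =>
      commutatorElement_eq_one_iff_commute.2 (hcomD _ (hMc _ w.2 _ x.2) g hg).symm
    exact CfsgLib.PGroup.mul_pow_prime_eq hp.out (x : Q) w
      (by rw [h1 _ (hMD x.2)]; exact one_mem _) (by rw [h1 _ (hMD w.2)]; exact one_mem _)
      (hexp _ (hMc _ w.2 _ x.2)) (Or.inl ⟨by omega, h1 _ (hMD x.2), h1 _ (hMD w.2)⟩)
  have hpE : ∀ x ∈ D, x ^ p = 1 → x ∈ E := fun x hx hxp =>
    mem_of_rank hr hE hexp hcm (fun u hu => hx u hu) hxp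
  have hcardM : Nat.card M = p ^ 4 := by
    have h1 := M.card_mul_index
    rw [hM, index_comap_of_surjective A (QuotientGroup.mk'_surjective E),
      Subgroup.card_eq_card_quotient_mul_card_subgroup E, ← A.card_mul_index, hA, hE] at h1
    refine Nat.eq_of_mul_eq_mul_right (Nat.pos_of_ne_zero (index_ne_zero_of_finite (H := A))) ?_
    rw [h1]; ring
  have hrange : ψ.range = E := by
    refine eq_of_le_of_card_ge (by rintro _ ⟨x, rfl⟩; exact hMp _ x.2) ?_
    have h1 := ψ.ker.card_mul_index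
    rw [index_ker, hcardM] at h1
    have h2 : Nat.card ψ.ker ≤ p ^ 2 := by
      rw [← card_map_of_injective M.subtype_injective, ← hE]
      refine card_le_of_le ?_
      rintro _ ⟨x, hx, rfl⟩
      exact hpE _ (hMD x.2) hx
    rw [hE]
    by_contra h3
    push Not at h3
    have : Nat.card ψ.ker * Nat.card ψ.range < p ^ 2 * p ^ 2 :=
      lt_of_le_of_lt (Nat.mul_le_mul_right _ h2) (Nat.mul_lt_mul_of_pos_left h3 (pow_pos hp.out.pos 2))
    rw [h1, ← pow_add] at this
    exact lt_irrefl _ this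
  obtain ⟨e, he, hye⟩ : ∃ e ∈ E, e * y ≠ y * e := by
    by_contra h
    push Not at h
    exact hyD h
  obtain ⟨⟨m, hm⟩, hme⟩ : e ∈ ψ.range := hrange ▸ he
  replace hme : m ^ p = e := hme
  set w := m⁻¹ * (y * m * y⁻¹) with hw
  have hwM : w ∈ M := mul_mem (inv_mem hm) ((inferInstance : M.Normal).conj_mem m hm y)
  have hmul : ∀ x ∈ M, ∀ x' ∈ M, (x * x') ^ p = x ^ p * x' ^ p := fun x hx x' hx' =>
    map_mul ψ ⟨x, hx⟩ ⟨x', hx'⟩
  have hzc := (sq_normal_props hQ E hE).1
  set z := ⁅e⁻¹, y⁆ with hz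
  have hzcen : z ∈ center Q := hzc _ (inv_mem he) y
  have hyey : y * e * y⁻¹ = e * z := by rw [hz, commutatorElement_def]; group
  have hwp : w ^ p = z := by
    have h1 : (y * m * y⁻¹) ^ p = e * w ^ p := by
      rw [← hme, ← hmul m hm w hwM]; congr 1; rw [hw]; group
    rw [conj_pow, hme, hyey] at h1
    exact (mul_left_cancel h1).symm
  set u := w⁻¹ * (y * w * y⁻¹) with hu
  have huE : u ∈ E := by
    refine hpE _ (mul_mem (inv_mem (hMD hwM))
      ((inferInstance : D.Normal).conj_mem w (hMD hwM) y)) ?_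
    rw [hu, hmul _ (inv_mem hwM) _ ((inferInstance : M.Normal).conj_mem w hwM y), conj_pow, inv_pow,
      hwp, mem_center_iff.1 hzcen y, mul_inv_cancel_right, inv_mul_cancel]
  set v := ⁅u⁻¹, y⁆ with hv
  have hvc : v ∈ center Q := hzc _ (inv_mem huE) y
  have hvE : v ∈ E := by
    rw [hv, commutatorElement_def, inv_inv, show u⁻¹ * y * u * y⁻¹ = u⁻¹ * (y * u * y⁻¹) by group]
    exact mul_mem (inv_mem huE) ((inferInstance : E.Normal).conj_mem u huE y)
  have cm : y * m * y⁻¹ = m * w := by rw [hw]; group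
  have cw : y * w * y⁻¹ = w * u := by rw [hu]; group
  have cu : y * u * y⁻¹ = u * v := by rw [hv, commutatorElement_def]; group
  have cv : y * v * y⁻¹ = v := by rw [mem_center_iff.1 hvc y, mul_inv_cancel_right]
  have hwu : Commute w u := (hcomD u huE w (hMD hwM)).symm
  have huv : Commute u v := mem_center_iff.1 hvc u
  have key : ∀ j : ℕ, y ^ j * m * (y ^ j)⁻¹ = m * w ^ j * u ^ j.choose 2 * v ^ j.choose 3 := by
    intro j
    induction j with
    | zero => simp
    | succ j ih =>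
      calc y ^ (j + 1) * m * (y ^ (j + 1))⁻¹ = y * (y ^ j * m * (y ^ j)⁻¹) * y⁻¹ := by
            rw [pow_succ']; group
        _ = (y * m * y⁻¹) * (y * w * y⁻¹) ^ j * (y * u * y⁻¹) ^ j.choose 2 *
              (y * v * y⁻¹) ^ j.choose 3 := by rw [ih, conj_pow, conj_pow, conj_pow]; group
        _ = _ := by
            rw [cm, cw, cu, cv, hwu.mul_pow, huv.mul_pow, Nat.choose_succ_succ' j 1,
              Nat.choose_succ_succ' j 2, Nat.choose_one_right, pow_succ', pow_add, pow_add]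
            simp only [mul_assoc]
  have h := key p
  obtain ⟨k2, hk2⟩ := hp.out.dvd_choose_self (k := 2) (by norm_num) (by omega)
  obtain ⟨k3, hk3⟩ := hp.out.dvd_choose_self (k := 3) (by norm_num) (by omega)
  rw [hy, hk2, hk3, pow_mul, pow_mul, hexp u huE, hexp v hvE, hwp] at h
  simp only [one_mul, inv_one, mul_one, one_pow, left_eq_mul] at h
  rw [hz, commutatorElement_eq_one_iff_commute] at h
  exact hye (by simpa using h.inv_left.eq)

variable {Γ : Type v} [Group Γ] [Finite Γ] {φ : Γ →* MulAut Q}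

/-- Either there are no big subgroups of exponent `p`, or an invariant one of order `p³`. -/
theorem expBound_or_exists_cube (hp3 : 3 < p) (hQ : IsPGroup p Q) (hr : Cfsg.PRankLE p 2 Q)
    (hnt : NoTrivialQuotient φ) :
    CfsgLib.PGroup.ExpBound p Q ∨
      ∃ E : Subgroup Q, E.Normal ∧ Inv φ E ∧ (∀ x ∈ E, x ^ p = 1) ∧ Nat.card E = p ^ 3 := by
  refine or_iff_not_imp_left.2 fun hnb => ?_
  obtain ⟨B, hB, hBc⟩ : ∃ B : Subgroup Q, (∀ x ∈ B, x ^ p = 1) ∧ p ^ 2 < Nat.card B := by
    by_contra h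
    push Not at h
    exact hnb h
  have hncyc : ¬ IsCyclic (⊤ : Subgroup Q) := by
    intro hc
    haveI : IsCyclic Q := isCyclic_of_surjective (Subgroup.topEquiv : (⊤ : Subgroup Q) ≃* Q)
      (MulEquiv.surjective _)
    have h1 : Nat.card B ∣ p := by
      rw [← IsCyclic.exponent_eq_card]
      exact Monoid.exponent_dvd_of_forall_pow_eq_one fun x => Subtype.ext (by simpa using hB x x.2)
    exact absurd ((Nat.le_of_dvd hp.out.pos h1).trans (Nat.le_self_pow two_ne_zero p)) hBc.not_ge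
  obtain ⟨A, -, hAn, ⟨hAc, hAp⟩, hA⟩ :=
    CfsgLib.PGroup.exists_normal_elementary_sq (by omega) hQ ⊤ hncyc
  let E2 : Subgroup Q :=
    { carrier := {x | (∀ g, ⁅x, g⁆ ∈ center Q) ∧ x ^ p = 1}
      one_mem' := ⟨fun g => by simp, one_pow p⟩
      mul_mem' := by
        rintro x w ⟨hx, hxp⟩ ⟨hw, hwp⟩
        refine ⟨fun g => ?_, ?_⟩
        · rw [commutator_mul_left', mem_center_iff.1 (hw g) x, mul_inv_cancel_right]
          exact mul_mem (hw g) (hx g)
        · have h1 : ∀ g, ⁅g, ⁅w, x⁆⁆ = 1 := fun g =>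
            commutatorElement_eq_one_iff_mul_comm.2 (mem_center_iff.1 (hw x) g)
          rw [CfsgLib.PGroup.mul_pow_prime_eq hp.out x w (by rw [h1]; exact one_mem _)
            (by rw [h1]; exact one_mem _) ?_ (Or.inl ⟨by omega, h1 _, h1 _⟩), hxp, hwp, one_mul]
          rw [← CfsgLib.PGroup.commutator_pow_left w x (mem_center_iff.1 (hw x) w) p, hwp,
            commutatorElement_one_left]
      inv_mem' := by
        rintro x ⟨hx, hxp⟩
        refine ⟨fun g => ?_, by rw [inv_pow, hxp, inv_one]⟩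
        rw [show ⁅x⁻¹, g⁆ = x⁻¹ * ⁅x, g⁆⁻¹ * x by simp only [commutatorElement_def]; group,
          mem_center_iff.1 (inv_mem (hx g)) x⁻¹, inv_mul_cancel_right]
        exact inv_mem (hx g) }
  haveI hE2c : E2.Characteristic := characteristic_iff_le_comap.2 fun σ x hx =>
    ⟨fun g => by
      have h1 := characteristic_iff_le_comap.1 (inferInstance : (center Q).Characteristic) σ
        (hx.1 (σ.symm g))
      simpa [map_commutatorElement] using h1,
      by show σ x ^ p = 1; rw [← map_pow, hx.2, map_one]⟩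
  have hAE : A ≤ E2 := fun x hx => ⟨(sq_normal_props hQ A hA).1 x hx, hAp x hx⟩
  obtain ⟨k, hk⟩ := (hQ.to_subgroup E2).exists_card_eq
  have hk3 : k ≤ 3 := by
    refine (Nat.pow_le_pow_iff_right hp.out.one_lt).1 ?_
    rw [← hk]
    exact Cfsg.Agent.S3771.result (hQ.to_subgroup E2) (rankLE_subgroup hr E2)
      fun x => Subtype.ext (by simpa using x.2.2)
  have hk2 : 2 ≤ k := by
    refine (Nat.pow_le_pow_iff_right hp.out.one_lt).1 ?_
    rw [← hk, ← hA]
    exact card_le_of_le hAE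
  rcases (by omega : k = 3 ∨ k = 2) with rfl | rfl
  · exact ⟨E2, inferInstance, inv_of_characteristic φ E2, fun x hx => hx.2, hk⟩
  have hEA : A = E2 := eq_of_le_of_card_ge hAE (by rw [hk, hA])
  have hAinv : Inv φ A := hEA ▸ inv_of_characteristic φ E2
  have hcm : ∀ u ∈ A, ∀ w ∈ A, u * w = w * u := fun u hu w hw => setLike_mul_comm hu hw
  set D := Subgroup.centralizer (A : Set Q) with hD
  obtain ⟨y, hyB, hyD⟩ : ∃ y ∈ B, y ∉ D := by
    by_contra h
    push Not at h
    refine hBc.not_ge (hA ▸ card_le_of_le fun x hx => ?_)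
    exact mem_of_rank hr hA hAp hcm (fun u hu => h x hx u hu) (hB x hx)
  haveI hcyc := isCyclic_map_centralizer hp3 hQ hr hA hAp hcm (hB y hyB) hyD
  haveI : (D.map (QuotientGroup.mk' A)).Normal :=
    (inferInstance : D.Normal).map _ (QuotientGroup.mk'_surjective A)
  have hcen := cyclic_le_center (noTrivialQuotient_quot hnt A hAinv) (D.map (QuotientGroup.mk' A))
    (inv_map_quot hAinv hAinv.centralizer)
  have hidx : (D.map (QuotientGroup.mk' A)).index ≤ p := by
    rw [index_map_eq _ (QuotientGroup.mk'_surjective A) (by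
      rw [QuotientGroup.ker_mk']; exact fun u hu w hw => hcm w hw u hu)]
    exact (sq_normal_props hQ A hA).2
  have hcomm : commutator Q ≤ A := by
    rw [_root_.commutator_def, commutator_le]
    intro x _ w _
    refine (QuotientGroup.eq_one_iff _).1 ?_
    show QuotientGroup.mk' A ⁅x, w⁆ = 1
    rw [map_commutatorElement, commutatorElement_eq_one_iff_mul_comm]
    exact commute_of_cyclic_over_central hcen hidx (hQ.to_quotient A) _ _
  set K := Subgroup.closure {x : Q | x ^ p = 1} with hK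
  haveI hKc : K.Characteristic := characteristic_iff_map_le.2 fun σ => by
    rw [hK, MonoidHom.map_closure]
    refine closure_mono ?_
    rintro _ ⟨x, hx, rfl⟩
    show σ x ^ p = 1
    rw [← map_pow, show x ^ p = 1 from hx, map_one]
  have hKp : ∀ x ∈ K, x ^ p = 1 := fun x hx => CfsgLib.PGroup.pow_eq_one_of_mem_closure hp.out
    (fun c hc g => (sq_normal_props hQ A hA).1 c (hcomm hc) g) (Or.inr hp3) hx
  refine ⟨K, inferInstance, inv_of_characteristic φ K, hKp, ?_⟩
  have h1 : Nat.card B ≤ Nat.card K := card_le_of_le fun x hx => subset_closure (hB x hx)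
  obtain ⟨j, hj⟩ := (hQ.to_subgroup K).exists_card_eq
  have h2 : Nat.card K ≤ p ^ 3 := Cfsg.Agent.S3771.result (hQ.to_subgroup K) (rankLE_subgroup hr K)
    fun x => Subtype.ext (by simpa using hKp x x.2)
  rw [hj] at h1 h2 ⊢
  have h3 := (Nat.pow_lt_pow_iff_right hp.out.one_lt).1 (lt_of_lt_of_le hBc h1)
  have h4 := (Nat.pow_le_pow_iff_right hp.out.one_lt).1 h2
  rw [show j = 3 by omega]

/-- The structure in the presence of an invariant normal subgroup of order `p³` and exponent `p`. -/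
theorem structure_of_cube (hp2 : p ≠ 2) (hQ : IsPGroup p Q) (hr : Cfsg.PRankLE p 2 Q)
    (hodd : Odd (Nat.card Γ)) (hnt : NoTrivialQuotient φ)
    {E : Subgroup Q} [E.Normal] (hEinv : Inv φ E) (hexp : ∀ x ∈ E, x ^ p = 1)
    (hE : Nat.card E = p ^ 3) :
    ¬ IsMulCommutative E ∧ ∃ C : Subgroup Q, E ⊔ C = ⊤ ∧ (∀ a ∈ E, ∀ b ∈ C, a * b = b * a) ∧
      IsCyclic C ∧ Subgroup.closure {x : Q | x ∈ C ∧ x ^ p = 1} = ⁅E, E⁆ := by
  have hna : ¬ IsMulCommutative E := fun h => by
    have := hr E h hexp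
    rw [hE, Nat.pow_le_pow_iff_right hp.out.one_lt] at this
    omega
  refine ⟨hna, ?_⟩
  set C := Subgroup.centralizer (E : Set Q) with hC
  have hCinv : Inv φ C := hEinv.centralizer
  haveI hCc : IsCyclic C := by
    by_contra hC'
    obtain ⟨A, hAC, hAn, ⟨hAc, hAp⟩, hA⟩ :=
      CfsgLib.PGroup.exists_normal_elementary_sq hp2 hQ C hC'
    obtain ⟨e, heE, heA⟩ : ∃ e ∈ E, e ∉ A := by
      by_contra h
      push Not at h
      have := card_le_of_le (show E ≤ A from h)
      rw [hE, hA, Nat.pow_le_pow_iff_right hp.out.one_lt] at this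
      omega
    exact heA (mem_of_rank hr hA hAp (fun u hu w hw => setLike_mul_comm hu hw)
      (fun u hu => (hAC hu e heE).symm) (hexp e heE))
  have hCz : C ≤ center Q := cyclic_le_center hnt C hCinv
  have hEC : ∀ a ∈ E, ∀ b ∈ C, a * b = b * a := fun a ha b hb => hb a ha
  refine ⟨C, ?_, hEC, hCc, ?_⟩
  all_goals
    obtain ⟨z, hzE, hzc, hzo⟩ := CfsgLib.PGroup.exists_central_orderOf_eq hQ E (fun h => by
      rw [h, card_bot] at hE
      exact (Nat.one_lt_pow (by norm_num) hp.out.one_lt).ne hE)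
    have hzC : z ∈ C := fun u _ => mem_center_iff.1 hzc u
    have hzp : z ^ p = 1 := hzo ▸ pow_orderOf_eq_one z
    have hZc : zpowers z ≤ center Q := zpowers_le.2 hzc
    haveI hZn : (zpowers z).Normal := ⟨fun x hx g => by
      rw [mem_center_iff.1 (hZc hx) g, mul_inv_cancel_right]; exact hx⟩
    have hCp : ∀ x ∈ C, x ^ p = 1 → x ∈ zpowers z := by
      intro x hx hxp
      by_contra hxz
      have hle : zpowers z ⊔ zpowers x ≤ C := sup_le (zpowers_le.2 hzC) (zpowers_le.2 hx)
      have hcyc : IsCyclic (zpowers z ⊔ zpowers x : Subgroup Q) :=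
        isCyclic_of_injective (inclusion hle) (inclusion_injective hle)
      have h1 : Monoid.exponent (zpowers z ⊔ zpowers x : Subgroup Q) ∣ p :=
        Monoid.exponent_dvd_of_forall_pow_eq_one fun u => Subtype.ext (by
          obtain ⟨n, i, hn, hu⟩ := exists_zpow_decomp (N := zpowers z) u.2
          obtain ⟨j, rfl⟩ := hn
          rw [coe_pow, coe_one, hu,
            (show Commute (z ^ j) (x ^ i) from
              (mem_center_iff.1 (zpow_mem hzc j) (x ^ i)).symm).mul_pow,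
            ← zpow_natCast, ← zpow_mul, mul_comm j, zpow_mul, zpow_natCast, hzp, one_zpow, one_mul,
            ← zpow_natCast, ← zpow_mul, mul_comm i, zpow_mul, zpow_natCast, hxp, one_zpow])
      rw [IsCyclic.exponent_eq_card,
        CfsgLib.PGroup.card_sup_zpowers hxz (by rw [hxp]; exact one_mem _), Nat.card_zpowers,
        hzo] at h1
      exact absurd (Nat.le_of_dvd hp.out.pos h1) (by nlinarith [hp.out.two_le])
    have hzE' : zpowers z ≤ E := zpowers_le.2 hzE
    obtain ⟨l, hlE, hlz, hlp, hlg⟩ := CfsgLib.PGroup.exists_step hQ (zpowers z) E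
      (lt_of_le_of_ne hzE' fun h => by
        rw [← h, Nat.card_zpowers, hzo] at hE
        exact (lt_self_pow₀ hp.out.one_lt (by norm_num)).ne hE)
    set L := zpowers z ⊔ zpowers l with hL
    have hLE : L ≤ E := sup_le hzE' (zpowers_le.2 hlE)
    have hLgen : ∀ (S : Subgroup Q), z ∈ S → l ∈ S → L ≤ S := fun S h1 h2 =>
      sup_le (zpowers_le.2 h1) (zpowers_le.2 h2)
    set f := QuotientGroup.mk' (zpowers z) with hf
    have hfl : f l ∈ center (Q ⧸ zpowers z) := mem_center_iff.2 fun q => by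
      obtain ⟨g, rfl⟩ := QuotientGroup.mk'_surjective _ q
      refine (commutatorElement_eq_one_iff_mul_comm.1 ?_).symm
      rw [← map_commutatorElement]
      exact (QuotientGroup.eq_one_iff _).2 (hlg g)
    have hLZ : L ≤ (center (Q ⧸ zpowers z)).comap f := hLgen _
      (show f z ∈ center (Q ⧸ zpowers z) by rw [show f z = 1 from (QuotientGroup.eq_one_iff z).2 (mem_zpowers z)]; exact one_mem _) hfl
    haveI hLn : L.Normal := ⟨fun u hu g => by
      rw [show g * u * g⁻¹ = ⁅g, u⁆ * u by rw [commutatorElement_def]; group]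
      refine mul_mem (mem_sup_left ((QuotientGroup.eq_one_iff _).1 ?_)) hu
      show f ⁅g, u⁆ = 1
      rw [map_commutatorElement, commutatorElement_eq_one_iff_mul_comm]
      exact mem_center_iff.1 (hLZ hu) _⟩
    have hLcard : Nat.card L = p ^ 2 := by
      rw [hL, CfsgLib.PGroup.card_sup_zpowers hlz hlp, Nat.card_zpowers, hzo, sq]
    obtain ⟨t, htE, htL, htp, htg⟩ := CfsgLib.PGroup.exists_step hQ L E
      (lt_of_le_of_ne hLE fun h => by
        rw [← h, hLcard] at hE
        exact absurd hE ((Nat.pow_right_injective hp.out.two_le).ne (by norm_num)))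
    have hEgen : L ⊔ zpowers t = E := eq_of_le_of_card_ge (sup_le hLE (zpowers_le.2 htE))
      (by rw [CfsgLib.PGroup.card_sup_zpowers htL htp, hLcard, hE]; exact le_of_eq (by ring))
    have hEle : ∀ (S : Subgroup Q), z ∈ S → l ∈ S → t ∈ S → E ≤ S := fun S h1 h2 h3 =>
      hEgen ▸ sup_le (hLgen S h1 h2) (zpowers_le.2 h3)
    have hCmem : ∀ d, Commute l d → Commute t d → d ∈ C := fun d h1 h2 u hu =>
      mem_centralizer_singleton_iff.1 ((hEle (Subgroup.centralizer {d})
        (mem_centralizer_singleton_iff.2 (mem_center_iff.1 hzc d).symm)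
        (mem_centralizer_singleton_iff.2 h1.eq) (mem_centralizer_singleton_iff.2 h2.eq)) hu)
    obtain ⟨s, hs⟩ := hlg t
    simp only at hs
    have hs0 : ¬ (p : ℤ) ∣ s := fun hd => hlz (hCp l (hCmem l (Commute.refl l) (by
      refine (commutatorElement_eq_one_iff_commute.1 ?_).symm
      rw [← hs]; obtain ⟨j, rfl⟩ := hd
      rw [zpow_mul, zpow_natCast, hzp, one_zpow])) (hexp l hlE))
    obtain ⟨w₁, s', hs'⟩ := (Nat.prime_iff_prime_int.1 hp.out).coprime_iff_not_dvd.2 hs0
    have hzs : z ^ (s * s') = z := by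
      have e : s * s' = 1 + (p : ℤ) * -w₁ := by linear_combination hs'
      rw [e, zpow_add, zpow_one, zpow_mul, zpow_natCast, hzp, one_zpow, mul_one]
  swap
  · -- the commutator subgroup
    have hset : Subgroup.closure {x : Q | x ∈ C ∧ x ^ p = 1} = zpowers z := by
      refine le_antisymm ((closure_le _).2 fun x hx => hCp x hx.1 hx.2) (zpowers_le.2 ?_)
      exact subset_closure ⟨hzC, hzp⟩
    rw [hset]
    refine le_antisymm (zpowers_le.2 ?_) (commutator_le.2 fun a ha b hb => ?_)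
    · rw [← hzs, zpow_mul, hs]
      exact zpow_mem (commutator_mem_commutator hlE htE) _
    · refine (QuotientGroup.eq_one_iff _).1 ?_
      show f ⁅a, b⁆ = 1
      rw [map_commutatorElement, commutatorElement_eq_one_iff_mul_comm]
      have hb' : E ≤ (Subgroup.centralizer {f b}).comap f := by
        refine hEle _ ?_ ?_ ?_ <;> rw [mem_comap, mem_centralizer_singleton_iff]
        · rw [show f z = 1 from (QuotientGroup.eq_one_iff z).2 (mem_zpowers z), one_mul, mul_one]
        · exact (mem_center_iff.1 hfl _).symm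
        · have ht' : E ≤ (Subgroup.centralizer {f t}).comap f := by
            refine hEle _ ?_ ?_ ?_ <;> rw [mem_comap, mem_centralizer_singleton_iff]
            · rw [show f z = 1 from (QuotientGroup.eq_one_iff z).2 (mem_zpowers z), one_mul, mul_one]
            · exact (mem_center_iff.1 hfl _).symm
          exact (mem_centralizer_singleton_iff.1 (ht' hb)).symm
      exact mem_centralizer_singleton_iff.1 (hb' ha)
  -- `E C = Q`
  set D := Subgroup.centralizer (L : Set Q) with hD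
  have hLab : ∀ u ∈ L, Commute u l := fun u hu => mem_centralizer_singleton_iff.1
    ((hLgen (Subgroup.centralizer {l}) (mem_centralizer_singleton_iff.2 (mem_center_iff.1 hzc l).symm)
      (mem_centralizer_singleton_iff.2 rfl)) hu)
  have hDmem : ∀ d, Commute l d → d ∈ D := fun d hd u hu => mem_centralizer_singleton_iff.1
    ((hLgen (Subgroup.centralizer {d}) (mem_centralizer_singleton_iff.2 (mem_center_iff.1 hzc d).symm)
      (mem_centralizer_singleton_iff.2 hd.eq)) hu)
  have hLD : L ≤ D := fun u hu => hDmem u (hLab u hu).symm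
  have hCD : C ≤ D := fun d hd u hu => mem_center_iff.1 (hCz hd) u
  have hdl : ∀ {d}, d ∈ D → Commute l d := fun hd => hd l (mem_sup_right (mem_zpowers l))
  have hdec : ∀ r, ∃ k : ℤ, r * (t ^ k)⁻¹ ∈ D := by
    intro r
    obtain ⟨i, hi⟩ := hlg r
    simp only at hi
    refine ⟨i * s', hDmem _ (commutatorElement_eq_one_iff_commute.1 ?_)⟩
    rw [← zpow_neg, show ⁅l, r * t ^ (-(i * s'))⁆ = ⁅l, r⁆ * (r * ⁅l, t ^ (-(i * s'))⁆ * r⁻¹) by
      simp only [commutatorElement_def]; group]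
    have h1 : ⁅l, t ^ (-(i * s'))⁆ = z ^ (-i) := by
      have h2 := commutator_zpow_zpow (x := l) (y := t) (hs ▸ zpow_mem hzc s) 1 (-(i * s'))
      rw [zpow_one] at h2
      rw [h2, ← hs, ← zpow_mul, show s * (1 * -(i * s')) = s * s' * -i by ring, zpow_mul, hzs]
    rw [h1, mem_center_iff.1 (zpow_mem hzc _) r, mul_inv_cancel_right, ← hi, ← zpow_add,
      add_neg_cancel, zpow_zero]
  have hsplit : ∀ d ∈ D, ⁅d, t⁆ ∈ zpowers z → d ∈ L ⊔ C := by
    rintro d hd ⟨j, hj⟩
    simp only at hj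
    rw [← inv_mul_cancel_right d (l ^ (j * s'))]
    refine mul_mem (mem_sup_right ?_) (mem_sup_left (mem_sup_right (zpow_mem (mem_zpowers l) _)))
    have hd' : d * (l ^ (j * s'))⁻¹ ∈ D := mul_mem hd (inv_mem (zpow_mem (hLD
      (mem_sup_right (mem_zpowers l))) _))
    refine hCmem _ (hdl hd') (commutatorElement_eq_one_iff_commute.1 ?_).symm
    have h1 : ⁅l ^ (-(j * s')), t⁆ = z ^ (-j) := by
      have h2 := commutator_zpow_zpow (x := l) (y := t) (hs ▸ zpow_mem hzc s) (-(j * s')) 1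
      rw [zpow_one] at h2
      rw [h2, ← hs, ← zpow_mul, show s * (-(j * s') * 1) = s * s' * -j by ring, zpow_mul, hzs]
    rw [← zpow_neg, commutator_mul_left', h1, mem_center_iff.1 (zpow_mem hzc _) d,
      mul_inv_cancel_right, ← hj, ← zpow_add, neg_add_cancel, zpow_zero]
  by_cases hfix : ∀ g, ⁅t, g⁆ ∈ zpowers z
  · refine eq_top_iff.2 fun r _ => ?_
    obtain ⟨k, hk⟩ := hdec r
    rw [← inv_mul_cancel_right r (t ^ k)]
    refine mul_mem ?_ (mem_sup_left (zpow_mem htE k))
    exact (sup_le_sup_right hLE C) (hsplit _ hk (by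
      rw [← commutatorElement_inv]; exact inv_mem (hfix _)))
  exfalso
  push Not at hfix
  obtain ⟨g₀, hg₀⟩ := hfix
  have hftg : ¬ f t ∈ center (Q ⧸ zpowers z) := fun h => hg₀ ((QuotientGroup.eq_one_iff _).1 (by
    show f ⁅t, g₀⁆ = 1
    rw [map_commutatorElement, commutatorElement_eq_one_iff_mul_comm]
    exact (mem_center_iff.1 h _).symm))
  have htZ : t ∉ (center (Q ⧸ zpowers z)).comap f := hftg
  have hZinv : Inv φ (zpowers z) := fun a x hx => hCp _ (hCinv a x (zpowers_le.2 hzC hx))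
    (by rw [← map_pow, hexp x (hzE' hx), map_one])
  have htp1 : t ^ p = 1 := hexp t htE
  have hLeq : L = E ⊓ (center (Q ⧸ zpowers z)).comap f := by
    refine le_antisymm (le_inf hLE hLZ) fun u hu => ?_
    obtain ⟨n, k, hn, rfl⟩ := exists_zpow_decomp (N := L) (hEgen.symm ▸ hu.1)
    have hk : t ^ k ∈ (center (Q ⧸ zpowers z)).comap f := by
      rw [← inv_mul_cancel_left n (t ^ k)]
      exact mul_mem (inv_mem (hLZ hn)) hu.2
    exact mul_mem hn (zpow_mem_of_dvd (by rw [htp1]; exact one_mem _)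
      ((zpow_mem_iff htZ (by rw [htp1]; exact one_mem _)).1 hk))
  have hLinv : Inv φ L := by
    rw [hLeq]
    refine hEinv.inf fun a x hx => ?_
    rw [mem_comap, ← quot_mk (zpowers z) hZinv a x]
    exact inv_of_characteristic (quot φ (zpowers z) hZinv) (center (Q ⧸ zpowers z)) a _ hx
  have hDinv : Inv φ D := hLinv.centralizer
  set K := L ⊔ C with hK
  have hKinv : Inv φ K := hLinv.sup hCinv
  have hKD : K ≤ D := sup_le hLD hCD
  have hKt : K ≤ (Subgroup.centralizer {f t}).comap f := by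
    refine sup_le (fun u hu => ?_) fun u hu => ?_
    · rw [mem_comap, mem_centralizer_singleton_iff]
      exact (mem_center_iff.1 (hLZ hu) _).symm
    · rw [mem_comap, mem_centralizer_singleton_iff, ← map_mul, ← map_mul,
        mem_center_iff.1 (hCz hu) t]
  obtain ⟨x, hxD, hxK⟩ : ∃ x ∈ D, x ∉ K := by
    by_contra h
    push Not at h
    refine hftg (mem_center_iff.2 fun q => ?_)
    obtain ⟨r, rfl⟩ := QuotientGroup.mk'_surjective _ q
    obtain ⟨k, hk⟩ := hdec r
    have hr' : r ∈ (Subgroup.centralizer {f t}).comap f := by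
      rw [← inv_mul_cancel_right r (t ^ k)]
      exact mul_mem (hKt (h _ hk)) (zpow_mem (mem_centralizer_singleton_iff.2 rfl) k)
    exact mem_centralizer_singleton_iff.1 hr'
  have hdisp : ∀ d ∈ D, ∃ j : ℤ, f ⁅d, t⁆ = f l ^ j := by
    intro d _
    have h1 : ⁅d, t⁆ ∈ L := by rw [← commutatorElement_inv]; exact inv_mem (htg d)
    obtain ⟨n, j, hn, he⟩ := exists_zpow_decomp (N := zpowers z) h1
    exact ⟨j, by rw [he, map_mul, show f n = 1 from (QuotientGroup.eq_one_iff n).2 hn, one_mul, map_zpow]⟩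
  obtain ⟨j₀, hj₀⟩ := hdisp x hxD
  have hlpow : ∀ {i : ℤ}, f l ^ i = 1 → (p : ℤ) ∣ i := fun {i} h => by
    rw [← map_zpow] at h
    exact (zpow_mem_iff hlz hlp).1 ((QuotientGroup.eq_one_iff _).1 h)
  have hlp' : f l ^ p = 1 := by rw [← map_pow]; exact (QuotientGroup.eq_one_iff _).2 hlp
  have hj0 : ¬ (p : ℤ) ∣ j₀ := fun hd => hxK (hsplit x hxD ((QuotientGroup.eq_one_iff _).1 (by
    show f ⁅x, t⁆ = 1
    obtain ⟨i, rfl⟩ := hd
    rw [hj₀, zpow_mul, zpow_natCast, hlp', one_zpow])))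
  have hxpC : x ^ p ∈ C := by
    refine hCmem _ (hdl (pow_mem hxD p)) (commutatorElement_eq_one_iff_commute.1 ?_).symm
    have h1 : ⁅x, t⁆ ∈ L := by rw [← commutatorElement_inv]; exact inv_mem (htg x)
    rw [CfsgLib.PGroup.commutator_pow_left x t (hxD _ h1).symm p, hexp _ (hLE h1)]
  have hDgen : K ⊔ zpowers x = D := by
    refine le_antisymm (sup_le hKD (zpowers_le.2 hxD)) fun d hd => ?_
    obtain ⟨j, hj⟩ := hdisp d hd
    obtain ⟨w₂, u₂, hu₂⟩ := (Nat.prime_iff_prime_int.1 hp.out).coprime_iff_not_dvd.2 hj0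
    rw [← inv_mul_cancel_right d (x ^ (j * u₂))]
    refine mul_mem (mem_sup_left (hsplit _ (mul_mem hd (inv_mem (zpow_mem hxD _)))
      ((QuotientGroup.eq_one_iff _).1 ?_))) (mem_sup_right (zpow_mem (mem_zpowers x) _))
    show f ⁅d * (x ^ (j * u₂))⁻¹, t⁆ = 1
    have h1 : ⁅f x ^ (-(j * u₂)), f t⁆ = f l ^ (j₀ * -(j * u₂)) := by
      have hc' : ⁅f x, f t⁆ ∈ center (Q ⧸ zpowers z) := by
        rw [← map_commutatorElement, hj₀]; exact zpow_mem hfl _
      have h2 := commutator_zpow_zpow (x := f x) (y := f t) hc' (-(j * u₂)) 1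
      rw [zpow_one] at h2
      rw [h2, mul_one, ← map_commutatorElement, hj₀, ← zpow_mul]
    rw [map_commutatorElement, map_mul, map_inv, map_zpow, ← zpow_neg, commutator_mul_left', h1,
      mem_center_iff.1 (zpow_mem hfl _) (f d), mul_inv_cancel_right, ← map_commutatorElement, hj,
      ← zpow_add, show j₀ * -(j * u₂) + j = (p : ℤ) * (w₂ * j) by linear_combination -j * hu₂,
      zpow_mul, zpow_natCast, hlp', one_zpow]
  obtain ⟨g₁, hg₁⟩ := (Subgroup.isCyclic_iff_exists_zpowers_eq_top C).1 inferInstance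
  have hg₁C : g₁ ∈ C := hg₁ ▸ mem_zpowers g₁
  obtain ⟨q, hq⟩ : x ^ p ∈ zpowers g₁ := hg₁.symm ▸ hxpC
  simp only at hq
  have hq0 : ¬ (p : ℤ) ∣ q := by
    rintro ⟨i, rfl⟩
    have hc0 : g₁ ^ i ∈ C := zpow_mem hg₁C i
    have hy : x * (g₁ ^ i)⁻¹ ∈ L := by
      refine mem_of_rank hr hLcard (fun u hu => hexp u (hLE hu))
        (fun u hu w hw => (hLD hw) u hu) (fun u hu => (mul_mem hxD (inv_mem (hCD hc0))) u hu) ?_
      rw [(show Commute x (g₁ ^ i)⁻¹ from mem_center_iff.1 (inv_mem (hCz hc0)) x).mul_pow, ← hq,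
        inv_pow, ← zpow_natCast, ← zpow_mul, mul_comm i, mul_inv_cancel]
    apply hxK
    rw [← inv_mul_cancel_right x (g₁ ^ i)]
    exact mul_mem (mem_sup_left hy) (mem_sup_right hc0)
  have hgord : (p : ℤ) ∣ (orderOf g₁ : ℤ) := by
    refine Int.natCast_dvd_natCast.2 ?_
    rw [← hzo, ← Nat.card_zpowers, ← Nat.card_zpowers g₁]
    exact card_dvd_of_le (zpowers_le.2 (hg₁.symm ▸ hzC))
  have hprime := Nat.prime_iff_prime_int.1 hp.out
  have hβ : ∀ a : Γ, φ a t * t⁻¹ ∈ L := by
    intro a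
    obtain ⟨n₁, α, hn₁, hα, hα0⟩ := exists_scalar (N := zpowers z) (p := p) hZinv
      (show Inv φ (zpowers z ⊔ zpowers l) from hLinv) hlz hlp a
    obtain ⟨n₂, β, hn₂, hβ, -⟩ := exists_scalar (N := L) (p := p) hLinv (hEgen.symm ▸ hEinv)
      htL htp a
    obtain ⟨n₃, γ, hn₃, hγ, -⟩ := exists_scalar (N := K) (p := p) hKinv (hDgen.symm ▸ hDinv)
      hxK (mem_sup_right hxpC) a
    obtain ⟨ζ, hζ⟩ := hZinv a z (mem_zpowers z)
    obtain ⟨ε, hε⟩ : φ a g₁ ∈ zpowers g₁ := hg₁.symm ▸ hCinv a g₁ hg₁C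
    simp only at hζ hε
    have hzpow : ∀ {i j : ℤ}, z ^ i = z ^ j → (p : ℤ) ∣ i - j := fun {i j} h => by
      rw [← hzo]
      exact orderOf_dvd_iff_zpow_eq_one.2 (by rw [zpow_sub, h, mul_inv_cancel])
    have r1 : (p : ℤ) ∣ ζ * s - s * (α * β) := by
      refine hzpow ?_
      have h1 := scalar_commutator (φ := φ) (hs ▸ zpow_mem hzc s : ⁅l, t⁆ ∈ center Q) a
        (hZc hn₁) (hLab _ hn₂) hα hβ
      rw [← hs, map_zpow, ← hζ, ← zpow_mul, ← zpow_mul] at h1
      exact h1
    have r2 : (p : ℤ) ∣ α * -j₀ - -j₀ * (β * γ) := by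
      apply hlpow
      have hc' : ⁅f t, f x⁆ = f l ^ (-j₀) := by
        rw [← commutatorElement_inv, ← map_commutatorElement, hj₀, zpow_neg]
      have h1 := scalar_commutator (φ := quot φ (zpowers z) hZinv) (v := f t) (w := f x)
        (hc' ▸ zpow_mem hfl _) a (hLZ hn₂)
        (show Commute (f n₃) (f t) from mem_centralizer_singleton_iff.1 (hKt hn₃))
        (by rw [quot_mk, hβ, map_mul, map_zpow]) (by rw [quot_mk, hγ, map_mul, map_zpow])
      rw [hc', map_zpow, quot_mk, hα, map_mul, show f n₁ = 1 from (QuotientGroup.eq_one_iff n₁).2 hn₁, one_mul,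
        map_zpow, ← zpow_mul, ← zpow_mul] at h1
      rw [zpow_sub, h1, mul_inv_cancel]
    have r3 : (p : ℤ) ∣ ε - γ := by
      obtain ⟨m₀, hm₀, c₀, hc₀, hn₃'⟩ := Subgroup.mem_sup_of_normal_left.1 hn₃
      obtain ⟨i, hi⟩ : c₀ ∈ zpowers g₁ := hg₁.symm ▸ hc₀
      simp only at hi
      have h1 : φ a (x ^ p) = c₀ ^ p * (x ^ p) ^ γ := by
        rw [map_pow, hγ, ← hn₃', ((show Commute (m₀ * c₀) x from
            (show Commute m₀ x from hxD m₀ hm₀).mul_left (mem_center_iff.1 (hCz hc₀) x).symm).zpow_right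
              γ).mul_pow,
          (show Commute m₀ c₀ from mem_center_iff.1 (hCz hc₀) m₀).mul_pow, hexp _ (hLE hm₀), one_mul]
        congr 1
        rw [← zpow_natCast, ← zpow_mul, mul_comm, zpow_mul, zpow_natCast]
      rw [← hq, map_zpow, ← hε, ← hi, ← zpow_natCast (g₁ ^ i), ← zpow_mul, ← zpow_mul, ← zpow_mul,
        ← zpow_add] at h1
      have h2 : (p : ℤ) ∣ ε * q - (i * (p : ℤ) + q * γ) := by
        refine hgord.trans (orderOf_dvd_iff_zpow_eq_one.2 ?_)
        rw [zpow_sub, h1, mul_inv_cancel]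
      have h3 : (p : ℤ) ∣ q * (ε - γ) := by
        have e : q * (ε - γ) = (ε * q - (i * (p : ℤ) + q * γ)) + i * (p : ℤ) := by ring
        rw [e]; exact dvd_add h2 (Dvd.intro_left _ rfl)
      exact (hprime.dvd_or_dvd h3).resolve_left hq0
    have r4 : (p : ℤ) ∣ ζ - ε := by
      obtain ⟨r, hr'⟩ : z ∈ zpowers g₁ := hg₁.symm ▸ hzC
      simp only at hr'
      refine hzpow ?_
      rw [hζ, ← hr', map_zpow, ← hε, ← zpow_mul, ← zpow_mul, mul_comm]
    have r5 : (p : ℤ) ∣ α - β * γ := by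
      have : (p : ℤ) ∣ j₀ * (α - β * γ) := by
        have e : j₀ * (α - β * γ) = -(α * -j₀ - -j₀ * (β * γ)) := by ring
        rw [e]; exact r2.neg_right
      exact (hprime.dvd_or_dvd this).resolve_left hj0
    have r6 : (p : ℤ) ∣ ζ - α * β := by
      have : (p : ℤ) ∣ s * (ζ - α * β) := by
        have e : s * (ζ - α * β) = ζ * s - s * (α * β) := by ring
        rw [e]; exact r1
      exact (hprime.dvd_or_dvd this).resolve_left hs0
    have r7 : (p : ℤ) ∣ α * (β * β - 1) := by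
      have e : α * (β * β - 1) = -(α - β * γ) + (-β) * (ζ - α * β) + β * ((ζ - ε) + (ε - γ)) := by
        ring
      rw [e]
      exact dvd_add (dvd_add r5.neg_right (r6.mul_left _)) ((dvd_add r4 r3).mul_left _)
    have r8 := scalar_eq_one hLinv htL htp
      (hodd.of_dvd_nat (orderOf_dvd_natCard a)) hn₂ hβ
      ((hprime.dvd_or_dvd r7).resolve_left hα0)
    rw [hβ, mul_assoc, ← zpow_sub_one]
    exact mul_mem hn₂ (zpow_mem_of_dvd htp r8)
  have hpow : ∀ (a : Γ) (k : ℤ), φ a (t ^ k) * (t ^ k)⁻¹ ∈ L := fun a k => by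
    have h1 : (φ a t : Q ⧸ L) = (t : Q ⧸ L) := by
      have := (QuotientGroup.eq_one_iff _).2 (hβ a)
      rwa [QuotientGroup.mk_mul, QuotientGroup.mk_inv, mul_inv_eq_one] at this
    rw [← QuotientGroup.eq_one_iff, map_zpow, QuotientGroup.mk_mul, QuotientGroup.mk_inv,
      QuotientGroup.mk_zpow, QuotientGroup.mk_zpow, h1, mul_inv_cancel]
  have htop := hnt D inferInstance hDinv fun a r => by
    obtain ⟨k, hk⟩ := hdec r
    rw [show φ a r * r⁻¹ = φ a (r * (t ^ k)⁻¹) * (φ a (t ^ k) * (t ^ k)⁻¹) *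
      (r * (t ^ k)⁻¹)⁻¹ by rw [map_mul, map_inv]; group]
    exact mul_mem (mul_mem (hDinv a _ hk) (hLD (hpow a k))) (inv_mem hk)
  have htD : t ∈ D := htop ▸ mem_top t
  refine hlz (hCp l (hCmem l (Commute.refl l) (hdl htD).symm) (hexp l hlE))

/-- Structure of rank two `p`-groups with such operators. -/
theorem structure_of_rankTwo (hp2 : p ≠ 2) (hQ : IsPGroup p Q) (hr : Cfsg.PRankLE p 2 Q)
    [Nontrivial Q] (hodd : Odd (Nat.card Γ)) (hcop : (Nat.card Γ).Coprime p)
    (hnt : NoTrivialQuotient φ) :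
    3 < p ∧ (IsMulCommutative Q ∨ ∃ E C : Subgroup Q, E ⊔ C = ⊤ ∧
      (∀ a ∈ E, ∀ b ∈ C, a * b = b * a) ∧ ¬ IsMulCommutative E ∧ Nat.card E = p ^ 3 ∧
      Monoid.exponent E = p ∧ IsCyclic C ∧
      Subgroup.closure {x : Q | x ∈ C ∧ x ^ p = 1} = ⁅E, E⁆) := by
  have hp3 := three_lt hp2 hQ hr hodd hcop hnt
  refine ⟨hp3, ?_⟩
  rcases expBound_or_exists_cube hp3 hQ hr hnt with hb | ⟨E, hEn, hEinv, hexp, hE⟩
  · exact Or.inl (isMulCommutative_of_expBound hp3 hQ hb hnt hcop)
  · obtain ⟨hna, C, hsup, hcomm, hC, hcl⟩ := structure_of_cube hp2 hQ hr hodd hnt hEinv hexp hE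
    refine Or.inr ⟨E, C, hsup, hcomm, hna, hE, ?_, hC, hcl⟩
    refine ((Nat.dvd_prime hp.out).1 (Monoid.exponent_dvd_of_forall_pow_eq_one
      fun x => Subtype.ext (by simpa using hexp x x.2))).resolve_left fun h1 => ?_
    have := Monoid.exp_eq_one_iff.1 h1
    rw [Nat.card_of_subsingleton (1 : E)] at hE
    exact (Nat.one_lt_pow (by norm_num) hp.out.one_lt).ne hE

end CfsgLib.OddOrder.Operator
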