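import Cfsg.Agent.Lib.OddOrder.PLengthOne
import Cfsg.Agent.Lib.OddOrder.TransitivityCriteria
import Cfsg.Agent.Lib.Solvable.CoprimeGeneration
import Cfsg.Agent.Lib.Solvable.FixedPointFree
import Cfsg.Agent.Lib.OddOrder.OperatorTools
import Cfsg.Agent.Lib.OddOrder.OperatorExpBound
import Cfsg.Agent.Lib.OddOrder.SigmaPrimeUnique
import Cfsg.Agent.S1412
import Cfsg.Agent.S1453

/-!
BG section 11, first part: exceptional maximal subgroups, up to the structure of `P` and `A` (11.6).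
-/

set_option autoImplicit false
set_option linter.style.haveILetI false

open scoped commutatorElement Pointwise

namespace CfsgLib.OddOrder

open Subgroup

variable {G : Type*} [Group G] [Finite G]

/-- BG Hypothesis 11.1. -/
structure IsExceptional (p : ℕ) (M A A₀ : Subgroup G) : Prop where
  notSigma : p ∉ Cfsg.sigma M
  le : A ≤ M
  elem : Cfsg.IsElementaryAbelian p A
  card : Nat.card A = p ^ 2
  sub : A₀ ≤ A
  card₀ : Nat.card A₀ = p
  norm : normalizer (A₀ : Set G) ≤ M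

section Tools

variable (hG : Cfsg.IsMinSimpleOddOrder G) {M : Subgroup G} (hM : IsCoatom M)
include hG hM

/-- `q`-subgroups of `M`, `q ∈ σ(M)`, lie in `M_σ`. -/
theorem le_sigmaCore_of_pgroup {q : ℕ} [Fact q.Prime] (hσ : q ∈ Cfsg.sigma M) {U : Subgroup G}
    (hU : IsPGroup q U) (hUM : U ≤ M) : U ≤ Cfsg.sigmaCore M := by
  obtain ⟨S, hS⟩ := (hU.of_equiv (subgroupOfEquivOfLe hUM).symm).exists_le_sylow
  rw [← map_subgroupOf_eq_of_le hUM]
  exact map_mono (hS.trans (sylow_le_sigmaCore hG hM hσ S))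

omit hG hM in
theorem sigma_of_dvd_sigmaCore {q : ℕ} (hq : q.Prime) (hd : q ∣ Nat.card (Cfsg.sigmaCore M)) :
    q ∈ Cfsg.sigma M :=
  piCoreOf_isPiSubgroup _ M q hq hd

theorem sigmaCore_ne_bot : Cfsg.sigmaCore M ≠ ⊥ := by
  intro h
  obtain ⟨q, hq⟩ := sigma_nonempty hG hM
  haveI := Fact.mk hq.1
  obtain ⟨x, hx⟩ := exists_prime_orderOf_dvd_card' q hq.2.1
  have h1 := le_sigmaCore_of_pgroup hG hM hq (IsPGroup.of_card (n := 1)
    (by rw [Nat.card_zpowers, orderOf_coe, hx, pow_one]) : IsPGroup q (zpowers (x : G)))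
    (zpowers_le.2 x.2)
  rw [h, le_bot_iff, zpowers_eq_bot, OneMemClass.coe_eq_one] at h1
  rw [h1, orderOf_one] at hx
  exact hq.1.one_lt.ne hx

omit hG hM in
theorem maxInv_of_isMaxPIn_top {q : ℕ} [Fact q.Prime] {A Q : Subgroup G} (hQ : IsMaxPIn q ⊤ Q)
    (hA : A ≤ normalizer (Q : Set G)) : Q ∈ Cfsg.maxInvSubgroups ⊤ A {q} :=
  ⟨⟨le_top, isPiSubgroup_singleton.2 hQ.pgroup, hA⟩,
    fun R hR hle => hQ.max R (isPiSubgroup_singleton.1 hR.2.1) hle le_top⟩

omit hM in
theorem sigmaCore_isSolvable (hM : IsCoatom M) : Group.IsSolvable (Cfsg.sigmaCore M) :=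
  isSolvable_of_ne_top hG fun h => hM.1 (top_le_iff.1 (h ▸ piCoreOf_le _ _))

/-- An invariant Sylow subgroup of `M_σ` over a given invariant `q`-subgroup. -/
theorem exists_inv_sigma_sylow {p q : ℕ} [Fact p.Prime] [Fact q.Prime] (hp : p ∉ Cfsg.sigma M)
    (hq : q ∈ Cfsg.sigma M) {A U : Subgroup G} (hAM : A ≤ M) (hA : IsPGroup p A) (hUM : U ≤ M)
    (hU : IsPGroup q U) (hUA : A ≤ normalizer (U : Set G)) :
    ∃ Q : Subgroup G, U ≤ Q ∧ Q ≤ Cfsg.sigmaCore M ∧ IsMaxPIn q ⊤ Q ∧
      A ≤ normalizer (Q : Set G) := by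
  have hcop : (Nat.card A).Coprime (Nat.card (Cfsg.sigmaCore M)) := by
    obtain ⟨n, hn⟩ := hA.exists_card_eq
    rw [hn]
    exact ((Fact.out : p.Prime).coprime_iff_not_dvd.2 fun hd =>
      hp (sigma_of_dvd_sigmaCore Fact.out hd)).pow_left n
  obtain ⟨S, hUS, hAS⟩ := Solvable.exists_invariant_sylow_ge
    (hAM.trans (le_normalizer_piCoreOf _ _)) hcop (Or.inr (sigmaCore_isSolvable hG hM)) q
    (le_sigmaCore_of_pgroup hG hM hq hU hUM) hU hUA
  refine ⟨_, hUS, map_subtype_le _, ?_, hAS⟩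
  refine isMaxPIn_top_of_sigma hq (M := M) ⟨(map_subtype_le _).trans (piCoreOf_le _ _), S.2.map _,
    fun T hT hle hTM => ?_⟩
  exact (isMaxPIn_of_sylow S).max T hT hle (le_sigmaCore_of_pgroup hG hM hq hT hTM)

/-- A Sylow subgroup for a prime in `σ(M)` lies in no other conjugate of `M`. -/
theorem mem_of_sylow_le_conj {q : ℕ} [Fact q.Prime] (hq : q ∈ Cfsg.sigma M) {Q : Subgroup G} {g : G}
    (hQ : IsMaxPIn q ⊤ Q) (hQM : Q ≤ M) (hQg : Q ≤ M.map (MulAut.conj g).toMonoidHom) : g ∈ M := by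
  set X := Q.map (MulAut.conj g⁻¹).toMonoidHom with hX
  have hXQ : X.map (MulAut.conj g).toMonoidHom = Q := by
    rw [hX, map_conj_map_conj, mul_inv_cancel, map_conj_one]
  have hXM : X ≤ M := by
    have := Subgroup.map_mono (f := (MulAut.conj g⁻¹).toMonoidHom) hQg
    rwa [map_conj_map_conj, inv_mul_cancel, map_conj_one] at this
  have hXmax : IsMaxPIn q M X := ⟨hXM, hQ.pgroup.map _, fun S hS hle _ => by
    have h1 := hQ.max (S.map (MulAut.conj g).toMonoidHom) (hS.map _)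
      (hXQ ▸ Subgroup.map_mono hle) le_top
    rw [hX, ← h1, map_conj_map_conj, inv_mul_cancel, map_conj_one]⟩
  by_cases hX1 : X = ⊥
  · exfalso
    obtain ⟨-, hqM, -⟩ := hq
    obtain ⟨x, hx⟩ := exists_prime_orderOf_dvd_card' q hqM
    have h1 := hXmax.max (zpowers (x : G)) (IsPGroup.of_card (n := 1)
      (by rw [Nat.card_zpowers, orderOf_coe, hx, pow_one])) (hX1 ▸ bot_le) (zpowers_le.2 x.2)
    rw [hX1, zpowers_eq_bot, OneMemClass.coe_eq_one] at h1
    rw [h1, orderOf_one] at hx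
    exact (Fact.out : q.Prime).one_lt.ne hx
  obtain ⟨m, hm, c, hc, rfl⟩ := exists_eq_mul_centralizer hG hM hq hXmax.pgroup hX1 hXM
    (g := g) (hXQ.symm ▸ hQM)
  exact mul_mem hm (normalizer_le_of_sigma hq hXmax (centralizer_le_normalizer _ hc))

/-- A Sylow subgroup for a prime outside `σ(M)` has normalizer outside `M`. -/
theorem exists_normalizer_not_mem {p : ℕ} [Fact p.Prime] (hp : p ∉ Cfsg.sigma M) {P : Subgroup G}
    (hP : IsMaxPIn p M P) (hpM : p ∣ Nat.card M) : ∃ g ∈ normalizer (P : Set G), g ∉ M := by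
  by_contra h
  push Not at h
  obtain ⟨S, hS⟩ := hP.exists_sylow
  exact hp ⟨Fact.out, hpM, S, by rw [hS]; exact h⟩

theorem transitivityHypothesis_of_rank_two {p : ℕ} [Fact p.Prime] {A : Subgroup G} (hAM : A ≤ M)
    (hA : Cfsg.IsElementaryAbelian p A) (hA2 : Nat.card A = p ^ 2) (hr : Cfsg.PRankLE p 2 M) :
    Cfsg.TransitivityHypothesis A := by
  refine transitivityHypothesis_of_elementary hG
    (((dvd_pow_self p two_ne_zero).trans (dvd_of_eq hA2.symm)).trans (card_subgroup_dvd_card A))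
    (isPGroup_of_exp hA.2) hA.1 (fun x hx hxp => ?_) fun H hH => pLengthLE_proper hG p hH
  rw [← elementary_maximal hG hM hr hAM hA hA2 (elementary_sup_zpowers hA hx hxp) le_sup_left]
  exact mem_sup_right (mem_zpowers x)

/-- No proper subgroup over `A` meets invariant `q`-subgroups of two conjugates of `M`. -/
theorem not_meet_two {p q : ℕ} [Fact p.Prime] [Fact q.Prime] (hp : p ∉ Cfsg.sigma M)
    (hq : q ∈ Cfsg.sigma M) {A : Subgroup G} (hAM : A ≤ M) (hA : IsPGroup p A)
    (htr : Cfsg.TransitivityHypothesis A) (hCA : centralizer (A : Set G) ≤ M) {g : G} (hg : g ∉ M)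
    (hAg : A ≤ M.map (MulAut.conj g).toMonoidHom) {U₁ U₂ H : Subgroup G}
    (hU₁ : IsPGroup q U₁) (hU₁M : U₁ ≤ M) (hU₁A : A ≤ normalizer (U₁ : Set G)) (h₁ : U₁ ≠ ⊥)
    (hU₂ : IsPGroup q U₂) (hU₂M : U₂ ≤ M.map (MulAut.conj g).toMonoidHom)
    (hU₂A : A ≤ normalizer (U₂ : Set G)) (h₂ : U₂ ≠ ⊥) (hH : H ≠ ⊤) (hAH : A ≤ H) (hU₁H : U₁ ≤ H)
    (hU₂H : U₂ ≤ H) : False := by
  have hqA : ¬ q ∣ Nat.card A := fun hd => by
    obtain ⟨n, hn⟩ := hA.exists_card_eq
    rw [hn] at hd
    exact hp ((Nat.prime_dvd_prime_iff_eq Fact.out Fact.out).1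
      ((Fact.out : q.Prime).dvd_of_dvd_pow hd) ▸ hq)
  obtain ⟨Q₁, hUQ₁, hQ₁M, hQ₁, hAQ₁⟩ := exists_inv_sigma_sylow hG hM hp hq hAM hA hU₁M hU₁ hU₁A
  set f := (MulAut.conj g⁻¹).toMonoidHom with hf
  have hback : ∀ X : Subgroup G, X ≤ M.map (MulAut.conj g).toMonoidHom → X.map f ≤ M := fun X hX => by
    have := Subgroup.map_mono (f := f) hX
    rwa [hf, map_conj_map_conj, inv_mul_cancel, map_conj_one] at this
  obtain ⟨Q₂, hUQ₂, hQ₂M, hQ₂, hAQ₂⟩ := exists_inv_sigma_sylow hG hM hp hq (hback A hAg) (hA.map f)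
    (hback U₂ hU₂M) (hU₂.map f) ((Subgroup.map_mono hU₂A).trans (le_normalizer_map f))
  set e := (MulAut.conj g).toMonoidHom with he
  set R := Q₂.map e with hR
  have hfe : ∀ X : Subgroup G, (X.map f).map e = X := fun X => by
    rw [hf, he, map_conj_map_conj, mul_inv_cancel, map_conj_one]
  have hRmax : IsMaxPIn q ⊤ R := ⟨le_top, hQ₂.pgroup.map e, fun S hS hle _ => by
    have h := hQ₂.max (S.map f) (hS.map f) (by
      have := Subgroup.map_mono (f := f) hle
      rwa [hR, he, hf, map_conj_map_conj, inv_mul_cancel, map_conj_one] at this) le_top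
    rw [hR, ← h, hfe]⟩
  have hAR : A ≤ normalizer (R : Set G) := by
    have := (Subgroup.map_mono (f := e) hAQ₂).trans (le_normalizer_map e)
    rwa [hfe] at this
  have hU₂R : U₂ ≤ R := by
    have := Subgroup.map_mono (f := e) hUQ₂
    rwa [hfe] at this
  obtain ⟨k, hk, hkR⟩ := conjBy_of_common_overgroup hG htr hqA hH hAH
    (maxInv_of_isMaxPIn_top hQ₁ hAQ₁) (maxInv_of_isMaxPIn_top hRmax hAR)
    (fun h => h₁ (le_bot_iff.1 (h ▸ le_inf hU₁H hUQ₁)))
    (fun h => h₂ (le_bot_iff.1 (h ▸ le_inf hU₂H hU₂R)))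
  refine hg (mem_of_sylow_le_conj hG hM hq hRmax ?_ (map_mono (hQ₂M.trans (piCoreOf_le _ _))))
  rw [hkR]
  have hkM : k ∈ M := hCA (piCoreOf_le _ _ hk)
  rintro _ ⟨y, hy, rfl⟩
  exact mul_mem (mul_mem hkM (piCoreOf_le _ _ (hQ₁M hy))) (inv_mem hkM)

end Tools

namespace IsExceptional

variable {p : ℕ} [hp : Fact p.Prime] {M A A₀ : Subgroup G}
  (hG : Cfsg.IsMinSimpleOddOrder G) (hM : IsCoatom M) (h : IsExceptional p M A A₀)
include hG hM h

omit hG hM in
theorem pgroup : IsPGroup p A := IsPGroup.of_card h.card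

omit hG hM in
theorem centralizer_le : Subgroup.centralizer (A : Set G) ≤ M :=
  (Subgroup.centralizer_le h.sub).trans ((centralizer_le_normalizer _).trans h.norm)

omit hG hM in
theorem dvd_card : p ∣ Nat.card M :=
  ((dvd_pow_self p two_ne_zero).trans (dvd_of_eq h.card.symm)).trans (card_dvd_of_le h.le)

theorem rankLE : Cfsg.PRankLE p 2 M := by
  by_contra hr
  exact h.notSigma (alpha_subset_sigma hG hM ⟨hp.out, hr⟩)

theorem maximal {B : Subgroup G} (hB : Cfsg.IsElementaryAbelian p B) (hAB : A ≤ B) : B = A :=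
  elementary_maximal hG hM (h.rankLE hG hM) h.le h.elem h.card hB hAB

theorem mem_of_commute {x : G} (hx : x ∈ Subgroup.centralizer (A : Set G)) (hxp : x ^ p = 1) :
    x ∈ A := by
  rw [← h.maximal hG hM (elementary_sup_zpowers h.elem hx hxp) le_sup_left]
  exact mem_sup_right (mem_zpowers x)

theorem transitivity : Cfsg.TransitivityHypothesis A :=
  transitivityHypothesis_of_rank_two hG hM h.le h.elem h.card (h.rankLE hG hM)

/-- BG 11.2 (a). -/
theorem sigmaCore_inf_conj {g : G} (hg : g ∉ M) (hAg : A ≤ M.map (MulAut.conj g).toMonoidHom) :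
    Cfsg.sigmaCore M ⊓ M.map (MulAut.conj g).toMonoidHom = ⊥ := by
  set Y := Cfsg.sigmaCore M ⊓ M.map (MulAut.conj g).toMonoidHom with hY
  by_contra hne
  obtain ⟨q, hq, hqY⟩ := Nat.exists_prime_and_dvd (n := Nat.card Y)
    fun h1 => hne (card_eq_one.1 h1)
  haveI := Fact.mk hq
  have hqσ : q ∈ Cfsg.sigma M := sigma_of_dvd_sigmaCore hq (hqY.trans (card_dvd_of_le inf_le_left))
  have hAY : A ≤ normalizer (Y : Set G) := fun a ha => inf_normalizer_le_normalizer_inf
    ⟨(h.le.trans (le_normalizer_piCoreOf _ _)) ha, le_normalizer (hAg ha)⟩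
  have hYs : Group.IsSolvable Y :=
    isSolvable_of_ne_top hG fun hY' => hM.1 (top_le_iff.1 (hY' ▸ inf_le_left.trans (piCoreOf_le _ _)))
  have hcop : (Nat.card A).Coprime (Nat.card Y) := by
    rw [h.card]
    exact ((hp.out.coprime_iff_not_dvd).2 fun hd =>
      h.notSigma (sigma_of_dvd_sigmaCore hp.out (hd.trans (card_dvd_of_le inf_le_left)))).pow_left 2
  obtain ⟨S, hS⟩ := Solvable.exists_invariant_sylow hAY hcop (Or.inr hYs) q
  set U := (S : Subgroup Y).map Y.subtype with hU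
  have hU1 : U ≠ ⊥ := fun h1 => S.ne_bot_of_dvd_card hqY
    ((map_eq_bot_iff_of_injective _ Y.subtype_injective).1 h1)
  have hUp : IsPGroup q U := S.2.map _
  have hUY : U ≤ Y := map_subtype_le _
  exact not_meet_two hG hM h.notSigma hqσ h.le h.pgroup (h.transitivity hG hM) h.centralizer_le hg
    hAg hUp (hUY.trans (inf_le_left.trans (piCoreOf_le _ _))) hS hU1 hUp (hUY.trans inf_le_right)
    hS hU1 (normalizer_ne_top hG hU1 (isPGroup_ne_top hG hUp)) hS le_normalizer le_normalizer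

/-- BG 11.2 (b), for any element whose centralizer lies in `M`. -/
theorem sigmaCore_inf_centralizer_conj {g x : G} (hg : g ∉ M)
    (hAg : A ≤ M.map (MulAut.conj g).toMonoidHom) (hx : Subgroup.centralizer {x} ≤ M) :
    Cfsg.sigmaCore M ⊓ Subgroup.centralizer {g * x * g⁻¹} = ⊥ := by
  refine le_bot_iff.1 ((inf_le_inf_left _ ?_).trans (h.sigmaCore_inf_conj hG hM hg hAg).le)
  intro y hy
  rw [mem_map_conj_iff]
  refine hx (mem_centralizer_singleton_iff.2 ?_)
  have := mem_centralizer_singleton_iff.1 hy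
  calc g⁻¹ * y * g * x = g⁻¹ * (y * (g * x * g⁻¹)) * g := by group
    _ = g⁻¹ * ((g * x * g⁻¹) * y) * g := by rw [this]
    _ = x * (g⁻¹ * y * g) := by group

omit hG hM in
theorem exists_generator : ∃ a : G, A₀ = zpowers a ∧ a ^ p = 1 ∧ a ≠ 1 ∧
    Subgroup.centralizer {a} ≤ M := by
  haveI : IsCyclic A₀ := isCyclic_of_prime_card (p := p) h.card₀
  obtain ⟨a, ha⟩ := (Subgroup.isCyclic_iff_exists_zpowers_eq_top A₀).1 inferInstance
  have hao : orderOf a = p := by rw [← Nat.card_zpowers, ha, h.card₀]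
  refine ⟨a, ha.symm, hao ▸ pow_orderOf_eq_one a, fun h1 => ?_, ?_⟩
  · rw [h1, orderOf_one] at hao
    exact hp.out.one_lt.ne hao
  · refine le_trans (le_of_eq ?_) ((centralizer_le_normalizer _).trans h.norm)
    rw [← ha, zpowers_eq_closure, centralizer_closure]

/-- BG 11.3. -/
theorem isNilpotent_sigmaCore : Group.IsNilpotent (Cfsg.sigmaCore M) := by
  obtain ⟨P, hP, hAP⟩ := exists_isMaxPIn_ge h.le h.pgroup
  obtain ⟨g, hgP, hgM⟩ := exists_normalizer_not_mem hG hM h.notSigma hP h.dvd_card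
  have hAg : A ≤ M.map (MulAut.conj g).toMonoidHom := by
    rw [mem_normalizer_iff_map_conj_eq] at hgP
    exact hAP.trans (hgP.ge.trans (map_mono hP.le))
  obtain ⟨a, ha, hap, -, hCa⟩ := h.exists_generator
  have hxM : g * a * g⁻¹ ∈ M :=
    hP.le ((mem_normalizer_iff.1 hgP a).1 (hAP (h.sub (ha ▸ mem_zpowers a))))
  set φ := (Cfsg.sigmaCore M).normalizerMonoidHom ⟨_, le_normalizer_piCoreOf _ M hxM⟩ with hφ
  haveI := sigmaCore_isSolvable hG hM
  refine Solvable.isNilpotent_of_fpf_solvable hp.out _ _ φ rfl ?_ fun y hy => ?_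
  · rw [hφ, ← map_pow, show (⟨g * a * g⁻¹, le_normalizer_piCoreOf _ M hxM⟩ :
      normalizer (Cfsg.sigmaCore M : Set G)) ^ p = 1 from Subtype.ext (by
        rw [SubgroupClass.coe_pow, conj_pow, hap, mul_one, mul_inv_cancel]; rfl), map_one]
  · have h1 : (y : G) ∈ Cfsg.sigmaCore M ⊓ Subgroup.centralizer {g * a * g⁻¹} := by
      refine ⟨y.2, mem_centralizer_singleton_iff.2 ?_⟩
      have h2 := congrArg Subtype.val hy
      simp only [hφ, normalizerMonoidHom_apply_apply_coe] at h2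
      exact (mul_inv_eq_iff_eq_mul.1 h2).symm
    rw [h.sigmaCore_inf_centralizer_conj hG hM hgM hAg hCa, mem_bot] at h1
    exact Subtype.ext h1

/-- The `q`-part of `M_σ` is a Sylow subgroup of `G` with normalizer `M`. -/
theorem exists_normal_sigma_sylow {q : ℕ} [Fact q.Prime] (hq : q ∈ Cfsg.sigma M) :
    ∃ Q : Subgroup G, Q ≤ Cfsg.sigmaCore M ∧ IsMaxPIn q ⊤ Q ∧ Q ≠ ⊥ ∧
      normalizer (Q : Set G) = M := by
  haveI := h.isNilpotent_sigmaCore hG hM
  obtain ⟨S⟩ : Nonempty (Sylow q (Cfsg.sigmaCore M)) := inferInstance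
  haveI : (S : Subgroup (Cfsg.sigmaCore M)).Characteristic :=
    Sylow.characteristic_of_normal S inferInstance
  set Q := (S : Subgroup (Cfsg.sigmaCore M)).map (Cfsg.sigmaCore M).subtype with hQ
  have hQσ : Q ≤ Cfsg.sigmaCore M := map_subtype_le _
  have hmax : IsMaxPIn q ⊤ Q := isMaxPIn_top_of_sigma hq (M := M)
    ⟨hQσ.trans (piCoreOf_le _ _), S.2.map _, fun T hT hle hTM =>
      (isMaxPIn_of_sylow S).max T hT hle (le_sigmaCore_of_pgroup hG hM hq hT hTM)⟩
  have hne : Q ≠ ⊥ := by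
    intro hb
    obtain ⟨x, hx⟩ := exists_prime_orderOf_dvd_card' q hq.2.1
    have hzp : IsPGroup q (zpowers (x : G)) := IsPGroup.of_card (n := 1)
      (by rw [Nat.card_zpowers, orderOf_coe, hx, pow_one])
    have h1 := hmax.max _ hzp (hb ▸ bot_le) le_top
    rw [hb, zpowers_eq_bot, OneMemClass.coe_eq_one] at h1
    rw [h1, orderOf_one] at hx
    exact (Fact.out : q.Prime).one_lt.ne hx
  exact ⟨Q, hQσ, hmax, hne, normalizer_eq_of_isCoatom_of_le hG hM hne (hQσ.trans (piCoreOf_le _ _))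
    ((le_normalizer_piCoreOf _ M).trans
      (normalizer_le_normalizer_map_of_characteristic (Cfsg.sigmaCore M) (S : Subgroup (Cfsg.sigmaCore M))))⟩

/-- BG 11.4. -/
theorem eq_of_sigmaCore_inf_ne_bot {H : Subgroup G} (hH : IsCoatom H) (hAH : A ≤ H)
    (hne : Cfsg.sigmaCore M ⊓ Cfsg.sigmaCore H ≠ ⊥) : H = M := by
  obtain ⟨q, hq, hqd⟩ := Nat.exists_prime_and_dvd
    (n := Nat.card (Cfsg.sigmaCore M ⊓ Cfsg.sigmaCore H : Subgroup G))
    fun h1 => hne (card_eq_one.1 h1)
  haveI := Fact.mk hq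
  have hqM := sigma_of_dvd_sigmaCore hq (hqd.trans (card_dvd_of_le inf_le_left))
  have hqH := sigma_of_dvd_sigmaCore hq (hqd.trans (card_dvd_of_le inf_le_right))
  obtain ⟨Q, -, hQ, -, hNQ⟩ := h.exists_normal_sigma_sylow hG hM hqM
  obtain ⟨T, hT, -⟩ := exists_isMaxPIn_ge (bot_le : (⊥ : Subgroup G) ≤ H) IsPGroup.of_bot (p := q)
  have hTmax := isMaxPIn_top_of_sigma hqH hT
  let SQ : Sylow q G := ⟨Q, hQ.pgroup, fun {R} hR hle => hQ.max R hR hle le_top⟩
  let ST : Sylow q G := ⟨T, hTmax.pgroup, fun {R} hR hle => hTmax.max R hR hle le_top⟩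
  obtain ⟨g, hg⟩ := MulAction.exists_smul_eq G SQ ST
  have hgT : Q.map (MulAut.conj g).toMonoidHom = T := congrArg Sylow.toSubgroup hg
  have hMH : M.map (MulAut.conj g).toMonoidHom = H := by
    refine ((isCoatom_conj hM g).le_iff.1 ?_).resolve_left hH.1 |>.symm
    refine le_of_eq_of_le ?_ (normalizer_le_of_sigma hqH hT)
    rw [← hNQ, ← hgT]
    exact map_equiv_normalizer_eq Q (MulAut.conj g)
  by_contra hHM
  have hgM : g ∉ M := fun hgM => hHM (by
    rw [← hMH]
    have h2 : g ∈ normalizer (M : Set G) := le_normalizer hgM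
    rw [mem_normalizer_iff_map_conj_eq] at h2
    exact h2)
  have := h.sigmaCore_inf_conj hG hM hgM (hMH.symm ▸ hAH)
  exact hne (le_bot_iff.1 (this ▸ inf_le_inf_left _ (hMH.symm ▸ piCoreOf_le _ _)))

end IsExceptional

section Abelian

variable (hG : Cfsg.IsMinSimpleOddOrder G)
include hG

/-- The centralizer in a Sylow subgroup of a maximal elementary subgroup of order `p²` is abelian. -/
theorem commute_of_maximal_elementary {p : ℕ} [hp : Fact p.Prime] (hp2 : p ≠ 2) (S : Sylow p G)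
    {A : Subgroup G} (hAS : A ≤ (S : Subgroup G)) (hA : Cfsg.IsElementaryAbelian p A)
    (hA2 : Nat.card A = p ^ 2)
    (hmax : ∀ B : Subgroup G, Cfsg.IsElementaryAbelian p B → A ≤ B → B = A) {a b : G}
    (ha : a ∈ (S : Subgroup G)) (haA : a ∈ centralizer (A : Set G)) (hb : b ∈ (S : Subgroup G))
    (hbA : b ∈ centralizer (A : Set G)) : a * b = b * a := by
  have hSp : IsPGroup p (S : Subgroup G) := S.isPGroup'
  by_cases hr : Cfsg.PRankLE p 2 (S : Subgroup G)
  · rcases Cfsg.Agent.S1412.result hG p S hr with hc | ⟨P₁, P₂, hsup, hcomm, hna, hcard, -, hcyc, hcl⟩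
    · exact setLike_mul_comm ha hb
    haveI := hcyc
    set R := (S : Subgroup G) with hR
    have hP₁R : P₁ ≤ R := hsup ▸ le_sup_left
    have hP₂R : P₂ ≤ R := hsup ▸ le_sup_right
    have hP₂c : P₂.subgroupOf R ≤ center R := fun u hu => mem_center_iff.2 fun v => Subtype.ext (by
      have : R ≤ centralizer {(u : G)} := hsup.symm.trans_le <| sup_le
        (fun e he => mem_centralizer_singleton_iff.2 (hcomm e he u hu))
        (fun e he => mem_centralizer_singleton_iff.2 (setLike_mul_comm (s := P₂) he hu))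
      exact mem_centralizer_singleton_iff.1 (this v.2))
    set Z := P₁ ⊓ centralizer (P₁ : Set G) with hZ
    have hZP₂ : Z ≤ P₂ := hcl ▸ (closure_le _).2 fun u hu => hu.1
    have hZ1 : Z ≠ ⊥ := by
      haveI : Nontrivial P₁ := (nontrivial_iff_ne_bot _).2 fun hb => by
        rw [hb, card_bot] at hcard
        exact (Nat.one_lt_pow (by norm_num) hp.out.one_lt).ne hcard
      haveI := (IsPGroup.of_card hcard).center_nontrivial
      obtain ⟨u, hu⟩ := exists_ne (1 : center P₁)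
      intro hb
      have h1 : ((u : P₁) : G) ∈ Z := ⟨(u : P₁).2, fun v hv =>
        congrArg Subtype.val (mem_center_iff.1 u.2 ⟨v, hv⟩)⟩
      rw [hb, mem_bot] at h1
      exact hu (Subtype.ext (Subtype.ext h1))
    obtain ⟨x, hxA, hxc⟩ : ∃ x : R, (x : G) ∈ A ∧ x ∉ center R := by
      by_contra hcon
      push Not at hcon
      have hAP₂ : A ≤ P₂ := by
        intro u hu
        have hu' : u ∈ P₁ ⊔ P₂ := hsup.symm ▸ hAS hu
        obtain ⟨e, he, c, hc, rfl⟩ := (Solvable.mem_sup_of_le_normalizer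
          (show P₂ ≤ normalizer (P₁ : Set G) from fun v hv =>
            centralizer_le_normalizer _ fun w hw => hcomm w hw v hv)).1 hu'
        refine mul_mem (hZP₂ ⟨he, fun w hw => ?_⟩) hc
        have h1 := congrArg Subtype.val (mem_center_iff.1 (hcon ⟨_, hAS hu⟩ hu) ⟨w, hP₁R hw⟩)
        simp only [Subgroup.coe_mul] at h1
        rw [← mul_assoc, mul_assoc e c w, ← hcomm w hw c hc, ← mul_assoc] at h1
        exact mul_right_cancel h1
      exact elementary_not_isCyclic hA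
        (hA2 ▸ lt_self_pow₀ hp.out.one_lt (by norm_num : 1 < 2))
        (isCyclic_of_injective (inclusion hAP₂) (inclusion_injective hAP₂))
    set K := centralizer {x} with hK
    have hZK : center R ≤ K := fun u hu =>
      mem_centralizer_singleton_iff.2 (mem_center_iff.1 hu x).symm
    have hidx : (center R).index ≤ p ^ 2 := by
      refine le_trans (Nat.le_of_dvd (Nat.pos_of_ne_zero index_ne_zero_of_finite)
        (index_dvd_of_le hP₂c)) ?_
      obtain ⟨i, hi⟩ := ((IsPGroup.of_card hcard).to_le (inf_le_left : Z ≤ P₁)).exists_card_eq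
      have hi1 : p ≤ Nat.card Z := by
        rw [hi]
        exact Nat.le_self_pow (fun h0 => hZ1 (card_eq_one.1 (by rw [hi, h0, pow_zero]))) p
      have h1 : P₂.relIndex R * Nat.card Z ≤ p ^ 3 := by
        refine le_trans ?_ (le_of_eq hcard)
        rw [← (Z.subgroupOf P₁).card_mul_index, mul_comm,
          Nat.card_congr (subgroupOfEquivOfLe (inf_le_left : Z ≤ P₁)).toEquiv]
        refine Nat.mul_le_mul_left _ ?_
        show P₂.relIndex R ≤ Z.relIndex P₁
        have h2 : P₂.relIndex R = P₂.relIndex P₁ := by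
          rw [← hsup, sup_comm]
          refine Solvable.relIndex_sup_of_le_normalizer ?_
          exact fun v hv => centralizer_le_normalizer _ fun w hw => (hcomm v hv w hw).symm
        rw [h2]
        exact Nat.le_of_dvd (Nat.pos_of_ne_zero index_ne_zero_of_finite)
          (relIndex_dvd_of_le_left P₁ hZP₂)
      refine Nat.le_of_mul_le_mul_right ?_ hp.out.pos
      calc P₂.relIndex R * p ≤ P₂.relIndex R * Nat.card Z := Nat.mul_le_mul_left _ hi1
        _ ≤ p ^ 2 * p := by rw [← pow_succ]; exact h1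
    have hKi : ((center R).subgroupOf K).index ≤ p := by
      have h1 : (center R).relIndex K * K.index = (center R).index := relIndex_mul_index hZK
      have h2 : p ≤ K.index := by
        obtain ⟨j, hj⟩ := hSp.index K
        rw [hj]
        refine Nat.le_self_pow (fun h0 => hxc (mem_center_iff.2 fun v => ?_)) p
        have : K = ⊤ := index_eq_one.1 (by rw [hj, h0, pow_zero])
        exact mem_centralizer_singleton_iff.1 (this.ge (mem_top v))
      show (center R).relIndex K ≤ p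
      refine Nat.le_of_mul_le_mul_right ?_ hp.out.pos
      calc (center R).relIndex K * p ≤ (center R).relIndex K * K.index := Nat.mul_le_mul_left _ h2
        _ ≤ p * p := by rw [h1, ← sq]; exact hidx
    have hmem : ∀ {u : G} (hu : u ∈ R), u ∈ centralizer (A : Set G) → (⟨u, hu⟩ : R) ∈ K :=
      fun hu huA => mem_centralizer_singleton_iff.2 (Subtype.ext (huA x hxA).symm)
    have hc := Operator.commute_of_cyclic_over_central (Q := K) (K := (center R).subgroupOf K)
      (fun u hu => mem_center_iff.2 fun v => Subtype.ext (mem_center_iff.1 (mem_subgroupOf.1 hu) v))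
      hKi (hSp.to_subgroup K) ⟨⟨a, ha⟩, hmem ha haA⟩ ⟨⟨b, hb⟩, hmem hb hbA⟩
    exact congrArg (fun u : K => ((u : R) : G)) hc
  · set R := (S : Subgroup G) with hR
    set E := A.subgroupOf R with hE
    have hEe : Cfsg.IsElementaryAbelian p E := by
      haveI := hA.1
      exact ⟨⟨⟨fun u v => Subtype.ext (Subtype.ext
        (setLike_mul_comm (s := A) (mem_subgroupOf.1 u.2) (mem_subgroupOf.1 v.2)))⟩⟩,
        fun u hu => Subtype.ext (by rw [SubgroupClass.coe_pow, hA.2 (u : G) hu]; rfl)⟩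
    have hEm : E.map R.subtype = A := map_subgroupOf_eq_of_le hAS
    have hEmax : ∀ B : Subgroup R, Cfsg.IsElementaryAbelian p B → E ≤ B → B = E := fun B hB hEB => by
      refine Subgroup.map_injective R.subtype_injective ?_
      rw [hEm]
      haveI := hB.1
      refine hmax _ ⟨inferInstance, ?_⟩ (hEm ▸ map_mono hEB)
      rintro _ ⟨u, hu, rfl⟩
      rw [← map_pow, hB.2 u hu, map_one]
    obtain ⟨hET, -, -, hTc, hTi⟩ := Cfsg.Agent.S1453.result p hp2 hSp hr E hEe
      (by rw [← card_map_of_injective R.subtype_injective, hEm, hA2]) hEmax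
    set T := centralizer ((closure {x : R | x ∈ Subgroup.upperCentralSeries R 2 ∧ x ^ p = 1} : Subgroup R) : Set R)
    haveI := hTc
    obtain ⟨x, hxE, hxT⟩ := SetLike.not_le_iff_exists.1 hET
    set K := T ⊓ centralizer (E : Set R) with hK
    haveI hKc : IsCyclic K := by
      by_contra hnc
      obtain ⟨F, hFK, hFe, hF⟩ := exists_elementary_of_not_pRankLE
        (not_pRankLE_one_of_not_isCyclic hp2 (hSp.to_subgroup K) hnc)
      rw [pow_one] at hF
      have hFE : F ≤ E := fun u hu => by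
        rw [← hEmax _ (elementary_sup_zpowers hEe (hFK hu).2 (hFe.2 u hu)) le_sup_left]
        exact mem_sup_right (mem_zpowers u)
      have hEF : F = E := by
        refine eq_of_le_of_card_ge hFE ?_
        obtain ⟨i, hi⟩ := (hSp.to_subgroup F).exists_card_eq
        rw [← card_map_of_injective R.subtype_injective, hEm, hA2, hi]
        rw [hi] at hF
        exact Nat.pow_le_pow_right hp.out.pos
          ((Nat.pow_lt_pow_iff_right hp.out.one_lt).1 ((pow_one p).symm ▸ hF))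
      exact hxT (hFK (hEF.symm ▸ hxE)).1
    have hxp : x ^ p ∈ T := by rw [hEe.2 x hxE]; exact one_mem _
    have htop : T ⊔ zpowers x = ⊤ := eq_top_of_card_eq _ (by
      rw [CfsgLib.PGroup.card_sup_zpowers hxT hxp, ← T.card_mul_index, hTi, mul_comm])
    have hdec : ∀ u : R, u ∈ centralizer (E : Set R) → ∃ k ∈ K, ∃ i : ℤ, u = k * x ^ i := by
      intro u hu
      obtain ⟨t, i, ht, rfl⟩ := Operator.exists_zpow_decomp (N := T) (x := x) (htop ▸ mem_top u)
      refine ⟨t, ⟨ht, ?_⟩, i, rfl⟩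
      have hxi : x ^ i ∈ centralizer (E : Set R) :=
        zpow_mem (le_centralizer_iff_isMulCommutative.2 hEe.1 hxE) i
      simpa using mul_mem hu (inv_mem hxi)
    have hin : ∀ {u : G} (hu : u ∈ R), u ∈ centralizer (A : Set G) →
        (⟨u, hu⟩ : R) ∈ centralizer (E : Set R) := fun hu huA v hv => Subtype.ext (huA v hv)
    obtain ⟨k, hk, i, hki⟩ := hdec _ (hin ha haA)
    obtain ⟨l, hl, j, hlj⟩ := hdec _ (hin hb hbA)
    have hkl : Commute k l := setLike_mul_comm (s := K) hk hl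
    have hkx : Commute k x := (hk.2 x hxE).symm
    have hlx : Commute l x := (hl.2 x hxE).symm
    have : Commute (k * x ^ i) (l * x ^ j) :=
      Commute.mul_left (hkl.mul_right (hkx.zpow_right j))
        ((hlx.zpow_right i).symm.mul_right ((Commute.refl x).zpow_zpow i j))
    rw [← hki, ← hlj] at this
    exact congrArg Subtype.val this.eq

end Abelian

namespace IsExceptional

variable {p : ℕ} [hp : Fact p.Prime] {M A A₀ : Subgroup G}
  (hG : Cfsg.IsMinSimpleOddOrder G) (hM : IsCoatom M) (h : IsExceptional p M A A₀)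
include hG hM h

/-- BG 11.5, for Sylow subgroups containing `A`. -/
theorem le_centralizer_of_isMaxPIn {P : Subgroup G} (hP : IsMaxPIn p M P) (hAP : A ≤ P) :
    P ≤ Subgroup.centralizer (A : Set G) := by
  by_contra hnc
  obtain ⟨g, hgP, hgM⟩ := exists_normalizer_not_mem hG hM h.notSigma hP h.dvd_card
  have hgP' := hgP
  rw [mem_normalizer_iff_map_conj_eq] at hgP'
  have hAg : A ≤ M.map (MulAut.conj g).toMonoidHom := hAP.trans (hgP'.ge.trans (map_mono hP.le))
  obtain ⟨a, ha, hap, -, hCa⟩ := h.exists_generator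
  set Z := A ⊓ Subgroup.centralizer (P : Set G) with hZ
  have hZmem : ∀ x, x ∈ Z ↔ x ∈ P ∧ x ∈ Subgroup.centralizer (P : Set G) ∧ x ^ p = 1 := fun x =>
    ⟨fun hx => ⟨hAP hx.1, hx.2, h.elem.2 x hx.1⟩, fun hx => ⟨h.mem_of_commute hG hM
      (fun b hb => hx.2.1 b (hAP hb)) hx.2.2, hx.2.1⟩⟩
  have hgZ : ∀ x ∈ Z, g * x * g⁻¹ ∈ Z := fun x hx => by
    obtain ⟨h1, h2, h3⟩ := (hZmem x).1 hx
    refine (hZmem _).2 ⟨(mem_normalizer_iff.1 hgP x).1 h1, fun y hy => ?_,
      by rw [conj_pow, h3, mul_one, mul_inv_cancel]⟩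
    have h4 := h2 (g⁻¹ * y * g) ((mem_normalizer_iff.1 hgP _).2 (by
      rwa [show g * (g⁻¹ * y * g) * g⁻¹ = y by group]))
    calc y * (g * x * g⁻¹) = g * (g⁻¹ * y * g * x) * g⁻¹ := by group
      _ = g * (x * (g⁻¹ * y * g)) * g⁻¹ := by rw [h4]
      _ = g * x * g⁻¹ * y := by group
  have haA : a ∈ A := h.sub (ha ▸ mem_zpowers a)
  have haZ : a ∉ Z := by
    intro haZ
    obtain ⟨z, hz⟩ : ∃ z : A, (z : G) = a := ⟨⟨a, haA⟩, rfl⟩
    apply hgM
    refine h.norm (mem_normalizer_iff_map_conj_eq.2 ?_)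
    refine eq_of_le_of_card_ge ?_ (le_of_eq (card_map_of_injective (MulAut.conj g).injective).symm)
    have hZA : Z = A₀ := by
      refine (eq_of_le_of_card_ge (ha ▸ zpowers_le.2 haZ) ?_).symm
      rw [h.card₀]
      by_contra hlt
      push Not at hlt
      obtain ⟨i, hi⟩ := (h.pgroup.to_le (inf_le_left : Z ≤ A)).exists_card_eq
      rw [hi] at hlt
      have : Z = A := eq_of_le_of_card_ge inf_le_left (by
        rw [h.card, hi]
        exact Nat.pow_le_pow_right hp.out.pos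
          ((Nat.pow_lt_pow_iff_right hp.out.one_lt).1 ((pow_one p).symm ▸ hlt)))
      exact hnc (Subgroup.le_centralizer_iff.1 (this.ge.trans inf_le_right))
    rw [← hZA]
    rintro _ ⟨x, hx, rfl⟩
    exact hgZ x hx
  obtain ⟨z₁, hz₁Z, hz₁p, hz₁⟩ : ∃ z ∈ Z, z ^ p = 1 ∧ z ≠ 1 := by
    haveI : Nontrivial P := (nontrivial_iff_ne_bot _).2 fun hb => by
      refine haZ ⟨haA, ?_⟩
      rw [hb]; intro y hy; simp [mem_bot.1 hy]
    haveI := hP.pgroup.center_nontrivial
    obtain ⟨n, hn0, hn⟩ : ∃ n, 0 < n ∧ Nat.card (Subgroup.center P) = p ^ n := by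
      obtain ⟨n, hn⟩ := (hP.pgroup.to_subgroup (Subgroup.center P)).exists_card_eq
      refine ⟨n, Nat.pos_of_ne_zero fun h0 => ?_, hn⟩
      rw [h0, pow_zero] at hn
      exact (Finite.one_lt_card (α := Subgroup.center P)).ne' hn
    obtain ⟨z, hz⟩ := exists_prime_orderOf_dvd_card' p (hn ▸ dvd_pow_self p hn0.ne')
    refine ⟨((z : P) : G), (hZmem _).2 ⟨(z : P).2, fun y hy =>
      congrArg Subtype.val (mem_center_iff.1 z.2 ⟨y, hy⟩), ?_⟩, ?_, fun h1 => ?_⟩
    · rw [← hz, ← SubgroupClass.coe_pow, ← SubgroupClass.coe_pow, pow_orderOf_eq_one]; rfl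
    · rw [← hz, ← SubgroupClass.coe_pow, ← SubgroupClass.coe_pow, pow_orderOf_eq_one]; rfl
    · have : z = 1 := Subtype.ext (Subtype.ext h1)
      rw [this, orderOf_one] at hz
      exact hp.out.one_lt.ne hz
  have hz₁o : orderOf z₁ = p := orderOf_eq_prime hz₁p hz₁
  haveI : IsMulCommutative A := h.elem.1
  have hcomA : ∀ {x y : G}, x ∈ A → y ∈ A → Commute x y := fun hx hy => setLike_mul_comm hx hy
  -- `A = ⟨z₁, a⟩`
  have hAgen : ∀ x ∈ A, ∃ i j : ℤ, x = z₁ ^ i * a ^ j := by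
    have hnz : a ∉ zpowers z₁ := fun hmem => haZ (zpowers_le.2 hz₁Z hmem)
    haveI : ((zpowers z₁).subgroupOf A).Normal :=
      ⟨fun u hu v => by rwa [show v * u * v⁻¹ = u by
        rw [mul_inv_eq_iff_eq_mul]; exact Subtype.ext (hcomA v.2 u.2).eq]⟩
    have hcard : Nat.card ((zpowers z₁).subgroupOf A) = p := by
      rw [Nat.card_congr (subgroupOfEquivOfLe (zpowers_le.2 hz₁Z.1)).toEquiv, Nat.card_zpowers, hz₁o]
    have htop : (zpowers z₁).subgroupOf A ⊔ zpowers (⟨a, haA⟩ : A) = ⊤ := by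
      refine eq_top_of_card_eq _ ?_
      rw [CfsgLib.PGroup.card_sup_zpowers (fun hmem => hnz (mem_subgroupOf.1 hmem))
        (by rw [show (⟨a, haA⟩ : A) ^ p = 1 from Subtype.ext (by simpa using hap)]; exact one_mem _),
        hcard, h.card, sq]
    intro x hx
    obtain ⟨n, j, hn, he⟩ := Operator.exists_zpow_decomp (htop ▸ mem_top (⟨x, hx⟩ : A))
    obtain ⟨i, hi⟩ := mem_subgroupOf.1 hn
    simp only at hi
    refine ⟨i, j, ?_⟩
    have := congrArg Subtype.val he
    simpa [← hi] using this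
  -- centralizers of the elements of `A` outside `Z`
  have hCx : ∀ x ∈ A, x ∉ Z → Subgroup.centralizer {x} ≤ M := by
    obtain ⟨m, hmP, hma, hmA⟩ : ∃ m ∈ P, m * a * m⁻¹ ≠ a ∧ m * a * m⁻¹ ∈ A := by
      set C := (Subgroup.centralizer (A : Set G)).subgroupOf P with hC
      haveI : Group.IsNilpotent P := hP.pgroup.isNilpotent
      have hClt : C < ⊤ := lt_top_iff_ne_top.2 fun hC' => hnc fun y hy =>
        mem_subgroupOf.1 (hC'.ge (mem_top (⟨y, hy⟩ : P)))
      obtain ⟨m, hmN, hmC⟩ :=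
        SetLike.exists_of_lt (normalizerCondition_of_isNilpotent C hClt)
      have hconj : ∀ x ∈ A, (m : G) * x * (m : G)⁻¹ ∈ A := fun x hx => by
        refine h.mem_of_commute hG hM ?_ (by rw [conj_pow, h.elem.2 x hx, mul_one, mul_inv_cancel])
        have h1 := (mem_normalizer_iff.1 hmN ⟨x, hAP hx⟩).1 (mem_subgroupOf.2
          (le_centralizer_iff_isMulCommutative.2 h.elem.1 hx))
        exact mem_subgroupOf.1 h1
      refine ⟨m, m.2, fun hcon => hmC (mem_subgroupOf.2 fun x hx => ?_), hconj a haA⟩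
      obtain ⟨i, j, rfl⟩ := hAgen x hx
      have h1 : Commute a (m : G) := (mul_inv_eq_iff_eq_mul.1 hcon).symm
      have h2 : Commute z₁ (m : G) := (((hZmem z₁).1 hz₁Z).2.1 m m.2).symm
      exact ((h2.zpow_left i).mul_left (h1.zpow_left j)).eq
    -- `[m, a]` generates `Z`
    intro x hx hxZ
    obtain ⟨i, j, rfl⟩ := hAgen x hx
    have hzc : ∀ y ∈ P, Commute y z₁ := fun y hy => ((hZmem z₁).1 hz₁Z).2.1 y hy
    have hj : ¬ (p : ℤ) ∣ j := fun ⟨k, hk⟩ => hxZ (by
      rw [hk, zpow_mul, zpow_natCast, hap, one_zpow, mul_one]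
      exact zpow_mem hz₁Z i)
    have hAz : zpowers z₁ ≤ A := zpowers_le.2 hz₁Z.1
    have hnorm : ∀ y ∈ P, y * a * y⁻¹ ∈ A → ∃ u : ℤ, y * a * y⁻¹ = z₁ ^ u * a := by
      intro y hy hyA
      obtain ⟨u, v, huv⟩ := hAgen _ hyA
      refine ⟨u, ?_⟩
      -- the action on `A / Z` is trivial
      obtain ⟨n, hn⟩ := IsPGroup.iff_orderOf.1 hP.pgroup ⟨y, hy⟩
      rw [orderOf_mk] at hn
      have hit : ∀ t : ℕ, ∃ w : ℤ, y ^ t * a * (y ^ t)⁻¹ = z₁ ^ w * a ^ (v ^ t) := by
        intro t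
        induction t with
        | zero => exact ⟨0, by simp⟩
        | succ t ih =>
          obtain ⟨w, hw⟩ := ih
          refine ⟨w + u * v ^ t, ?_⟩
          calc y ^ (t + 1) * a * (y ^ (t + 1))⁻¹ = y * (y ^ t * a * (y ^ t)⁻¹) * y⁻¹ := by
                rw [pow_succ']; group
            _ = (y * z₁ ^ w * y⁻¹) * (y * a * y⁻¹) ^ (v ^ t) := by rw [hw, conj_zpow]; group
            _ = z₁ ^ (w + u * v ^ t) * a ^ (v ^ (t + 1)) := by
              rw [((hzc y hy).zpow_right w).eq, mul_inv_cancel_right, huv,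
                ((hcomA (hAz (mem_zpowers _)) haA).zpow_zpow u v).mul_zpow, ← zpow_mul, ← zpow_mul,
                ← mul_assoc, ← zpow_add, pow_succ' v t]
      obtain ⟨w, hw⟩ := hit (p ^ n)
      rw [← hn, pow_orderOf_eq_one, one_mul, inv_one, mul_one] at hw
      have h1 : a ^ (v ^ orderOf y - 1) ∈ Z := by
        have e : a ^ (v ^ orderOf y - 1) = z₁ ^ (-w) := by
          rw [zpow_sub_one, zpow_neg]
          refine eq_inv_of_mul_eq_one_right ?_
          rw [← mul_assoc, ← hw, mul_inv_cancel]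
        rw [e]
        exact zpow_mem hz₁Z _
      have haZp : a ^ p ∈ Z := by rw [hap]; exact one_mem _
      have hd : (p : ℤ) ∣ v ^ (p ^ n) - 1 := by
        by_contra hd
        obtain ⟨r, s, hrs⟩ := (Nat.prime_iff_prime_int.1 hp.out).coprime_iff_not_dvd.2 hd
        apply haZ
        rw [← zpow_one a, ← hrs, zpow_add, mul_comm r, mul_comm s, zpow_mul, zpow_mul, zpow_natCast,
          hap, one_zpow, one_mul]
        rw [hn] at h1
        exact zpow_mem h1 s
      have hv1 : (p : ℤ) ∣ v - 1 := by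
        rw [← ZMod.intCast_zmod_eq_zero_iff_dvd] at hd ⊢
        push_cast at hd ⊢
        rwa [ZMod.pow_card_pow] at hd
      obtain ⟨c, hc⟩ := hv1
      rw [huv, show v = (p : ℤ) * c + 1 by linarith, zpow_add, zpow_one, zpow_mul, zpow_natCast, hap,
        one_zpow, one_mul]
    obtain ⟨u, hu⟩ := hnorm m hmP hmA
    have hu0 : ¬ (p : ℤ) ∣ u := fun ⟨k, hk⟩ => hma (by
      rw [hu, hk, zpow_mul, zpow_natCast, hz₁p, one_zpow, one_mul])
    have hpow : ∀ t : ℕ, m ^ t * a * (m ^ t)⁻¹ = z₁ ^ (u * t) * a := by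
      intro t
      induction t with
      | zero => simp
      | succ t ih =>
        calc m ^ (t + 1) * a * (m ^ (t + 1))⁻¹ = m * (m ^ t * a * (m ^ t)⁻¹) * m⁻¹ := by
              rw [pow_succ']; group
          _ = (m * z₁ ^ (u * t) * m⁻¹) * (m * a * m⁻¹) := by rw [ih]; group
          _ = z₁ ^ (u * ((t + 1 : ℕ) : ℤ)) * a := by
            rw [((hzc m hmP).zpow_right _).eq, mul_inv_cancel_right, hu, ← mul_assoc, ← zpow_add,
              Nat.cast_succ, mul_add, mul_one]
    have hprime := Nat.prime_iff_prime_int.1 hp.out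
    obtain ⟨r, s, hrs⟩ := hprime.coprime_iff_not_dvd.2
      (fun hd => (hprime.dvd_or_dvd hd).elim hu0 hj : ¬ (p : ℤ) ∣ u * j)
    set t : ℤ := (i * s) % (p : ℤ) with ht
    have ht0 : 0 ≤ t := Int.emod_nonneg _ (by exact_mod_cast hp.out.ne_zero)
    have hmc : Commute (z₁ ^ (u * t.toNat)) a := (hcomA hz₁Z.1 haA).zpow_left _
    have hconj : (m ^ t.toNat * a * (m ^ t.toNat)⁻¹) ^ j = z₁ ^ i * a ^ j := by
      rw [hpow, hmc.mul_zpow, ← zpow_mul, Int.toNat_of_nonneg ht0]
      congr 1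
      rw [show u * t * j = i + (p : ℤ) * (-(i * r) - (u * j) * ((i * s) / (p : ℤ))) by
        rw [ht, Int.emod_def]; linear_combination i * hrs]
      rw [zpow_add, zpow_mul, zpow_natCast, hz₁p, one_zpow, mul_one]
    intro y hy
    rw [← hconj, conj_zpow, mem_centralizer_singleton_iff] at hy
    set c := m ^ t.toNat
    have hcM : c ∈ M := hP.le (pow_mem hmP _)
    have h1 : c⁻¹ * y * c ∈ Subgroup.centralizer {a ^ j} := mem_centralizer_singleton_iff.2 (by
      calc c⁻¹ * y * c * a ^ j = c⁻¹ * (y * (c * a ^ j * c⁻¹)) * c := by group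
        _ = c⁻¹ * ((c * a ^ j * c⁻¹) * y) * c := by rw [hy]
        _ = a ^ j * (c⁻¹ * y * c) := by group)
    have h2 : Subgroup.centralizer {a ^ j} ≤ M := by
      obtain ⟨r', s', hrs'⟩ := hprime.coprime_iff_not_dvd.2 hj
      refine le_trans (fun v hv => ?_) hCa
      rw [mem_centralizer_singleton_iff] at hv ⊢
      have h3 := (show Commute v (a ^ j) from hv).zpow_right s'
      rw [← zpow_mul, show j * s' = 1 + (p : ℤ) * (-r') by linear_combination hrs', zpow_add, zpow_one,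
        zpow_mul, zpow_natCast, hap, one_zpow, mul_one] at h3
      exact h3.eq
    have := mul_mem (mul_mem hcM (h2 h1)) (inv_mem hcM)
    rwa [show c * (c⁻¹ * y * c) * c⁻¹ = y by group] at this
  -- `Z` centralizes `M_σ` and its conjugate
  set B := A.map (MulAut.conj g).toMonoidHom with hB
  have hBM : B ≤ M := (map_mono hAP).trans (hgP'.le.trans hP.le)
  have hBe : IsMulCommutative B := inferInstance
  have hBc : Nat.card B = p ^ 2 := by rw [hB, card_map_of_injective (MulAut.conj g).injective, h.card]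
  have hcop : (Nat.card B).Coprime (Nat.card (Cfsg.sigmaCore M)) := by
    rw [hBc]
    exact ((hp.out.coprime_iff_not_dvd).2 fun hd =>
      h.notSigma (sigma_of_dvd_sigmaCore hp.out hd)).pow_left 2
  have hσZ : Cfsg.sigmaCore M ≤ Subgroup.centralizer {z₁} := by
    refine Solvable.le_of_centralizer_le (A := B) ?_ (hBM.trans (le_normalizer_piCoreOf _ _)) hcop
      fun b hb hb1 => ?_
    · refine elementary_not_isCyclic (p := p) ⟨hBe, ?_⟩ (hBc ▸ lt_self_pow₀ hp.out.one_lt (by norm_num))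
      rintro _ ⟨x, hx, rfl⟩
      rw [← map_pow, h.elem.2 x hx, map_one]
    obtain ⟨x, hx, rfl⟩ := hb
    by_cases hxZ : x ∈ Z
    · have hb' := hgZ x hxZ
      obtain ⟨i, j, hij⟩ := hAgen _ hb'.1
      have hj : (p : ℤ) ∣ j := by
        by_contra hj
        obtain ⟨r, s, hrs⟩ := (Nat.prime_iff_prime_int.1 hp.out).coprime_iff_not_dvd.2 hj
        apply haZ
        have h1 : a ^ j ∈ Z := by
          rw [← inv_mul_cancel_left (z₁ ^ i) (a ^ j), ← hij]
          exact mul_mem (inv_mem (zpow_mem hz₁Z i)) hb'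
        rw [← zpow_one a, ← hrs, zpow_add, mul_comm r, mul_comm s, zpow_mul, zpow_mul, zpow_natCast,
          hap, one_zpow, one_mul]
        exact zpow_mem h1 s
      obtain ⟨k, hk⟩ := hj
      rw [hk, zpow_mul, zpow_natCast, hap, one_zpow, mul_one] at hij
      intro y hy
      have hy2 : Commute y (g * x * g⁻¹) := mem_centralizer_singleton_iff.1 hy.2
      have hi0 : ¬ (p : ℤ) ∣ i := fun ⟨k, hk⟩ => hb1 (by
        show g * x * g⁻¹ = 1
        rw [hij, hk, zpow_mul, zpow_natCast, hz₁p, one_zpow])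
      obtain ⟨r, s, hrs⟩ := (Nat.prime_iff_prime_int.1 hp.out).coprime_iff_not_dvd.2 hi0
      rw [hij] at hy2
      have h3 := hy2.zpow_right s
      rw [← zpow_mul, show i * s = 1 + (p : ℤ) * (-r) by linear_combination hrs, zpow_add, zpow_one,
        zpow_mul, zpow_natCast, hz₁p, one_zpow, mul_one] at h3
      exact mem_centralizer_singleton_iff.2 h3.eq
    · exact (h.sigmaCore_inf_centralizer_conj hG hM hgM hAg (hCx x hx hxZ)).le.trans bot_le
  obtain ⟨q, hq, hqd⟩ := Nat.exists_prime_and_dvd (n := Nat.card (Cfsg.sigmaCore M))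
    fun h1 => sigmaCore_ne_bot hG hM (card_eq_one.1 h1)
  haveI := Fact.mk hq
  obtain ⟨Q, hQσ, hQ, hQ1, hNQ⟩ := h.exists_normal_sigma_sylow hG hM (sigma_of_dvd_sigmaCore hq hqd)
  set e := (MulAut.conj g).toMonoidHom with he
  have hQ2 : Q.map e ≠ ⊥ := fun hb =>
    hQ1 ((map_eq_bot_iff_of_injective _ (MulAut.conj g).injective).1 hb)
  have hQg : Q.map e ≤ Subgroup.centralizer {g * z₁ * g⁻¹} := by
    rintro _ ⟨y, hy, rfl⟩
    have h1 := mem_centralizer_singleton_iff.1 (hσZ (hQσ hy))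
    refine mem_centralizer_singleton_iff.2 ?_
    show g * y * g⁻¹ * (g * z₁ * g⁻¹) = g * z₁ * g⁻¹ * (g * y * g⁻¹)
    calc g * y * g⁻¹ * (g * z₁ * g⁻¹) = g * (y * z₁) * g⁻¹ := by group
      _ = g * (z₁ * y) * g⁻¹ := by rw [h1]
      _ = _ := by group
  obtain ⟨i, hi⟩ : ∃ i : ℤ, z₁ = (g * z₁ * g⁻¹) ^ i := by
    obtain ⟨i, j, hij⟩ := hAgen _ (hgZ z₁ hz₁Z).1
    have hzg : zpowers (g * z₁ * g⁻¹) = zpowers z₁ := by
      refine (eq_of_le_of_card_ge ?_ ?_)
      · rw [zpowers_le]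
        have hj : (p : ℤ) ∣ j := by
          by_contra hj
          obtain ⟨r, s, hrs⟩ := (Nat.prime_iff_prime_int.1 hp.out).coprime_iff_not_dvd.2 hj
          apply haZ
          have h1 : a ^ j ∈ Z := by
            rw [← inv_mul_cancel_left (z₁ ^ i) (a ^ j), ← hij]
            exact mul_mem (inv_mem (zpow_mem hz₁Z i)) (hgZ z₁ hz₁Z)
          rw [← zpow_one a, ← hrs, zpow_add, mul_comm r, mul_comm s, zpow_mul, zpow_mul, zpow_natCast,
            hap, one_zpow, one_mul]
          exact zpow_mem h1 s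
        obtain ⟨k, hk⟩ := hj
        rw [hij, hk, zpow_mul, zpow_natCast, hap, one_zpow, mul_one]
        exact zpow_mem (mem_zpowers _) _
      · rw [Nat.card_zpowers, Nat.card_zpowers, hz₁o, orderOf_eq_prime
          (by rw [conj_pow, hz₁p, mul_one, mul_inv_cancel]) (by simpa using hz₁)]
    obtain ⟨i, hi⟩ := hzg.ge (mem_zpowers z₁)
    exact ⟨i, hi.symm⟩
  refine not_meet_two hG hM h.notSigma (sigma_of_dvd_sigmaCore hq hqd) h.le h.pgroup
    (h.transitivity hG hM) h.centralizer_le hgM hAg hQ.pgroup (hQσ.trans (piCoreOf_le _ _))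
    (h.le.trans hNQ.ge) hQ1 (hQ.pgroup.map e) (map_mono (hQσ.trans (piCoreOf_le _ _))) ?_ hQ2
    (centralizer_singleton_ne_top hG hz₁) (fun b hb => ?_) (hQσ.trans hσZ) ?_
  · rw [← map_equiv_normalizer_eq Q (MulAut.conj g), hNQ]
    exact hAg
  · exact mem_centralizer_singleton_iff.2 (hcomA hb hz₁Z.1).eq
  · refine hQg.trans fun y hy => mem_centralizer_singleton_iff.2 ?_
    rw [hi]
    exact ((show Commute y _ from mem_centralizer_singleton_iff.1 hy).zpow_right i).eq

end IsExceptional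

end CfsgLib.OddOrder
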