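import Cfsg.Agent.Lib.OddOrder.BetaUnique
import Cfsg.Agent.Lib.OddOrder.SigmaApps

/-!
BG 12.10 (c) and 12.15 (a)–(c), given `C(A) ≤ M` for elementary subgroups of order `p²`.
-/

set_option autoImplicit false
set_option linter.style.haveILetI false

namespace CfsgLib.OddOrder

open Subgroup

/-- A `p`-element normalizing a subgroup of order `p` centralizes it. -/
theorem mem_centralizer_of_card_prime {G : Type*} [Group G] [Finite G] {p : ℕ} [hp : Fact p.Prime]
    {X : Subgroup G} (hX : Nat.card X = p) {g : G} (hg : g ∈ normalizer (X : Set G))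
    (hgp : IsPGroup p (zpowers g)) : g ∈ centralizer (X : Set G) := by
  haveI : IsCyclic X := isCyclic_of_prime_card hX
  haveI : Finite (MulAut X) := Finite.of_injective _ DFunLike.coe_injective
  set a := X.normalizerMonoidHom ⟨g, hg⟩ with ha
  obtain ⟨k, hk⟩ := hgp.exists_card_eq
  rw [Nat.card_zpowers] at hk
  have h1 : orderOf a ∣ p ^ k := (orderOf_map_dvd _ _).trans (dvd_of_eq ((orderOf_mk g hg).trans hk))
  have h2 : orderOf a ∣ p - 1 := by
    have h : orderOf a ∣ Nat.card (MulAut X) := orderOf_dvd_natCard a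
    rwa [IsCyclic.card_mulAut, hX, Nat.totient_prime hp.out] at h
  have hco : (p ^ k).Coprime (p - 1) := Nat.Coprime.pow_left _
    ((hp.out.coprime_iff_not_dvd).2 fun hd => by
      have := hp.out.two_le
      exact absurd (Nat.le_of_dvd (by omega) hd) (by omega))
  have h3 : a = 1 := orderOf_eq_one_iff.1 (Nat.eq_one_of_dvd_coprimes hco h1 h2)
  intro x hx
  have h4 : g * x * g⁻¹ = x := congrArg (fun u : MulAut X => ((u ⟨x, hx⟩ : X) : G)) h3
  exact (mul_inv_eq_iff_eq_mul.1 h4).symm

variable {G : Type*} [Group G] [Finite G] (hG : Cfsg.IsMinSimpleOddOrder G) {M : Subgroup G}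
  (hM : IsCoatom M)
include hG hM

/-- `N(X) ≤ M` as soon as `C(X) ≤ M`, for a nontrivial `σ(M)`-prime power subgroup. -/
theorem normalizer_le_of_centralizer_le {p : ℕ} [hp : Fact p.Prime] (hσ : p ∈ Cfsg.sigma M)
    {X : Subgroup G} (hXp : IsPGroup p X) (hX1 : X ≠ ⊥) (hXM : X ≤ M)
    (hC : centralizer (X : Set G) ≤ M) : normalizer (X : Set G) ≤ M := by
  intro g hg
  obtain ⟨m, hm, c, hc, rfl⟩ := exists_eq_mul_centralizer hG hM hσ hXp hX1 hXM (g := g) (by
    rw [mem_normalizer_iff_map_conj_eq] at hg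
    exact (show X.map (MulAut.conj g).toMonoidHom = X from hg).le.trans hXM)
  exact mul_mem hm (hC hc)

/-- An element moving a `σ(M)`-prime power subgroup with `C(X) ≤ M` inside `M` lies in `M`. -/
theorem mem_of_conj_le {p : ℕ} [hp : Fact p.Prime] (hσ : p ∈ Cfsg.sigma M) {X : Subgroup G}
    (hXp : IsPGroup p X) (hX1 : X ≠ ⊥) (hXM : X ≤ M) (hC : centralizer (X : Set G) ≤ M) {g : G}
    (hg : X.map (MulAut.conj g).toMonoidHom ≤ M) : g ∈ M := by
  obtain ⟨m, hm, c, hc, rfl⟩ := exists_eq_mul_centralizer hG hM hσ hXp hX1 hXM hg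
  exact mul_mem hm (hC hc)

omit hM in
/-- BG 12.10 (c), from the elementary case. -/
theorem centralizer_le_of_noncyclic {p : ℕ} [hp : Fact p.Prime] (hpM : p ∣ Nat.card M)
    (hA : ∀ A : Subgroup G, A ≤ M → Cfsg.IsElementaryAbelian p A → Nat.card A = p ^ 2 →
      centralizer (A : Set G) ≤ M)
    {P : Subgroup G} (hP : IsPGroup p P) (hPM : P ≤ M) (hPc : ¬ IsCyclic P) :
    centralizer (P : Set G) ≤ M := by
  obtain ⟨E, hEP, hEe, hE⟩ := exists_elementary_of_not_pRankLE
    (not_pRankLE_one_of_not_isCyclic (prime_ne_two_of_dvd_card hG hpM) hP hPc)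
  rw [pow_one] at hE
  obtain ⟨n, hn⟩ := (isPGroup_of_exp hEe.2).exists_card_eq
  have hn2 : 2 ≤ n := by
    rw [hn] at hE
    exact (Nat.pow_lt_pow_iff_right hp.out.one_lt).1 (by rwa [pow_one] : p ^ 1 < p ^ n)
  obtain ⟨A₀, hA₀⟩ := Sylow.exists_subgroup_card_pow_prime (G := E) p (n := 2)
    (hn ▸ pow_dvd_pow p hn2)
  have hAE : A₀.map E.subtype ≤ E := map_subtype_le _
  refine (centralizer_le (hAE.trans hEP)).trans (hA _ ((hAE.trans hEP).trans hPM) ⟨?_, ?_⟩ ?_)
  · haveI := hEe.1
    exact map_isMulCommutative A₀ E.subtype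
  · exact fun a ha => hEe.2 a (hAE ha)
  · rw [card_map_of_injective E.subtype_injective, hA₀]

theorem normalizer_le_of_noncyclic {p : ℕ} [hp : Fact p.Prime] (hσ : p ∈ Cfsg.sigma M)
    (hA : ∀ A : Subgroup G, A ≤ M → Cfsg.IsElementaryAbelian p A → Nat.card A = p ^ 2 →
      centralizer (A : Set G) ≤ M)
    {P : Subgroup G} (hP : IsPGroup p P) (hPM : P ≤ M) (hPc : ¬ IsCyclic P) :
    normalizer (P : Set G) ≤ M := by
  refine normalizer_le_of_centralizer_le hG hM hσ hP (fun h => hPc ?_) hPM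
    (centralizer_le_of_noncyclic hG hσ.2.1 hA hP hPM hPc)
  rw [h]
  exact isCyclic_of_subsingleton

/-- BG 12.15 (a)–(c). -/
theorem sigma_subgroup_embedding {q : ℕ} [hq : Fact q.Prime] (hσ : q ∈ Cfsg.sigma M)
    (hA : ∀ A : Subgroup G, A ≤ M → Cfsg.IsElementaryAbelian q A → Nat.card A = q ^ 2 →
      centralizer (A : Set G) ≤ M)
    {X : Subgroup G} (hXq : IsPGroup q X) (hX1 : X ≠ ⊥) (hXM : X ≤ M) {L : Subgroup G}
    (hne : L ≠ M) (hNX : normalizer (X : Set G) ≤ L) {S : Subgroup G}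
    (hS : IsMaxPIn q (M ⊓ L) S) (hXS : X ≤ S) :
    (∀ g : G, L ≠ M.map (MulAut.conj g).toMonoidHom) ∧ normalizer (S : Set G) ≤ M ∧
      IsMaxPIn q L S := by
  have hSM : S ≤ M := hS.le.trans inf_le_left
  have hSL : S ≤ L := hS.le.trans inf_le_right
  have hN : normalizer (S : Set G) ≤ M := by
    by_cases hc : IsCyclic S
    · haveI := hc
      haveI : (X.subgroupOf S).Characteristic := characteristic_iff_map_eq.2 fun φ =>
        eq_of_card_eq_of_isCyclic (card_map_of_injective φ.injective)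
      have h1 : normalizer (S : Set G) ≤ L := by
        refine le_trans ?_ hNX
        have := normalizer_le_normalizer_map_of_characteristic S (X.subgroupOf S)
        rwa [map_subgroupOf_eq_of_le hXS] at this
      obtain ⟨T, hT, hST⟩ := exists_isMaxPIn_ge hSM hS.pgroup
      have hTS : T = S := by
        refine hST.eq_or_lt.elim Eq.symm fun h => absurd ?_ (lt_inf_normalizer hT.pgroup h).not_ge
        exact (hS.max _ (hT.pgroup.to_le inf_le_left) (le_inf h.le le_normalizer)
          (le_inf (inf_le_left.trans hT.le) (inf_le_right.trans h1))).le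
      obtain ⟨P, hP⟩ := hT.exists_sylow
      have := normalizer_le_of_sigma hσ hT
      rwa [hTS] at this
    · exact normalizer_le_of_noncyclic hG hM hσ hA hS.pgroup hSM hc
  refine ⟨?_, hN, ?_⟩
  · rintro g rfl
    obtain ⟨m, hm, c, hc, hg⟩ := exists_eq_mul_centralizer hG hM hσ hXq hX1 hXM (g := g⁻¹) (by
      rintro _ ⟨x, hx, rfl⟩
      have := (hXS.trans hSL) hx
      rw [mem_map_conj_iff] at this
      simpa [MulAut.conj_apply] using this)
    refine hne ?_
    have hcL := hNX (centralizer_le_normalizer _ hc)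
    have hg' : g = c⁻¹ * m⁻¹ := by rw [← mul_inv_rev, ← hg, inv_inv]
    have hmM : M.map (MulAut.conj m⁻¹).toMonoidHom = M := by
      have h2 : m⁻¹ ∈ normalizer (M : Set G) := le_normalizer (inv_mem hm)
      rw [mem_normalizer_iff_map_conj_eq] at h2
      exact h2
    rw [hg', ← map_conj_map_conj, hmM] at hcL ⊢
    rw [mem_map_conj_iff] at hcL
    have h3 : c⁻¹ ∈ normalizer (M : Set G) := le_normalizer (inv_mem (by simpa using hcL))
    rw [mem_normalizer_iff_map_conj_eq] at h3
    exact h3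
  · obtain ⟨T, hT, hST⟩ := exists_isMaxPIn_ge hSL hS.pgroup
    rcases hST.eq_or_lt with h | h
    · exact h ▸ hT
    · exact absurd (hS.max _ (hT.pgroup.to_le inf_le_left) (le_inf h.le le_normalizer)
        (le_inf (inf_le_right.trans hN) (inf_le_left.trans hT.le))).le
        (lt_inf_normalizer hT.pgroup h).not_ge

/-- BG 10.14 with centralizers: an element of order `p ∈ β(M)` has its centralizer in `U`. -/
theorem centralizer_unique_of_beta {p : ℕ} [hp : Fact p.Prime] (hβ : p ∈ Cfsg.beta M)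
    {X : Subgroup G} (hXM : X ≤ M) (hX : Nat.card X = p) :
    centralizer (X : Set G) ≤ M ∧
      ∀ L : Subgroup G, IsCoatom L → centralizer (X : Set G) ≤ L → L = M := by
  have hXp : IsPGroup p X := IsPGroup.of_card (n := 1) (by rw [hX, pow_one])
  have hXc : IsCyclic X := isCyclic_of_prime_card hX
  have hσ : p ∈ Cfsg.sigma M := alpha_subset_sigma hG hM hβ.1
  obtain ⟨S, hS, hXS⟩ := exists_isMaxPIn_ge hXM hXp
  have hmx := isMaxPIn_top_of_sigma hσ hS
  let P : Sylow p G := ⟨S, hS.pgroup, fun {Q} hQ hle => hmx.max Q hQ hle le_top⟩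
  set T := S ⊓ centralizer (X : Set G) with hT
  have hXT : X ≤ T := le_inf hXS (le_centralizer_iff_isMulCommutative.2 inferInstance)
  have hTU : Cfsg.InUniqueMaximal T := by
    obtain ⟨L, hL, huniq⟩ := inUniqueMaximal_inf_normalizer hG hβ.2 P hXS
    refine inUniqueMaximal_mono ⟨L, hL, huniq⟩ (le_inf inf_le_left ?_) (isPGroup_ne_top hG
      (hS.pgroup.to_le inf_le_left))
    intro g hg
    exact mem_centralizer_of_card_prime hX hg.2 (hS.pgroup.to_le (zpowers_le.2 hg.1))
  have hCt : centralizer (X : Set G) ≠ ⊤ := by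
    intro h
    refine normalizer_ne_top hG (fun h0 => ?_) (isPGroup_ne_top hG hXp)
      (top_le_iff.1 (h ▸ centralizer_le_normalizer _))
    rw [h0, card_bot] at hX
    exact hp.out.ne_one hX.symm
  refine ⟨le_of_inUniqueMaximal hTU hM (inf_le_left.trans hS.le) hCt inf_le_right,
    fun L hL hle => ExistsUnique.unique hTU ⟨hL, inf_le_right.trans hle⟩ ⟨hM, inf_le_left.trans hS.le⟩⟩

end CfsgLib.OddOrder
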