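import Cfsg.Agent.Lib.OddOrder.CentralProductSylow
import Cfsg.Agent.Lib.OddOrder.SigmaEmbedding
import Cfsg.Agent.Lib.Solvable.CoprimeGeneration
import Cfsg.Agent.Lib.OddOrder.RankTwoTower
import Cfsg.Agent.S1412

/-!
BG 12.13: a nonabelian `p`-subgroup lies in a unique maximal subgroup, given 12.4 and 12.5 (b).
-/

set_option autoImplicit false
set_option linter.style.haveILetI false

open scoped commutatorElement

namespace CfsgLib.OddOrder

open Subgroup

variable {G : Type*} [Group G] [Finite G] (hG : Cfsg.IsMinSimpleOddOrder G)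
include hG

/-- If `α(M)` is empty then `M_σ` is nilpotent. -/
theorem isNilpotent_sigmaCore_of_alpha_empty {M : Subgroup G} (hM : IsCoatom M)
    (hα : ∀ q, q ∉ Cfsg.alpha M) : Group.IsNilpotent (Cfsg.sigmaCore M) := by
  haveI := isSolvable_of_ne_top hG hM.1
  have hr : Cfsg.RankLE 2 M := fun q hq => by_contra fun h => hα q ⟨hq, h⟩
  haveI := Solvable.fittingSubgroup_isNilpotent M
  haveI := isNilpotent_of_subgroup_le inferInstance ((piCore_sigma_le_commutator hG hM).trans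
    (commutator_le_fittingSubgroup (odd_card_subgroup hG M) (Or.inl hr)))
  exact Group.nilpotent_of_mulEquiv
    ((Cfsg.piCore (Cfsg.sigma M) M).equivMapOfInjective _ M.subtype_injective)

omit hG in
theorem exists_elementary_sq {p : ℕ} [hp : Fact p.Prime] (hp2 : p ≠ 2) {P : Subgroup G}
    (hP : IsPGroup p P) (hPc : ¬ IsCyclic P) :
    ∃ A : Subgroup G, A ≤ P ∧ Cfsg.IsElementaryAbelian p A ∧ Nat.card A = p ^ 2 := by
  obtain ⟨E, hEP, hEe, hE⟩ :=
    exists_elementary_of_not_pRankLE (not_pRankLE_one_of_not_isCyclic hp2 hP hPc)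
  obtain ⟨n, hn⟩ := (isPGroup_of_exp hEe.2).exists_card_eq
  have hn2 : 2 ≤ n := by
    rw [hn] at hE
    exact (Nat.pow_lt_pow_iff_right hp.out.one_lt).1 hE
  obtain ⟨A₀, hA₀⟩ := Sylow.exists_subgroup_card_pow_prime (G := E) p (n := 2)
    (hn ▸ pow_dvd_pow p hn2)
  have hAE : A₀.map E.subtype ≤ E := map_subtype_le _
  refine ⟨_, hAE.trans hEP, ⟨?_, fun a ha => hEe.2 a (hAE ha)⟩,
    by rw [card_map_of_injective E.subtype_injective, hA₀]⟩
  haveI := hEe.1
  exact map_isMulCommutative A₀ E.subtype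

variable {p : ℕ} [hp : Fact p.Prime]

/-- The case where `N(A ∩ Z(P)) ≤ H`. -/
theorem false_of_normalizer_center_le
    (hA416 : ∀ (L : Subgroup G), IsCoatom L → ∀ A : Subgroup G, A ≤ L →
      Cfsg.IsElementaryAbelian p A → Nat.card A = p ^ 2 →
      (∀ A₀ : Subgroup G, A₀ ≤ A → Nat.card A₀ = p → ¬ (normalizer (A₀ : Set G) ≤ L ∧
        ∀ L' : Subgroup G, IsCoatom L' → normalizer (A₀ : Set G) ≤ L' → L' = L)) →
      Group.IsNilpotent (Cfsg.sigmaCore L))
    {M H : Subgroup G} (hM : IsCoatom M) (hH : IsCoatom H)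
    (hconj : ∀ g : G, M.map (MulAut.conj g).toMonoidHom ≠ H)
    (hpσ : p ∈ Cfsg.sigma M) (hr2 : Cfsg.PRankLE p 2 M) (hpα : p ∉ Cfsg.alpha H)
    (hnil : ¬ Group.IsNilpotent (Cfsg.sigmaCore M)) (hαH : ∃ q, q ∈ Cfsg.alpha H)
    {P A : Subgroup G} (hP : IsPGroup p P) (hPM : P ≤ M) (hPH : P ≤ H)
    (hna : ¬ IsMulCommutative P) (hAP : A ≤ P) (hAe : Cfsg.IsElementaryAbelian p A)
    (hA2 : Nat.card A = p ^ 2)
    (hNH : normalizer ((A ⊓ centralizer (P : Set G) : Subgroup G) : Set G) ≤ H) : False := by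
  have hp2 : p ≠ 2 := prime_ne_two_of_dvd_card hG hpσ.2.1
  have hMH : M ≠ H := fun h => hconj 1 (by rw [map_conj_one, h])
  obtain ⟨S, hS, hPS⟩ := exists_isMaxPIn_ge hPM hP
  have hmx := isMaxPIn_top_of_sigma hpσ hS
  let Q : Sylow p G := ⟨S, hS.pgroup, fun {R} hR hle => hmx.max R hR hle le_top⟩
  obtain ⟨P₁, P₂, hcp⟩ : ∃ P₁ P₂ : Subgroup G, IsCPPair p S P₁ P₂ := by
    rcases Cfsg.Agent.S1412.result hG p Q (TwoFusion.PRank.pRankLE_mono hS.le hr2) with h | h
    · haveI := h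
      exact absurd ⟨⟨fun a b => Subtype.ext (setLike_mul_comm (s := (Q : Subgroup G))
        (hPS a.2) (hPS b.2))⟩⟩ hna
    · obtain ⟨P₁, P₂, h1, h2, h3, h4, h5, h6, h7⟩ := h
      exact ⟨P₁, P₂, h1, h2, h3, h4, h5, h6, h7⟩
  set Z := P₁ ⊓ centralizer (P₁ : Set G) with hZ
  have hAP₁ : A ≤ P₁ := fun a ha => hcp.mem_of_pow (hPS (hAP ha)) (hAe.2 a ha)
  have hZe : ∀ z ∈ Z, z ^ p = 1 := fun z hz => hcp.pow_eq_one hz.1
  have hAmax : ∀ x ∈ centralizer (A : Set G), x ^ p = 1 → x ∈ A := fun x hx hxp =>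
    elementary_maximal hG hM hr2 (hAP.trans hPM) hAe hA2 (elementary_sup_zpowers hAe hx hxp)
      le_sup_left ▸ mem_sup_right (mem_zpowers x)
  have hZA : Z ≤ A := fun z hz =>
    hAmax z (centralizer_le hAP₁ hz.2) (hZe z hz)
  have hA_gen : ∀ b ∈ P₁, b ∉ centralizer (P₁ : Set G) →
      Cfsg.IsElementaryAbelian p (Z ⊔ zpowers b) ∧ Nat.card ↥(Z ⊔ zpowers b) = p ^ 2 ∧
        Z ⊔ zpowers b ≤ S := by
    intro b hb hbZ
    have hZc : Cfsg.IsElementaryAbelian p Z := by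
      haveI := hAe.1
      exact ⟨⟨⟨fun a b => Subtype.ext (setLike_mul_comm (hZA a.2) (hZA b.2))⟩⟩, hZe⟩
    have he := elementary_sup_zpowers hZc (fun z hz => (mem_centralizer_iff.1 hz.2 b hb).symm)
      (hcp.pow_eq_one hb)
    refine ⟨he, ?_, sup_le (inf_le_left.trans hcp.le) (zpowers_le.2 (hcp.le hb))⟩
    obtain ⟨n, hn⟩ := (isPGroup_of_exp he.2).exists_card_eq
    have h1 : p < Nat.card ↥(Z ⊔ zpowers b) := lt_of_le_of_ne
      (hcp.card_center ▸ card_le_of_le le_sup_left) fun e => hbZ (((eq_of_le_of_card_ge le_sup_left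
        (e ▸ hcp.card_center.ge)).symm ▸ mem_sup_right (mem_zpowers b) : b ∈ Z)).2
    have h2 : Nat.card ↥(Z ⊔ zpowers b) ≤ p ^ 2 :=
      TwoFusion.PRank.pRankLE_mono
        ((sup_le (inf_le_left.trans hcp.le) (zpowers_le.2 (hcp.le hb))).trans hS.le) hr2
        ⊤ (by haveI := he.1; infer_instance) (fun a _ => Subtype.ext (he.2 _ a.2))
        |>.trans' (by rw [card_top])
    rw [hn] at h1 h2 ⊢
    have h3 : 1 < n := (Nat.pow_lt_pow_iff_right hp.out.one_lt).1 (by rwa [pow_one])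
    have h4 : n ≤ 2 := (Nat.pow_le_pow_iff_right hp.out.one_lt).1 h2
    rw [show n = 2 by omega]
  obtain ⟨b, hbA, hbZ⟩ : ∃ b ∈ A, b ∉ centralizer (P₁ : Set G) := by
    by_contra h
    push Not at h
    have := card_le_of_le (show A ≤ Z from fun a ha => ⟨hAP₁ ha, h a ha⟩)
    rw [hcp.card_center, hA2] at this
    have := hp.out.two_le
    nlinarith
  have hZP : A ⊓ centralizer (P : Set G) = Z := by
    refine le_antisymm (fun a ha => ⟨hAP₁ ha.1, ?_⟩) (le_inf hZA fun z hz =>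
      centralizer_le hPS (hcp.central hz))
    by_contra hac
    exact hna ⟨⟨fun x y => Subtype.ext (hcp.commute_of_centralizer (hAP₁ ha.1) hac (hPS x.2)
      (mem_centralizer_iff.1 ha.2 x x.2) (hPS y.2) (mem_centralizer_iff.1 ha.2 y y.2))⟩⟩
  rw [hZP] at hNH
  have hSH : S ≤ H := by
    refine le_trans (fun s hs => centralizer_le_normalizer _ ?_) hNH
    exact fun z hz => (mem_centralizer_iff.1 (hcp.central hz) s hs).symm
  -- every noncentral element of `P₁` has its centralizer in `M`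
  have hCb : ∀ c ∈ P₁, c ∉ centralizer (P₁ : Set G) → centralizer ({c} : Set G) ≤ M := by
    intro c hc hcZ
    obtain ⟨he, h2, hle⟩ := hA_gen c hc hcZ
    obtain ⟨B, hB, hBc, hBM, hBu⟩ : ∃ B : Subgroup G, B ≤ Z ⊔ zpowers c ∧ Nat.card B = p ∧
        normalizer (B : Set G) ≤ M ∧
        ∀ L' : Subgroup G, IsCoatom L' → normalizer (B : Set G) ≤ L' → L' = M := by
      by_contra hno
      push Not at hno
      refine hnil (hA416 M hM _ (hle.trans hS.le) he h2 fun B hB hBc hh => ?_)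
      obtain ⟨L', hL', hle', hne⟩ := hno B hB hBc hh.1
      exact hne (hh.2 L' hL' hle')
    have hBZ : B ≠ Z := fun e => hMH (hBu H hH (e ▸ hNH)).symm
    obtain ⟨x, hx, hxc⟩ : ∃ x ∈ P₁, x * c ≠ c * x := by
      by_contra h
      push Not at h
      exact hcZ fun a ha => h a ha
    obtain ⟨j, hj⟩ := hcp.line_conj hc (hcp.le hx) hxc (hB.trans (sup_comm _ _).le) hBc hBZ
    intro y hy
    have hxM : x ^ j ∈ M := M.pow_mem (hS.le (hcp.le hx)) j
    have h1 : x ^ j * y * (x ^ j)⁻¹ ∈ normalizer (B : Set G) := by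
      refine centralizer_le_normalizer _ ?_
      rw [hj]
      rintro _ ⟨w, hw, rfl⟩
      obtain ⟨i, rfl⟩ := mem_zpowers_iff.1 hw
      show (x ^ j * c ^ i * (x ^ j)⁻¹) * (x ^ j * y * (x ^ j)⁻¹) =
        (x ^ j * y * (x ^ j)⁻¹) * (x ^ j * c ^ i * (x ^ j)⁻¹)
      have h2 : Commute y c := mem_centralizer_singleton_iff.1 hy
      calc (x ^ j * c ^ i * (x ^ j)⁻¹) * (x ^ j * y * (x ^ j)⁻¹)
          = x ^ j * (c ^ i * y) * (x ^ j)⁻¹ := by group
        _ = x ^ j * (y * c ^ i) * (x ^ j)⁻¹ := by rw [(h2.zpow_right i).eq]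
        _ = _ := by group
    have h2 := M.mul_mem (M.mul_mem (M.inv_mem hxM) (hBM h1)) hxM
    rwa [show (x ^ j)⁻¹ * (x ^ j * y * (x ^ j)⁻¹) * x ^ j = y by group] at h2
  set K := Cfsg.alphaCore H with hK
  have hHK : H ≤ normalizer (K : Set G) := le_normalizer_piCoreOf _ _
  have hSσ : S ≤ Cfsg.sigmaCore M := by
    obtain ⟨T, hT⟩ := hS.exists_sylow
    rw [← hT]
    exact map_mono (sylow_le_sigmaCore hG hM hpσ T)
  have hKb : ∀ c ∈ P₁, c ∉ centralizer (P₁ : Set G) →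
      K ⊓ centralizer ({c} : Set G) ≤ centralizer (S : Set G) := by
    intro c hc hcZ k hk s hs
    have hkM : k ∈ M := hCb c hc hcZ hk.2
    have h1 : ⁅k, s⁆ ∈ K := by
      have : k * (s * k⁻¹ * s⁻¹) ∈ K :=
        K.mul_mem hk.1 ((mem_normalizer_iff.1 (hHK (hSH hs)) _).1 (K.inv_mem hk.1))
      rw [commutatorElement_def]
      simpa [mul_assoc] using this
    have h2 : ⁅k, s⁆ ∈ Cfsg.sigmaCore M := by
      rw [commutatorElement_def]
      exact (Cfsg.sigmaCore M).mul_mem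
        ((mem_normalizer_iff.1 (le_normalizer_piCoreOf _ _ hkM) _).1 (hSσ hs))
        ((Cfsg.sigmaCore M).inv_mem (hSσ hs))
    have h3 : ⁅k, s⁆ ∈ K ⊓ Cfsg.sigmaCore M := ⟨h1, h2⟩
    rw [hK, alphaCore_inf_sigmaCore hG hH hM hconj, mem_bot] at h3
    exact (commutatorElement_eq_one_iff_mul_comm.1 h3).symm
  have hcop : ∀ X : Subgroup G, IsPGroup p X → (Nat.card X).Coprime (Nat.card K) := by
    intro X hX
    obtain ⟨n, hn⟩ := hX.exists_card_eq
    rw [hn]
    exact Nat.Coprime.pow_left n (hp.out.coprime_iff_not_dvd.2 fun hd =>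
      hpα (piCoreOf_isPiSubgroup _ H p hp.out hd))
  have hKz : ∀ z ∈ Z, K ≤ centralizer ({z} : Set G) := by
    intro z hz
    by_cases hz1 : z = 1
    · subst hz1
      exact fun k _ => mem_centralizer_singleton_iff.2 (by simp)
    haveI := hAe.1
    refine Solvable.le_of_centralizer_le (A := A) (elementary_not_isCyclic hAe
      (hA2 ▸ (pow_one p).symm.trans_lt (Nat.pow_lt_pow_right hp.out.one_lt one_lt_two)))
      ((hAP.trans hPH).trans hHK) (hcop A (hP.to_le hAP)) fun a ha ha1 => ?_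
    by_cases haZ : a ∈ centralizer (P₁ : Set G)
    · intro k hk
      refine mem_centralizer_singleton_iff.2 ?_
      obtain ⟨i, hi⟩ := mem_zpowers_iff.1 ((eq_of_le_of_card_ge (zpowers_le.2 (⟨hAP₁ ha, haZ⟩ : a ∈ Z))
        (by rw [Nat.card_zpowers, orderOf_eq_prime (hAe.2 a ha) ha1]; exact hcp.card_center.le)).ge hz)
      rw [← hi]
      exact ((show Commute k a from mem_centralizer_singleton_iff.1 hk.2).zpow_right i).eq
    · intro k hk
      exact mem_centralizer_singleton_iff.2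
        (mem_centralizer_iff.1 (hKb a (hAP₁ ha) haZ hk) z (hcp.le hz.1)).symm
  -- `P₁` acts on `K` through an elementary group of order `p²`
  obtain ⟨x, hx, hxb⟩ : ∃ x ∈ P₁, x * b ≠ b * x := by
    by_contra h
    push Not at h
    exact hbZ fun a ha => h a ha
  set Cz := centralizer (Z : Set G) with hCz
  have hKC : K ≤ Cz := fun k hk z hz => (mem_centralizer_singleton_iff.1 (hKz z hz hk)).symm
  have hP₁C : P₁ ≤ Cz := fun a ha z hz => (mem_centralizer_iff.1 hz.2 a ha).symm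
  haveI : (Z.subgroupOf Cz).Normal :=
    normal_subgroupOf_of_le_normalizer (centralizer_le_normalizer _)
  set π := QuotientGroup.mk' (Z.subgroupOf Cz)
  set K' := (K.subgroupOf Cz).map π
  set W' := ((K ⊓ centralizer (S : Set G)).subgroupOf Cz).map π
  let u : Cz := ⟨x, hP₁C hx⟩
  let v : Cz := ⟨b, hP₁C (hAP₁ hbA)⟩
  have hnorm : ∀ w : Cz, (w : G) ∈ P₁ → π w ∈ normalizer (K' : Set (Cz ⧸ Z.subgroupOf Cz)) := by
    intro w hw
    exact le_normalizer_map π (mem_map_of_mem π (subgroupOf_le_normalizer (X := Cz)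
      (show zpowers (w : G) ≤ normalizer (K : Set G) from zpowers_le.2 (hHK (hSH (hcp.le hw))))
      (mem_subgroupOf.2 (mem_zpowers (w : G)))))
  have hfix : ∀ w : Cz, (w : G) ∈ P₁ → (w : G) ∉ centralizer (P₁ : Set G) →
      K' ⊓ centralizer ({π w} : Set (Cz ⧸ Z.subgroupOf Cz)) ≤ W' := by
    rintro w hw hwZ _ ⟨⟨k, hk, rfl⟩, hc⟩
    refine mem_map_of_mem π (mem_subgroupOf.2 ?_)
    have hk' : (k : G) ∈ K := mem_subgroupOf.1 hk
    have h1 : ⁅(k : G), (w : G)⁆ ∈ Z := by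
      have h : π ⁅k, w⁆ = 1 := by
        rw [map_commutatorElement, commutatorElement_eq_one_iff_mul_comm]
        exact mem_centralizer_singleton_iff.1 hc
      exact mem_subgroupOf.1 ((QuotientGroup.eq_one_iff _).1 h)
    have h2 : ⁅(k : G), (w : G)⁆ ∈ K := by
      have : (k : G) * (w * (k : G)⁻¹ * (w : G)⁻¹) ∈ K :=
        K.mul_mem hk' ((mem_normalizer_iff.1 (hHK (hSH (hcp.le hw))) _).1 (K.inv_mem hk'))
      rw [commutatorElement_def]
      simpa [mul_assoc] using this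
    have h3 : ⁅(k : G), (w : G)⁆ ∈ Z ⊓ K := ⟨h1, h2⟩
    rw [disjoint_iff.1 (disjoint_of_coprime_natCard (hcop Z ((IsPGroup.of_card hcp.card).to_le inf_le_left))), mem_bot] at h3
    exact ⟨hk', hKb w hw hwZ ⟨hk', mem_centralizer_singleton_iff.2
      (commutatorElement_eq_one_iff_mul_comm.1 h3)⟩⟩
  have hKS : K ≤ centralizer (S : Set G) := by
    have hone : ∀ w : Cz, (w : G) ∈ P₁ → (π w) ^ p = 1 := fun w hw => by
      rw [← map_pow, show w ^ p = 1 from Subtype.ext (hcp.pow_eq_one hw), map_one]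
    have hle : K' ≤ W' := by
      refine Solvable.le_of_lines_centralizer_le (r := p) (a := π u) (b := π v) ?_ (hnorm u hx)
        (hnorm v (hAP₁ hbA)) ?_ (by rw [hone u hx]; exact one_mem _)
        (by rw [hone v (hAP₁ hbA)]; exact one_mem _) (fun i => ?_) (hfix v (hAP₁ hbA) hbZ)
      · rw [commute_iff_eq, ← commutatorElement_eq_one_iff_mul_comm, ← map_commutatorElement]
        exact (QuotientGroup.eq_one_iff _).2 (mem_subgroupOf.2 (hcp.commutator_mem hx (hAP₁ hbA)))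
      · intro hd
        have h1 : p ∣ Nat.card (K.subgroupOf Cz) := hd.trans (card_map_dvd _ _)
        rw [Nat.card_congr (subgroupOfEquivOfLe hKC).toEquiv] at h1
        exact hpα (piCoreOf_isPiSubgroup _ H p hp.out h1)
      · rw [← map_pow, ← map_mul]
        refine hfix (u * v ^ i) (P₁.mul_mem hx (P₁.pow_mem (hAP₁ hbA) i)) fun hc => hxb ?_
        have h1 : Commute (x * b ^ i) b :=
          (mem_centralizer_iff.1 hc b (hAP₁ hbA)).symm
        have h2 : Commute ((b ^ i)⁻¹) b := ((Commute.refl b).pow_left i).inv_left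
        have h3 := h1.mul_left h2
        rwa [mul_inv_cancel_right] at h3
    intro k hk
    obtain ⟨w, hw, hwk⟩ := hle (mem_map_of_mem π (mem_subgroupOf.2 hk : (⟨k, hKC hk⟩ : Cz) ∈ _))
    have h1 : (w : G)⁻¹ * k ∈ Z := mem_subgroupOf.1 (QuotientGroup.eq.1 hwk)
    have hw' : (w : G) ∈ K ⊓ centralizer (S : Set G) := mem_subgroupOf.1 hw
    have h2 : (w : G)⁻¹ * k ∈ Z ⊓ K := ⟨h1, K.mul_mem (K.inv_mem hw'.1) hk⟩
    rw [disjoint_iff.1 (disjoint_of_coprime_natCard (hcop Z ((IsPGroup.of_card hcp.card).to_le inf_le_left))), mem_bot,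
      inv_mul_eq_one] at h2
    exact h2 ▸ hw'.2
  obtain ⟨q, hq⟩ := hαH
  haveI := Fact.mk hq.1
  obtain ⟨E, hEH, hEe, hE⟩ := exists_elementary_of_not_pRankLE hq.2
  obtain ⟨T, hT⟩ :=
    ((isPGroup_of_exp hEe.2).of_equiv (subgroupOfEquivOfLe hEH).symm).exists_le_sylow
  have hEK : E ≤ K := by
    rw [← map_subgroupOf_eq_of_le hEH]
    exact map_mono (hT.trans (sylow_le_alphaCore hG hH hq T))
  obtain ⟨L, -, huniq⟩ := uniqueness_theorem hG (isPGroup_ne_top hG (isPGroup_of_exp hAe.2))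
    (not_rankLE_of_not_pRankLE (not_pRankLE_of_elementary le_rfl hAe
      (hA2 ▸ Nat.pow_lt_pow_right hp.out.one_lt one_lt_two)))
    (Or.inr (not_rankLE_of_not_pRankLE (not_pRankLE_of_elementary
      ((hEK.trans hKS).trans (centralizer_le (hAP.trans hPS))) hEe hE)))
  exact hMH ((huniq M ⟨hM, hAP.trans hPM⟩).trans (huniq H ⟨hH, hAP.trans hPH⟩).symm)

/-- BG 12.13. -/
theorem nonabelian_unique
    (hτ : ∀ (L : Subgroup G), IsCoatom L → p ∈ Cfsg.tau2 L → ∀ T : Sylow p L,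
      IsMulCommutative (T : Subgroup L))
    (hC : ∀ (L : Subgroup G), IsCoatom L → ∀ A : Subgroup G, A ≤ L →
      Cfsg.IsElementaryAbelian p A → Nat.card A = p ^ 2 → centralizer (A : Set G) ≤ L)
    (hA416 : ∀ (L : Subgroup G), IsCoatom L → ∀ A : Subgroup G, A ≤ L →
      Cfsg.IsElementaryAbelian p A → Nat.card A = p ^ 2 →
      (∀ A₀ : Subgroup G, A₀ ≤ A → Nat.card A₀ = p → ¬ (normalizer (A₀ : Set G) ≤ L ∧
        ∀ L' : Subgroup G, IsCoatom L' → normalizer (A₀ : Set G) ≤ L' → L' = L)) →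
      Group.IsNilpotent (Cfsg.sigmaCore L))
    {P : Subgroup G} (hP : IsPGroup p P) (hna : ¬ IsMulCommutative P) :
    Cfsg.InUniqueMaximal P := by
  have hPc : ¬ IsCyclic P := fun h => hna (by
    letI := IsCyclic.commGroup (α := P)
    exact ⟨⟨mul_comm⟩⟩)
  have hpP : p ∣ Nat.card P := by
    obtain ⟨n, hn⟩ := hP.exists_card_eq
    rcases n with _ | n
    · refine absurd ?_ hPc
      rw [card_eq_one.1 (hn.trans (pow_zero p))]
      exact isCyclic_of_subsingleton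
    · exact hn ▸ dvd_pow_self p n.succ_ne_zero
  have hp2 : p ≠ 2 := prime_ne_two_of_dvd_card hG hpP
  have hσ : ∀ L : Subgroup G, IsCoatom L → P ≤ L → p ∈ Cfsg.sigma L := by
    intro L hL hPL
    by_contra hσ
    have hr2 : Cfsg.PRankLE p 2 L := by
      by_contra h
      exact hσ (alpha_subset_sigma hG hL ⟨hp.out, h⟩)
    have hr1 : ¬ Cfsg.PRankLE p 1 L := fun h =>
      not_pRankLE_one_of_not_isCyclic hp2 hP hPc (TwoFusion.PRank.pRankLE_mono hPL h)
    obtain ⟨T, hT⟩ := (hP.of_equiv (subgroupOfEquivOfLe hPL).symm).exists_le_sylow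
    haveI := hτ L hL ⟨hp.out, hσ, hr2, hr1⟩ T
    refine hna ⟨⟨fun a b => ?_⟩⟩
    have h := setLike_mul_comm (s := (T : Subgroup L))
      (hT (mem_subgroupOf.2 a.2 : (⟨a, hPL a.2⟩ : L) ∈ P.subgroupOf L))
      (hT (mem_subgroupOf.2 b.2 : (⟨b, hPL b.2⟩ : L) ∈ P.subgroupOf L))
    exact Subtype.ext (congrArg Subtype.val h :)
  obtain ⟨M, hM, hPM⟩ := exists_isCoatom_ge (isPGroup_ne_top hG hP)
  refine ⟨M, ⟨hM, hPM⟩, fun H ⟨hH, hPH⟩ => ?_⟩
  by_contra hne
  have hP1 : P ≠ ⊥ := fun h => hPc (by rw [h]; exact isCyclic_of_subsingleton)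
  have hconj : ∀ g : G, M.map (MulAut.conj g).toMonoidHom ≠ H := by
    rintro g rfl
    refine hne ?_
    have h1 : g⁻¹ ∈ M := mem_of_conj_le hG hM (hσ M hM hPM) hP hP1 hPM
      (centralizer_le_of_noncyclic hG (hσ M hM hPM).2.1 (hC M hM) hP hPM hPc) (g := g⁻¹) (by
        rintro _ ⟨x, hx, rfl⟩
        have := hPH hx
        rw [mem_map_conj_iff] at this
        simpa [MulAut.conj_apply] using this)
    have h2 : g ∈ normalizer (M : Set G) := le_normalizer (by simpa using M.inv_mem h1)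
    rw [mem_normalizer_iff_map_conj_eq] at h2
    exact h2
  have hconj' : ∀ g : G, H.map (MulAut.conj g).toMonoidHom ≠ M := fun g e =>
    hconj g⁻¹ (by rw [← e, map_conj_map_conj, inv_mul_cancel, map_conj_one])
  have hαM : p ∉ Cfsg.alpha M := fun h => not_mem_sigma_of_alpha hG hM hH hconj' h (hσ H hH hPH)
  have hαH : p ∉ Cfsg.alpha H := fun h => not_mem_sigma_of_alpha hG hH hM hconj h (hσ M hM hPM)
  have hrM : Cfsg.PRankLE p 2 M := by_contra fun h => hαM ⟨hp.out, h⟩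
  have hrH : Cfsg.PRankLE p 2 H := by_contra fun h => hαH ⟨hp.out, h⟩
  have hnM : ¬ Group.IsNilpotent (Cfsg.sigmaCore M) := fun h =>
    sigma_disjoint_of_nilpotent hG hM hH hconj' h (hσ M hM hPM) (hσ H hH hPH)
  have hnH : ¬ Group.IsNilpotent (Cfsg.sigmaCore H) := fun h =>
    sigma_disjoint_of_nilpotent hG hH hM hconj h (hσ H hH hPH) (hσ M hM hPM)
  have hnem : ∀ L : Subgroup G, IsCoatom L → ¬ Group.IsNilpotent (Cfsg.sigmaCore L) →
      ∃ q, q ∈ Cfsg.alpha L := fun L hL hn => by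
    by_contra h
    push Not at h
    exact hn (isNilpotent_sigmaCore_of_alpha_empty hG hL h)
  obtain ⟨A, hAP, hAe, hA2⟩ := exists_elementary_sq hp2 hP hPc
  set Z := A ⊓ centralizer (P : Set G) with hZ
  have hline : ∀ L : Subgroup G, IsCoatom L → P ≤ L → ¬ Group.IsNilpotent (Cfsg.sigmaCore L) →
      ∃ B : Subgroup G, B ≤ A ∧ Nat.card B = p ∧ normalizer (B : Set G) ≤ L ∧
        ∀ L' : Subgroup G, IsCoatom L' → normalizer (B : Set G) ≤ L' → L' = L := by
    intro L hL hPL hn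
    by_contra hno
    push Not at hno
    refine hn (hA416 L hL A (hAP.trans hPL) hAe hA2 fun B hB hBc hh => ?_)
    obtain ⟨L', hL', hle', hne'⟩ := hno B hB hBc hh.1
    exact hne' (hh.2 L' hL' hle')
  obtain ⟨B₁, hB₁A, hB₁c, hB₁M, hB₁u⟩ := hline M hM hPM hnM
  obtain ⟨B₂, hB₂A, hB₂c, hB₂H, -⟩ := hline H hH hPH hnH
  by_cases h1 : B₁ = Z
  · exact false_of_normalizer_center_le hG hA416 hH hM hconj' (hσ H hH hPH) hrH hαM hnH
      (hnem M hM hnM) hP hPH hPM hna hAP hAe hA2 (by rw [← hZ, ← h1]; exact hB₁M)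
  by_cases h2 : B₂ = Z
  · exact false_of_normalizer_center_le hG hA416 hM hH hconj (hσ M hM hPM) hrM hαH hnM
      (hnem H hH hnH) hP hPM hPH hna hAP hAe hA2 (by rw [← hZ, ← h2]; exact hB₂H)
  -- both lines are noncentral, hence conjugate in `P`
  obtain ⟨S, hS, hPS⟩ := exists_isMaxPIn_ge hPM hP
  have hmx := isMaxPIn_top_of_sigma (hσ M hM hPM) hS
  let Q : Sylow p G := ⟨S, hS.pgroup, fun {R} hR hle => hmx.max R hR hle le_top⟩
  obtain ⟨P₁, P₂, hcp⟩ : ∃ P₁ P₂ : Subgroup G, IsCPPair p S P₁ P₂ := by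
    rcases Cfsg.Agent.S1412.result hG p Q (TwoFusion.PRank.pRankLE_mono hS.le hrM) with h | h
    · haveI := h
      exact absurd ⟨⟨fun a b => Subtype.ext (setLike_mul_comm (s := (Q : Subgroup G))
        (hPS a.2) (hPS b.2))⟩⟩ hna
    · obtain ⟨P₁, P₂, e1, e2, e3, e4, e5, e6, e7⟩ := h
      exact ⟨P₁, P₂, e1, e2, e3, e4, e5, e6, e7⟩
  set Z' := P₁ ⊓ centralizer (P₁ : Set G) with hZ'
  have hAP₁ : A ≤ P₁ := fun a ha => hcp.mem_of_pow (hPS (hAP ha)) (hAe.2 a ha)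
  have hAmax : ∀ x ∈ centralizer (A : Set G), x ^ p = 1 → x ∈ A := fun x hx hxp =>
    elementary_maximal hG hM hrM (hAP.trans hPM) hAe hA2 (elementary_sup_zpowers hAe hx hxp)
      le_sup_left ▸ mem_sup_right (mem_zpowers x)
  have hZA : Z' ≤ A := fun z hz => hAmax z (centralizer_le hAP₁ hz.2) (hcp.pow_eq_one hz.1)
  have hZZ : Z = Z' := by
    refine le_antisymm (fun a ha => ⟨hAP₁ ha.1, ?_⟩) (le_inf hZA fun z hz =>
      centralizer_le hPS (hcp.central hz))
    by_contra hac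
    exact hna ⟨⟨fun x y => Subtype.ext (hcp.commute_of_centralizer (hAP₁ ha.1) hac (hPS x.2)
      (mem_centralizer_iff.1 ha.2 x x.2) (hPS y.2) (mem_centralizer_iff.1 ha.2 y y.2))⟩⟩
  obtain ⟨b, hbA, hbZ⟩ : ∃ b ∈ A, b ∉ Z := by
    by_contra h
    push Not at h
    have := card_le_of_le (h : A ≤ Z)
    rw [hZZ, hcp.card_center, hA2] at this
    have := hp.out.two_le
    nlinarith
  obtain ⟨x, hxP, hxb⟩ : ∃ x ∈ P, x * b ≠ b * x := by
    by_contra h
    push Not at h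
    exact hbZ ⟨hbA, fun y hy => h y hy⟩
  have hAeq : zpowers b ⊔ Z' = A := by
    obtain ⟨n, hn⟩ := ((isPGroup_of_exp hAe.2).to_le
      (sup_le (zpowers_le.2 hbA) hZA)).exists_card_eq
    refine eq_of_le_of_card_ge (sup_le (zpowers_le.2 hbA) hZA) ?_
    have h3 : p < Nat.card ↥(zpowers b ⊔ Z') := lt_of_le_of_ne
      (hcp.card_center ▸ card_le_of_le le_sup_right) fun e => hbZ (hZZ ▸
        (eq_of_le_of_card_ge le_sup_right (e ▸ hcp.card_center.ge)).symm ▸
          mem_sup_left (mem_zpowers b))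
    rw [hn] at h3 ⊢
    rw [hA2]
    exact Nat.pow_le_pow_right hp.out.pos
      ((Nat.pow_lt_pow_iff_right hp.out.one_lt).1 (by rwa [pow_one] : p ^ 1 < p ^ n))
  obtain ⟨i, hi⟩ := hcp.line_conj (hAP₁ hbA) (hPS hxP) hxb (hAeq ▸ hB₁A) hB₁c (fun e => h1 (e.trans hZZ.symm))
  obtain ⟨j, hj⟩ := hcp.line_conj (hAP₁ hbA) (hPS hxP) hxb (hAeq ▸ hB₂A) hB₂c (fun e => h2 (e.trans hZZ.symm))
  have hyP : x ^ i * (x ^ j)⁻¹ ∈ P := P.mul_mem (P.pow_mem hxP i) (P.inv_mem (P.pow_mem hxP j))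
  have hB : B₁ = B₂.map (MulAut.conj (x ^ i * (x ^ j)⁻¹)).toMonoidHom := by
    rw [hi, hj, map_conj_map_conj, inv_mul_cancel_right]
  refine hne (hB₁u H hH ?_)
  rw [hB, ← map_equiv_normalizer_eq]
  refine (map_mono hB₂H).trans (le_of_eq ?_)
  have h3 : x ^ i * (x ^ j)⁻¹ ∈ normalizer (H : Set G) := le_normalizer (hPH hyP)
  rw [mem_normalizer_iff_map_conj_eq] at h3
  exact h3

end CfsgLib.OddOrder
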