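import Cfsg.Agent.Lib.OddOrder.SigmaEmbedding
import Cfsg.Agent.Lib.OddOrder.Exceptional
import Cfsg.Agent.Lib.OddOrder.NonabelianUnique
import Cfsg.Agent.Lib.Solvable.Hall

/-!
BG 12.15 (d) and 12.16, given 12.4 and 12.5.
-/

set_option autoImplicit false
set_option linter.style.haveILetI false

open scoped Pointwise

namespace CfsgLib.OddOrder

open Subgroup

variable {G : Type*} [Group G] [Finite G] (hG : Cfsg.IsMinSimpleOddOrder G) {M : Subgroup G}
  (hM : IsCoatom M)
include hG hM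

/-- A `σ(M)`-subgroup of `M` lies in `M_σ`. -/
theorem le_sigmaCore_of_piSubgroup {Y : Subgroup G} (hY : Cfsg.IsPiSubgroup (Cfsg.sigma M) Y)
    (hYM : Y ≤ M) : Y ≤ Cfsg.sigmaCore M := by
  obtain ⟨h1, -⟩ := hall_of_subset hG hM (π := Cfsg.sigma M) subset_rfl
    fun p _ S hp => sylow_le_sigmaCore hG hM hp S
  intro y hy
  set N := (Cfsg.sigmaCore M).subgroupOf M
  haveI : N.Normal := normal_subgroupOf_of_le_normalizer (le_normalizer_piCoreOf _ _)
  have hco : N.index.Coprime (orderOf (⟨y, hYM hy⟩ : M)) := by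
    rw [Subgroup.orderOf_mk]
    exact Nat.coprime_of_dvd fun s hs hd h2 =>
      h1.2.2 s hs (hY s hs (h2.trans (orderOf_dvd_card_of_mem hy))) hd
  obtain ⟨k, hk⟩ := exists_pow_eq_self_of_coprime hco
  exact mem_subgroupOf.1 (hk ▸ N.pow_mem (N.pow_index_mem _) k)

/-- BG 12.15 (d): a non-conjugate overgroup `L` of `N(X)` is a product of a normal `σ(M)'`-subgroup
and `M ∩ L`. -/
theorem exists_sigma'_supplement {q : ℕ} [hq : Fact q.Prime] (hσ : q ∈ Cfsg.sigma M)
    (hA : ∀ A : Subgroup G, A ≤ M → Cfsg.IsElementaryAbelian q A → Nat.card A = q ^ 2 →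
      centralizer (A : Set G) ≤ M)
    (hτ : ∀ (L : Subgroup G), IsCoatom L → q ∈ Cfsg.tau2 L → ∀ A : Subgroup G, A ≤ L →
      Cfsg.IsElementaryAbelian q A → Nat.card A = q ^ 2 → Group.IsNilpotent (Cfsg.sigmaCore L) ∧
        L ≤ normalizer ((Cfsg.sigmaCore L ⊔ A : Subgroup G) : Set G))
    {X : Subgroup G} (hXq : IsPGroup q X) (hX1 : X ≠ ⊥) (hXM : X ≤ M) {L : Subgroup G}
    (hL : IsCoatom L) (hne : L ≠ M) (hNX : normalizer (X : Set G) ≤ L) :
    ∃ K : Subgroup G, L ≤ normalizer (K : Set G) ∧ K ≤ L ∧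
      (∀ s : ℕ, s.Prime → s ∣ Nat.card K → s ∉ Cfsg.sigma M) ∧ L ≤ K ⊔ (M ⊓ L) ∧
      (K = Cfsg.piCoreOf (Cfsg.beta L) L ∨ (K = Cfsg.sigmaCore L ∧ q ∈ Cfsg.tau2 L ∧
        ∃ A : Subgroup G, A ≤ M ∧ A ≤ L ∧ Cfsg.IsElementaryAbelian q A ∧ Nat.card A = q ^ 2)) := by
  obtain ⟨S, hS, hXS⟩ := exists_isMaxPIn_ge (le_inf hXM (le_normalizer.trans hNX)) hXq
  obtain ⟨hconj, hNS, hSL⟩ := sigma_subgroup_embedding hG hM hσ hA hXq hX1 hXM hne hNX hS hXS
  have hSM : S ≤ M := hS.le.trans inf_le_left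
  have hconjM : ∀ g : G, L.map (MulAut.conj g).toMonoidHom ≠ M := fun g e => hconj g⁻¹
    (by rw [← e, map_conj_map_conj, inv_mul_cancel, map_conj_one])
  have hconjL : ∀ g : G, M.map (MulAut.conj g).toMonoidHom ≠ L := fun g e => hconj g e.symm
  have hXt : X ≠ ⊤ := isPGroup_ne_top hG hXq
  haveI := isSolvable_of_ne_top hG hL.1
  by_cases hqL : q ∈ Cfsg.sigma L
  · set K := Cfsg.piCoreOf (Cfsg.beta L) L
    refine ⟨K, le_normalizer_piCoreOf _ _, piCoreOf_le _ _, fun s hs hd hsM => ?_, ?_, Or.inl rfl⟩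
    · exact not_mem_sigma_of_alpha hG hL hM hconjL (piCoreOf_isPiSubgroup _ L s hs hd).1 hsM
    set N := Cfsg.piCore (Cfsg.beta L) L with hN
    haveI : N.Normal := inferInstance
    set π := QuotientGroup.mk' N
    set D := commutator L
    set Kd := Cfsg.piCore (Cfsg.beta L) D
    haveI : Kd.Characteristic := piCore_characteristic _ D
    have hKdN : Kd.map D.subtype ≤ N := le_piCore inferInstance
      (IsPiSubgroup.map (piCore_isPiSubgroup _ D) _)
    haveI := (piCore_beta_facts hG hL).2.2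
    let φ : ↥D →* ↥(D.map π) := π.subgroupMap D
    have hφ : Kd ≤ φ.ker := fun d hd => MonoidHom.mem_ker.2 (Subtype.ext
      ((QuotientGroup.eq_one_iff (d : L)).2 (hKdN (mem_map_of_mem D.subtype hd))))
    haveI hDn : Group.IsNilpotent ↥(D.map π) :=
      Group.nilpotent_of_surjective (QuotientGroup.lift Kd φ hφ)
        (QuotientGroup.lift_surjective_of_surjective _ _ (π.subgroupMap_surjective D) hφ)
    obtain ⟨T, hT⟩ := hSL.exists_sylow
    have hTD : (T : Subgroup L) ≤ D := (sylow_le_sigmaCore hG hL hqL T).trans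
      (piCore_sigma_le_commutator hG hL)
    let Tq := T.mapSurjective (QuotientGroup.mk'_surjective N)
    have hTqD : (Tq : Subgroup (L ⧸ N)) ≤ D.map π := by
      rw [Sylow.coe_mapSurjective]; exact map_mono hTD
    let U := Tq.subtype hTqD
    haveI hUn : (U : Subgroup ↥(D.map π)).Normal :=
      ((Group.isNilpotent_of_finite_tfae (G := ↥(D.map π))).out 0 3 rfl rfl).mp hDn q ‹_› U
    haveI : (U : Subgroup ↥(D.map π)).Characteristic := Sylow.characteristic_of_normal U hUn
    haveI : (D.map π).Normal := (inferInstance : D.Normal).map π (QuotientGroup.mk'_surjective N)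
    haveI hTqn : (Tq : Subgroup (L ⧸ N)).Normal := by
      have h := (inferInstance : ((U : Subgroup ↥(D.map π)).map (D.map π).subtype).Normal)
      rwa [Sylow.coe_subtype, subgroupOf_map_subtype, inf_eq_left.2 hTqD] at h
    set W := (Tq : Subgroup (L ⧸ N)).comap π
    have hTW : (T : Subgroup L) ≤ W := fun x hx => by
      show π x ∈ (Tq : Subgroup (L ⧸ N))
      rw [Sylow.coe_mapSurjective]
      exact mem_map_of_mem π hx
    have hWeq : W ≤ normalizer ((T : Subgroup L) : Set L) ⊔ N := by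
      show (Tq : Subgroup (L ⧸ N)).comap π ≤ _
      rw [Sylow.coe_mapSurjective, comap_map_eq, QuotientGroup.ker_mk']
      exact sup_le_sup_right le_normalizer _
    have htop : normalizer ((T : Subgroup L) : Set L) ⊔ N = ⊤ := by
      refine top_le_iff.1 ((Sylow.normalizer_sup_eq_top' T hTW).ge.trans ?_)
      exact sup_le le_sup_left hWeq
    intro l hl
    have h1 : (⟨l, hl⟩ : L) ∈ normalizer ((T : Subgroup L) : Set L) ⊔ N := htop ▸ mem_top _
    have h2 := mem_map_of_mem L.subtype h1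
    rw [Subgroup.map_sup, sup_comm] at h2
    refine (sup_le_sup le_rfl (le_inf ?_ (map_subtype_le _))) h2
    refine (le_normalizer_map _).trans ?_
    rw [hT]
    exact hNS
  · have hSc : ¬ IsCyclic S := by
      intro hc
      haveI := hc
      haveI : (X.subgroupOf S).Characteristic := characteristic_iff_map_eq.2 fun φ =>
        eq_of_card_eq_of_isCyclic (card_map_of_injective φ.injective)
      obtain ⟨T, hT⟩ := hSL.exists_sylow
      refine hqL ⟨hq.out, ?_, T, ?_⟩
      · obtain ⟨n, hn⟩ := hXq.exists_card_eq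
        rcases n with _ | n
        · exact absurd (card_eq_one.1 (hn.trans (pow_zero q))) hX1
        · exact (hn ▸ dvd_pow_self q n.succ_ne_zero).trans (card_dvd_of_le (hXS.trans hSL.le))
      · rw [hT]
        refine le_trans ?_ hNX
        have := normalizer_le_normalizer_map_of_characteristic S (X.subgroupOf S)
        rwa [map_subgroupOf_eq_of_le hXS] at this
    have hq2 : q ≠ 2 := prime_ne_two_of_dvd_card hG hσ.2.1
    have hr2 : Cfsg.PRankLE q 2 L := by
      by_contra h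
      exact hqL (alpha_subset_sigma hG hL ⟨hq.out, h⟩)
    have hr1 : ¬ Cfsg.PRankLE q 1 L := fun h =>
      not_pRankLE_one_of_not_isCyclic hq2 hS.pgroup hSc (TwoFusion.PRank.pRankLE_mono hSL.le h)
    obtain ⟨A, hAS, hAe, hA2⟩ := exists_elementary_sq hq2 hS.pgroup hSc
    have hAL : A ≤ L := hAS.trans hSL.le
    obtain ⟨hnil, hnorm⟩ := hτ L hL ⟨hq.out, hqL, hr2, hr1⟩ A hAL hAe hA2
    have hAq : IsPGroup q A := isPGroup_of_exp hAe.2
    have hNA : normalizer (A : Set G) ≤ M := normalizer_le_of_noncyclic hG hM hσ hA hAq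
      (hAS.trans hSM) (elementary_not_isCyclic hAe
        (hA2 ▸ (pow_one q).symm.trans_lt (Nat.pow_lt_pow_right hq.out.one_lt one_lt_two)))
    set K := Cfsg.sigmaCore L with hK
    refine ⟨K, le_normalizer_piCoreOf _ _, piCoreOf_le _ _, fun s hs hd hsM => ?_, ?_,
      Or.inr ⟨rfl, ⟨hq.out, hqL, hr2, hr1⟩, A, hAS.trans hSM, hAL, hAe, hA2⟩⟩
    · exact sigma_disjoint_of_nilpotent hG hL hM hconjL hnil (piCoreOf_isPiSubgroup _ L s hs hd) hsM
    set W := K ⊔ A with hW
    have hWL : W ≤ L := sup_le (piCoreOf_le _ _) hAL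
    haveI : (W.subgroupOf L).Normal := normal_subgroupOf_of_le_normalizer hnorm
    set WL := W.subgroupOf L
    have hAW : (A.subgroupOf L) ≤ WL := fun x hx => mem_subgroupOf.2 (mem_sup_right (mem_subgroupOf.1 hx))
    set B := (A.subgroupOf L).subgroupOf WL
    have hBq : IsPGroup q B :=
      (hAq.of_equiv (subgroupOfEquivOfLe hAL).symm).of_equiv (subgroupOfEquivOfLe hAW).symm
    have hcW : Nat.card WL ∣ Nat.card K * Nat.card A := by
      rw [Nat.card_congr (subgroupOfEquivOfLe hWL).toEquiv]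
      exact card_sup_dvd_mul_of_le_normalizer (hAL.trans (le_normalizer_piCoreOf _ _))
    have hcB : Nat.card B = Nat.card A := by
      rw [Nat.card_congr (subgroupOfEquivOfLe hAW).toEquiv,
        Nat.card_congr (subgroupOfEquivOfLe hAL).toEquiv]
    have hBi : ¬ q ∣ B.index := by
      intro hd
      have h1 : B.index * Nat.card A ∣ Nat.card K * Nat.card A := by
        rw [← hcB, mul_comm, card_mul_index, hcB]
        exact hcW
      exact hqL (piCoreOf_isPiSubgroup _ L q hq.out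
        (hd.trans (Nat.dvd_of_mul_dvd_mul_right Nat.card_pos h1)))
    have htop := Sylow.normalizer_sup_eq_top (hBq.toSylow hBi)
    rw [IsPGroup.toSylow_coe, map_subgroupOf_eq_of_le hAW] at htop
    intro l hl
    have h1 : (⟨l, hl⟩ : L) ∈ normalizer ((A.subgroupOf L : Subgroup L) : Set L) ⊔ WL :=
      htop ▸ mem_top _
    have h2 := mem_map_of_mem L.subtype h1
    rw [Subgroup.map_sup, map_subgroupOf_eq_of_le hWL] at h2
    refine (sup_le ?_ (sup_le le_sup_left ((le_inf (hAS.trans hSM) hAL).trans le_sup_right))) h2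
    refine le_trans (le_inf ?_ (map_subtype_le _)) le_sup_right
    refine (le_normalizer_map _).trans ?_
    rw [map_subgroupOf_eq_of_le hAL]
    exact hNA

/-- BG 12.16. -/
theorem exists_conj_le_sigmaCore
    (hA : ∀ (q : ℕ), q.Prime → q ∈ Cfsg.sigma M → ∀ A : Subgroup G, A ≤ M →
      Cfsg.IsElementaryAbelian q A → Nat.card A = q ^ 2 → centralizer (A : Set G) ≤ M)
    (hτ : ∀ (q : ℕ), q.Prime → ∀ (L : Subgroup G), IsCoatom L → q ∈ Cfsg.tau2 L →
      ∀ A : Subgroup G, A ≤ L → Cfsg.IsElementaryAbelian q A → Nat.card A = q ^ 2 →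
        Group.IsNilpotent (Cfsg.sigmaCore L) ∧
          L ≤ normalizer ((Cfsg.sigmaCore L ⊔ A : Subgroup G) : Set G))
    {Y : Subgroup G} (hY1 : Y ≠ ⊥) (hY : Cfsg.IsPiSubgroup (Cfsg.sigma M) Y) :
    ∃ g : G, Y.map (MulAut.conj g).toMonoidHom ≤ Cfsg.sigmaCore M := by
  obtain ⟨hMh, hGh⟩ := hall_of_subset hG hM (π := Cfsg.sigma M) subset_rfl
    fun p _ S hp => sylow_le_sigmaCore hG hM hp S
  have hYt : Y ≠ ⊤ := fun h => by
    refine hM.1 (top_le_iff.1 ?_)
    have h1 : Cfsg.piCoreOf (Cfsg.sigma M) M = ⊤ := by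
      refine index_eq_one.1 (Nat.eq_one_iff_not_exists_prime_dvd.2 fun s hs hd =>
        hGh.2 s hs (hY s hs ?_) hd)
      rw [h, card_top]
      exact hd.trans (index_dvd_card _)
    exact h1 ▸ piCoreOf_le _ _
  haveI := isSolvable_of_ne_top hG hYt
  haveI : Nontrivial Y := (Subgroup.nontrivial_iff_ne_bot _).2 hY1
  obtain ⟨q, N, hq, hN, hNp, hN1⟩ := Solvable.exists_normal_pgroup_ne_bot (G := Y)
  haveI := Fact.mk hq
  set X₀ := N.map Y.subtype with hX₀
  have hX₀q : IsPGroup q X₀ := hNp.map _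
  have hqσ : q ∈ Cfsg.sigma M := by
    obtain ⟨n, hn⟩ := hNp.exists_card_eq
    rcases n with _ | n
    · exact absurd (card_eq_one.1 (hn.trans (pow_zero q))) hN1
    · exact hY q hq ((hn ▸ dvd_pow_self q n.succ_ne_zero).trans (card_subgroup_dvd_card N))
  have hYN₀ : Y ≤ normalizer (X₀ : Set G) := by
    refine le_trans (le_of_eq ?_) (le_normalizer_map (H := N) Y.subtype)
    rw [normalizer_eq_top, ← MonoidHom.range_eq_map, range_subtype]
  obtain ⟨T, hXT⟩ := hX₀q.exists_le_sylow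
  obtain ⟨S⟩ : Nonempty (Sylow q M) := inferInstance
  have hmx := isMaxPIn_top_of_sigma hqσ (isMaxPIn_of_sylow S)
  let P : Sylow q G := ⟨(S : Subgroup M).map M.subtype, S.2.map _,
    fun {R} hR hle => hmx.max R hR hle le_top⟩
  obtain ⟨g, hg⟩ := MulAction.exists_smul_eq G T P
  set Y' := Y.map (MulAut.conj g).toMonoidHom with hY'
  set X := X₀.map (MulAut.conj g).toMonoidHom with hX
  have hY'π : Cfsg.IsPiSubgroup (Cfsg.sigma M) Y' := IsPiSubgroup.map hY _
  have hXM : X ≤ M := by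
    refine le_trans ?_ (map_subtype_le (S : Subgroup M))
    rw [show (S : Subgroup M).map M.subtype = (T : Subgroup G).map (MulAut.conj g).toMonoidHom from
      (congrArg Sylow.toSubgroup hg).symm]
    exact map_mono hXT
  have hX1 : X ≠ ⊥ := by
    rw [hX, Ne, map_eq_bot_iff_of_injective _ (MulAut.conj g).injective, hX₀,
      map_eq_bot_iff_of_injective _ Y.subtype_injective]
    exact hN1
  have hYN : Y' ≤ normalizer (X : Set G) := (map_mono hYN₀).trans (le_normalizer_map _)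
  have hNt : normalizer (X : Set G) ≠ ⊤ :=
    normalizer_ne_top hG hX1 (isPGroup_ne_top hG (hX₀q.map _))
  suffices h : ∃ c : G, Y'.map (MulAut.conj c).toMonoidHom ≤ M by
    obtain ⟨c, hc⟩ := h
    exact ⟨c * g, by
      rw [← map_conj_map_conj]
      exact le_sigmaCore_of_piSubgroup hG hM (IsPiSubgroup.map hY'π _) hc⟩
  obtain ⟨L, hL, hNL⟩ := exists_isCoatom_ge hNt
  by_cases hne : L = M
  · exact ⟨1, by rw [map_conj_one]; exact hne ▸ hYN.trans hNL⟩
  obtain ⟨K, hLK, hKL, hKσ, hLle, -⟩ := exists_sigma'_supplement hG hM hqσ (hA q hq hqσ)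
    (hτ q hq) (hX₀q.map _) hX1 hXM hL hne hNL
  haveI := isSolvable_of_ne_top hG hL.1
  set J := M ⊓ L
  haveI := isSolvable_of_ne_top hG (H := J) fun h => hM.1 (top_le_iff.1 (h ▸ inf_le_left))
  obtain ⟨H₀, hH₀, -⟩ := Solvable.exists_isPiHall_ge (G := J) (π := Cfsg.sigma M) (K := ⊥)
    fun s hs hd => absurd (card_bot (G := J) ▸ hd) hs.not_dvd_one
  have hJL : J ≤ L := inf_le_right
  set H := (H₀.map J.subtype).subgroupOf L
  have hH : Cfsg.IsPiHall (Cfsg.sigma M) H := by
    have hHL : H₀.map J.subtype ≤ L := (map_subtype_le _).trans hJL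
    refine ⟨fun s hs hd => hH₀.1 s hs ?_, fun s hs hsσ hd => ?_⟩
    · rwa [Nat.card_congr (subgroupOfEquivOfLe hHL).toEquiv,
        card_map_of_injective J.subtype_injective] at hd
    · change s ∣ (H₀.map J.subtype).relIndex L at hd
      rw [← relIndex_mul_relIndex _ J L (map_subtype_le _) hJL] at hd
      rcases hs.dvd_mul.1 hd with h | h
      · rw [relIndex, subgroupOf, comap_map_eq_self_of_injective J.subtype_injective] at h
        exact hH₀.2 s hs hsσ h
      · refine hKσ s hs (h.trans ?_) hsσ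
        have h1 : J.relIndex L * Nat.card J ∣ Nat.card K * Nat.card J := by
          rw [mul_comm, ← relIndex_bot_left J, relIndex_mul_relIndex ⊥ J L bot_le hJL,
            relIndex_bot_left, relIndex_bot_left]
          exact (card_dvd_of_le hLle).trans
            (card_sup_dvd_mul_of_le_normalizer (hJL.trans hLK))
        exact Nat.dvd_of_mul_dvd_mul_right Nat.card_pos h1
  have hY'L : Y' ≤ L := hYN.trans hNL
  obtain ⟨l, hl⟩ := Solvable.exists_conj_le_isPiHall hH (K := Y'.subgroupOf L) fun s hs hd =>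
    hY'π s hs (by rwa [Nat.card_congr (subgroupOfEquivOfLe hY'L).toEquiv] at hd)
  refine ⟨l, ?_⟩
  rintro _ ⟨y, hy, rfl⟩
  have h1 : l * (⟨y, hY'L hy⟩ : L) * l⁻¹ ∈ H :=
    hl (smul_mem_pointwise_smul _ _ _ (mem_subgroupOf.2 hy : (⟨y, hY'L hy⟩ : L) ∈ Y'.subgroupOf L))
  exact ((map_subtype_le _) (mem_subgroupOf.1 h1) : (l : G) * y * (l : G)⁻¹ ∈ J).1

end CfsgLib.OddOrder
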