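import Cfsg.Agent.Lib.Solvable.Hall

/-!
The two parts of an element with respect to a set of primes.
-/

set_option autoImplicit false
set_option linter.style.haveILetI false

namespace CfsgLib.OddOrder

open Subgroup

variable {G : Type*} [Group G] [Finite G]

/-- An element is the product of a `π`-power and a `π'`-power. -/
theorem exists_pi_parts (π : Set ℕ) (g : G) :
    ∃ u v : G, u ∈ zpowers g ∧ v ∈ zpowers g ∧ g = u * v ∧ Commute u v ∧
      (∀ p : ℕ, p.Prime → p ∣ orderOf u → p ∈ π) ∧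
      (∀ p : ℕ, p.Prime → p ∣ orderOf v → p ∉ π) := by
  letI : CommGroup (zpowers g) := IsCyclic.commGroup
  obtain ⟨H, hH⟩ := Solvable.exists_isPiHall (G := zpowers g) π
  obtain ⟨H', hH'⟩ := Solvable.exists_isPiHall (G := zpowers g) πᶜ
  have htop : H ⊔ H' = ⊤ := index_eq_one.1 (Nat.eq_one_iff_not_exists_prime_dvd.2 fun p hp hd => by
    by_cases h : p ∈ π
    · exact hH.2 p hp h (hd.trans (index_dvd_of_le le_sup_left))
    · exact hH'.2 p hp h (hd.trans (index_dvd_of_le le_sup_right)))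
  obtain ⟨a, ha, b, hb, hab⟩ := mem_sup.1
    (htop ▸ mem_top _ : (⟨g, mem_zpowers g⟩ : zpowers g) ∈ H ⊔ H')
  refine ⟨a, b, a.2, b.2, (congrArg Subtype.val hab).symm, congrArg Subtype.val (mul_comm a b),
    fun p hp hd => hH.1 p hp ?_, fun p hp hd => hH'.1 p hp ?_⟩
  · rw [orderOf_coe] at hd
    exact hd.trans ((Subgroup.orderOf_mk _ ha ▸ orderOf_dvd_natCard (⟨_, ha⟩ : H)))
  · rw [orderOf_coe] at hd
    exact hd.trans ((Subgroup.orderOf_mk _ hb ▸ orderOf_dvd_natCard (⟨_, hb⟩ : H')))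

omit [Finite G] in
/-- The `π`-part of a product of commuting elements is a power of it. -/
theorem mem_zpowers_mul_of_coprime {a b : G} (h : Commute a b)
    (hco : (orderOf b).Coprime (orderOf a)) : a ∈ zpowers (a * b) := by
  obtain ⟨m, hm⟩ := exists_pow_eq_self_of_coprime (x := a) hco
  have h1 : (a * b) ^ orderOf b = a ^ orderOf b := by
    rw [h.mul_pow, pow_orderOf_eq_one, mul_one]
  have := (zpowers (a * b)).pow_mem ((zpowers (a * b)).pow_mem (mem_zpowers (a * b)) (orderOf b)) m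
  rwa [h1, hm] at this

/-- The two parts of an element are unique. -/
theorem parts_eq_of_mul_eq {π : Set ℕ} {a b c d : G} (hab : Commute a b) (hcd : Commute c d)
    (ha : ∀ p : ℕ, p.Prime → p ∣ orderOf a → p ∈ π)
    (hb : ∀ p : ℕ, p.Prime → p ∣ orderOf b → p ∉ π)
    (hc : ∀ p : ℕ, p.Prime → p ∣ orderOf c → p ∈ π)
    (hd : ∀ p : ℕ, p.Prime → p ∣ orderOf d → p ∉ π) (h : a * b = c * d) : a = c ∧ b = d := by
  have co : ∀ x y : G, (∀ p : ℕ, p.Prime → p ∣ orderOf x → p ∈ π) →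
      (∀ p : ℕ, p.Prime → p ∣ orderOf y → p ∉ π) → (orderOf x).Coprime (orderOf y) :=
    fun x y hx hy => Nat.coprime_of_dvd fun p hp h1 h2 => hy p hp h2 (hx p hp h1)
  obtain ⟨i, hi⟩ := mem_zpowers_iff.1 (mem_zpowers_mul_of_coprime hab (co a b ha hb).symm)
  obtain ⟨j, hj⟩ := mem_zpowers_iff.1 (mem_zpowers_mul_of_coprime hcd (co c d hc hd).symm)
  have hac : Commute a c := by rw [← hi, ← hj, h]; exact Commute.zpow_zpow_self _ _ _
  obtain ⟨i', hi'⟩ := mem_zpowers_iff.1 (by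
    have := mem_zpowers_mul_of_coprime hab.symm (co a b ha hb)
    rwa [← hab.eq] at this : b ∈ zpowers (a * b))
  obtain ⟨j', hj'⟩ := mem_zpowers_iff.1 (by
    have := mem_zpowers_mul_of_coprime hcd.symm (co c d hc hd)
    rwa [← hcd.eq] at this : d ∈ zpowers (c * d))
  have hbd : Commute b d := by rw [← hi', ← hj', h]; exact Commute.zpow_zpow_self _ _ _
  have he : c⁻¹ * a = d * b⁻¹ := by
    calc c⁻¹ * a = c⁻¹ * (a * b) * b⁻¹ := by group
      _ = d * b⁻¹ := by rw [h]; group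
  have hone : c⁻¹ * a = 1 := by
    by_contra hne
    obtain ⟨p, hp, hpd⟩ := Nat.exists_prime_and_dvd (n := orderOf (c⁻¹ * a))
      fun h' => hne (orderOf_eq_one_iff.1 h')
    have h1 := hpd.trans ((Commute.inv_left hac.symm).orderOf_mul_dvd_mul_orderOf)
    rw [orderOf_inv] at h1
    have hpπ : p ∈ π := (hp.dvd_mul.1 h1).elim (hc p hp) (ha p hp)
    have h2 := (he ▸ hpd).trans ((Commute.inv_right hbd.symm).orderOf_mul_dvd_mul_orderOf)
    rw [orderOf_inv] at h2
    exact (hp.dvd_mul.1 h2).elim (fun h' => hd p hp h' hpπ) (fun h' => hb p hp h' hpπ)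
  have hae : a = c := (inv_mul_eq_one.1 hone).symm
  exact ⟨hae, mul_left_cancel (hae ▸ h)⟩

end CfsgLib.OddOrder
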