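import Cfsg.Agent.Lib.OddOrder.SupportR
import Cfsg.Agent.Lib.OddOrder.SigmaParts
import Cfsg.Agent.Lib.OddOrder.SigmaDichotomy

/-!
BG 14.5 (b): the cosets `x R(x)` are pairwise disjoint.
-/

set_option autoImplicit false
set_option linter.style.haveILetI false

namespace CfsgLib.OddOrder

open Subgroup

universe u

variable {G : Type u} [Group G] [Finite G] (hG : Cfsg.IsMinSimpleOddOrder G)
include hG

/-- The prime divisors of the orders of `x ∈ M_σ` and of a nontrivial `r ∈ R(x)` are separated by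
the `σ`-sets of two maximal subgroups. -/
theorem supportR_primes {M : Subgroup G} (hM : IsCoatom M) {x : G} (hx : x ∈ Cfsg.sigmaCore M)
    (hx1 : x ≠ 1) {r : G} (hr : r ∈ Cfsg.supportR M x) (hr1 : r ≠ 1) :
    ∃ L : Subgroup G, IsCoatom L ∧ centralizer ({x} : Set G) ≤ L ∧
      (∀ p : ℕ, p.Prime → p ∣ orderOf r → p ∈ Cfsg.sigma L ∧ p ∉ Cfsg.sigma M) := by
  by_cases hxM : centralizer ({x} : Set G) ≤ M
  · rw [supportR_eq_bot hxM, mem_bot] at hr
    exact absurd hr hr1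
  obtain ⟨L, ⟨hL, hCL⟩, hu, hF, hconj, -, -, -⟩ := supporting_structure hG hM
    (Cfsg.Agent.S1378.result hG).2
    (fun M hM x hx hx1 x' hx' hx'1 hσ => sigma_element_dichotomy hG hM hx hx1 hx' hx'1 hσ)
    hx hx1 hxM
  rw [supportR_eq hxM hL hCL hu hF] at hr
  refine ⟨L, hL, hCL, fun p hp hd => ?_⟩
  have hpL : p ∈ Cfsg.sigma L :=
    piCoreOf_isPiSubgroup (Cfsg.sigma L) L p hp (hd.trans (orderOf_dvd_card_of_mem hr.1))
  refine ⟨hpL, fun hpM => ?_⟩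
  obtain ⟨g, hg⟩ := (Cfsg.Agent.S1378.result hG).2 M L hM hL ⟨p, hpM, hpL⟩
  exact hconj g hg

/-- BG 14.5 (b). -/
theorem supportR_separated {M N : Subgroup G} (hM : IsCoatom M) (hN : IsCoatom N) {x y : G}
    (hx : x ∈ Cfsg.sigmaCore M) (hy : y ∈ Cfsg.sigmaCore N) (hx1 : x ≠ 1) (hy1 : y ≠ 1)
    (hxy : x ≠ y) {r s : G} (hr : r ∈ Cfsg.supportR M x) (hs : s ∈ Cfsg.supportR N y) :
    x * r ≠ y * s := by
  intro h
  have hdisj := (Cfsg.Agent.S1378.result hG).2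
  have hdich : ∀ (M : Subgroup G), IsCoatom M → ∀ x ∈ Cfsg.sigmaCore M, x ≠ 1 →
      ∀ x' ∈ M ⊓ centralizer ({x} : Set G), x' ≠ 1 →
      (∀ p : ℕ, p.Prime → p ∣ orderOf x' → p ∉ Cfsg.sigma M) → _ :=
    fun M hM x hx hx1 x' hx' hx'1 hσ => sigma_element_dichotomy hG hM hx hx1 hx' hx'1 hσ
  obtain ⟨-, hRx⟩ := supportR_spec hG hdisj hdich hM hx hx1
  obtain ⟨-, hRy⟩ := supportR_spec hG hdisj hdich hN hy hy1
  have hcx : Commute x r := (mem_centralizer_singleton_iff.1 (hRx.2.1 hr)).symm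
  have hcy : Commute y s := (mem_centralizer_singleton_iff.1 (hRy.2.1 hs)).symm
  have hxσ : ∀ p : ℕ, p.Prime → p ∣ orderOf x → p ∈ Cfsg.sigma M := fun p hp hd =>
    piCoreOf_isPiSubgroup (Cfsg.sigma M) M p hp (hd.trans (orderOf_dvd_card_of_mem hx))
  have hyσ : ∀ p : ℕ, p.Prime → p ∣ orderOf y → p ∈ Cfsg.sigma N := fun p hp hd =>
    piCoreOf_isPiSubgroup (Cfsg.sigma N) N p hp (hd.trans (orderOf_dvd_card_of_mem hy))
  have hrσ : ∀ p : ℕ, p.Prime → p ∣ orderOf r → p ∉ Cfsg.sigma M := fun p hp hd => by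
    obtain ⟨L, -, -, hL⟩ := supportR_primes hG hM hx hx1 hr fun e => hp.ne_one
      (Nat.dvd_one.1 (by rwa [e, orderOf_one] at hd))
    exact (hL p hp hd).2
  have hsσ : ∀ p : ℕ, p.Prime → p ∣ orderOf s → p ∉ Cfsg.sigma N := fun p hp hd => by
    obtain ⟨L, -, -, hL⟩ := supportR_primes hG hN hy hy1 hs fun e => hp.ne_one
      (Nat.dvd_one.1 (by rwa [e, orderOf_one] at hd))
    exact (hL p hp hd).2
  by_cases hMN : (Cfsg.sigma M ∩ Cfsg.sigma N).Nonempty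
  · obtain ⟨g, rfl⟩ := hdisj M N hM hN hMN
    rw [sigma_conj] at hyσ hsσ
    exact hxy (parts_eq_of_mul_eq hcx hcy hxσ hrσ hyσ hsσ h).1
  have hMN' : ∀ p, p ∈ Cfsg.sigma M → p ∉ Cfsg.sigma N := fun p h1 h2 => hMN ⟨p, h1, h2⟩
  -- each of `r`, `s` is nontrivial
  have hr1 : r ≠ 1 := by
    rintro rfl
    rw [mul_one] at h
    exact hy1 (parts_eq_of_mul_eq (π := Cfsg.sigma N) (Commute.one_left x) hcy
      (fun p hp hd => absurd (Nat.dvd_one.1 (by rwa [orderOf_one] at hd)) hp.ne_one)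
      (fun p hp hd => hMN' p (hxσ p hp hd)) hyσ hsσ (by rw [one_mul, h])).1.symm
  have hs1 : s ≠ 1 := by
    rintro rfl
    rw [mul_one] at h
    exact hx1 (parts_eq_of_mul_eq (π := Cfsg.sigma M) hcx (Commute.one_left y) hxσ hrσ
      (fun p hp hd => absurd (Nat.dvd_one.1 (by rwa [orderOf_one] at hd)) hp.ne_one)
      (fun p hp hd h' => hMN' p h' (hyσ p hp hd)) (by rw [one_mul, h])).1
  obtain ⟨L, hL, hCL, hLr⟩ := supportR_primes hG hM hx hx1 hr hr1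
  obtain ⟨L', hL', hCL', hLs⟩ := supportR_primes hG hN hy hy1 hs hs1
  -- `r = y` and `s = x`
  have hry : r = y := by
    by_cases hLN : (Cfsg.sigma L ∩ Cfsg.sigma N).Nonempty
    · obtain ⟨g, rfl⟩ := hdisj L N hL hN hLN
      rw [sigma_conj] at hyσ hsσ hMN'
      exact (parts_eq_of_mul_eq hcx.symm hcy (fun p hp hd => (hLr p hp hd).1)
        (fun p hp hd => hMN' p (hxσ p hp hd)) hyσ hsσ (hcx.eq ▸ h)).1
    · refine absurd (parts_eq_of_mul_eq (π := Cfsg.sigma N) (Commute.one_left (x * r)) hcy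
        (fun p hp hd => absurd (Nat.dvd_one.1 (by rwa [orderOf_one] at hd)) hp.ne_one)
        (fun p hp hd h' => ?_) hyσ hsσ (by rw [one_mul, h])).1.symm hy1
      rcases hp.dvd_mul.1 (hd.trans hcx.orderOf_mul_dvd_mul_orderOf) with hd' | hd'
      · exact hMN' p (hxσ p hp hd') h'
      · exact hLN ⟨p, (hLr p hp hd').1, h'⟩
  have hsx : s = x := by
    have h' : x * y = y * s := hry ▸ h
    have hxy' : Commute x y := hry ▸ hcx
    exact (mul_left_cancel (h'.symm.trans hxy'.eq))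
  obtain ⟨p, hp, hpd⟩ := Nat.exists_prime_and_dvd (n := orderOf x)
    fun h => hx1 (orderOf_eq_one_iff.1 h)
  obtain ⟨g, hg⟩ := hdisj M L' hM hL' ⟨p, hxσ p hp hpd, (hLs p hp (hsx.symm ▸ hpd)).1⟩
  have hxL' : x ∈ M.map (MulAut.conj g).toMonoidHom := by
    rw [← hg, ← hsx]
    exact hCL' (hRy.2.1 hs)
  obtain ⟨hxσ', hReq⟩ := supportR_conjugate_eq hG hdisj hdich hM hx hx1 hxL'
  obtain ⟨-, hR'⟩ := supportR_spec hG hdisj hdich (isCoatom_conj hM g) hxσ' hx1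
  rw [hReq] at hR'
  have hyL' : y ∈ M.map (MulAut.conj g).toMonoidHom :=
    hg ▸ hCL' (mem_centralizer_singleton_iff.2 rfl)
  have h0 : y ∈ (M.map (MulAut.conj g).toMonoidHom ⊓ centralizer ({x} : Set G)) ⊓
      Cfsg.supportR M x := ⟨⟨hyL', hry ▸ hRx.2.1 hr⟩, hry ▸ hr⟩
  rw [hR'.2.2.1, mem_bot] at h0
  exact hy1 h0

end CfsgLib.OddOrder
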