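import Cfsg.Agent.Lib.OddOrder.SupportR
import Cfsg.Agent.Lib.OddOrder.SigmaSeparation
import Cfsg.Agent.Lib.OddOrder.SigmaDichotomy
import Cfsg.Agent.Lib.OddOrder.SigmaJordan
import Cfsg.Agent.Lib.OddOrder.SigmaSignalizer
import Mathlib.Data.Set.Card.Arithmetic

/-!
The counting argument of BG 14.2/14.7: no subgroup `Z` can be covered by the cores of maximal
subgroups `N` with `N = N_σ Z` in the way of that proof.
-/

set_option autoImplicit false
set_option linter.style.haveILetI false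

namespace CfsgLib.OddOrder

open Subgroup

variable {G : Type*} [Group G] [Finite G]

omit [Finite G] in
theorem mem_of_pow_mem_coprime' {W : Subgroup G} {x : G} {n : ℕ}
    (hco : n.Coprime (orderOf x)) (h : x ^ n ∈ W) : x ∈ W := by
  obtain ⟨k, hk⟩ := exists_pow_eq_self_of_coprime hco
  exact hk ▸ pow_mem h k

/-- The members attached to `Z`: maximal subgroups whose core meets `Z`. -/
def sigmaMembers (Z : Subgroup G) : Set (Subgroup G) :=
  {L | IsCoatom L ∧ Z ⊓ Cfsg.sigmaCore L ≠ ⊥}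

/-- The elements of `Z` outside all cores. -/
def sigmaReg (Z : Subgroup G) : Set G :=
  {z | z ∈ Z ∧ ∀ L : Subgroup G, IsCoatom L → z ∉ Cfsg.sigmaCore L}

/-- The hypothesis on the members. -/
def IsSigmaCovered (Z : Subgroup G) : Prop :=
  ∀ w ∈ Z, (orderOf w).Prime → ∃ N : Subgroup G, IsCoatom N ∧ w ∈ Cfsg.sigmaCore N ∧
    centralizer ({w} : Set G) ≤ N ∧ Z ≤ N ∧ N ≤ Cfsg.sigmaCore N ⊔ Z

namespace IsSigmaCovered

variable {Z : Subgroup G} (hmem : IsSigmaCovered Z) (hG : Cfsg.IsMinSimpleOddOrder G)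
include hmem hG

omit hmem hG in
theorem exists_prime_pow {x : G} (hx1 : x ≠ 1) :
    ∃ n : ℕ, (orderOf (x ^ n)).Prime ∧ x ^ n ≠ 1 := by
  obtain ⟨q, hq, hd⟩ := Nat.exists_prime_and_dvd
    (fun h => hx1 (orderOf_eq_one_iff.1 h) : orderOf x ≠ 1)
  have ho : orderOf (x ^ (orderOf x / q)) = q := orderOf_pow_orderOf_div (orderOf_pos x).ne' hd
  exact ⟨orderOf x / q, by rwa [ho], fun h => hq.ne_one (by rw [← ho, h, orderOf_one])⟩

theorem eq_of_mem_core {w : G} (hwp : (orderOf w).Prime) {N L : Subgroup G} (hN : IsCoatom N)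
    (hwN : w ∈ Cfsg.sigmaCore N) (hCN : centralizer ({w} : Set G) ≤ N) (hL : IsCoatom L)
    (hwL : w ∈ Cfsg.sigmaCore L) : L = N := by
  have hne : w ≠ 1 := fun h => Nat.not_prime_one (by rwa [h, orderOf_one] at hwp)
  have h1 : orderOf w ∈ Cfsg.sigma N :=
    sigma_of_dvd_sigmaCore hwp (orderOf_dvd_card_of_mem hwN)
  have h2 : orderOf w ∈ Cfsg.sigma L :=
    sigma_of_dvd_sigmaCore hwp (orderOf_dvd_card_of_mem hwL)
  obtain ⟨g, rfl⟩ := (Cfsg.Agent.S1378.result hG).2 N L hN hL ⟨_, h1, h2⟩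
  rw [sigmaCore_conj] at hwL
  obtain ⟨v, hv, hvw⟩ := hwL
  have hgw : g⁻¹ * w * g⁻¹⁻¹ ∈ N := by
    rw [← hvw, MulEquiv.coe_toMonoidHom, MulAut.conj_apply]
    rw [show g⁻¹ * (g * v * g⁻¹) * g⁻¹⁻¹ = v by group]
    exact piCoreOf_le _ _ hv
  obtain ⟨m, hm, c, hc, he⟩ := exists_mul_centralizer_of_sigma hG hN hwN hne hgw
  have hg : g ∈ N := inv_mem_iff.1 (he ▸ mul_mem hm (hCN hc))
  have hn := le_normalizer (H := N) hg
  rw [mem_normalizer_iff_map_conj_eq] at hn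
  exact hn

theorem member_spec {L : Subgroup G} (hL : IsCoatom L) {x : G} (hxZ : x ∈ Z) (hx1 : x ≠ 1)
    (hxL : x ∈ Cfsg.sigmaCore L) :
    centralizer ({x} : Set G) ≤ L ∧ Z ≤ L ∧ L ≤ Cfsg.sigmaCore L ⊔ Z ∧
      ∀ L' : Subgroup G, IsCoatom L' → x ∈ Cfsg.sigmaCore L' → L' = L := by
  obtain ⟨n, hp, -⟩ := exists_prime_pow hx1
  obtain ⟨N, hN, hwN, hCN, hZN, hN'⟩ := hmem _ (pow_mem hxZ n) hp
  obtain rfl : L = N := hmem.eq_of_mem_core hG hp hN hwN hCN hL (pow_mem hxL n)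
  refine ⟨fun c hc => hCN (mem_centralizer_singleton_iff.2
    ((show Commute c x from mem_centralizer_singleton_iff.1 hc).pow_right n).eq), hZN, hN',
    fun L' hL' hxL' => hmem.eq_of_mem_core hG hp hN hwN hCN hL' (pow_mem hxL' n)⟩

theorem exists_mem {L : Subgroup G} (hL : L ∈ sigmaMembers Z) :
    ∃ x ∈ Z, x ∈ Cfsg.sigmaCore L ∧ x ≠ 1 := by
  obtain ⟨x, hx, hx1⟩ := (Z ⊓ Cfsg.sigmaCore L).bot_or_exists_ne_one.resolve_left hL.2
  exact ⟨x, hx.1, hx.2, hx1⟩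

theorem le_member {L : Subgroup G} (hL : L ∈ sigmaMembers Z) :
    Z ≤ L ∧ L ≤ Cfsg.sigmaCore L ⊔ Z := by
  obtain ⟨x, hxZ, hxL, hx1⟩ := hmem.exists_mem hG hL
  exact ⟨(hmem.member_spec hG hL.1 hxZ hx1 hxL).2.1, (hmem.member_spec hG hL.1 hxZ hx1 hxL).2.2.1⟩

theorem sigma_disjoint_members {L L' : Subgroup G} (hL : L ∈ sigmaMembers Z)
    (hL' : L' ∈ sigmaMembers Z) (hne : L ≠ L') {s : ℕ} (hs : s ∈ Cfsg.sigma L) :
    s ∉ Cfsg.sigma L' := by
  intro hs'
  obtain ⟨g, hg⟩ := (Cfsg.Agent.S1378.result hG).2 L L' hL.1 hL'.1 ⟨s, hs, hs'⟩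
  obtain ⟨x, hxZ, hxL', hx1⟩ := hmem.exists_mem hG hL'
  have hxL : x ∈ Cfsg.sigmaCore L := by
    refine le_sigmaCore_of_piSubgroup hG hL.1 (fun t ht hd => ?_)
      (zpowers_le.2 ((hmem.le_member hG hL).1 hxZ)) (mem_zpowers x)
    rw [Nat.card_zpowers] at hd
    have := sigma_of_dvd_sigmaCore ht (hd.trans (orderOf_dvd_card_of_mem hxL'))
    rwa [hg, sigma_conj] at this
  exact hne ((hmem.member_spec hG hL'.1 hxZ hx1 hxL').2.2.2 L hL.1 hxL)

/-- Two members meet in `Z`. -/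
theorem inf_member {L L' : Subgroup G} (hL : L ∈ sigmaMembers Z) (hL' : L' ∈ sigmaMembers Z)
    (hne : L ≠ L') : L ⊓ L' = Z := by
  obtain ⟨hZL, hLd⟩ := hmem.le_member hG hL
  obtain ⟨hZL', hLd'⟩ := hmem.le_member hG hL'
  refine le_antisymm (fun u hu => ?_) (le_inf hZL hZL')
  obtain ⟨x, hx, z, hz, rfl⟩ := (Solvable.mem_sup_of_le_normalizer
    (hZL.trans (le_normalizer_piCoreOf _ _))).1 (hLd hu.1)
  refine mul_mem ?_ hz
  have hxL' : x ∈ L' := by
    have := mul_mem (show x * z ∈ L' from hu.2) (inv_mem (hZL' hz))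
    rwa [mul_inv_cancel_right] at this
  obtain ⟨a, ha, b, hb, hab⟩ := (Solvable.mem_sup_of_le_normalizer
    (hZL'.trans (le_normalizer_piCoreOf _ _))).1 (hLd' hxL')
  have haL : a ∈ L := by
    have : x * b⁻¹ ∈ L := mul_mem (piCoreOf_le _ _ hx) (inv_mem (hZL hb))
    rwa [← hab, mul_inv_cancel_right] at this
  have hdis : Disjoint (Cfsg.sigmaCore L ⊓ L') (Cfsg.sigmaCore L' ⊓ L) :=
    Subgroup.disjoint_of_coprime_natCard (Nat.coprime_of_dvd fun s hs h1 h2 =>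
      hmem.sigma_disjoint_members hG hL hL' hne
        (sigma_of_dvd_sigmaCore hs (h1.trans (card_dvd_of_le inf_le_left)))
        (sigma_of_dvd_sigmaCore hs (h2.trans (card_dvd_of_le inf_le_left))))
  have hn : ∀ {A B : Subgroup G},
      Cfsg.sigmaCore A ⊓ B ≤ normalizer ((Cfsg.sigmaCore B ⊓ A : Subgroup G) : Set G) :=
    fun {A B} => le_trans (le_inf (inf_le_right.trans (le_normalizer_piCoreOf _ _))
      (inf_le_left.trans ((piCoreOf_le _ _).trans le_normalizer))) inf_normalizer_le_normalizer_inf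
  have hcom : Commute a⁻¹ x := (Commute.inv_left (show Commute a x from
    ((commute_of_normalize_disjoint hn hn hdis) ⟨hx, hxL'⟩) a ⟨ha, haL⟩))
  refine mem_of_pow_mem_coprime' (n := orderOf a) (Nat.coprime_of_dvd fun s hs h1 h2 =>
    hmem.sigma_disjoint_members hG hL hL' hne
      (sigma_of_dvd_sigmaCore hs (h2.trans (orderOf_dvd_card_of_mem hx)))
      (sigma_of_dvd_sigmaCore hs (h1.trans (orderOf_dvd_card_of_mem ha)))) ?_
  have hb' : b = a⁻¹ * x := by rw [← hab, inv_mul_cancel_left]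
  have h := pow_mem hb (orderOf a)
  rwa [hb', hcom.mul_pow, inv_pow, pow_orderOf_eq_one, inv_one, one_mul] at h

variable (hZ : ∀ N : Subgroup G, IsCoatom N → ¬ N ≤ Z)
  (htwo : ∀ N : Subgroup G, IsCoatom N → ¬ Z ≤ Cfsg.sigmaCore N)
include htwo

theorem exists_member_not_sigma {x : G} (hxZ : x ∈ Z) {s : ℕ} (hs : s.Prime) (hd : s ∣ orderOf x) :
    ∃ L : Subgroup G, L ∈ sigmaMembers Z ∧ s ∈ Cfsg.sigma L ∧
      ∃ n : ℕ, x ^ n ∈ Cfsg.sigmaCore L ∧ x ^ n ≠ 1 := by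
  have ho : orderOf (x ^ (orderOf x / s)) = s := orderOf_pow_orderOf_div (orderOf_pos x).ne' hd
  have h1 : x ^ (orderOf x / s) ≠ 1 := fun h => hs.ne_one (by rw [← ho, h, orderOf_one])
  obtain ⟨N, hN, hwN, -, -, -⟩ := hmem _ (pow_mem hxZ (orderOf x / s)) (by rwa [ho])
  refine ⟨N, ⟨hN, fun hb => h1 (mem_bot.1 (hb ▸ ⟨pow_mem hxZ _, hwN⟩))⟩, ?_, _, hwN, h1⟩
  exact sigma_of_dvd_sigmaCore hs (by
    have := orderOf_dvd_card_of_mem hwN
    rwa [ho] at this)

omit hmem in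
theorem ne_bot : Z ≠ ⊥ := by
  intro h
  haveI := hG.2.1
  haveI : Nontrivial G := IsSimpleGroup.toNontrivial
  obtain ⟨N, hN, -⟩ := exists_isCoatom_ge (H := (⊥ : Subgroup G)) bot_ne_top
  exact htwo N hN (h ▸ bot_le)

theorem two_members : ∃ L L' : Subgroup G, L ∈ sigmaMembers Z ∧ L' ∈ sigmaMembers Z ∧ L ≠ L' := by
  obtain ⟨x, hxZ, hx1⟩ := Z.bot_or_exists_ne_one.resolve_left (ne_bot hG htwo)
  obtain ⟨s, hs, hsd⟩ := Nat.exists_prime_and_dvd
    (fun h => hx1 (orderOf_eq_one_iff.1 h) : orderOf x ≠ 1)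
  obtain ⟨L, hL, -, -⟩ := hmem.exists_member_not_sigma hG htwo hxZ hs hsd
  obtain ⟨r, hr, hrd, hrσ⟩ : ∃ r : ℕ, r.Prime ∧ r ∣ Nat.card Z ∧ r ∉ Cfsg.sigma L := by
    by_contra hcon
    push Not at hcon
    exact htwo L hL.1 (le_sigmaCore_of_piSubgroup hG hL.1 hcon (hmem.le_member hG hL).1)
  haveI := Fact.mk hr
  obtain ⟨y, hy⟩ := exists_prime_orderOf_dvd_card' r hrd
  obtain ⟨L', hL', hrL', -⟩ := hmem.exists_member_not_sigma hG htwo y.2 hr
    (by rw [Subgroup.orderOf_coe, hy])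
  exact ⟨L, L', hL, hL', fun h => hrσ (h ▸ hrL')⟩

theorem exists_two_of_reg {t : G} (ht : t ∈ sigmaReg Z) :
    ∃ L L' : Subgroup G, L ∈ sigmaMembers Z ∧ L' ∈ sigmaMembers Z ∧ L ≠ L' ∧
      (∃ n : ℕ, t ^ n ∈ Cfsg.sigmaCore L ∧ t ^ n ≠ 1) ∧
      ∃ n : ℕ, t ^ n ∈ Cfsg.sigmaCore L' ∧ t ^ n ≠ 1 := by
  obtain ⟨L₀, -, hL₀, -, -⟩ := hmem.two_members hG htwo
  have ht1 : t ≠ 1 := fun h => ht.2 L₀ hL₀.1 (h ▸ one_mem _)
  obtain ⟨s, hs, hsd⟩ := Nat.exists_prime_and_dvd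
    (fun h => ht1 (orderOf_eq_one_iff.1 h) : orderOf t ≠ 1)
  obtain ⟨L, hL, -, hn⟩ := hmem.exists_member_not_sigma hG htwo ht.1 hs hsd
  obtain ⟨r, hr, hrd, hrσ⟩ : ∃ r : ℕ, r.Prime ∧ r ∣ orderOf t ∧ r ∉ Cfsg.sigma L := by
    by_contra hcon
    push Not at hcon
    exact ht.2 L hL.1 (le_sigmaCore_of_piSubgroup hG hL.1
      (fun q hq hd => hcon q hq (by rwa [Nat.card_zpowers] at hd))
      (zpowers_le.2 ((hmem.le_member hG hL).1 ht.1)) (mem_zpowers t))
  obtain ⟨L', hL', hrL', hn'⟩ := hmem.exists_member_not_sigma hG htwo ht.1 hr hrd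
  exact ⟨L, L', hL, hL', fun h => hrσ (h ▸ hrL'), hn, hn'⟩

theorem centralizer_reg {t : G} (ht : t ∈ sigmaReg Z) : centralizer ({t} : Set G) ≤ Z := by
  obtain ⟨L, L', hL, hL', hne, ⟨n, hn, hn1⟩, ⟨n', hn', hn1'⟩⟩ := hmem.exists_two_of_reg hG htwo ht
  intro c hc
  rw [← hmem.inf_member hG hL hL' hne]
  have hct : Commute c t := mem_centralizer_singleton_iff.1 hc
  exact ⟨(hmem.member_spec hG hL.1 (pow_mem ht.1 n) hn1 hn).1
      (mem_centralizer_singleton_iff.2 (hct.pow_right n).eq),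
    (hmem.member_spec hG hL'.1 (pow_mem ht.1 n') hn1' hn').1
      (mem_centralizer_singleton_iff.2 (hct.pow_right n').eq)⟩

/-- A member containing a conjugate of an element of its core part is preserved. -/
theorem mem_member_of_conj {L : Subgroup G} (hL : L ∈ sigmaMembers Z) {g x : G}
    (hx : x ∈ Cfsg.sigmaCore L) (hx1 : x ≠ 1) (hgx : g * x * g⁻¹ ∈ Z) :
    L.map (MulAut.conj g).toMonoidHom ∈ sigmaMembers Z := by
  refine ⟨isCoatom_conj hL.1 g, fun hb => ?_⟩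
  have h : g * x * g⁻¹ ∈ Z ⊓ Cfsg.sigmaCore (L.map (MulAut.conj g).toMonoidHom) := by
    rw [sigmaCore_conj]
    exact ⟨hgx, mem_map_of_mem _ hx⟩
  rw [hb, mem_bot] at h
  exact hx1 (conj_eq_one_iff.1 h)

theorem conj_mem {t g : G} (ht : t ∈ sigmaReg Z) (htg : g * t * g⁻¹ ∈ Z) : g ∈ Z := by
  obtain ⟨L, L', hL, hL', hne, ⟨n, hn, hn1⟩, ⟨n', hn', hn1'⟩⟩ := hmem.exists_two_of_reg hG htwo ht
  have hg : ∀ {A : Subgroup G}, A ∈ sigmaMembers Z → ∀ k : ℕ, t ^ k ∈ Cfsg.sigmaCore A →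
      t ^ k ≠ 1 → g ∈ A := fun {A} hA k hk hk1 => by
    have hmA := hmem.mem_member_of_conj hG htwo hA hk hk1 (g := g) (by
      rw [← conj_pow]; exact pow_mem htg k)
    refine mem_of_map_conj_eq hG hA.1 (by_contra fun hne' => ?_)
    obtain ⟨s, hs, hsd⟩ := Nat.exists_prime_and_dvd
      (fun h => hk1 (orderOf_eq_one_iff.1 h) : orderOf (t ^ k) ≠ 1)
    have hσ := sigma_of_dvd_sigmaCore hs (hsd.trans (orderOf_dvd_card_of_mem hk))
    exact hmem.sigma_disjoint_members hG hmA hA hne' (by rwa [sigma_conj]) hσ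
  rw [← hmem.inf_member hG hL hL' hne]
  exact ⟨hg hL n hn hn1, hg hL' n' hn' hn1'⟩

theorem conj_reg {t c : G} (ht : t ∈ sigmaReg Z) (hc : c ∈ Z) : c * t * c⁻¹ ∈ sigmaReg Z := by
  refine ⟨mul_mem (mul_mem hc ht.1) (inv_mem hc), fun L hL h => ?_⟩
  refine ht.2 _ (isCoatom_conj hL c⁻¹) ?_
  rw [sigmaCore_conj]
  refine ⟨_, h, ?_⟩
  simp only [MulEquiv.coe_toMonoidHom, MulAut.conj_apply]
  group

theorem ncard_conj_reg :
    Set.ncard {a : G | ∃ g : G, ∃ t ∈ sigmaReg Z, a = g * t * g⁻¹} * Nat.card Z =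
      Nat.card G * Set.ncard (sigmaReg Z) := by
  set U := {a : G | ∃ g : G, ∃ t ∈ sigmaReg Z, a = g * t * g⁻¹} with hU
  let f : (G ⧸ Z) × sigmaReg Z → U := fun x =>
    ⟨x.1.out * x.2.1 * x.1.out⁻¹, x.1.out, x.2.1, x.2.2, rfl⟩
  have hf : Function.Bijective f := by
    refine ⟨fun x x' hxx => ?_, fun a => ?_⟩
    · have he : x.1.out * x.2.1 * x.1.out⁻¹ = x'.1.out * x'.2.1 * x'.1.out⁻¹ :=
        congrArg Subtype.val hxx
      have hg : (x'.1.out⁻¹ * x.1.out) * x.2.1 * (x'.1.out⁻¹ * x.1.out)⁻¹ = x'.2.1 := by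
        calc (x'.1.out⁻¹ * x.1.out) * x.2.1 * (x'.1.out⁻¹ * x.1.out)⁻¹
            = x'.1.out⁻¹ * (x.1.out * x.2.1 * x.1.out⁻¹) * x'.1.out := by group
          _ = x'.2.1 := by rw [he]; group
      have hmm := hmem.conj_mem hG htwo x.2.2 (by rw [hg]; exact x'.2.2.1)
      have h1 : x'.1 = x.1 := by
        rw [← QuotientGroup.out_eq' x'.1, ← QuotientGroup.out_eq' x.1]
        exact QuotientGroup.eq.2 hmm
      refine Prod.ext h1.symm (Subtype.ext ?_)
      rw [h1] at he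
      exact mul_left_cancel (mul_right_cancel he)
    · obtain ⟨g, z, hz, ha⟩ := a.2
      obtain ⟨c, hc⟩ := QuotientGroup.mk_out_eq_mul Z g
      refine ⟨(QuotientGroup.mk g, ⟨(c : G)⁻¹ * z * (c : G)⁻¹⁻¹,
        hmem.conj_reg hG htwo hz (inv_mem c.2)⟩), Subtype.ext ?_⟩
      show (QuotientGroup.mk g : G ⧸ Z).out * ((c : G)⁻¹ * z * (c : G)⁻¹⁻¹) *
        (QuotientGroup.mk g : G ⧸ Z).out⁻¹ = _
      rw [hc, ha]
      group
  rw [← Nat.card_coe_set_eq, ← Nat.card_coe_set_eq, ← Nat.card_eq_of_bijective f hf,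
    Nat.card_prod, mul_right_comm, ← Subgroup.card_eq_card_quotient_mul_card_subgroup]

omit htwo in
theorem reg_not_mem_tilde {t : G} (ht : t ∈ sigmaReg Z) {H : Subgroup G} (hH : IsCoatom H)
    {g : G} : g * t * g⁻¹ ∉ Cfsg.tildeOf H ((Cfsg.sigmaCore H : Set G) \ {1}) := by
  rintro ⟨x, hx, r, hr, y, he⟩
  have hdisj := (Cfsg.Agent.S1378.result hG).2
  set u := g⁻¹ * y with hu
  have htu : t = (u * x * u⁻¹) * (u * r * u⁻¹) := by
    calc t = g⁻¹ * (g * t * g⁻¹) * g := by group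
      _ = g⁻¹ * (y * (x * r) * y⁻¹) * g := by rw [he]
      _ = _ := by rw [hu]; group
  set K := H.map (MulAut.conj u).toMonoidHom
  have hK : IsCoatom K := isCoatom_conj hH u
  set x₁ := u * x * u⁻¹
  set r₁ := u * r * u⁻¹
  have hx₁ : x₁ ∈ Cfsg.sigmaCore K := by rw [sigmaCore_conj]; exact mem_map_of_mem _ hx.1
  have hx₁1 : x₁ ≠ 1 := fun h => hx.2 (conj_eq_one_iff.1 h)
  have hdich : ∀ (M : Subgroup G), IsCoatom M → ∀ x ∈ Cfsg.sigmaCore M, x ≠ 1 →
      ∀ x' ∈ M ⊓ centralizer ({x} : Set G), x' ≠ 1 →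
      (∀ p : ℕ, p.Prime → p ∣ orderOf x' → p ∉ Cfsg.sigma M) → _ :=
    fun M hM x hx hx1 x' hx' hx'1 hσ => sigma_element_dichotomy hG hM hx hx1 hx' hx'1 hσ
  have hr₁ : r₁ ∈ Cfsg.supportR K x₁ := by
    rw [supportR_conj hG hdisj hdich hH hx.1 hx.2]
    exact mem_map_of_mem _ hr
  have hbot : centralizer ({x₁} : Set G) ≤ K → False := fun hC => by
    rw [supportR_eq_bot hC, mem_bot] at hr₁
    rw [hr₁, mul_one] at htu
    exact ht.2 K hK (htu ▸ hx₁)
  by_cases hC : centralizer ({x₁} : Set G) ≤ K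
  · exact hbot hC
  obtain ⟨L, ⟨hL, hCL⟩, huL, hF, -, hτ, -, -⟩ :=
    supporting_structure hG hK hdisj hdich hx₁ hx₁1 hC
  rw [supportR_eq hC hL hCL huL hF] at hr₁
  have hco : (orderOf r₁).Coprime (orderOf x₁) := Nat.coprime_of_dvd fun s hs h1 h2 =>
    (hτ s hs h2).2.1 (sigma_of_dvd_sigmaCore hs (h1.trans (orderOf_dvd_card_of_mem hr₁.1)))
  have hxZ : x₁ ∈ Z := by
    refine mem_of_pow_mem_coprime' hco ?_
    rw [show x₁ ^ orderOf r₁ = t ^ orderOf r₁ by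
      rw [htu, (show Commute x₁ r₁ from (mem_centralizer_singleton_iff.1 hr₁.2).symm).mul_pow,
        pow_orderOf_eq_one, mul_one]]
    exact pow_mem ht.1 _
  exact hC (hmem.member_spec hG hK hxZ hx₁1 hx₁).1

end IsSigmaCovered

theorem one_not_mem_sigmaTilde (hG : Cfsg.IsMinSimpleOddOrder G) {H : Subgroup G}
    (hH : IsCoatom H) : (1 : G) ∉ Cfsg.tildeOf H ((Cfsg.sigmaCore H : Set G) \ {1}) := by
  rintro ⟨x, hx, r, hr, y, he⟩
  have h1 : x * r = 1 := conj_eq_one_iff.1 he.symm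
  obtain ⟨-, hR⟩ := supportR_spec hG (Cfsg.Agent.S1378.result hG).2
    (fun M hM x hx hx1 x' hx' hx'1 hσ => sigma_element_dichotomy hG hM hx hx1 hx' hx'1 hσ)
    hH hx.1 hx.2
  refine hx.2 (mem_bot.1 (hR.2.2.1 ▸ (⟨⟨piCoreOf_le _ _ hx.1, ?_⟩, ?_⟩ :
    x ∈ H ⊓ centralizer ({x} : Set G) ⊓ Cfsg.supportR H x)))
  · exact mem_centralizer_singleton_iff.2 rfl
  · have := inv_mem hr
    rwa [(eq_inv_of_mul_eq_one_left h1).symm] at this

/-- `tildeOf` sets of maximal subgroups with disjoint `σ` are disjoint. -/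
theorem disjoint_sigmaTilde (hG : Cfsg.IsMinSimpleOddOrder G) {H H' : Subgroup G} (hH : IsCoatom H)
    (hH' : IsCoatom H') (hσ : ∀ s ∈ Cfsg.sigma H, s ∉ Cfsg.sigma H') :
    Disjoint (Cfsg.tildeOf H ((Cfsg.sigmaCore H : Set G) \ {1}))
      (Cfsg.tildeOf H' ((Cfsg.sigmaCore H' : Set G) \ {1})) := by
  rw [Set.disjoint_left]
  rintro a ⟨x, hx, r, hr, y, rfl⟩ ⟨x', hx', r', hr', y', he⟩
  have hdisj := (Cfsg.Agent.S1378.result hG).2
  have hdich : ∀ (M : Subgroup G), IsCoatom M → ∀ x ∈ Cfsg.sigmaCore M, x ≠ 1 →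
      ∀ x' ∈ M ⊓ centralizer ({x} : Set G), x' ≠ 1 →
      (∀ p : ℕ, p.Prime → p ∣ orderOf x' → p ∉ Cfsg.sigma M) → _ :=
    fun M hM x hx hx1 x' hx' hx'1 hσ => sigma_element_dichotomy hG hM hx hx1 hx' hx'1 hσ
  have h1 : y * x * y⁻¹ ∈ Cfsg.sigmaCore (H.map (MulAut.conj y).toMonoidHom) := by
    rw [sigmaCore_conj]; exact mem_map_of_mem _ hx.1
  have h2 : y' * x' * y'⁻¹ ∈ Cfsg.sigmaCore (H'.map (MulAut.conj y').toMonoidHom) := by
    rw [sigmaCore_conj]; exact mem_map_of_mem _ hx'.1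
  have hne1 : y * x * y⁻¹ ≠ 1 := fun e => hx.2 (conj_eq_one_iff.1 e)
  have hxx : y * x * y⁻¹ ≠ y' * x' * y'⁻¹ := by
    intro hxx
    obtain ⟨q, hq, hd⟩ := Nat.exists_prime_and_dvd
      (fun e => hne1 (orderOf_eq_one_iff.1 e) : orderOf (y * x * y⁻¹) ≠ 1)
    have hq1 := sigma_of_dvd_sigmaCore hq (hd.trans (orderOf_dvd_card_of_mem h1))
    have hq2 := sigma_of_dvd_sigmaCore hq (hd.trans (orderOf_dvd_card_of_mem (hxx ▸ h2)))
    rw [sigma_conj] at hq1 hq2
    exact hσ q hq1 hq2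
  refine supportR_separated hG (isCoatom_conj hH y) (isCoatom_conj hH' y') h1 h2
    hne1 (fun e => hx'.2 (conj_eq_one_iff.1 e)) hxx (r := y * r * y⁻¹) ?_ (s := y' * r' * y'⁻¹) ?_ ?_
  · rw [supportR_conj hG hdisj hdich hH hx.1 hx.2]
    exact mem_map_of_mem _ hr
  · rw [supportR_conj hG hdisj hdich hH' hx'.1 hx'.2]
    exact mem_map_of_mem _ hr'
  · rw [show y * x * y⁻¹ * (y * r * y⁻¹) = y * (x * r) * y⁻¹ by group, he]
    group

/-- The contradiction of the counting argument. -/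
theorem false_of_sigma_covered (hG : Cfsg.IsMinSimpleOddOrder G) {Z : Subgroup G}
    (hZ : ∀ N : Subgroup G, IsCoatom N → ¬ N ≤ Z)
    (htwo : ∀ N : Subgroup G, IsCoatom N → ¬ Z ≤ Cfsg.sigmaCore N)
    (hmem : ∀ w ∈ Z, (orderOf w).Prime → ∃ N : Subgroup G, IsCoatom N ∧ w ∈ Cfsg.sigmaCore N ∧
      centralizer ({w} : Set G) ≤ N ∧ Z ≤ N ∧ N ≤ Cfsg.sigmaCore N ⊔ Z) : False := by
  classical
  have hcov : IsSigmaCovered Z := hmem
  have hdisj := (Cfsg.Agent.S1378.result hG).2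
  have hdich : ∀ (M : Subgroup G), IsCoatom M → ∀ x ∈ Cfsg.sigmaCore M, x ≠ 1 →
      ∀ x' ∈ M ⊓ centralizer ({x} : Set G), x' ≠ 1 →
      (∀ p : ℕ, p.Prime → p ∣ orderOf x' → p ∉ Cfsg.sigma M) → _ :=
    fun M hM x hx hx1 x' hx' hx'1 hσ => sigma_element_dichotomy hG hM hx hx1 hx' hx'1 hσ
  set I : Finset (Subgroup G) := (Set.toFinite (sigmaMembers Z)).toFinset with hI
  have hIm : ∀ L, L ∈ I ↔ L ∈ sigmaMembers Z := fun L => Set.Finite.mem_toFinset _
  set a : Subgroup G → ℕ := fun L => Nat.card ↥(Z ⊓ Cfsg.sigmaCore L) with ha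
  set T : Subgroup G → Set G := fun L => Cfsg.tildeOf L ((Cfsg.sigmaCore L : Set G) \ {1}) with hT
  set U : Set G := {b : G | ∃ g : G, ∃ t ∈ sigmaReg Z, b = g * t * g⁻¹} with hU
  -- two members
  obtain ⟨L₁, L₂, hL₁, hL₂, hne⟩ := hcov.two_members hG htwo
  have hm : 2 ≤ I.card := Finset.one_lt_card.2 ⟨L₁, (hIm _).2 hL₁, L₂, (hIm _).2 hL₂, hne⟩
  -- the size of one member
  have hone : ∀ L ∈ I, 3 * Nat.card G * a L ≤ 3 * (T L).ncard * Nat.card Z + Nat.card G := by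
    intro L hL
    rw [hIm] at hL
    obtain ⟨hZL, hLd⟩ := hcov.le_member hG hL
    set S := Cfsg.sigmaCore L with hS
    have hSL : S ≤ L := piCoreOf_le _ _
    have hTc : (T L).ncard = (Nat.card S - 1) * L.index :=
      ncard_tildeOf hG hdisj hdich
        (fun M N hM hN x y hx hy hx1 hy1 hxy r hr s hs =>
          supportR_separated hG hM hN hx hy hx1 hy1 hxy hr hs) hL.1
    have hrel : S.relIndex L = (Z ⊓ S).relIndex Z := by
      rw [show L = S ⊔ Z from le_antisymm hLd (sup_le hSL hZL),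
        Solvable.relIndex_sup_of_le_normalizer (N := S) (hZL.trans (le_normalizer_piCoreOf _ _)),
        inf_relIndex_left]
    have h1 : Nat.card Z = a L * (Z ⊓ S).relIndex Z := by
      rw [ha, ← ((Z ⊓ S).subgroupOf Z).card_mul_index,
        Nat.card_congr (subgroupOfEquivOfLe (inf_le_left : Z ⊓ S ≤ Z)).toEquiv]
      rfl
    have h2 : Nat.card L = Nat.card S * S.relIndex L := by
      rw [← (S.subgroupOf L).card_mul_index, Nat.card_congr (subgroupOfEquivOfLe hSL).toEquiv]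
      rfl
    have h3 : Nat.card G = Nat.card L * L.index := L.card_mul_index.symm
    have h4 : 3 * a L ≤ Nat.card S := by
      set j := (Z ⊓ S).relIndex S with hj
      have hj1 : Nat.card S = a L * j := by
        rw [ha, hj, ← ((Z ⊓ S).subgroupOf S).card_mul_index,
          Nat.card_congr (subgroupOfEquivOfLe (inf_le_right : Z ⊓ S ≤ S)).toEquiv]
        rfl
      have hjne : j ≠ 1 := fun h => hZ L hL.1 (hLd.trans (sup_le
        ((relIndex_eq_one.1 h).trans inf_le_left) le_rfl))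
      have hjodd : Odd j := (odd_card_subgroup hG S).of_dvd_nat (hj1 ▸ Dvd.intro_left _ rfl)
      have h3j : 3 ≤ j := by
        obtain ⟨i, hi⟩ := hjodd
        omega
      rw [hj1, mul_comm 3]
      exact Nat.mul_le_mul_left _ h3j
    obtain ⟨e, he⟩ : ∃ e, Nat.card S = e + 1 := ⟨Nat.card S - 1, by
      have := Nat.card_pos (α := S); omega⟩
    rw [hTc, he, Nat.add_sub_cancel, h3, h2, h1, ← hrel, he]
    rw [he] at h4
    calc 3 * ((e + 1) * S.relIndex L * L.index) * a L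
        = 3 * e * (L.index * (a L * S.relIndex L)) + 3 * a L * (S.relIndex L * L.index) := by ring
      _ ≤ 3 * (e * L.index) * (a L * S.relIndex L) + (e + 1) * S.relIndex L * L.index := by
          have := Nat.mul_le_mul_right (S.relIndex L * L.index) h4
          nlinarith
  -- the regular part
  have hUc := hcov.ncard_conj_reg hG htwo
  -- the partition of `Z`
  have hpart : (sigmaReg Z).ncard + ∑ L ∈ I, a L + 1 = Nat.card Z + I.card := by
    set A : Subgroup G → Finset G := fun L =>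
      (Set.toFinite ((↑(Z ⊓ Cfsg.sigmaCore L) : Set G) \ {1})).toFinset with hA
    have hAc : ∀ L, (A L).card + 1 = a L := fun L => by
      rw [hA, ← Set.ncard_eq_toFinset_card _, ha]
      rw [Set.ncard_sdiff_singleton_add_one (one_mem _)]
      rfl
    have hAd : (I : Set (Subgroup G)).PairwiseDisjoint A := fun L hL L' hL' hne' => by
      rw [Function.onFun, Finset.disjoint_left]
      intro w hw hw'
      simp only [hA, Set.Finite.mem_toFinset, Set.mem_diff, SetLike.mem_coe,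
        Set.mem_singleton_iff] at hw hw'
      refine hne' ((hcov.member_spec hG ((hIm L').1 hL').1 hw'.1.1 hw'.2 hw'.1.2).2.2.2 L
        ((hIm L).1 hL).1 hw.1.2)
    set R := (Set.toFinite (sigmaReg Z)).toFinset with hR
    have hRd : Disjoint R (I.biUnion A) := by
      rw [Finset.disjoint_left]
      intro w hw hw'
      simp only [hR, Set.Finite.mem_toFinset] at hw
      obtain ⟨L, hL, hwL⟩ := Finset.mem_biUnion.1 hw'
      simp only [hA, Set.Finite.mem_toFinset, Set.mem_diff, SetLike.mem_coe] at hwL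
      exact hw.2 L ((hIm L).1 hL).1 hwL.1.2
    have huni : R ∪ I.biUnion A = (Set.toFinite ((Z : Set G) \ {1})).toFinset := by
      ext w
      simp only [hR, hA, Finset.mem_union, Finset.mem_biUnion, Set.Finite.mem_toFinset,
        Set.mem_diff, SetLike.mem_coe, Set.mem_singleton_iff]
      constructor
      · rintro (h | ⟨L, hL, h⟩)
        · exact ⟨h.1, fun e => h.2 L₁ hL₁.1 (e ▸ one_mem _)⟩
        · exact ⟨h.1.1, h.2⟩
      · rintro ⟨hwZ, hw1⟩
        by_cases hc : ∀ L : Subgroup G, IsCoatom L → w ∉ Cfsg.sigmaCore L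
        · exact Or.inl ⟨hwZ, hc⟩
        · push Not at hc
          obtain ⟨L, hL, hwL⟩ := hc
          exact Or.inr ⟨L, (hIm L).2 ⟨hL, fun hb => hw1 (mem_bot.1 (hb ▸ ⟨hwZ, hwL⟩))⟩,
            ⟨hwZ, hwL⟩, hw1⟩
    have hc := congrArg Finset.card huni
    rw [Finset.card_union_of_disjoint hRd, Finset.card_biUnion hAd, hR,
      ← Set.ncard_eq_toFinset_card _, ← Set.ncard_eq_toFinset_card _] at hc
    have h1 : ((Z : Set G) \ {1}).ncard + 1 = Nat.card Z := by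
      rw [Set.ncard_sdiff_singleton_add_one (one_mem Z)]
      rfl
    have h2 : ∑ L ∈ I, a L = ∑ L ∈ I, (A L).card + I.card := by
      rw [Finset.card_eq_sum_ones I, ← Finset.sum_add_distrib]
      exact Finset.sum_congr rfl fun L _ => (hAc L).symm
    omega
  -- everything fits in `G ∖ 1`
  have htot : U.ncard + ∑ L ∈ I, (T L).ncard + 1 ≤ Nat.card G := by
    set B : Subgroup G → Finset G := fun L => (Set.toFinite (T L)).toFinset with hB
    have hBd : (I : Set (Subgroup G)).PairwiseDisjoint B := fun L hL L' hL' hne' => by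
      rw [Function.onFun, hB, Set.Finite.disjoint_toFinset]
      exact disjoint_sigmaTilde hG ((hIm L).1 hL).1 ((hIm L').1 hL').1 fun s hs =>
        hcov.sigma_disjoint_members hG ((hIm L).1 hL) ((hIm L').1 hL') hne' hs
    set V := (Set.toFinite U).toFinset with hV
    have hVd : Disjoint V (I.biUnion B) := by
      rw [Finset.disjoint_left]
      intro w hw hw'
      simp only [hV, Set.Finite.mem_toFinset] at hw
      obtain ⟨g, t, ht, rfl⟩ := hw
      obtain ⟨L, hL, hwL⟩ := Finset.mem_biUnion.1 hw'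
      simp only [hB, Set.Finite.mem_toFinset] at hwL
      exact hcov.reg_not_mem_tilde hG ht ((hIm L).1 hL).1 hwL
    have h1 : (1 : G) ∉ V ∪ I.biUnion B := by
      simp only [hV, hB, Finset.mem_union, Finset.mem_biUnion, Set.Finite.mem_toFinset]
      rintro (⟨g, t, ht, he⟩ | ⟨L, hL, h⟩)
      · exact ht.2 L₁ hL₁.1 (conj_eq_one_iff.1 he.symm ▸ one_mem _)
      · exact one_not_mem_sigmaTilde hG ((hIm L).1 hL).1 h
    haveI := Fintype.ofFinite G
    have hc : (insert 1 (V ∪ I.biUnion B)).card ≤ Nat.card G := by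
      rw [Nat.card_eq_fintype_card]
      exact Finset.card_le_univ _
    rw [Finset.card_insert_of_notMem h1, Finset.card_union_of_disjoint hVd,
      Finset.card_biUnion hBd, hV, ← Set.ncard_eq_toFinset_card _] at hc
    rw [show ∑ L ∈ I, (B L).card = ∑ L ∈ I, (T L).ncard from
      Finset.sum_congr rfl fun L _ => (Set.ncard_eq_toFinset_card _).symm] at hc
    exact hc
  have hsum := Finset.sum_le_sum hone
  rw [Finset.sum_add_distrib, Finset.sum_const, smul_eq_mul, ← Finset.mul_sum,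
    ← Finset.sum_mul, ← Finset.mul_sum] at hsum
  have h5 := Nat.mul_le_mul_left (3 * Nat.card Z) htot
  have h6 := congrArg (3 * ·) hUc
  have h7 := congrArg (3 * Nat.card G * ·) hpart
  have h8 : 0 < Nat.card G := Nat.card_pos
  have h9 : 0 < Nat.card Z := Nat.card_pos
  simp only [← hU] at h6
  nlinarith

end CfsgLib.OddOrder
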