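import Cfsg.Agent.Lib.OddOrder.KappaMembers
import Cfsg.Agent.Lib.OddOrder.SigmaCount

/-!
BG 14.2 (a): `κ(M) ⊆ τ₁(M)` and the Hall `κ(M)`-subgroups are cyclic.
-/

set_option autoImplicit false
set_option linter.style.haveILetI false

open scoped commutatorElement Pointwise

namespace CfsgLib.OddOrder

open Subgroup

variable {G : Type*} [Group G] [Finite G] (hG : Cfsg.IsMinSimpleOddOrder G) {M : Subgroup G}
  (hM : IsCoatom M)
include hG hM

/-- `τ₃(M)` has no `κ(M)` prime. -/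
theorem kappa_not_tau3 {q : ℕ} (hqκ : q ∈ Cfsg.kappa M) : q ∉ Cfsg.tau3 M := by
  intro h3
  haveI hq := Fact.mk hqκ.1
  obtain ⟨u', hu'⟩ := exists_prime_orderOf_dvd_card' q hqκ.2.1
  set u : G := (u' : G)
  have huo : orderOf u = q := by rw [orderOf_coe, hu']
  have huM : u ∈ M := u'.2
  have hu1 : u ≠ 1 := fun h => hq.out.ne_one (by rw [← huo, h, orderOf_one])
  have hW0 := kappa_centralizer_ne_bot hqκ huM (huo ▸ pow_orderOf_eq_one u)
  have hQ : Nat.card (zpowers u) = q := by rw [Nat.card_zpowers, huo]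
  obtain ⟨H, hH, hN⟩ := exists_isCoatom_ge (normalizer_ne_top hG (ne_bot_of_prime_card hQ)
    (isPGroup_ne_top hG (isPGroup_of_prime_card hQ)))
  obtain ⟨E, hle, hE⟩ := exists_complement_ge hG hM (zpowers_le.2 huM) fun s hs hd => by
    rw [hQ, Nat.prime_dvd_prime_iff_eq hs hq.out] at hd
    exact hd ▸ h3.2.1
  have huE : u ∈ E := hle (mem_zpowers u)
  obtain ⟨hne, hMH, hqH, huH, heq, -⟩ := pair_facts hG hM h3 huM huo hW0 hH hN
  have hEC := complement_centralizes hG hM h3 huM huo hW0 hH hN hE huE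
  set W := Cfsg.sigmaCore M ⊓ centralizer ({u} : Set G) with hWdef
  set Z := W ⊔ E with hZdef
  have hWM : W ≤ M := inf_le_left.trans (piCoreOf_le _ _)
  have hEN := complement_le_normalizer hG hM h3 huM huo hE huE
  have hZM : Z ≤ M := sup_le hWM hE.1
  have hZH : Z ≤ H := sup_le (heq.ge.trans inf_le_right) (hEN.trans hN)
  have hMZ : M ≤ Cfsg.sigmaCore M ⊔ Z := fun m hm => by
    obtain ⟨e, he, s, hs, rfl⟩ := hE.2.2.2 m hm
    exact mul_mem (mem_sup_right (mem_sup_right he)) (mem_sup_left hs)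
  refine false_of_sigma_covered hG (Z := Z) (fun N hN' hle' => ?_) (fun N hN' hle' => ?_)
    fun w hw hwp => ?_
  · have h1 : M ≤ N := (((isCoatom_iff_ge_of_le.1 hN').2 M hM.1 (hle'.trans hZM)))
    exact hne (((isCoatom_iff_ge_of_le.1 hM).2 H hH.1 ((h1.trans hle').trans hZH)).antisymm
      ((h1.trans hle').trans hZH))
  · obtain ⟨r, hr, hrd⟩ := Nat.exists_prime_and_dvd fun h => hW0 (card_eq_one.1 h)
    have hrσ : r ∈ Cfsg.sigma M :=
      sigma_of_dvd_sigmaCore hr (hrd.trans (card_dvd_of_le inf_le_left))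
    obtain ⟨g, hg⟩ := (Cfsg.Agent.S1378.result hG).2 M N hM hN' ⟨r, hrσ,
      sigma_of_dvd_sigmaCore hr (hrd.trans (card_dvd_of_le (le_sup_left.trans hle')))⟩
    refine h3.2.1 ?_
    have := sigma_of_dvd_sigmaCore (M := N) hq.out
      (huo ▸ orderOf_dvd_card_of_mem (hle' (mem_sup_right huE)))
    rwa [hg, sigma_conj] at this
  haveI := Fact.mk hwp
  obtain ⟨s, hs, e, he, hse⟩ :=
    (Solvable.mem_sup_of_le_normalizer (hEC.trans (centralizer_le_normalizer _))).mp hw
  have hwc : Nat.card (zpowers w) = orderOf w := Nat.card_zpowers w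
  by_cases htσ : orderOf w ∈ Cfsg.sigma M
  · have hwσ : w ∈ Cfsg.sigmaCore M :=
      le_sigmaCore_of_pgroup hG hM htσ (isPGroup_of_prime_card hwc) (zpowers_le.2 (hZM hw))
        (mem_zpowers w)
    refine ⟨M, hM, hwσ, ?_, hZM, hMZ⟩
    have hwW : w ∈ W := heq.le (mem_inf.2 ⟨hwσ, hZH hw⟩)
    exact centralizer_le_of_prime_fixed hG hM huo huM h3.2.1 h3.2.2.2 hwσ
      (fun h => hwp.ne_one (by rw [h, orderOf_one]))
      (show Commute u w from (mem_centralizer_singleton_iff.1 hwW.2).symm)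
  · have hwE : w ∈ E := by
      have hco : (Nat.card W).Coprime (orderOf w) := by
        refine (hwp.coprime_iff_not_dvd.2 fun h => htσ ?_).symm
        exact sigma_of_dvd_sigmaCore hwp (h.trans (card_dvd_of_le inf_le_left))
      obtain ⟨m, hm⟩ := exists_pow_eq_self_of_coprime hco
      have h1 : w ^ Nat.card W = e ^ Nat.card W := by
        rw [← hse, (show Commute s e from hEC he s hs).mul_pow,
          show s ^ Nat.card W = 1 from congrArg Subtype.val (pow_card_eq_one' (x := (⟨s, hs⟩ : W))),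
          one_mul]
      rw [← hm, h1]
      exact pow_mem (pow_mem he _) _
    obtain ⟨L, hL, hNL⟩ := exists_isCoatom_ge (normalizer_ne_top hG (ne_bot_of_prime_card hwc)
      (isPGroup_ne_top hG (isPGroup_of_prime_card hwc)))
    exact ⟨L, hL, pair_member hG hM h3 huM huo hW0 hH hN hE huE hwE rfl hL hNL⟩

/-- BG 14.2: `κ(M) ⊆ τ₁(M)`. -/
theorem kappa_tau1 {q : ℕ} (hqκ : q ∈ Cfsg.kappa M) : q ∈ Cfsg.tau1 M :=
  (kappa_tau13 hG hM hqκ).resolve_right (kappa_not_tau3 hG hM hqκ)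

/-- BG 14.2: a Hall `κ(M)`-subgroup is cyclic. -/
theorem isCyclic_kappa_hall {K : Subgroup G} (hK : Cfsg.IsPiHallOf (Cfsg.kappa M) K M) :
    IsCyclic K := by
  obtain ⟨E, hKE, hE⟩ := exists_complement_ge hG hM hK.1 fun s hs hd =>
    kappa_not_sigma (hK.2.1 s hs hd)
  obtain ⟨E₁, -, hle, hc⟩ := exists_tau1_hall_ge hG hM hE hKE fun s hs hd =>
    kappa_tau1 hG hM (hK.2.1 s hs hd)
  haveI := hc
  exact isCyclic_of_le hle

end CfsgLib.OddOrder
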