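import Cfsg.Agent.Lib.OddOrder.KappaTau3

/-!
The standard factorisation `M = K U M_σ` with `K` cyclic: `C_U(k) = 1` and its companions.
-/

set_option autoImplicit false
set_option linter.style.haveILetI false

open scoped commutatorElement Pointwise

namespace CfsgLib.OddOrder

open Subgroup

variable {G : Type*} [Group G] [Finite G] (hG : Cfsg.IsMinSimpleOddOrder G) {M : Subgroup G}
  (hM : IsCoatom M)
include hG hM

/-- An element normalizing `A` and fixing a line `R` of `A` with `M` the only maximal subgroup over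
`C(R)` centralizes `A`, unless it acts freely on `M_σ`. -/
theorem false_of_tau2_mover {p s : ℕ} [hp : Fact p.Prime] [hs : Fact s.Prime]
    (hp2 : p ∈ Cfsg.tau2 M) (hsp : s ≠ p) {A : Subgroup G} (hAM : A ≤ M)
    (hA : Cfsg.IsElementaryAbelian p A) (hA2 : Nat.card A = p ^ 2) {R : Subgroup G}
    (hR : Nat.card R = p) (hRA : R ≤ A)
    (hu : ∀ L : Subgroup G, IsCoatom L → centralizer (R : Set G) ≤ L → L = M) {d : G}
    (hds : IsPGroup s (zpowers d)) (hdA : d ∈ normalizer (A : Set G))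
    (hdR : d ∈ centralizer (R : Set G)) (hdC : d ∉ centralizer (A : Set G))
    (hdσ : Cfsg.sigmaCore M ⊓ centralizer ({d} : Set G) ≠ ⊥) : False := by
  have hA1 : A ≠ ⊥ := fun h => ne_bot_of_prime_card hR (le_bot_iff.1 (h ▸ hRA))
  obtain ⟨L, hL, hNL⟩ := exists_isCoatom_ge (normalizer_ne_top hG hA1
    (isPGroup_ne_top hG (isPGroup_of_exp hA.2)))
  have hAL : A ≤ L := le_normalizer.trans hNL
  have hdL : d ∈ L := hNL hdA
  have hNM : ¬ normalizer (A : Set G) ≤ M := by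
    obtain ⟨E, hAE, hE⟩ := exists_complement_ge hG hM hAM fun q hq hd => by
      rw [hA2] at hd
      rw [(Nat.prime_dvd_prime_iff_eq hq hp.out).1 (hq.dvd_of_dvd_pow hd)]
      exact hp2.2.1
    exact (Cfsg.Agent.S1418.result hG M hM E hE p hp2 A ⟨hAE, hA, hA2⟩).2.1.2.2
  have hLM : L ≠ M := fun h => hNM (h ▸ hNL)
  have h0 : Cfsg.sigmaCore M ⊓ L = ⊥ :=
    (Cfsg.Agent.S1417.result hG M hM p hp2 A ⟨hAM, hA, hA2⟩).2.2.2.2.1 L hL hLM hAL
  have hpL : p ∈ Cfsg.sigma L := by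
    by_contra hpL
    obtain ⟨E, hAE, hE⟩ := exists_complement_ge hG hL hAL fun q hq hd => by
      rw [hA2] at hd
      rw [(Nat.prime_dvd_prime_iff_eq hq hp.out).1 (hq.dvd_of_dvd_pow hd)]
      exact hpL
    exact (Cfsg.Agent.S1418.result hG L hL E hE p (mem_tau2_of_elementary hG hL hpL hAL hA hA2) A
      ⟨hAE, hA, hA2⟩).2.1.2.2 hNL
  have hRσ : R ≤ Cfsg.sigmaCore L :=
    le_sigmaCore_of_pgroup hG hL hpL (isPGroup_of_prime_card hR) (hRA.trans hAL)
  have hd1 : zpowers d ≠ ⊥ := fun h => hdC (zpowers_eq_bot.1 h ▸ one_mem _)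
  have hder : d ∉ ⁅L, L⁆ := fun h => hdC (mem_centralizer_of_derived hG hL hAL h hdA fun q hq hd => by
    rw [hA2] at hd
    rw [(Nat.prime_dvd_prime_iff_eq hq hp.out).1 (hq.dvd_of_dvd_pow hd)]
    refine ⟨fun hβ => not_idealPrime hG hM hp2.2.2.1 hp2.2.2.2 hβ.2, fun hd' => hsp ?_⟩
    exact (prime_eq_of_dvd_pgroup hds hp.out (by rwa [Nat.card_zpowers])).symm)
  have hsL : s ∣ Nat.card L := (dvd_card_of_isPGroup hds hd1).trans
    (card_dvd_of_le (zpowers_le.2 hdL))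
  by_cases hsσ : s ∈ Cfsg.sigma L
  · refine hder ?_
    obtain ⟨z, hz, hzd⟩ := le_sigmaCore_of_pgroup hG hL hsσ hds (zpowers_le.2 hdL) (mem_zpowers d)
    rw [← map_subtype_commutator]
    exact ⟨z, piCore_sigma_le_commutator hG hL hz, hzd⟩
  rcases tau_cases_of_not_sigma hG hL hs.out hsL hsσ with h | h | h
  · obtain ⟨V, hVd, hV⟩ := exists_le_card_prime hds hd1
    refine hLM (hu L hL (tau1_centralizer_unique hG hL h hV (hVd.trans (zpowers_le.2 hdL)) hR
      (le_inf hRσ ?_)).1)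
    exact le_centralizer_iff.1 (hVd.trans (zpowers_le.2 hdR))
  · obtain ⟨r, hr⟩ := exists_prime_orderOf_dvd_card' p (dvd_of_eq hR.symm)
    have hr1 : (r : G) ≠ 1 := fun e => by
      rw [← orderOf_coe, e, orderOf_one] at hr
      exact hp.out.ne_one hr.symm
    obtain ⟨E, -, hE⟩ := exists_complement_ge hG hL (bot_le : (⊥ : Subgroup G) ≤ L)
      fun q hq hd => absurd (Subgroup.card_bot (G := G) ▸ hd) hq.not_dvd_one
    have hC := ((Cfsg.Agent.S1420.result hG L hL E hE).2.2.2 d hdL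
      (fun e => hdC (e ▸ one_mem _)) (fun q hq hd => by
        rw [prime_eq_of_dvd_pgroup hds hq (by rwa [Nat.card_zpowers])]
        exact h) ⟨hdL, r, hRσ r.2, hr1, (hdR r r.2).symm⟩).1
    exact hdσ (le_bot_iff.1 ((inf_le_inf_left _ hC).trans h0.le))
  · exact hder (mem_derived_of_tau3 hG hL h hdL hds)

/-- An element of order `p ∈ κ(M) ∩ τ₁(M)` commutes with no element of prime order outside
`σ(M) ∪ κ(M)`. -/
theorem false_of_tau1_commute {p r : ℕ} [hp : Fact p.Prime] [hr : Fact r.Prime]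
    (hpκ : p ∈ Cfsg.kappa M) (hp1 : p ∈ Cfsg.tau1 M) {a u : G} (haM : a ∈ M) (hao : orderOf a = p)
    (huM : u ∈ M) (huo : orderOf u = r) (hau : Commute a u) (hrσ : r ∉ Cfsg.sigma M)
    (hrκ : r ∉ Cfsg.kappa M) : False := by
  have hap : a ^ p = 1 := hao ▸ pow_orderOf_eq_one a
  have hPc : Nat.card (zpowers a) = p := by rw [Nat.card_zpowers, hao]
  have hRc : Nat.card (zpowers u) = r := by rw [Nat.card_zpowers, huo]
  have hPR : zpowers u ≤ centralizer (zpowers a : Set G) := by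
    rw [zpowers_le]
    rintro _ ⟨i, rfl⟩
    exact (hau.zpow_left i).eq
  have hCP : Cfsg.sigmaCore M ⊓ centralizer (zpowers a : Set G) ≠ ⊥ := by
    rw [zpowers_eq_closure, centralizer_closure]
    exact kappa_centralizer_ne_bot hpκ haM hap
  have hle := centralizer_le_of_commute hG hM hp1.2.1 hp1.2.2.2.2 hp1.2.2.2.1 hPc
    (zpowers_le.2 haM) hRc (zpowers_le.2 huM) hPR hrσ
  have hCR : Cfsg.sigmaCore M ⊓ centralizer (zpowers u : Set G) ≠ ⊥ :=
    fun h => hCP (le_bot_iff.1 (h ▸ hle))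
  have hrM : r ∣ Nat.card M := huo ▸ orderOf_dvd_card_of_mem huM
  by_cases hr1 : Cfsg.PRankLE r 1 M
  · refine hCR ?_
    rw [zpowers_eq_closure, centralizer_closure]
    exact sigmaCore_inf_centralizer_eq_bot_of_not_kappa hG hM hrM hrσ hrκ hr1 huM
      (huo ▸ pow_orderOf_eq_one u) fun h => hr.out.ne_one (by rw [← huo, h, orderOf_one])
  have hr2 : r ∈ Cfsg.tau2 M := ⟨hr.out, hrσ, pRankLE_two_of_not_sigma hG hM hr.out hrσ, hr1⟩
  have hpr : p ≠ r := fun h => hr1 (h ▸ hp1.2.2.2.2)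
  obtain ⟨E, hle', hE⟩ := exists_complement_ge hG hM
    (sup_le (zpowers_le.2 haM) (zpowers_le.2 huM) : zpowers a ⊔ zpowers u ≤ M) fun q hq hd => by
      rcases hq.dvd_mul.1 (hd.trans (card_sup_dvd_mul_of_le_normalizer
        (hPR.trans (centralizer_le_normalizer _)))) with h | h
      · rw [hPc, Nat.prime_dvd_prime_iff_eq hq hp.out] at h
        exact h ▸ hp1.2.1
      · rw [hRc, Nat.prime_dvd_prime_iff_eq hq hr.out] at h
        exact h ▸ hrσ
  have haE : a ∈ E := hle' (mem_sup_left (mem_zpowers a))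
  obtain ⟨A, hAE, hA, hA2⟩ := exists_elementary_in_complement hG hM hE hr2
  obtain ⟨⟨hEA, hall⟩, -, hu⟩ := Cfsg.Agent.S1418.result hG M hM E hE r hr2 A ⟨hAE, hA, hA2⟩
  have hRA : zpowers u ≤ A := hall _ (zpowers_le.2 (hle' (mem_sup_right (mem_zpowers u)))) hRc
  refine false_of_tau2_mover hG hM hr2 hpr (hAE.trans hE.1) hA hA2 hRc hRA (hu _ hRA hRc hCR).2
    (isPGroup_of_prime_card hPc) (hEA haE) ?_ ?_ ?_
  · rintro _ ⟨i, rfl⟩
    exact (hau.symm.zpow_left i).eq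
  · intro haA
    obtain ⟨-, -, h0⟩ := tau2_facts hG hM hr2 (hAE.trans hE.1) hA hA2
    refine hCP (le_bot_iff.1 (h0 ▸ le_inf inf_le_left (le_centralizer_iff.1 fun b hb => ?_)))
    by_cases hb1 : b = 1
    · rw [hb1]; exact one_mem _
    have hb' := centralizer_le_of_commute (R := zpowers b) hG hM hp1.2.1 hp1.2.2.2.2 hp1.2.2.2.1
      hPc (zpowers_le.2 haM) (by rw [Nat.card_zpowers, orderOf_eq_prime (hA.2 b hb) hb1])
      (zpowers_le.2 (hE.1 (hAE hb))) (zpowers_le.2 (by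
        rintro _ ⟨i, rfl⟩
        exact ((show Commute a b from (haA b hb).symm).zpow_left i).eq)) hrσ
    intro c hc
    exact ((hb' hc).2 b (mem_zpowers b)).symm
  · exact fun h => hCP (by rw [zpowers_eq_closure, centralizer_closure]; exact h)

variable {K : Subgroup G} (hKc : IsCyclic K) (hK : Cfsg.IsPiHallOf (Cfsg.kappa M) K M)
include hKc hK

/-- An element of order `p ∈ κ(M)` commutes with no element of prime order outside `σ(M) ∪ κ(M)`. -/
theorem false_of_kappa_commute {p r : ℕ} [hp : Fact p.Prime] [hr : Fact r.Prime]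
    (hpκ : p ∈ Cfsg.kappa M) {a u : G} (haM : a ∈ M) (hao : orderOf a = p) (huM : u ∈ M)
    (huo : orderOf u = r) (hau : Commute a u) (hrσ : r ∉ Cfsg.sigma M)
    (hrκ : r ∉ Cfsg.kappa M) : False := by
  exact false_of_tau1_commute hG hM hpκ (kappa_subset_tau1 hG hM hKc hK hpκ) haM hao huM huo hau
    hrσ hrκ

/-- `C_{M_σ}(k) = C_{M_σ}(K)` for `k ∈ K ∖ 1`. -/
theorem kappa_prime_action {k : G} (hk : k ∈ K) (hk1 : k ≠ 1) :
    Cfsg.sigmaCore M ⊓ centralizer ({k} : Set G) = Cfsg.sigmaCore M ⊓ centralizer (K : Set G) := by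
  refine le_antisymm ?_ (inf_le_inf_left _ (centralizer_le (Set.singleton_subset_iff.2 hk)))
  obtain ⟨p, hp, hpd⟩ := Nat.exists_prime_and_dvd fun h => hk1 (orderOf_eq_one_iff.1 h)
  haveI := Fact.mk hp
  obtain ⟨a, ha⟩ := exists_prime_orderOf_dvd_card' (G := zpowers k) p (by rwa [Nat.card_zpowers])
  have haK : (a : G) ∈ K := zpowers_le.2 hk a.2
  have hpκ : p ∈ Cfsg.kappa M := hK.2.1 p hp (hpd.trans (orderOf_dvd_card_of_mem hk))
  have hp1 := kappa_subset_tau1 hG hM hKc hK hpκ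
  set P := zpowers (a : G) with hPdef
  have hP : Nat.card P = p := by rw [Nat.card_zpowers, orderOf_coe, ha]
  have h1 : Cfsg.sigmaCore M ⊓ centralizer (P : Set G) ≤ centralizer (K : Set G) := by
    refine le_centralizer_iff.1 (le_of_pgroups_le fun s hs S hS hSK v hv => ?_)
    haveI := Fact.mk hs
    by_cases hv1 : v = 1
    · rw [hv1]; exact one_mem _
    have hvs : IsPGroup s (zpowers v) := hS.to_le (zpowers_le.2 hv)
    have hsκ : s ∈ Cfsg.kappa M := hK.2.1 s hs ((dvd_card_of_isPGroup hvs fun h =>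
      hv1 (zpowers_eq_bot.1 h)).trans (card_dvd_of_le (zpowers_le.2 (hSK hv))))
    have hs1 := kappa_subset_tau1 hG hM hKc hK hsκ
    haveI := hKc
    intro c hc
    exact mem_centralizer_singleton_iff.1 (centralizer_le_of_tau1_commute hG hM hp1 hP
      (zpowers_le.2 (hK.1 haK)) hs1.2.1 hs1.2.2.2.2 hvs (hK.1 (hSK hv))
      (fun x hx => setLike_mul_comm (zpowers_le.2 haK hx) (hSK hv)) hc)
  refine le_inf inf_le_left (le_trans (inf_le_inf_left _ ?_) h1)
  rw [← centralizer_closure ({k} : Set G), ← zpowers_eq_closure]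
  exact centralizer_le (zpowers_le.2 a.2)

theorem kappa_fixed_ne_bot : Cfsg.sigmaCore M ⊓ centralizer (K : Set G) ≠ ⊥ := by
  by_cases h : K = ⊥
  · intro h0
    refine sigmaCore_ne_bot hG hM (le_bot_iff.1 (h0 ▸ le_inf le_rfl ?_))
    rw [h]
    intro x _ y hy
    rw [mem_bot.1 hy, one_mul, mul_one]
  obtain ⟨k, hk, hk1⟩ := K.bot_or_exists_ne_one.resolve_left h
  obtain ⟨p, hp, hpd⟩ := Nat.exists_prime_and_dvd fun h => hk1 (orderOf_eq_one_iff.1 h)
  haveI := Fact.mk hp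
  obtain ⟨a, ha⟩ := exists_prime_orderOf_dvd_card' (G := zpowers k) p (by rwa [Nat.card_zpowers])
  have haK : (a : G) ∈ K := zpowers_le.2 hk a.2
  have hap : (a : G) ^ p = 1 := by rw [← ha, ← orderOf_coe, pow_orderOf_eq_one]
  have ha1 : (a : G) ≠ 1 := fun e => hp.ne_one (by rw [← ha, ← orderOf_coe, e, orderOf_one])
  rw [← kappa_prime_action hG hM hKc hK haK ha1]
  exact kappa_centralizer_ne_bot (hK.2.1 p hp (hpd.trans (orderOf_dvd_card_of_mem hk)))
    (hK.1 haK) hap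

omit hKc hK in
/-- `C_U(k) = 1` for `k ∈ K ∖ 1`. -/
theorem decomposition_inf_centralizer {U : Subgroup G} (hKU : Cfsg.IsSigmaDecomposition M K U)
    {k : G} (hk : k ∈ K) (hk1 : k ≠ 1) : U ⊓ centralizer ({k} : Set G) = ⊥ := by
  by_contra hne
  obtain ⟨r, hr, hrd⟩ := Nat.exists_prime_and_dvd fun h => hne (card_eq_one.1 h)
  haveI := Fact.mk hr
  obtain ⟨u, hu⟩ := exists_prime_orderOf_dvd_card' r hrd
  obtain ⟨p, hp, hpd⟩ := Nat.exists_prime_and_dvd fun h => hk1 (orderOf_eq_one_iff.1 h)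
  haveI := Fact.mk hp
  obtain ⟨a, ha⟩ := exists_prime_orderOf_dvd_card' (G := zpowers k) p (by rwa [Nat.card_zpowers])
  obtain ⟨hrσ, hrκ⟩ := decomposition_U_primes hG hM hKU hr (hrd.trans (card_dvd_of_le inf_le_left))
  obtain ⟨i, hi⟩ := mem_zpowers_iff.1 a.2
  refine false_of_kappa_commute hG hM hKU.cyclic hKU.hall
    (hKU.hall.2.1 p hp (hpd.trans (orderOf_dvd_card_of_mem hk))) (a := (a : G)) (u := (u : G))
    (hKU.hall.1 (zpowers_le.2 hk a.2)) (by rw [orderOf_coe, ha]) (hKU.compl.1 u.2.1)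
    (by rw [orderOf_coe, hu]) ?_ hrσ hrκ
  rw [← hi]
  exact (show Commute k (u : G) from (mem_centralizer_singleton_iff.1 u.2.2).symm).zpow_left i

/-- A cyclic Hall `κ(M)`-subgroup has a complement in some complement of `M_σ`. -/
theorem exists_sigma_decomposition : ∃ U : Subgroup G, Cfsg.IsSigmaDecomposition M K U := by
  obtain ⟨E, hKE, hE⟩ := exists_complement_ge hG hM hK.1 fun s hs hd =>
    kappa_not_sigma (hK.2.1 s hs hd)
  haveI hEs := isSolvable_of_ne_top hG (H := E) fun h => hM.1 (top_le_iff.1 (h ▸ hE.1))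
  obtain ⟨U, hU, hDU⟩ := exists_isPiHallOf_ge (π := {q | q.Prime ∧ q ∉ Cfsg.kappa M}) hEs
    (commutator_le_self E) fun q hq hd => ⟨hq, fun hκ =>
      (kappa_subset_tau1 hG hM hKc hK hκ).2.2.2.1 (hd.trans (card_dvd_of_le
        (commutator_mono hE.1 hE.1)))⟩
  have hEU : E ≤ normalizer (U : Set G) := by
    rw [le_normalizer_iff]
    intro g hg x hx
    have h1 := mul_mem (hDU (commutator_mem_commutator hg (hU.1 hx))) hx
    rwa [commutatorElement_def, inv_mul_cancel_right] at h1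
  have hKn : K ≤ normalizer (U : Set G) := hKE.trans hEU
  have hUK : U ⊓ K = ⊥ := inf_eq_bot_of_coprime (Nat.coprime_of_dvd fun q hq h1 h2 =>
    (hU.2.1 q hq h1).2 (hK.2.1 q hq h2))
  have hUKE : U ⊔ K = E := by
    refine eq_of_le_of_card_ge (sup_le hU.1 hKE) (Nat.le_of_dvd Nat.card_pos ?_)
    rw [Solvable.card_sup_of_disjoint hKn (disjoint_iff.2 hUK), ← relIndex_bot_left E,
      ← relIndex_mul_relIndex ⊥ U E bot_le hU.1, relIndex_bot_left]
    refine Nat.mul_dvd_mul_left _ ?_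
    have h1 : U.relIndex E ∣ Nat.card K * K.relIndex M := by
      rw [← relIndex_bot_left K, relIndex_mul_relIndex ⊥ K M bot_le hK.1, relIndex_bot_left]
      exact (relIndex_dvd_card U E).trans (card_dvd_of_le hE.1)
    refine Nat.Coprime.dvd_of_dvd_mul_right (Nat.coprime_of_dvd fun q hq h2 h3 => ?_) h1
    by_cases hκ : q ∈ Cfsg.kappa M
    · exact hK.2.2 q hq hκ h3
    · exact hU.2.2 q hq ⟨hq, hκ⟩ h2
  have hKσ : Cfsg.sigmaCore M ⊔ K ≤ M := sup_le (piCoreOf_le _ _) hK.1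
  refine ⟨U, hKc, hK, ⟨hU.1.trans hE.1, sup_comm K (Cfsg.sigmaCore M) ▸ hKσ,
    (eq_bot_iff_forall _).2 ?_, fun m hm => ?_⟩, hKn⟩
  · rintro x ⟨hxU, hx⟩
    rw [sup_comm] at hx
    obtain ⟨s, hs, k, hk, rfl⟩ :=
      (Solvable.mem_sup_of_le_normalizer (hK.1.trans (le_normalizer_piCoreOf _ _))).mp hx
    have hs1 : s = 1 := by
      refine mem_bot.1 (hE.2.2.1 ▸ (⟨?_, hs⟩ : s ∈ E ⊓ Cfsg.sigmaCore M))
      have := E.mul_mem (hU.1 hxU) (E.inv_mem (hKE hk))
      rwa [mul_inv_cancel_right] at this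
    subst hs1
    rw [one_mul] at hxU ⊢
    exact mem_bot.1 (hUK ▸ (⟨hxU, hk⟩ : k ∈ U ⊓ K))
  · obtain ⟨e, he, s, hs, rfl⟩ := hE.2.2.2 m hm
    rw [← hUKE] at he
    obtain ⟨u, hu, k, hk, rfl⟩ := (Solvable.mem_sup_of_le_normalizer hKn).mp he
    exact ⟨u, hu, k * s, mul_mem (mem_sup_left hk) (mem_sup_right hs), by group⟩

omit hKc in
/-- `C_M(k) = K × K*`. -/
theorem kappa_centralizer_eq {U : Subgroup G} (hKU : Cfsg.IsSigmaDecomposition M K U) {k : G}
    (hk : k ∈ K) (hk1 : k ≠ 1) :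
    M ⊓ centralizer ({k} : Set G) = K ⊔ (Cfsg.sigmaCore M ⊓ centralizer (K : Set G)) := by
  haveI := hKU.cyclic
  refine le_antisymm (fun m hm => ?_) (sup_le ?_ ?_)
  · obtain ⟨hmM, hmk⟩ := hm
    obtain ⟨hEM, hσM, hEσ, hfac⟩ := decomposition_isComplIn hKU
    obtain ⟨e, he, s, hs, rfl⟩ := hfac m hmM
    have hkE : k ∈ U ⊔ K := mem_sup_right hk
    have h1 : k * (e * s) = e * s * k := (mem_centralizer_singleton_iff.1 hmk).symm
    have hs' : k * s * k⁻¹ ∈ Cfsg.sigmaCore M :=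
      (mem_normalizer_iff.1 (le_normalizer_piCoreOf _ _ (hK.1 hk)) s).1 hs
    have h2 : e⁻¹ * (k * e * k⁻¹) = s * (k * s * k⁻¹)⁻¹ := by
      rw [eq_mul_inv_iff_mul_eq]
      calc e⁻¹ * (k * e * k⁻¹) * (k * s * k⁻¹) = e⁻¹ * (k * (e * s)) * k⁻¹ := by group
        _ = s := by rw [h1]; group
    have h3a : e⁻¹ * (k * e * k⁻¹) ∈ U ⊔ K := (U ⊔ K).mul_mem ((U ⊔ K).inv_mem he)
      ((U ⊔ K).mul_mem ((U ⊔ K).mul_mem hkE he) ((U ⊔ K).inv_mem hkE))
    have h3b : e⁻¹ * (k * e * k⁻¹) ∈ Cfsg.sigmaCore M :=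
      h2.symm ▸ (Cfsg.sigmaCore M).mul_mem hs ((Cfsg.sigmaCore M).inv_mem hs')
    have h3 : e⁻¹ * (k * e * k⁻¹) = 1 := mem_bot.1 (hEσ.le ⟨h3a, h3b⟩)
    have hek : k * e = e * k := mul_inv_eq_iff_eq_mul.1 (inv_mul_eq_one.1 h3).symm
    have hsk : s * k = k * s := by
      rw [h3] at h2
      exact (mul_inv_eq_iff_eq_mul.1 (mul_inv_eq_one.1 h2.symm).symm).symm
    obtain ⟨u, hu, k', hk', rfl⟩ := (Solvable.mem_sup_of_le_normalizer hKU.normal).mp he
    have huk : u * k = k * u := by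
      have h4 : k' * k = k * k' := setLike_mul_comm hk' hk
      refine mul_right_cancel (b := k') ?_
      calc u * k * k' = u * (k' * k) := by rw [h4, mul_assoc]
        _ = u * k' * k := (mul_assoc _ _ _).symm
        _ = k * (u * k') := hek.symm
        _ = k * u * k' := (mul_assoc _ _ _).symm
    have hu1 : u = 1 := mem_bot.1 (decomposition_inf_centralizer hG hM hKU hk hk1 ▸
      (⟨hu, mem_centralizer_singleton_iff.2 huk⟩ : u ∈ U ⊓ centralizer ({k} : Set G)))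
    rw [hu1, one_mul]
    refine mul_mem (mem_sup_left hk') (mem_sup_right ?_)
    rw [← kappa_prime_action hG hM hKU.cyclic hK hk hk1]
    exact ⟨hs, mem_centralizer_singleton_iff.2 hsk⟩
  · exact le_inf hK.1 fun x hx => mem_centralizer_singleton_iff.2 (setLike_mul_comm hx hk)
  · exact le_inf (inf_le_left.trans (piCoreOf_le _ _))
      (inf_le_right.trans (centralizer_le (Set.singleton_subset_iff.2 hk)))

omit hKc hK in
/-- `K ≠ 1` forces `U` abelian. -/
theorem decomposition_abelian {U : Subgroup G} (hKU : Cfsg.IsSigmaDecomposition M K U)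
    (hK1 : K ≠ ⊥) : IsMulCommutative U := by
  obtain ⟨p, hp, hpd⟩ := Nat.exists_prime_and_dvd fun h => hK1 (card_eq_one.1 h)
  haveI := Fact.mk hp
  obtain ⟨a, ha⟩ := exists_prime_orderOf_dvd_card' p hpd
  have ha1 : (a : G) ≠ 1 := fun e => hp.ne_one (by rw [← ha, ← orderOf_coe, e, orderOf_one])
  have hnil := isNilpotent_of_prime_fpf hp
    (a := (a : G)) (by rw [← ha, ← orderOf_coe, pow_orderOf_eq_one]) (hKU.normal a.2)
    (decomposition_inf_centralizer hG hM hKU a.2 ha1)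
  obtain ⟨E, -, hE⟩ := exists_complement_ge hG hM (bot_le : (⊥ : Subgroup G) ≤ M)
    fun q hq hd => absurd (Subgroup.card_bot (G := G) ▸ hd) hq.not_dvd_one
  exact (Cfsg.Agent.S1420.result hG M hM E hE).1 U hKU.compl.1 hnil fun q hq hd =>
    (decomposition_U_primes hG hM hKU hq hd).1

end CfsgLib.OddOrder
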