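import Cfsg.Agent.Lib.OddOrder.Transitivity
import Mathlib.GroupTheory.SpecificGroups.Cyclic
import Mathlib.Algebra.BigOperators.Group.Finset.Basic
import Mathlib.Algebra.Field.ZMod
import Mathlib.Data.ZMod.Basic

/-!
A pair of commuting elements of order `r` fixes something in a coprime group; transitivity when
`Z(A)` has rank at least 2 or 3.
-/

set_option autoImplicit false
set_option linter.style.haveILetI false

namespace CfsgLib.OddOrder

open Subgroup

section Abstract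

variable {V : Type*} [CommGroup V] {M : Type*} [Group M] (f : M →* MulAut V)

theorem prod_pow_fixed {r : ℕ} {x : M} (hx : x ^ r = 1) (v : V) :
    f x (∏ i ∈ Finset.range r, f (x ^ i) v) = ∏ i ∈ Finset.range r, f (x ^ i) v := by
  have h : ∀ i, f x (f (x ^ i) v) = f (x ^ (i + 1)) v := fun i => by
    rw [pow_succ', map_mul]; rfl
  rw [map_prod]
  simp only [h]
  have e := Finset.prod_range_succ' (fun i => f (x ^ i) v) r
  rw [Finset.prod_range_succ] at e
  simp only [hx, pow_zero, map_one, MulAut.one_apply] at e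
  exact (mul_right_cancel e).symm

theorem exists_fixed_of_pair [Finite V] [Nontrivial V] {r : ℕ} (hr : r.Prime)
    (hcop : (Nat.card V).Coprime r) {a b : M} (hab : Commute a b) (ha : a ^ r = 1) (hb : b ^ r = 1) :
    ∃ x : M, (x = b ∨ ∃ j : ℕ, x = a * b ^ j) ∧ ∃ v : V, v ≠ 1 ∧ f x v = v := by
  by_contra h
  push Not at h
  have hN : ∀ x : M, (x = b ∨ ∃ j : ℕ, x = a * b ^ j) → x ^ r = 1 → ∀ v,
      ∏ i ∈ Finset.range r, f (x ^ i) v = 1 := fun x hx hxr v => by
    by_contra hne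
    exact h x hx _ hne (prod_pow_fixed f hxr v)
  obtain ⟨v, hv⟩ := exists_ne (1 : V)
  have hsum : ∏ j ∈ Finset.range r, ∏ i ∈ Finset.range r, f ((a * b ^ j) ^ i) v = 1 := by
    refine Finset.prod_eq_one fun j _ => hN _ (Or.inr ⟨j, rfl⟩) ?_ v
    rw [(hab.pow_right j).mul_pow, ha, ← pow_mul, mul_comm, pow_mul, hb, one_pow, one_mul]
  rw [Finset.prod_comm] at hsum
  have hi : ∀ i ∈ Finset.range r, i ≠ 0 →
      ∏ j ∈ Finset.range r, f ((a * b ^ j) ^ i) v = 1 := by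
    intro i hi hi0
    have hir : i < r := Finset.mem_range.1 hi
    haveI := Fact.mk hr
    have hiu : (i : ZMod r) ≠ 0 := by
      rw [Ne, ZMod.natCast_eq_zero_iff]
      exact fun hd => hi0 (Nat.eq_zero_of_dvd_of_lt hd hir)
    have e : ∀ j, f ((a * b ^ j) ^ i) v = f (a ^ i) (f (b ^ (j * i % r)) v) := by
      intro j
      rw [(hab.pow_right j).mul_pow, ← pow_mul, pow_eq_pow_mod (j * i) hb, map_mul]
      rfl
    simp only [e]
    rw [← map_prod]
    have : ∏ j ∈ Finset.range r, f (b ^ (j * i % r)) v = ∏ j ∈ Finset.range r, f (b ^ j) v := by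
      refine Finset.prod_bij (fun j _ => j * i % r) (fun j _ => Finset.mem_range.2
        (Nat.mod_lt _ hr.pos)) ?_ ?_ (fun j _ => rfl)
      · intro j₁ h₁ j₂ h₂ he
        have he' : ((j₁ * i : ℕ) : ZMod r) = ((j₂ * i : ℕ) : ZMod r) :=
          (ZMod.natCast_eq_natCast_iff' _ _ _).2 he
        push_cast at he'
        have h12 := (ZMod.natCast_eq_natCast_iff' _ _ _).1 (mul_right_cancel₀ hiu he')
        rwa [Nat.mod_eq_of_lt (Finset.mem_range.1 h₁),
          Nat.mod_eq_of_lt (Finset.mem_range.1 h₂)] at h12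
      · intro c hc
        refine ⟨((c : ZMod r) / (i : ZMod r)).val, Finset.mem_range.2 (ZMod.val_lt _), ?_⟩
        have hc' : ((((c : ZMod r) / (i : ZMod r)).val * i : ℕ) : ZMod r) = (c : ZMod r) := by
          push_cast
          rw [ZMod.natCast_zmod_val, div_mul_cancel₀ _ hiu]
        rw [(ZMod.natCast_eq_natCast_iff' _ _ _).1 hc', Nat.mod_eq_of_lt (Finset.mem_range.1 hc)]
    rw [this, hN b (Or.inl rfl) hb v, map_one]
  rw [Finset.prod_eq_single 0 hi (fun h0 => absurd (Finset.mem_range.2 hr.pos) h0)] at hsum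
  simp only [pow_zero, map_one, MulAut.one_apply, Finset.prod_const, Finset.card_range] at hsum
  obtain ⟨k, hk⟩ := exists_pow_eq_self_of_coprime
    ((hcop.coprime_dvd_left (orderOf_dvd_natCard v)).symm)
  exact hv (by rw [← hk, hsum, one_pow])

end Abstract

section Ambient

variable {G : Type*} [Group G] [Finite G]

/-- A commuting pair of order `r` acting on a nontrivial `q`-group, `q ≠ r`, has a fixed point. -/
theorem exists_pair_fixed {q r : ℕ} [hq : Fact q.Prime] (hr : r.Prime) (hqr : q ≠ r)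
    {Q : Subgroup G} (hQ : IsPGroup q Q) (hQ1 : Q ≠ ⊥) {a b : G}
    (ha : a ∈ normalizer (Q : Set G)) (hb : b ∈ normalizer (Q : Set G))
    (hab : a * b = b * a) (har : a ^ r = 1) (hbr : b ^ r = 1) :
    ∃ x : G, (x = b ∨ ∃ j : ℕ, x = a * b ^ j) ∧ Q ⊓ centralizer ({x} : Set G) ≠ ⊥ := by
  haveI : Nontrivial Q := (Subgroup.nontrivial_iff_ne_bot _).2 hQ1
  haveI := hQ.center_nontrivial
  letI : CommGroup (center Q) :=
    { (center Q).toGroup with mul_comm := fun x y => Subtype.ext (mem_center_iff.1 y.2 x) }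
  let f : normalizer (Q : Set G) →* MulAut (center Q) :=
    MonoidHom.mk' (fun g => MulEquiv.mk'
      { toFun := fun z => ⟨Q.normalizerMonoidHom g (z : Q), 
          (SetLike.ext_iff.1 (Subgroup.characteristic_iff_map_eq.1 Subgroup.centerCharacteristic
            (Q.normalizerMonoidHom g)) _).1 ⟨(z : Q), z.2, rfl⟩⟩
        invFun := fun z => ⟨(Q.normalizerMonoidHom g).symm (z : Q), 
          (SetLike.ext_iff.1 (Subgroup.characteristic_iff_map_eq.1 Subgroup.centerCharacteristic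
            (Q.normalizerMonoidHom g).symm) _).1 ⟨(z : Q), z.2, rfl⟩⟩
        left_inv := fun z => Subtype.ext ((Q.normalizerMonoidHom g).symm_apply_apply _)
        right_inv := fun z => Subtype.ext ((Q.normalizerMonoidHom g).apply_symm_apply _) }
      (fun x y => Subtype.ext (map_mul (Q.normalizerMonoidHom g) (x : Q) (y : Q))))
      (fun g h => MulEquiv.ext fun z => Subtype.ext
        (DFunLike.congr_fun (map_mul Q.normalizerMonoidHom g h) (z : Q)))
  have hcop : (Nat.card (center Q)).Coprime r := by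
    obtain ⟨n, hn⟩ := (hQ.to_subgroup (center Q)).exists_card_eq
    rw [hn]
    exact ((Nat.coprime_primes hq.out hr).2 hqr).pow_left n
  obtain ⟨x, hx, v, hv, hfix⟩ := exists_fixed_of_pair f hr hcop (a := ⟨a, ha⟩) (b := ⟨b, hb⟩)
    (Subtype.ext hab) (Subtype.ext har) (Subtype.ext hbr)
  refine ⟨x, ?_, fun hbot => hv (Subtype.ext (Subtype.ext ?_))⟩
  · rcases hx with rfl | ⟨j, rfl⟩
    · exact Or.inl rfl
    · exact Or.inr ⟨j, rfl⟩
  · have hmem : ((v : Q) : G) ∈ Q ⊓ centralizer ({(x : G)} : Set G) := by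
      refine ⟨(v : Q).2, mem_centralizer_singleton_iff.2 ?_⟩
      have h := congrArg (fun w : center Q => ((w : Q) : G)) hfix
      change (x : G) * ((v : Q) : G) * (x : G)⁻¹ = ((v : Q) : G) at h
      exact (mul_inv_eq_iff_eq_mul.1 h).symm
    rw [hbot, mem_bot] at hmem
    exact hmem

theorem exists_pair_of_card {E : Subgroup G} {r n : ℕ} (hr : r.Prime)
    (hE : Cfsg.IsElementaryAbelian r E) (hcard : r ^ n < Nat.card E) (S : Subgroup G)
    (hS : Nat.card S ≤ r ^ n) : ∃ x ∈ E, x ∉ S ∧ x ≠ 1 ∧ orderOf x = r := by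
  obtain ⟨x, hx, hxS⟩ : ∃ x ∈ E, x ∉ S := by
    by_contra h
    push Not at h
    have := Subgroup.card_le_of_le (show E ≤ S from h)
    omega
  have hx1 : x ≠ 1 := fun h => hxS (h ▸ S.one_mem)
  haveI := Fact.mk hr
  exact ⟨x, hx, hxS, hx1, orderOf_eq_prime (hE.2 x hx) hx1⟩

theorem elementary_comm {E : Subgroup G} {r : ℕ} (hE : Cfsg.IsElementaryAbelian r E) {x y : G}
    (hx : x ∈ E) (hy : y ∈ E) : x * y = y * x :=
  congrArg Subtype.val (hE.1.is_comm.comm (⟨x, hx⟩ : E) ⟨y, hy⟩)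

theorem card_closure_pair_le {r : ℕ} {x y : G} (hcomm : x * y = y * x)
    (hx : orderOf x = r) (hy : orderOf y = r) : Nat.card ↥(zpowers x ⊔ zpowers y) ≤ r ^ 2 := by
  have hn : zpowers y ≤ normalizer ((zpowers x : Subgroup G) : Set G) := by
    refine le_trans ?_ (centralizer_le_normalizer _)
    rw [zpowers_le]
    rintro _ ⟨i, rfl⟩
    exact ((show Commute x y from hcomm).zpow_left i).eq
  have h := Nat.le_of_dvd (Nat.mul_pos Nat.card_pos Nat.card_pos) (Solvable.card_sup_dvd hn)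
  rw [Nat.card_zpowers, Nat.card_zpowers, hx, hy] at h
  rw [sq]
  exact h

theorem le_centralizer_singleton_iff {A : Subgroup G} {x : G} :
    A ≤ centralizer ({x} : Set G) ↔ x ∈ centralizer (A : Set G) := by
  constructor
  · intro h a ha
    exact mem_centralizer_singleton_iff.1 (h ha)
  · intro h a ha
    exact mem_centralizer_singleton_iff.2 (h a ha)

/-- An elementary subgroup of large order inside a group of large rank. -/
theorem exists_elementary_of_not_rankLE {k : ℕ} {X : Subgroup G} (h : ¬ Cfsg.RankLE k X) :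
    ∃ (r : ℕ) (E : Subgroup G), r.Prime ∧ E ≤ X ∧ Cfsg.IsElementaryAbelian r E ∧
      r ^ k < Nat.card E := by
  simp only [Cfsg.RankLE, Cfsg.PRankLE] at h
  push Not at h
  obtain ⟨r, hr, E, hEc, hEr, hcard⟩ := h
  refine ⟨r, E.map X.subtype, hr, map_subtype_le _, ⟨?_, ?_⟩, ?_⟩
  · haveI := hEc
    exact Subgroup.map_isMulCommutative E X.subtype
  · rintro _ ⟨y, hy, rfl⟩
    rw [← map_pow, hEr y hy, map_one]
  · rw [Subgroup.card_map_of_injective X.subtype_injective]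
    exact hcard

variable (hG : Cfsg.IsMinSimpleOddOrder G) {A : Subgroup G} (hA : Cfsg.TransitivityHypothesis A)
include hG hA

theorem conjBy_of_rank_two (hZ : ¬ Cfsg.RankLE 1 ↥(A ⊓ centralizer (A : Set G)))
    {q : ℕ} [hq : Fact q.Prime] (hqA : ¬ q ∣ Nat.card A)
    (hqC : q ∣ Nat.card (centralizer (A : Set G))) :
    ∀ Q₁ ∈ Cfsg.maxInvSubgroups ⊤ A {q}, ∀ Q₂ ∈ Cfsg.maxInvSubgroups ⊤ A {q},
      ConjBy (coreCent A (Nat.card A)) Q₁ Q₂ := by
  obtain ⟨r, E, hr, hEZ, hE, hcard⟩ := exists_elementary_of_not_rankLE hZ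
  have hEA : E ≤ A := hEZ.trans inf_le_left
  obtain ⟨b, hb, -, hb1, hbo⟩ := exists_pair_of_card hr hE (n := 1) hcard ⊥
    (by rw [Subgroup.card_bot]; exact (pow_pos hr.pos 1))
  obtain ⟨a, ha, hab, ha1, hao⟩ := exists_pair_of_card hr hE (n := 1) hcard (zpowers b)
    (by rw [Nat.card_zpowers, hbo, pow_one])
  have hqr : q ≠ r := by
    rintro rfl
    exact hqA (hbo ▸ (Subgroup.orderOf_mk b (hEA hb) ▸ orderOf_dvd_natCard _))
  obtain ⟨c, hc⟩ := exists_prime_orderOf_dvd_card' q hqC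
  have hcA : (c : G) ∈ centralizer (A : Set G) := c.2
  have hc1 : (c : G) ≠ 1 := by
    intro h
    have : c = 1 := Subtype.ext h
    rw [this, orderOf_one] at hc
    exact hq.out.ne_one hc.symm
  have hcinv : zpowers (c : G) ∈ Cfsg.invSubgroups ⊤ A {q} := by
    refine ⟨le_top, ?_, ?_⟩
    · intro p hp hd
      rw [Nat.card_zpowers, Subgroup.orderOf_coe, hc] at hd
      exact (Nat.prime_dvd_prime_iff_eq hp hq.out).1 hd
    · refine le_trans ?_ (centralizer_le_normalizer _)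
      rw [le_centralizer_iff, zpowers_le]
      exact hcA
  obtain ⟨Q₃, hQ₃, hcQ₃⟩ := exists_maxInvSubgroup_ge hcinv
  suffices key : ∀ Q ∈ Cfsg.maxInvSubgroups ⊤ A {q}, ConjBy (coreCent A (Nat.card A)) Q Q₃ from
    fun Q₁ h₁ Q₂ h₂ => (key Q₁ h₁).trans (key Q₂ h₂).symm
  intro Q hQ
  have hQp : IsPGroup q Q := isPiSubgroup_singleton.1 hQ.1.2.1
  have hQ1 : Q ≠ ⊥ := by
    rintro rfl
    exact hc1 (zpowers_eq_bot.1 (hQ.2 _ hcinv bot_le))
  obtain ⟨x, hx, hfix⟩ := exists_pair_fixed hr hqr hQp hQ1 (hQ.1.2.2 (hEA ha)) (hQ.1.2.2 (hEA hb))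
    (elementary_comm hE ha hb) (hE.2 a ha) (hE.2 b hb)
  have hxE : x ∈ E ∧ x ≠ 1 := by
    rcases hx with rfl | ⟨j, rfl⟩
    · exact ⟨hb, hb1⟩
    · refine ⟨mul_mem ha (pow_mem hb j), fun h => hab ?_⟩
      rw [eq_inv_of_mul_eq_one_left h]
      exact inv_mem (pow_mem (mem_zpowers b) j)
  refine conjBy_of_common_overgroup hG hA hqA (centralizer_singleton_ne_top hG hxE.2)
    (le_centralizer_singleton_iff.2 (hEZ hxE.1).2) hQ hQ₃ (fun h => hfix ?_) ?_
  · rw [inf_comm, h]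
  · intro h
    refine hc1 (mem_bot.1 (h ▸ mem_inf.2 ⟨?_, hcQ₃ (mem_zpowers _)⟩))
    exact mem_centralizer_singleton_iff.2 (hcA x (hEA hxE.1)).symm

theorem conjBy_of_rank_three (hZ : ¬ Cfsg.RankLE 2 ↥(A ⊓ centralizer (A : Set G)))
    {q : ℕ} [hq : Fact q.Prime] (hqA : ¬ q ∣ Nat.card A) :
    ∀ Q₁ ∈ Cfsg.maxInvSubgroups ⊤ A {q}, ∀ Q₂ ∈ Cfsg.maxInvSubgroups ⊤ A {q},
      ConjBy (coreCent A (Nat.card A)) Q₁ Q₂ := by
  intro Q₁ h₁ Q₂ h₂
  by_cases hQ₁1 : Q₁ = ⊥
  · have : Q₂ = Q₁ := h₁.2 Q₂ h₂.1 (hQ₁1 ▸ bot_le)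
    exact this ▸ ConjBy.refl _ _
  have hQ₂1 : Q₂ ≠ ⊥ := fun h => hQ₁1 ((h₂.2 Q₁ h₁.1 (h ▸ bot_le)).trans h)
  obtain ⟨r, E, hr, hEZ, hE, hcard⟩ := exists_elementary_of_not_rankLE hZ
  have hEA : E ≤ A := hEZ.trans inf_le_left
  have hcard1 : r ^ 1 < Nat.card E :=
    lt_of_le_of_lt (Nat.pow_le_pow_right hr.pos (by norm_num)) hcard
  obtain ⟨b₀, hb₀, -, hb₀1, hb₀o⟩ := exists_pair_of_card hr hE (n := 1) hcard1 ⊥
    (by rw [Subgroup.card_bot]; exact (pow_pos hr.pos 1))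
  obtain ⟨a₀, ha₀, hab₀, -, -⟩ := exists_pair_of_card hr hE (n := 1) hcard1 (zpowers b₀)
    (by rw [Nat.card_zpowers, hb₀o, pow_one])
  have hqr : q ≠ r := by
    rintro rfl
    exact hqA (hb₀o ▸ (Subgroup.orderOf_mk b₀ (hEA hb₀) ▸ orderOf_dvd_natCard _))
  haveI := Fact.mk hr
  -- first element: centralizes part of `Q₁`
  obtain ⟨e, he, hfe⟩ := exists_pair_fixed hr hqr (isPiSubgroup_singleton.1 h₁.1.2.1) hQ₁1
    (h₁.1.2.2 (hEA ha₀)) (h₁.1.2.2 (hEA hb₀))
    (elementary_comm hE ha₀ hb₀) (hE.2 a₀ ha₀) (hE.2 b₀ hb₀)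
  have heE : e ∈ E ∧ e ≠ 1 := by
    rcases he with rfl | ⟨j, rfl⟩
    · exact ⟨hb₀, hb₀1⟩
    · refine ⟨mul_mem ha₀ (pow_mem hb₀ j), fun h => hab₀ ?_⟩
      rw [eq_inv_of_mul_eq_one_left h]
      exact inv_mem (pow_mem (mem_zpowers b₀) j)
  have heo : orderOf e = r := orderOf_eq_prime (hE.2 e heE.1) heE.2
  obtain ⟨b, hb, hbe, -, hbo⟩ := exists_pair_of_card hr hE (n := 2) hcard (zpowers e)
    (by rw [Nat.card_zpowers, heo]; nlinarith [hr.two_le])
  obtain ⟨a, ha, hab, -, -⟩ := exists_pair_of_card hr hE (n := 2) hcard (zpowers e ⊔ zpowers b)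
    (card_closure_pair_le (elementary_comm hE heE.1 hb) heo hbo)
  set C := Q₁ ⊓ centralizer ({e} : Set G) with hC
  have hCn : ∀ y ∈ E, y ∈ normalizer (C : Set G) := fun y hy =>
    inf_normalizer_le_normalizer_inf ⟨h₁.1.2.2 (hEA hy),
      le_normalizer (mem_centralizer_singleton_iff.2 (elementary_comm hE hy heE.1))⟩
  obtain ⟨x, hx, hfx⟩ := exists_pair_fixed hr hqr
    ((isPiSubgroup_singleton.1 h₁.1.2.1).to_le inf_le_left) hfe (hCn a ha) (hCn b hb)
    (elementary_comm hE ha hb) (hE.2 a ha) (hE.2 b hb)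
  have hxE : x ∈ E ∧ x ∉ zpowers e := by
    rcases hx with rfl | ⟨j, rfl⟩
    · exact ⟨hb, hbe⟩
    · refine ⟨mul_mem ha (pow_mem hb j), fun h => hab ?_⟩
      have := mul_mem (mem_sup_left h : a * b ^ j ∈ zpowers e ⊔ zpowers b)
        (inv_mem (mem_sup_right (pow_mem (mem_zpowers b) j)))
      simpa using this
  -- second element: a member of the plane `⟨x, e⟩` centralizing part of `Q₂`
  obtain ⟨y, hy, hfy⟩ := exists_pair_fixed hr hqr (isPiSubgroup_singleton.1 h₂.1.2.1) hQ₂1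
    (h₂.1.2.2 (hEA hxE.1)) (h₂.1.2.2 (hEA heE.1))
    (elementary_comm hE hxE.1 heE.1) (hE.2 x hxE.1) (hE.2 e heE.1)
  have hyE : y ∈ E ∧ y ≠ 1 := by
    rcases hy with rfl | ⟨j, rfl⟩
    · exact heE
    · refine ⟨mul_mem hxE.1 (pow_mem heE.1 j), fun h => hxE.2 ?_⟩
      rw [eq_inv_of_mul_eq_one_left h]
      exact inv_mem (pow_mem (mem_zpowers e) j)
  refine conjBy_of_common_overgroup hG hA hqA (centralizer_singleton_ne_top hG hyE.2)
    (le_centralizer_singleton_iff.2 (hEZ hyE.1).2) h₁ h₂ (fun h => hfx ?_) (fun h => hfy ?_)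
  · rw [eq_bot_iff]
    rintro z ⟨⟨hz, hze⟩, hzx⟩
    rw [← h]
    refine ⟨mem_centralizer_singleton_iff.2 ?_, hz⟩
    have c1 : Commute z e := mem_centralizer_singleton_iff.1 hze
    have c2 : Commute z x := mem_centralizer_singleton_iff.1 hzx
    rcases hy with rfl | ⟨j, rfl⟩
    · exact c1.eq
    · exact (c2.mul_right (c1.pow_right j)).eq
  · rw [inf_comm, h]

end Ambient

end CfsgLib.OddOrder
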