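import Cfsg.Agent.Lib.OddOrder.TransitivityUp
import Cfsg.Agent.Lib.OddOrder.TransitivityRank
import Cfsg.Agent.Lib.OddOrder.Bender
import Cfsg.Agent.Lib.OddOrder.ChainStab

/-!
Uniqueness of `C_F(A₀)` when `F = F(M)` involves two primes and `A₀` has rank at least 3.
-/

set_option autoImplicit false
set_option linter.style.haveILetI false

open scoped commutatorElement

namespace CfsgLib.OddOrder

open Subgroup

variable {G : Type*} [Group G] [Finite G]

/-- Every subgroup of a nilpotent group is subnormal. -/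
theorem isSubnormal_of_nilpotent {N : Type*} [Group N] [Finite N] [Group.IsNilpotent N]
    (H : Subgroup N) : H.IsSubnormal := by
  induction hn : Nat.card N - Nat.card H using Nat.strong_induction_on generalizing H with
  | _ n IH =>
    by_cases hH : H = ⊤
    · exact hH ▸ IsSubnormal.top
    have hlt : H < normalizer (H : Set N) :=
      Group.normalizerCondition_of_isNilpotent H (lt_top_iff_ne_top.2 hH)
    have h1 := Set.Finite.card_lt_card (Set.toFinite _) hlt
    have h2 := Subgroup.card_le_card_group (normalizer (H : Set N))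
    refine IsSubnormal.step H (normalizer (H : Set N)) le_normalizer
      (IH _ ?_ _ rfl) ((normal_subgroupOf_iff_le_normalizer le_normalizer).2 le_rfl)
    simp only [SetLike.coe_sort_coe] at h1
    omega

section Setting

variable (hG : Cfsg.IsMinSimpleOddOrder G) {M A : Subgroup G} (hM : IsCoatom M)
  (hF2 : 2 ≤ (Nat.card (Cfsg.fittingOf M)).primeFactors.card)
  (hAF : A ≤ Cfsg.fittingOf M) (hZA : fitCenter M ≤ A)
  (hCA : Cfsg.fittingOf M ⊓ centralizer (A : Set G) ≤ A)

include hG hM hAF hZA hF2 in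
theorem primes_eq {s : ℕ} (hs : s.Prime) :
    s ∣ Nat.card A ↔ s ∣ Nat.card (Cfsg.fittingOf M) := by
  refine ⟨fun h => h.trans (Subgroup.card_dvd_of_le hAF), fun h => ?_⟩
  haveI := Fact.mk hs
  obtain ⟨n, hn⟩ := (piCoreOf_singleton_isPGroup s (fitCenter M)).exists_card_eq
  have hd := Subgroup.card_dvd_of_le ((piCoreOf_le _ _).trans hZA : fitCenterPart M s ≤ A)
  change Nat.card ↥(Cfsg.piCoreOf {s} (fitCenter M)) ∣ _ at hd
  rw [hn] at hd
  rcases n with _ | n
  · exact absurd (Subgroup.card_eq_one.1 (hn.trans (pow_zero s))) (fitCenterPart_ne_bot M h)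
  · exact (dvd_pow_self s n.succ_ne_zero).trans hd

include hG hM hAF hZA hCA in
/-- An `A`-invariant `π(F)'`-subgroup of `M` is trivial. -/
theorem inv_eq_bot_of_le {Y : Subgroup G} (hYM : Y ≤ M)
    (hY : (Nat.card Y).Coprime (Nat.card (Cfsg.fittingOf M)))
    (hAY : A ≤ normalizer (Y : Set G)) : Y = ⊥ := by
  set F := Cfsg.fittingOf M with hF
  have hYF : Y ≤ normalizer (F : Set G) := hYM.trans (le_normalizer_fittingOf M)
  have hdis : Disjoint F Y := Subgroup.disjoint_of_coprime_natCard hY.symm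
  have hAYc : A ≤ centralizer (Y : Set G) := by
    intro a ha y hy
    have h1 : y * a * y⁻¹ * a⁻¹ ∈ F :=
      mul_mem ((mem_normalizer_iff.1 (hYF hy) a).1 (hAF ha)) (inv_mem (hAF ha))
    have h2 : y * a * y⁻¹ * a⁻¹ ∈ Y := by
      have := mul_mem hy ((mem_normalizer_iff.1 (hAY ha) _).1 (inv_mem hy))
      simpa [mul_assoc] using this
    have h3 := disjoint_def.1 hdis h1 h2
    exact mul_inv_eq_iff_eq_mul.1 (mul_inv_eq_one.1 h3)
  have hYc : Y ≤ centralizer (F : Set G) := by
    refine le_centralizer_of_self_centralizing_fixed F Y (fittingOf_isNilpotent M) hYF hY ?_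
    refine le_trans (inf_le_inf_left _ (centralizer_le (le_inf hAF hAYc))) ?_
    exact hCA.trans (le_inf hAF hAYc)
  have hle := (le_inf hYM hYc).trans (inf_centralizer_fittingOf_le (isSolvable_of_ne_top hG hM.1))
  exact eq_bot_iff.2 (fun y hy => mem_bot.2 (disjoint_def.1 hdis (hle hy) hy))

include hG hM hAF hZA hCA hF2 in
/-- `A` satisfies the transitivity hypothesis. -/
theorem transitivityHypothesis_of_fitting (hA1 : A ≠ ⊥) : Cfsg.TransitivityHypothesis A := by
  set π := Cfsg.primesNotDvd (Nat.card A) with hπ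
  set F := Cfsg.fittingOf M with hF
  have hA : A ≠ ⊤ := fun h => hM.1 (eq_top_iff.2 (h ▸ hAF.trans (fittingOf_le M)))
  refine ⟨hA1, hA, fun X hX hAX => le_antisymm (sSup_le ?_)
    (le_sSup ⟨piCoreOf_le _ _, piCoreOf_isPiSubgroup _ _,
      hAX.trans (le_normalizer_piCoreOf _ _)⟩)⟩
  rintro Y ⟨hYX, hY, hAY⟩
  haveI hXs : Group.IsSolvable X := isSolvable_of_ne_top hG hX
  have hnot : ∀ t : ℕ, t.Prime → t ∣ Nat.card F → t ∉ π := fun t ht hd h =>
    h.2 ((primes_eq hG hM hF2 hAF hZA ht).2 hd)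
  have hcopF : ∀ Y' : Subgroup G, Cfsg.IsPiSubgroup π Y' → (Nat.card Y').Coprime (Nat.card F) :=
    fun Y' hY' => Nat.coprime_of_dvd fun t ht h1 h2 => hnot t ht h2 (hY' t ht h1)
  set O : Subgroup X := Cfsg.piCore π X with hO
  set f := QuotientGroup.mk' O
  have hfs : Function.Surjective f := QuotientGroup.mk'_surjective O
  -- centre parts centralize the other components of `X / O`
  have hcent : ∀ (r s : ℕ) [Fact r.Prime] [Fact s.Prime], r ≠ s → r ∣ Nat.card F → s ∣ Nat.card F →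
      ((fitCenterPart M s).subgroupOf X).map f ≤
        centralizer (Cfsg.piCore {r} (X ⧸ O) : Set (X ⧸ O)) := by
    intro r s _ _ hrs hrd hsd
    set U := Cfsg.piCore {r} (X ⧸ O)
    have hUp : IsPGroup r U := isPiSubgroup_singleton.1 (piCore_isPiSubgroup _ _)
    have hZX : ∀ t, fitCenterPart M t ≤ X := fun t => ((piCoreOf_le _ _).trans hZA).trans hAX
    have hpg : ∀ (t : ℕ) [Fact t.Prime], IsPGroup t (((fitCenterPart M t).subgroupOf X).map f) :=
      fun t _ => ((piCoreOf_singleton_isPGroup t (fitCenter M)).of_equiv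
        (subgroupOfEquivOfLe (hZX t)).symm).map f
    refine Solvable.thompson_pxq (hpg r) ?_ hUp ?_ ?_ ?_ ?_
    · obtain ⟨n, hn⟩ := (hpg s).exists_card_eq
      rw [hn]
      exact ((Nat.coprime_primes (Fact.out : s.Prime) (Fact.out : r.Prime)).2 hrs.symm).pow_left n
    · rintro _ ⟨a, ha, rfl⟩ _ ⟨b, hb, rfl⟩
      rw [← map_mul, ← map_mul]
      exact congrArg f (Subtype.ext (mem_centralizer_iff.1 (fitCenterPart_commute M r s ha) _ hb))
    · exact le_top.trans (normalizer_eq_top (H := U)).ge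
    · exact le_top.trans (normalizer_eq_top (H := U)).ge
    · rintro u ⟨hu, huC⟩
      obtain ⟨w, rfl⟩ := hfs u
      set D := O.map X.subtype with hD
      have hDπ : Cfsg.IsPiSubgroup π D := IsPiSubgroup.map (piCore_isPiSubgroup _ _) _
      have hXD : X ≤ normalizer (D : Set G) := le_normalizer_piCoreOf π X
      have hcop : (Nat.card (fitCenterPart M r)).Coprime (Nat.card D) :=
        Nat.coprime_of_dvd fun t ht h1 h2 => hnot t ht
          ((piCoreOf_isPiSubgroup _ _ t ht h1 : t = r) ▸ hrd) (hDπ t ht h2)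
      obtain ⟨d, hd, hn⟩ := Solvable.exists_mul_mem_normalizer ((hZX r).trans hXD) hcop
        (Or.inr (isSolvable_of_ne_top hG fun h =>
          hX (eq_top_iff.2 (h ▸ map_subtype_le O)))) (x := (w : G)) (fun a ha => by
            have h' := mem_centralizer_iff.1 huC (f ⟨a, hZX r ha⟩)
              (mem_map_of_mem f (mem_subgroupOf.2 ha))
            refine ⟨w⁻¹ * (⟨a, hZX r ha⟩ * w * ⟨a, hZX r ha⟩⁻¹), ?_, rfl⟩
            refine (QuotientGroup.eq_one_iff _).1 ?_
            change f (w⁻¹ * (⟨a, hZX r ha⟩ * w * ⟨a, hZX r ha⟩⁻¹)) = 1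
            rw [map_mul, map_mul, map_mul, map_inv, map_inv, h']
            group)
      rw [normalizer_fitCenterPart hG hM hrd] at hn
      obtain ⟨d', hd', rfl⟩ := hd
      set w' : X := w * d' with hw'
      have hfw : f w' = f w := by
        rw [hw', map_mul, show f d' = 1 from (QuotientGroup.eq_one_iff d').2 hd', mul_one]
      rw [← hfw]
      rintro _ ⟨b, hb, rfl⟩
      -- the commutator of `b` and `w'` is an `s`-element of the preimage of `U`
      set W := U.comap f
      haveI : U.Normal := Cfsg.piCore_normal _ _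
      have hc1 : b * w' * b⁻¹ * w'⁻¹ ∈ W := by
        rw [mem_comap, map_mul, map_mul, map_mul, map_inv, map_inv, hfw]
        exact mul_mem ((Cfsg.piCore_normal {r} (X ⧸ O)).conj_mem _ hu (f b)) (inv_mem hu)
      have hc2 : ((b * w' * b⁻¹ * w'⁻¹ : X) : G) ∈ fitCenterPart M s := by
        have := mul_mem (mem_subgroupOf.1 hb)
          ((mem_normalizer_iff.1 (le_normalizer_fitCenterPart M s hn) _).1
            (inv_mem (mem_subgroupOf.1 hb)))
        simpa [hw', mul_assoc] using this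
      have hc3 : b * w' * b⁻¹ * w'⁻¹ = 1 := by
        set c := b * w' * b⁻¹ * w'⁻¹
        refine orderOf_eq_one_iff.1 (Nat.eq_one_iff_not_exists_prime_dvd.2 fun t ht htd => ?_)
        have hts : t = s := by
          have : t ∈ ({s} : Set ℕ) := piCoreOf_isPiSubgroup _ _ t ht
            (htd.trans (by rw [← Subgroup.orderOf_coe]; exact orderOf_dvd_card_of_mem hc2))
          exact this
        have hdvd : Nat.card W ∣ Nat.card O * Nat.card U := by
          have hOW : O ≤ W := fun z hz => by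
            rw [mem_comap, show f z = 1 from (QuotientGroup.eq_one_iff z).2 hz]
            exact one_mem _
          have h1 := Subgroup.relIndex_mul_relIndex ⊥ O W bot_le hOW
          rw [Subgroup.relIndex_bot_left, Subgroup.relIndex_bot_left] at h1
          rw [← h1]
          refine mul_dvd_mul_left _ (dvd_of_eq ?_)
          conv_lhs => rw [← QuotientGroup.ker_mk' O, ← MonoidHom.comap_bot, Subgroup.relIndex_comap,
            Subgroup.map_comap_eq_self_of_surjective hfs, Subgroup.relIndex_bot_left]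
        rcases ht.dvd_mul.1 ((htd.trans (orderOf_dvd_card_of_mem hc1)).trans hdvd) with h | h
        · exact hnot t ht (hts ▸ hsd) (piCore_isPiSubgroup π X t ht h)
        · exact hrs ((piCore_isPiSubgroup _ _ t ht h : t = r).symm.trans hts)
      rw [← map_mul, ← map_mul]
      exact congrArg f (mul_inv_eq_iff_eq_mul.1 (mul_inv_eq_one.1 hc3))
  -- `Y` is generated by its commutators with each centre part
  have hcopA : ∀ (s : ℕ) [Fact s.Prime], s ∣ Nat.card F → Y = ⁅Y, fitCenterPart M s⁆ := by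
    intro s _ hsd
    have hSY : fitCenterPart M s ≤ normalizer (Y : Set G) :=
      ((piCoreOf_le _ _).trans hZA).trans hAY
    have hcop : (Nat.card (fitCenterPart M s)).Coprime (Nat.card Y) :=
      Nat.coprime_of_dvd fun t ht h1 h2 => hnot t ht
        ((piCoreOf_isPiSubgroup _ _ t ht h1 : t = s) ▸ hsd) (hY t ht h2)
    have hbot : Y ⊓ centralizer (fitCenterPart M s : Set G) = ⊥ := by
      refine inv_eq_bot_of_le hG hM hAF hZA hCA
        (inf_le_right.trans (centralizer_fitCenterPart_le hG hM hsd))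
        (hcopF _ (IsPiSubgroup.anti hY inf_le_left))
        (le_trans (le_inf hAY (le_normalizer_centralizer_of_le ?_)) inf_normalizer_le_normalizer_inf)
      exact (hAF.trans (fittingOf_le M)).trans (le_normalizer_fitCenterPart M s)
    have h := Solvable.commutator_sup_centralizer hSY hcop
      (Or.inl (isSolvable_of_ne_top hG (fun h => hA (eq_top_iff.2
        (h ▸ (piCoreOf_le _ _).trans hZA)))))
    rw [hbot, sup_bot_eq] at h
    exact h.symm
  -- so the image of `Y` centralizes the Fitting subgroup of `X / O`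
  haveI : Group.IsSolvable (X ⧸ O) := Group.isSolvable_of_surjective hfs
  have hObot : Cfsg.piCore π (X ⧸ O) = ⊥ := piCore_quotient_eq_bot O hO
  have hprimes : ∀ r : ℕ, r.Prime → r ∣ Nat.card (Cfsg.fittingSubgroup (X ⧸ O)) →
      r ∣ Nat.card F := by
    intro r hr hrd
    by_contra hns
    haveI := Fact.mk hr
    haveI := Solvable.fittingSubgroup_normal (X ⧸ O)
    haveI := Solvable.fittingSubgroup_isNilpotent (X ⧸ O)
    haveI := piCore_characteristic {r} (Cfsg.fittingSubgroup (X ⧸ O))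
    have hr0 : (Cfsg.piCore {r} (Cfsg.fittingSubgroup (X ⧸ O))).map
        (Cfsg.fittingSubgroup (X ⧸ O)).subtype ≤ Cfsg.piCore π (X ⧸ O) :=
      le_piCore inferInstance (IsPiSubgroup.map (IsPiSubgroup.mono (piCore_isPiSubgroup _ _)
        (Set.singleton_subset_iff.2 (show r ∈ π from ⟨hr, fun h => hns (h.trans (Subgroup.card_dvd_of_le hAF))⟩))) _)
    rw [hObot, le_bot_iff, Subgroup.map_eq_bot_iff_of_injective _ (Subgroup.subtype_injective _)]
      at hr0
    obtain ⟨x, hx⟩ := exists_prime_orderOf_dvd_card' r hrd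
    have : x ∈ Cfsg.piCore {r} (Cfsg.fittingSubgroup (X ⧸ O)) :=
      mem_piCore_of_nilpotent fun t ht htd => (Nat.prime_dvd_prime_iff_eq ht hr).1 (hx ▸ htd)
    rw [hr0, mem_bot] at this
    rw [this, orderOf_one] at hx
    exact hr.ne_one hx.symm
  set Yb := (Y.subgroupOf X).map f
  have hYb : Yb ≤ centralizer (Cfsg.fittingSubgroup (X ⧸ O) : Set (X ⧸ O)) := by
    haveI := Solvable.fittingSubgroup_normal (X ⧸ O)
    rw [le_centralizer_iff]
    refine le_of_components (Solvable.fittingSubgroup_isNilpotent (X ⧸ O)) fun r hr hrd => ?_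
    haveI := Fact.mk hr
    have hcore : Cfsg.piCoreOf {r} (Cfsg.fittingSubgroup (X ⧸ O)) ≤ Cfsg.piCore {r} (X ⧸ O) := by
      haveI := piCore_characteristic {r} (Cfsg.fittingSubgroup (X ⧸ O))
      exact le_piCore (N := (Cfsg.piCore {r} (Cfsg.fittingSubgroup (X ⧸ O))).map
        (Cfsg.fittingSubgroup (X ⧸ O)).subtype) inferInstance (piCoreOf_isPiSubgroup _ _)
    refine hcore.trans ?_
    obtain ⟨s, hs, hsd, hsr⟩ := exists_other_prime hF2 r
    haveI := Fact.mk hs
    rw [le_centralizer_iff]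
    set U := Cfsg.piCore {r} (X ⧸ O)
    haveI hUn : U.Normal := Cfsg.piCore_normal _ _
    have hYc : Y ≤ ((centralizer (U : Set (X ⧸ O))).comap f).map X.subtype := by
      rw [hcopA s hsd, commutator_le]
      intro y hy z hz
      have hzX : z ∈ X := hAX (hZA (piCoreOf_le _ _ hz))
      refine ⟨⁅(⟨y, hYX hy⟩ : X), ⟨z, hzX⟩⁆, ?_, rfl⟩
      rw [SetLike.mem_coe, mem_comap, commutatorElement_def, map_mul, map_mul, map_mul,
        map_inv, map_inv]
      have hzc : f ⟨z, hzX⟩ ∈ centralizer (U : Set (X ⧸ O)) :=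
        hcent r s hsr.symm (hprimes r hr hrd) hsd (mem_map_of_mem f (mem_subgroupOf.2 hz))
      exact mul_mem ((inferInstance : (centralizer (U : Set (X ⧸ O))).Normal).conj_mem _ hzc _)
        (inv_mem hzc)
    rintro _ ⟨y, hy, rfl⟩
    obtain ⟨y', hy', he⟩ := hYc (mem_subgroupOf.1 hy)
    rw [show y = y' from Subtype.ext he.symm]
    exact hy'
  have hle := hYb.trans Solvable.centralizer_fittingSubgroup_le
  intro y hy
  refine ⟨⟨y, hYX hy⟩, (QuotientGroup.eq_one_iff _).1 ?_, rfl⟩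
  have hm : f ⟨y, hYX hy⟩ ∈ Yb := mem_map_of_mem f (mem_subgroupOf.2 hy)
  refine orderOf_eq_one_iff.1 (Nat.eq_one_iff_not_exists_prime_dvd.2 fun t ht htd => ?_)
  refine hnot t ht (hprimes t ht (htd.trans (orderOf_dvd_card_of_mem (hle hm)))) (hY t ht ?_)
  refine htd.trans ((orderOf_map_dvd f _).trans ?_)
  rw [← Subgroup.orderOf_coe]
  exact orderOf_dvd_card_of_mem hy

include hG hM hAF hZA hCA hF2 in
/-- All `A`-invariant `π(F)'`-subgroups of `G` are trivial when `Z(A)` has rank at least 3. -/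
theorem inv_eq_bot (hA1 : A ≠ ⊥) (hr : ¬ Cfsg.RankLE 2 ↥(A ⊓ centralizer (A : Set G)))
    {Y : Subgroup G} (hY : Cfsg.IsPiSubgroup (Cfsg.primesNotDvd (Nat.card (Cfsg.fittingOf M))) Y)
    (hAY : A ≤ normalizer (Y : Set G)) : Y = ⊥ := by
  have hA := transitivityHypothesis_of_fitting hG hM hF2 hAF hZA hCA hA1
  set F := Cfsg.fittingOf M with hF
  have hcop : (Nat.card A).Coprime (Nat.card Y) :=
    Nat.coprime_of_dvd fun t ht h1 h2 => (hY t ht h2).2 (h1.trans (Subgroup.card_dvd_of_le hAF))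
  have hK : coreCent A (Nat.card A) = ⊥ := by
    have hCM : centralizer (A : Set G) ≤ M := by
      obtain ⟨s, hs, hsd, -⟩ := exists_other_prime hF2 0
      haveI := Fact.mk hs
      exact (centralizer_le ((piCoreOf_le _ _).trans hZA)).trans
        (centralizer_fitCenterPart_le hG hM hsd)
    refine inv_eq_bot_of_le hG hM hAF hZA hCA ((coreCent_le_centralizer A _).trans hCM) ?_ ?_
    · exact Nat.coprime_of_dvd fun t ht h1 h2 =>
        (piCoreOf_isPiSubgroup _ _ t ht h1).2 ((primes_eq hG hM hF2 hAF hZA ht).2 h2)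
    · exact le_normalizer.trans (normalizer_le_normalizer_coreCent A _)
  by_contra hY1
  obtain ⟨q, hq, hqY⟩ := Nat.exists_prime_and_dvd (fun h => hY1 (Subgroup.card_eq_one.1 h))
  haveI := Fact.mk hq
  have hqF : ¬ q ∣ Nat.card F := (hY q hq hqY).2
  have hqA : ¬ q ∣ Nat.card A := fun h => hqF (h.trans (Subgroup.card_dvd_of_le hAF))
  have htr : IsTransAt A (Nat.card A) q := conjBy_of_rank_three hG hA hr hqA
  have huniq : ∀ Q₁ ∈ Cfsg.maxInvSubgroups ⊤ A {q}, ∀ Q₂ ∈ Cfsg.maxInvSubgroups ⊤ A {q},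
      Q₁ = Q₂ := by
    intro Q₁ h₁ Q₂ h₂
    obtain ⟨k, hk, rfl⟩ := htr Q₁ h₁ Q₂ h₂
    rw [hK, mem_bot] at hk
    rw [hk, map_conj_one]
  haveI := fittingOf_isNilpotent M
  have hFtop : F ≠ ⊤ := fun h => hM.1 (eq_top_iff.2 (h ▸ fittingOf_le M))
  obtain ⟨htrF, hsub⟩ := transAt_of_subnormal hG hA hqA hFtop
    (fun t ht h => (primes_eq hG hM hF2 hAF hZA ht).2 h) hAF (isSubnormal_of_nilpotent _) htr
  obtain ⟨Q, hQ, -⟩ := exists_maxInvSubgroup_ge (bot_mem_invSubgroups F ({q} : Set ℕ))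
  obtain ⟨P, hP⟩ := Solvable.exists_invariant_sylow hAY hcop
    (Or.inl (isSolvable_of_ne_top hG hA.2.1)) q
  obtain ⟨Q₁, hQ₁, hPQ⟩ := exists_maxInvSubgroup_ge
    (show (P : Subgroup Y).map Y.subtype ∈ Cfsg.invSubgroups ⊤ A {q} from
      ⟨le_top, isPiSubgroup_singleton.2 (P.2.map _), hP⟩)
  rw [huniq Q₁ hQ₁ Q (hsub hQ)] at hPQ
  have hQbot : Q = ⊥ := by
    have hnF : normalizer (F : Set G) = M :=
      normalizer_eq_of_isCoatom_of_le hG hM
        (fun h => hA1 (le_bot_iff.1 (h ▸ hAF))) (fittingOf_le M) (le_normalizer_fittingOf M)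
    have hKF : coreCent F (Nat.card A) = ⊥ := by
      rw [eq_bot_iff, ← hK, ← coreCent_inf_centralizer hG hA le_rfl hAF]
      exact inf_le_left
    have hMQ : M ≤ normalizer (Q : Set G) := by
      have := normalizer_factor hG hA htrF hQ
      rw [hKF, bot_sup_eq, hnF] at this
      exact (this.le.trans inf_le_right)
    by_contra hQ1
    have hQM : Q ≤ M := by
      have hlt : normalizer (Q : Set G) ≠ ⊤ :=
        normalizer_ne_top hG hQ1 (isPGroup_ne_top hG (isPiSubgroup_singleton.1 hQ.1.2.1))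
      exact le_normalizer.trans (hMQ.eq_or_lt.resolve_right fun h => hlt (hM.2 _ h)).ge
    refine hQ1 (inv_eq_bot_of_le hG hM hAF hZA hCA hQM ?_ ((hsub hQ).1.2.2))
    exact Nat.coprime_of_dvd fun t ht h1 h2 => hqF ((hQ.1.2.1 t ht h1 : t = q) ▸ h2)
  rw [hQbot, le_bot_iff, Subgroup.map_eq_bot_iff_of_injective _ Y.subtype_injective] at hPQ
  exact (P.ne_bot_of_dvd_card hqY) hPQ

include hG hM hAF hZA hCA hF2 in
/-- `A` lies in a unique maximal subgroup. -/
theorem inUniqueMaximal_of_fitting (hA1 : A ≠ ⊥)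
    (hr : ¬ Cfsg.RankLE 2 ↥(A ⊓ centralizer (A : Set G))) : Cfsg.InUniqueMaximal A := by
  refine ⟨M, ⟨hM, hAF.trans (fittingOf_le M)⟩, ?_⟩
  rintro L ⟨hL, hAL⟩
  refine eq_of_fitCenter_le hG hM hL hF2 (hZA.trans hAL) fun s hs hsd => ?_
  by_contra hns
  haveI := Fact.mk hs
  have h0 : Cfsg.piCoreOf {s} L = ⊥ := inv_eq_bot hG hM hF2 hAF hZA hCA hA1 hr
    (IsPiSubgroup.mono (piCoreOf_isPiSubgroup _ _) (Set.singleton_subset_iff.2 ⟨hs, hns⟩))
    (hAL.trans (le_normalizer_piCoreOf _ _))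
  have h := normalizer_piCoreOf_singleton hG hL hsd
  rw [h0, normalizer_eq_top] at h
  exact hL.1 h.symm

end Setting

/-- The first half of BG Theorem 8.1. -/
theorem non_pgroup_fitting_uniqueness (hG : Cfsg.IsMinSimpleOddOrder G) {M A₀ : Subgroup G}
    (hM : IsCoatom M) {p : ℕ} [hp : Fact p.Prime] (hA₀ : A₀ ≤ Cfsg.fittingOf M)
    (hA₀e : Cfsg.IsElementaryAbelian p A₀) (hA₀3 : p ^ 3 ≤ Nat.card A₀)
    (hnp : ¬ IsPGroup p ↥(Cfsg.fittingOf M)) :
    Cfsg.InUniqueMaximal (Cfsg.fittingOf M ⊓ centralizer (A₀ : Set G)) := by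
  set A := Cfsg.fittingOf M ⊓ centralizer (A₀ : Set G) with hA
  have hA₀c : A₀ ≤ centralizer (A₀ : Set G) := fun x hx y hy => elementary_comm hA₀e hy hx
  have hA₀A : A₀ ≤ A := le_inf hA₀ hA₀c
  have hA₀Z : A₀ ≤ A ⊓ centralizer (A : Set G) :=
    le_inf hA₀A (le_centralizer_iff.1 inf_le_right)
  have hpow : p < p ^ 3 := lt_self_pow₀ hp.out.one_lt (by norm_num)
  have hA₀1 : A₀ ≠ ⊥ := fun h => by
    rw [h, Subgroup.card_bot] at hA₀3
    have := hp.out.two_le
    omega
  have hF2 : 2 ≤ (Nat.card (Cfsg.fittingOf M)).primeFactors.card := by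
    obtain ⟨x, hx, hx1⟩ := A₀.bot_or_exists_ne_one.resolve_left hA₀1
    have hpd : p ∣ Nat.card (Cfsg.fittingOf M) :=
      orderOf_eq_prime (hA₀e.2 x hx) hx1 ▸ orderOf_dvd_card_of_mem (hA₀ hx)
    obtain ⟨s, hs, hsd, hsp⟩ :
        ∃ s : ℕ, s.Prime ∧ s ∣ Nat.card (Cfsg.fittingOf M) ∧ s ≠ p := by
      by_contra h
      push Not at h
      exact hnp (isPiSubgroup_singleton.1 fun t ht hd => h t ht hd)
    exact Finset.one_lt_card.2 ⟨s, Nat.mem_primeFactors.2 ⟨hs, hsd, Nat.card_pos.ne'⟩, p,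
      Nat.mem_primeFactors.2 ⟨hp.out, hpd, Nat.card_pos.ne'⟩, hsp⟩
  refine inUniqueMaximal_of_fitting hG hM hF2 inf_le_left
    (inf_le_inf_left _ (centralizer_le hA₀)) (inf_le_inf_left _ (centralizer_le hA₀A))
    (fun h => hA₀1 (le_bot_iff.1 (h ▸ hA₀A))) fun hr => ?_
  have h := hr p hp.out (A₀.subgroupOf (A ⊓ centralizer (A : Set G))) ?_ ?_
  · rw [Nat.card_congr (subgroupOfEquivOfLe hA₀Z).toEquiv] at h
    have : p ^ 2 < p ^ 3 := Nat.pow_lt_pow_right hp.out.one_lt (by norm_num)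
    omega
  · exact ⟨⟨fun a b => Subtype.ext (Subtype.ext (elementary_comm hA₀e a.2 b.2))⟩⟩
  · intro a ha
    exact Subtype.ext (hA₀e.2 a ha)

end CfsgLib.OddOrder
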