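import Cfsg.Agent.Lib.OddOrder.Uniqueness
import Cfsg.Agent.Lib.OddOrder.FittingUnique

/-!
BG 8.1(b): maximal subgroups whose Fitting subgroup is a `p`-group; BG 9.4.
-/

set_option autoImplicit false
set_option linter.style.haveILetI false

namespace CfsgLib.OddOrder

open Subgroup

variable {G : Type*} [Group G] [Finite G] {p : ℕ} [hp : Fact p.Prime]

omit [Finite G] hp in
theorem isMaxPIn_of_sylow {X : Subgroup G} (S : Sylow p X) :
    IsMaxPIn p X ((S : Subgroup X).map X.subtype) := by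
  refine ⟨map_subtype_le _, S.2.map _, fun Q hQ hle hQX => le_antisymm ?_ hle⟩
  have h1 : Q.subgroupOf X = (S : Subgroup X) :=
    S.3 (hQ.of_equiv (subgroupOfEquivOfLe hQX).symm) fun x hx =>
      mem_subgroupOf.2 (hle (mem_map_of_mem X.subtype hx))
  rw [← h1, map_subgroupOf_eq_of_le hQX]

section MinSimple

variable (hG : Cfsg.IsMinSimpleOddOrder G) {M : Subgroup G} (hM : IsCoatom M)
include hG hM

theorem fittingOf_ne_bot : Cfsg.fittingOf M ≠ ⊥ := by
  intro h
  refine ne_bot_of_isCoatom hG hM (le_bot_iff.1 ?_)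
  have h1 := inf_centralizer_fittingOf_le (isSolvable_of_ne_top hG hM.1)
  rw [h] at h1
  refine le_trans (le_inf le_rfl fun x _ => ?_) h1
  intro y hy
  rw [Subgroup.coe_bot, Set.mem_singleton_iff] at hy
  rw [hy, one_mul, mul_one]

variable (hFp : IsPGroup p ↥(Cfsg.fittingOf M))
include hFp

theorem piCoreOf_eq_bot_of_fitting_pGroup : Cfsg.piCoreOf (Cfsg.primesNotDvd p) M = ⊥ := by
  set O := Cfsg.piCoreOf (Cfsg.primesNotDvd p) M with hO
  have hdis : Disjoint O (Cfsg.fittingOf M) := disjoint_iff.2 (by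
    rw [inf_comm]
    exact PLoc.disjoint_of_pgroup_coprime hFp (piCoreOf_primesNotDvd_coprime M))
  have hOC : O ≤ centralizer (Cfsg.fittingOf M : Set G) :=
    commute_of_normalize_disjoint ((piCoreOf_le _ _).trans (le_normalizer_fittingOf M))
      ((fittingOf_le M).trans (le_normalizer_piCoreOf _ _)) hdis
  have hOF : O ≤ Cfsg.fittingOf M :=
    (le_inf (piCoreOf_le _ _) hOC).trans (inf_centralizer_fittingOf_le (isSolvable_of_ne_top hG hM.1))
  exact le_bot_iff.1 (le_trans (le_inf le_rfl hOF) hdis.le_bot)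

theorem prime_dvd_card_of_fitting_pGroup : p ∣ Nat.card M := by
  obtain ⟨n, hn⟩ := hFp.exists_card_eq
  rcases n with _ | n
  · exact absurd (Subgroup.card_eq_one.1 (hn.trans (pow_zero p))) (fittingOf_ne_bot hG hM)
  · exact (hn ▸ dvd_pow_self p n.succ_ne_zero).trans (Subgroup.card_dvd_of_le (fittingOf_le M))

/-- `M` is the normalizer of `Z(J(T))` and contains `N(T)` for a Sylow `p`-subgroup `T` of `M`. -/
theorem normalizer_zj_eq {T : Subgroup G} (hT : IsMaxPIn p M T) :
    normalizer (PLoc.interMaxAb 0 T : Set G) = M ∧ normalizer (T : Set G) ≤ M := by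
  have hFT : Cfsg.fittingOf M ≤ T := by
    obtain ⟨S, hS⟩ := hT.exists_sylow
    rw [← hS, ← map_subgroupOf_eq_of_le (fittingOf_le M)]
    refine Subgroup.map_mono ((Solvable.le_pCore
      ((normal_subgroupOf_iff_le_normalizer (fittingOf_le M)).2 (le_normalizer_fittingOf M))
      (hFp.of_equiv (subgroupOfEquivOfLe (fittingOf_le M)).symm)).trans
      (Solvable.pCore_le_sylow S))
  have hT1 : T ≠ ⊥ := fun h => fittingOf_ne_bot hG hM (le_bot_iff.1 (h ▸ hFT))
  have h1 := normalizer_eq_of_isCoatom_of_le hG hM (interMaxAb_zero_ne_bot hT.pgroup hT1)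
    ((interMaxAb_le_self 0 T).trans hT.le)
    (hT.le_normalizer_zj (isSolvable_of_ne_top hG hM.1) (odd_card_subgroup hG M)
      (prime_ne_two_of_dvd_card hG (prime_dvd_card_of_fitting_pGroup hG hM hFp))
      (piCoreOf_eq_bot_of_fitting_pGroup hG hM hFp))
  exact ⟨h1, (normalizer_le_normalizer_interMaxAb 0 T).trans h1.le⟩

/-- A Sylow `p`-subgroup of `M` is one of `G`. -/
theorem isMaxPIn_top {T : Subgroup G} (hT : IsMaxPIn p M T) : IsMaxPIn p ⊤ T := by
  by_contra h
  obtain ⟨S, hS, hTS, hSN⟩ := exists_gt_normalizer_of_not_max le_top hT.pgroup h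
  exact hTS.ne (hT.max S hS hTS.le
    ((hSN.trans inf_le_right).trans (normalizer_zj_eq hG hM hFp hT).2)).symm

/-- BG 8.1(b). -/
theorem pgroup_fitting_uniqueness (P : Sylow p G) (hPM : (P : Subgroup G) ≤ M) {A : Subgroup G}
    (hA : Cfsg.IsSCN (P : Subgroup G) A) (hA3 : ¬ Cfsg.PRankLE p 2 A) :
    A ≤ Cfsg.fittingOf M ∧ Cfsg.InUniqueMaximal A := by
  set F := Cfsg.fittingOf M with hF
  have hMs : Group.IsSolvable M := isSolvable_of_ne_top hG hM.1
  have hA2 : ¬ Cfsg.PRankLE p 1 A := fun h => hA3 fun B hB hBp =>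
    (h B hB hBp).trans (Nat.pow_le_pow_right hp.out.pos (by norm_num))
  have hTH := transitivityHypothesis_of_scn hG oddPStable hA hA2
  have hAp : IsPGroup p A := P.2.to_le hA.1
  have hp2 : p ≠ 2 := prime_ne_two_of_dvd_card hG (prime_dvd_card_of_fitting_pGroup hG hM hFp)
  have hF1 : F ≠ ⊥ := fittingOf_ne_bot hG hM
  have hNF : normalizer (F : Set G) = M :=
    normalizer_eq_of_isCoatom_of_le hG hM hF1 (fittingOf_le M) (le_normalizer_fittingOf M)
  have hPmax : IsMaxPIn p M (P : Subgroup G) :=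
    ⟨hPM, P.2, fun S hS hle _ => P.3 hS hle⟩
  have hFP : F ≤ (P : Subgroup G) := by
    obtain ⟨S, hS⟩ := hPmax.exists_sylow
    rw [← hS, hF, ← map_subgroupOf_eq_of_le (fittingOf_le M)]
    exact Subgroup.map_mono ((Solvable.le_pCore
      ((normal_subgroupOf_iff_le_normalizer (fittingOf_le M)).2 (le_normalizer_fittingOf M))
      (hFp.of_equiv (subgroupOfEquivOfLe (fittingOf_le M)).symm)).trans
      (Solvable.pCore_le_sylow S))
  -- `A ≤ F`
  have hAF : A ≤ F := by
    have h1 := abelian_normal_le_pPrimePCore oddPStable hMs (odd_card_subgroup hG M)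
      (P.subtype hPM) (A := A.subgroupOf M) (fun x hx => hA.1 hx)
      (fun x hx y hy => Subtype.ext (isSCN_abelian hA _ hx _ hy))
      (subgroupOf_le_normalizer hA.2.1)
    have hO : Cfsg.pPrimeCore p M = ⊥ := by
      apply map_injective M.subtype_injective
      rw [map_pPrimeCore_subtype, piCoreOf_eq_bot_of_fitting_pGroup hG hM hFp, Subgroup.map_bot]
    haveI hRn : (Cfsg.pPrimePCore p M).Normal := by
      rw [pPrimePCore_eq_comap_barHom]
      exact (Solvable.pCore_normal p _).comap _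
    have hR : IsPGroup p (Cfsg.pPrimePCore p M) := by
      rw [pPrimePCore_eq_comap_barHom]
      exact IsPGroup.comap_of_ker_isPGroup (Solvable.pCore_isPGroup p _) _
        (by rw [barHom_ker, hO]; exact IsPGroup.of_bot)
    rw [← map_subgroupOf_eq_of_le (hA.1.trans hPM)]
    refine (Subgroup.map_mono h1).trans (le_fittingOf (map_subtype_le _) ?_ (hR.map _).isNilpotent)
    have h2 := le_normalizer_map M.subtype (H := Cfsg.pPrimePCore p M)
    rwa [normalizer_eq_top, ← MonoidHom.range_eq_map, range_subtype] at h2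
  refine ⟨hAF, ?_⟩
  -- `C(A) = A`
  have hzA : fitCenter M ≤ A := fun z hz => mem_of_isSCN hA
    (mem_centralizer_iff.2 fun a ha => mem_centralizer_iff.1 hz.2 a (hAF ha))
    (hFp.to_le (zpowers_le.2 hz.1))
  have hz1 : fitCenter M ≠ ⊥ := by
    obtain ⟨z, hz, hzo⟩ := exists_center_orderOf_eq (fittingOf_isNilpotent M)
      (s := p) (by
        obtain ⟨n, hn⟩ := hFp.exists_card_eq
        rcases n with _ | n
        · exact absurd (Subgroup.card_eq_one.1 (hn.trans (pow_zero p))) hF1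
        · exact hn ▸ dvd_pow_self p n.succ_ne_zero)
    intro h
    have : z ∈ fitCenter M := hz
    rw [h, mem_bot] at this
    rw [this, orderOf_one] at hzo
    exact hp.out.ne_one hzo.symm
  have hCAM : centralizer (A : Set G) ≤ M := by
    refine (centralizer_le hzA).trans ((centralizer_le_normalizer _).trans ?_)
    exact (normalizer_eq_of_isCoatom_of_le hG hM hz1 (fitCenter_le M)
      (le_centralizer_fittingOf_center M)).le
  have hCA : ∀ x ∈ centralizer (A : Set G), (orderOf x).Coprime p → x = 1 := by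
    intro x hx hxo
    have hc : A ≤ centralizer (zpowers x : Set G) := by
      rw [le_centralizer_iff, zpowers_le]
      exact hx
    have h1 : zpowers x ≤ centralizer (F : Set G) :=
      Solvable.thompson_pxq hAp (by rw [Nat.card_zpowers]; exact hxo) hFp hc
        (hAF.trans le_normalizer)
        ((zpowers_le.2 (hCAM hx)).trans (le_normalizer_fittingOf M))
        (fun y hy => hc (mem_of_isSCN hA hy.2 (hFp.to_le (zpowers_le.2 hy.1))))
    have h2 : x ∈ F := inf_centralizer_fittingOf_le hMs ⟨hCAM hx, h1 (mem_zpowers x)⟩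
    obtain ⟨n, hn⟩ := IsPGroup.iff_orderOf.mp hFp ⟨x, h2⟩
    rw [Subgroup.orderOf_mk] at hn
    rw [← orderOf_eq_one_iff]
    exact Nat.eq_one_of_dvd_coprimes (hxo.pow_right n) dvd_rfl (dvd_of_eq hn)
  have hπ : Cfsg.primesNotDvd (Nat.card A) = Cfsg.primesNotDvd p := by
    obtain ⟨n, hn⟩ := hAp.exists_card_eq
    rw [hn]
    refine primesNotDvd_prime_pow fun h0 => hTH.1 (Subgroup.card_eq_one.1 ?_)
    rw [hn, h0, pow_zero]
  have hcore : coreCent A (Nat.card A) = ⊥ := by
    rw [eq_bot_iff]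
    intro x hx
    rw [coreCent, hπ] at hx
    exact mem_bot.2 (hCA x (piCoreOf_le _ _ hx)
      ((piCoreOf_primesNotDvd_coprime _).coprime_dvd_left (orderOf_dvd_card_of_mem hx)))
  have hZ : ¬ Cfsg.RankLE 2 ↥(A ⊓ centralizer (A : Set G)) := by
    rw [inf_eq_left.2 (fun a ha => mem_centralizer_iff.2 fun b hb => isSCN_abelian hA b hb a ha)]
    exact not_rankLE_of_not_pRankLE hA3
  -- no nontrivial invariant `p'`-subgroups
  have hinv : ∀ Y : Subgroup G, (Nat.card Y).Coprime p → A ≤ normalizer (Y : Set G) → Y = ⊥ := by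
    intro Y hY hAY
    by_contra hY1
    obtain ⟨q, hq, hqY⟩ := Nat.exists_prime_and_dvd
      (fun h => hY1 (Subgroup.card_eq_one.1 h))
    haveI := Fact.mk hq
    have hcop : (Nat.card A).Coprime (Nat.card Y) := by
      obtain ⟨n, hn⟩ := hAp.exists_card_eq
      rw [hn]; exact (hY.symm).pow_left n
    have hqA : ¬ q ∣ Nat.card A := fun h => hq.ne_one (Nat.eq_one_of_dvd_coprimes hcop h hqY)
    have hqp : q ≠ p := fun h => hq.ne_one (Nat.eq_one_of_dvd_coprimes hY hqY (h ▸ dvd_rfl))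
    haveI := hAp.isNilpotent
    obtain ⟨S, hS⟩ := Solvable.exists_invariant_sylow hAY hcop (Or.inl inferInstance) q
    obtain ⟨Q, hQ, hSQ⟩ := exists_maxInvSubgroup_ge (A := A) (π := ({q} : Set ℕ))
      (Y := (S : Subgroup Y).map Y.subtype)
      ⟨le_top, isPiSubgroup_singleton.2 (S.2.map _), hS⟩
    have huniq : ∀ R ∈ Cfsg.invSubgroups ⊤ A ({q} : Set ℕ), R ≤ Q := by
      intro R hR
      obtain ⟨Q', hQ', hRQ'⟩ := exists_maxInvSubgroup_ge hR
      obtain ⟨k, hk, hkQ⟩ := conjBy_of_rank_three hG hTH hZ hqA Q hQ Q' hQ'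
      rw [hcore, mem_bot] at hk
      rw [hk, map_conj_one] at hkQ
      exact hRQ'.trans hkQ.le
    have hmap : ∀ B : Subgroup G, A ≤ B → B ≤ normalizer (Q : Set G) →
        normalizer (B : Set G) ≤ normalizer (Q : Set G) := by
      intro B hAB hBQ g hg
      refine mem_normalizer_of_map_conj_le (huniq _ ⟨le_top, IsPiSubgroup.map hQ.1.2.1 _, ?_⟩)
      exact hAB.trans (le_normalizer_conj_of_mem hg hBQ)
    have hPQ : (P : Subgroup G) ≤ normalizer (Q : Set G) :=
      hA.2.1.trans (hmap A le_rfl hQ.1.2.2)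
    have hMQ : M ≤ normalizer (Q : Set G) := hNF.ge.trans (hmap F hAF (hFP.trans hPQ))
    have hQ1 : Q ≠ ⊥ := fun h => by
      have h1 : q ∣ Nat.card ((S : Subgroup Y).map Y.subtype) := by
        rw [Subgroup.card_map_of_injective Y.subtype_injective, S.card_eq_multiplicity]
        exact dvd_pow_self q (hq.factorization_pos_of_dvd Nat.card_pos.ne' hqY).ne'
      have h2 : (S : Subgroup Y).map Y.subtype = ⊥ := le_bot_iff.1 (hSQ.trans h.le)
      rw [h2, Subgroup.card_bot] at h1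
      exact hq.ne_one (Nat.dvd_one.1 h1)
    have hQp : IsPGroup q Q := isPiSubgroup_singleton.1 hQ.1.2.1
    have hQM : Q ≤ M := by
      rcases hMQ.eq_or_lt with h | h
      · exact le_normalizer.trans h.ge
      · exact absurd (hM.2 _ h) (normalizer_ne_top hG hQ1 (isPGroup_ne_top hG hQp))
    have hQF : Q ≤ F := le_fittingOf hQM hMQ hQp.isNilpotent
    refine hQ1 (Subgroup.card_eq_one.1 ?_)
    obtain ⟨m, hm⟩ := hQp.exists_card_eq
    obtain ⟨n, hn⟩ := (hFp.to_le hQF).exists_card_eq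
    exact Nat.eq_one_of_dvd_coprimes
      (Nat.Coprime.pow m n ((Nat.coprime_primes hq hp.out).2 hqp)) (dvd_of_eq hm) (dvd_of_eq hn)
  -- uniqueness
  refine ⟨M, ⟨hM, hA.1.trans hPM⟩, fun L₀ ⟨hL₀, hAL₀⟩ => by_contra fun hne₀ => ?_⟩
  obtain ⟨T, ⟨hTp, hAT, hTM, L, hL, hLM, hTL⟩, hmax⟩ := Set.exists_max_image
    {T : Subgroup G | IsPGroup p T ∧ A ≤ T ∧ T ≤ M ∧ ∃ L, IsCoatom L ∧ L ≠ M ∧ T ≤ L}
    (fun T => Nat.card T) (Set.toFinite _) ⟨A, hAp, le_rfl, hA.1.trans hPM, L₀, hL₀, hne₀, hAL₀⟩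
  have big : ∀ S : Subgroup G, IsPGroup p S → T < S → S ≤ M → ∀ L', IsCoatom L' → S ≤ L' →
      L' = M := by
    intro S hS hTS hSM L' hL' hSL'
    by_contra hne
    refine hTS.ne (Subgroup.eq_of_le_of_card_ge hTS.le ?_)
    exact hmax S ⟨hS, hAT.trans hTS.le, hSM, L', hL', hne, hSL'⟩
  have hT1 : T ≠ ⊥ := fun h => hTH.1 (le_bot_iff.1 (h ▸ hAT))
  set Z := PLoc.interMaxAb 0 T with hZdef
  have hZ1 : Z ≠ ⊥ := interMaxAb_zero_ne_bot hTp hT1
  have hOL : Cfsg.piCoreOf (Cfsg.primesNotDvd p) L = ⊥ :=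
    hinv _ (piCoreOf_primesNotDvd_coprime _) ((hAT.trans hTL).trans (le_normalizer_piCoreOf _ _))
  have hNT : normalizer (T : Set G) ≤ M := by
    by_cases hmx : IsMaxPIn p M T
    · exact (normalizer_zj_eq hG hM hFp hmx).2
    · obtain ⟨L', hL', hNL'⟩ := exists_isCoatom_ge
        (normalizer_ne_top hG hT1 (isPGroup_ne_top hG hTp))
      obtain ⟨S, hS, hTS, hSN⟩ := exists_gt_normalizer_of_not_max hTM hTp hmx
      exact hNL'.trans (big S hS hTS (hSN.trans inf_le_left) L' hL'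
        (hSN.trans (inf_le_right.trans hNL'))).le
  have hTLmax : IsMaxPIn p L T := by
    by_contra h
    obtain ⟨S, hS, hTS, hSN⟩ := exists_gt_normalizer_of_not_max hTL hTp h
    exact hLM (big S hS hTS ((hSN.trans inf_le_right).trans hNT) L hL (hSN.trans inf_le_left))
  have hLZ : normalizer (Z : Set G) = L :=
    normalizer_eq_of_isCoatom_of_le hG hL hZ1 ((interMaxAb_le_self 0 T).trans hTL)
      (hTLmax.le_normalizer_zj (isSolvable_of_ne_top hG hL.1) (odd_card_subgroup hG L) hp2 hOL)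
  by_cases hmx : IsMaxPIn p M T
  · exact hLM (hLZ.symm.trans (normalizer_zj_eq hG hM hFp hmx).1)
  · obtain ⟨S, hS, hTS, hSN⟩ := exists_gt_normalizer_of_not_max hTM hTp hmx
    exact hLM (big S hS hTS (hSN.trans inf_le_left) L hL
      ((hSN.trans inf_le_right).trans ((normalizer_le_normalizer_interMaxAb 0 T).trans hLZ.le)))

end MinSimple

section

variable (hG : Cfsg.IsMinSimpleOddOrder G)
include hG

/-- BG 9.4. -/
theorem inUniqueMaximal_of_fitting_rank {M : Subgroup G} (hM : IsCoatom M)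
    (hF : ¬ Cfsg.PRankLE p 2 ↥(Cfsg.fittingOf M)) {A : Subgroup G} (hAp : IsPGroup p A)
    (hAc : IsMulCommutative A) (hA3 : ¬ Cfsg.PRankLE p 2 A) : Cfsg.InUniqueMaximal A := by
  obtain ⟨E, hEF, hEe, hE⟩ := exists_elementary_of_not_pRankLE hF
  obtain ⟨A', hA'c, hA'3, hA'U⟩ : ∃ A' : Subgroup G, IsMulCommutative A' ∧
      ¬ Cfsg.PRankLE p 2 A' ∧ Cfsg.InUniqueMaximal A' := by
    by_cases hFp : IsPGroup p ↥(Cfsg.fittingOf M)
    · obtain ⟨T, hT, hET⟩ := exists_isMaxPIn_ge (hEF.trans (fittingOf_le M)) (hFp.to_le hEF)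
      have hmx := isMaxPIn_top hG hM hFp hT
      let P : Sylow p G := ⟨T, hT.pgroup, fun {Q} hQ hle => hmx.max Q hQ hle le_top⟩
      obtain ⟨A', hA', hA'3⟩ := exists_scn_three hG P (not_pRankLE_of_elementary hET hEe hE)
      exact ⟨A', le_centralizer_iff_isMulCommutative.1
        (fun a ha => mem_centralizer_iff.2 fun b hb => isSCN_abelian hA' b hb a ha), hA'3,
        (pgroup_fitting_uniqueness hG hM hFp P hT.le hA' hA'3).2⟩
    · obtain ⟨A₀, hEA₀, hA₀⟩ := (Set.toFinite
        {B : Subgroup G | B ≤ Cfsg.fittingOf M ∧ Cfsg.IsElementaryAbelian p B}).exists_le_maximal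
        (⟨hEF, hEe⟩ : E ∈ {B : Subgroup G | B ≤ Cfsg.fittingOf M ∧ Cfsg.IsElementaryAbelian p B})
      have hA₀c : p ^ 2 < Nat.card A₀ := lt_of_lt_of_le hE (Subgroup.card_le_of_le hEA₀)
      have hA₀3 : p ^ 3 ≤ Nat.card A₀ := by
        obtain ⟨i, hi⟩ := (IsPGroup.exists_card_eq (fun b : A₀ => ⟨1, Subtype.ext (by
          rw [pow_one, SubgroupClass.coe_pow, hA₀.prop.2.2 b b.2]; rfl)⟩ : IsPGroup p A₀))
        rw [hi] at hA₀c ⊢
        exact Nat.pow_le_pow_right hp.out.pos ((Nat.pow_lt_pow_iff_right hp.out.one_lt).1 hA₀c)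
      have hU := non_pgroup_fitting_uniqueness hG hM hA₀.prop.1 hA₀.prop.2 hA₀3 hFp
      refine ⟨A₀, hA₀.prop.2.1, not_pRankLE_of_elementary le_rfl hA₀.prop.2 hA₀c, ?_⟩
      refine inUniqueMaximal_of_commute hG hU (le_centralizer_iff.1 inf_le_right) hA₀.prop.2 ?_
      calc p = p ^ 1 := (pow_one p).symm
        _ < p ^ 2 := Nat.pow_lt_pow_right hp.out.one_lt one_lt_two
        _ < Nat.card A₀ := hA₀c
  have hAnc : ¬ IsCyclic A := by
    intro hc
    obtain ⟨E', hE'A, hE'e, hE'⟩ := exists_elementary_of_not_pRankLE hA3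
    refine elementary_not_isCyclic hE'e (lt_of_le_of_lt ?_ hE') ?_
    · exact Nat.le_self_pow two_ne_zero p
    · haveI := hc
      exact isCyclic_of_surjective (subgroupOfEquivOfLe hE'A).toMonoidHom
        (subgroupOfEquivOfLe hE'A).surjective
  refine inUniqueMaximal_of_rank_three hG hA'c hA'3 hA'U hAp hAnc ?_
  obtain ⟨E', hE'A, hE'e, hE'⟩ := exists_elementary_of_not_pRankLE hA3
  exact not_pRankLE_of_elementary
    (hE'A.trans (le_centralizer_iff_isMulCommutative.2 hAc)) hE'e hE'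

end

end CfsgLib.OddOrder
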