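import Cfsg.Prelude.Def_OddOrderLocal
import Cfsg.Prelude.Def_HallClasses
import Cfsg.Agent.Lib.Solvable.Core
import Mathlib.GroupTheory.QuotientGroup.Basic

/-!
The `π`-core `Cfsg.piCore` and its relative version `Cfsg.piCoreOf`.
-/

set_option autoImplicit false
set_option linter.style.haveILetI false

namespace CfsgLib.OddOrder

variable {G : Type*} [Group G] {H : Type*} [Group H] {π ρ : Set ℕ}

section PiSubgroup

theorem isPiSubgroup_bot : Cfsg.IsPiSubgroup π (⊥ : Subgroup G) := by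
  intro p hp h
  rw [Subgroup.card_bot, Nat.dvd_one] at h
  exact absurd h hp.ne_one

theorem IsPiSubgroup.anti {A B : Subgroup G} (hB : Cfsg.IsPiSubgroup π B) (h : A ≤ B) :
    Cfsg.IsPiSubgroup π A :=
  fun p hp hd => hB p hp (hd.trans (Subgroup.card_dvd_of_le h))

theorem isPiSubgroup_of_dvd {A : Subgroup G} {B : Subgroup H} (hB : Cfsg.IsPiSubgroup π B)
    (h : Nat.card A ∣ Nat.card B) : Cfsg.IsPiSubgroup π A :=
  fun p hp hd => hB p hp (hd.trans h)

theorem IsPiSubgroup.map {A : Subgroup G} (hA : Cfsg.IsPiSubgroup π A) (f : G →* H) :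
    Cfsg.IsPiSubgroup π (A.map f) :=
  isPiSubgroup_of_dvd hA (Subgroup.card_map_dvd _ _)

theorem isPiSubgroup_map_iff {A : Subgroup G} (f : G →* H) (hf : Function.Injective f) :
    Cfsg.IsPiSubgroup π (A.map f) ↔ Cfsg.IsPiSubgroup π A := by
  unfold Cfsg.IsPiSubgroup
  rw [Subgroup.card_map_of_injective hf]

theorem IsPiSubgroup.mono {A : Subgroup G} (hA : Cfsg.IsPiSubgroup π A) (h : π ⊆ ρ) :
    Cfsg.IsPiSubgroup ρ A :=
  fun p hp hd => h (hA p hp hd)

theorem IsPiSubgroup.coprime [Finite G] {A : Subgroup G} (hA : Cfsg.IsPiSubgroup π A) {n : ℕ}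
    (h : ∀ p ∈ π, p.Prime → ¬ p ∣ n) : (Nat.card A).Coprime n :=
  Nat.coprime_of_dvd fun p hp hd => h p (hA p hp hd) hp

theorem isPiSubgroup_primesNotDvd [Finite G] {A : Subgroup G} {n : ℕ} :
    Cfsg.IsPiSubgroup (Cfsg.primesNotDvd n) A ↔ (Nat.card A).Coprime n :=
  ⟨fun h => IsPiSubgroup.coprime h fun _ hp _ => hp.2,
    fun h p hp hd => ⟨hp, fun hn => hp.ne_one (Nat.eq_one_of_dvd_one
      (by simpa [h.gcd_eq_one] using Nat.dvd_gcd hd hn))⟩⟩

theorem IsPiSubgroup.sup_of_normal [Finite G] {A B : Subgroup G} [A.Normal]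
    (hA : Cfsg.IsPiSubgroup π A) (hB : Cfsg.IsPiSubgroup π B) : Cfsg.IsPiSubgroup π (A ⊔ B) := by
  intro p hp hd
  rcases hp.dvd_mul.1 (hd.trans (Solvable.card_sup_dvd_mul A B)) with h | h
  · exact hA p hp h
  · exact hB p hp h

theorem isPiSubgroup_singleton [Finite G] {A : Subgroup G} {q : ℕ} [hq : Fact q.Prime] :
    Cfsg.IsPiSubgroup {q} A ↔ IsPGroup q A := by
  refine ⟨fun h => ?_, fun h p hp hd => ?_⟩
  · exact IsPGroup.of_card (n := (Nat.card A).primeFactorsList.length)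
      (Nat.eq_prime_pow_of_unique_prime_dvd Nat.card_pos.ne' fun {d} hd hdd => h d hd hdd)
  · obtain ⟨n, hn⟩ := (IsPGroup.iff_card).1 h
    rw [hn] at hd
    exact (Nat.prime_dvd_prime_iff_eq hp hq.out).1 (hp.dvd_of_dvd_pow hd)

end PiSubgroup

section PiCore

theorem piCore_isPiSubgroup (π : Set ℕ) (G : Type*) [Group G] [Finite G] :
    Cfsg.IsPiSubgroup π (Cfsg.piCore π G) :=
  (Solvable.sSup_induction_normal (P := fun N : Subgroup G => Cfsg.IsPiSubgroup π N) isPiSubgroup_bot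
    (fun A B hAn _ hA hB => by haveI := hAn; exact IsPiSubgroup.sup_of_normal hA hB)
    (S := {N : Subgroup G | N.Normal ∧ ∀ p : ℕ, p.Prime → p ∣ Nat.card N → p ∈ π}) (Set.toFinite _)
    (fun _ h => h)).2

theorem le_piCore {N : Subgroup G} (hn : N.Normal) (hp : Cfsg.IsPiSubgroup π N) :
    N ≤ Cfsg.piCore π G :=
  le_sSup ⟨hn, hp⟩

theorem map_piCore_le_of_surjective [Finite G] {f : G →* H} (hf : Function.Surjective f) :
    (Cfsg.piCore π G).map f ≤ Cfsg.piCore π H :=
  le_piCore ((Cfsg.piCore_normal π G).map f hf) (IsPiSubgroup.map (piCore_isPiSubgroup π G) f)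

theorem map_piCore_mulEquiv [Finite G] (e : G ≃* H) :
    (Cfsg.piCore π G).map e.toMonoidHom = Cfsg.piCore π H := by
  haveI : Finite H := Finite.of_equiv G e.toEquiv
  refine le_antisymm (map_piCore_le_of_surjective e.surjective) fun y hy => ?_
  exact ⟨e.symm y, map_piCore_le_of_surjective (f := e.symm.toMonoidHom) e.symm.surjective
    ⟨y, hy, rfl⟩, by simp⟩

theorem piCore_characteristic (π : Set ℕ) (G : Type*) [Group G] [Finite G] :
    (Cfsg.piCore π G).Characteristic :=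
  Subgroup.characteristic_iff_map_eq.2 fun e => map_piCore_mulEquiv e

theorem piCore_quotient_eq_bot [Finite G] (N : Subgroup G) [N.Normal] (hN : N = Cfsg.piCore π G) :
    Cfsg.piCore π (G ⧸ N) = ⊥ := by
  set M := (Cfsg.piCore π (G ⧸ N)).comap (QuotientGroup.mk' N) with hM
  have hle : N ≤ M :=
    le_trans (le_of_eq (QuotientGroup.ker_mk' N).symm) (MonoidHom.ker_le_comap _ _)
  have h1 : Cfsg.IsPiSubgroup π M := by
    intro p hp hd
    have hmul := Subgroup.relIndex_mul_relIndex ⊥ N M bot_le hle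
    have hrel : N.relIndex M = Nat.card (Cfsg.piCore π (G ⧸ N)) := by
      conv_lhs => rw [← QuotientGroup.ker_mk' N, ← MonoidHom.comap_bot, Subgroup.relIndex_comap,
        hM, Subgroup.map_comap_eq_self_of_surjective (QuotientGroup.mk'_surjective N),
        Subgroup.relIndex_bot_left]
    rw [Subgroup.relIndex_bot_left, Subgroup.relIndex_bot_left, hrel] at hmul
    rw [← hmul] at hd
    rcases hp.dvd_mul.1 hd with h | h
    · rw [hN] at h
      exact piCore_isPiSubgroup π G p hp h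
    · exact piCore_isPiSubgroup π (G ⧸ N) p hp h
  have h2 : M ≤ N := le_of_le_of_eq (le_piCore inferInstance h1) hN.symm
  rw [eq_bot_iff]
  intro y hy
  obtain ⟨x, rfl⟩ := QuotientGroup.mk'_surjective N y
  exact (QuotientGroup.eq_one_iff x).2 (h2 hy)

theorem pPrimeCore_eq_piCore [Finite G] (p : ℕ) :
    Cfsg.pPrimeCore p G = Cfsg.piCore (Cfsg.primesNotDvd p) G := by
  haveI := Solvable.pPrimeCore_normal p G
  refine le_antisymm (le_piCore inferInstance
    (isPiSubgroup_primesNotDvd.2 (Solvable.pPrimeCore_card_coprime p G))) ?_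
  exact Solvable.le_pPrimeCore (Cfsg.piCore_normal _ G)
    (isPiSubgroup_primesNotDvd.1 (piCore_isPiSubgroup _ G))

end PiCore

section PiCoreOf

variable [Finite G] {X Y N : Subgroup G}

theorem piCoreOf_le (π : Set ℕ) (X : Subgroup G) : Cfsg.piCoreOf π X ≤ X :=
  Subgroup.map_subtype_le _

theorem piCoreOf_isPiSubgroup (π : Set ℕ) (X : Subgroup G) :
    Cfsg.IsPiSubgroup π (Cfsg.piCoreOf π X) :=
  IsPiSubgroup.map (piCore_isPiSubgroup π X) _

theorem le_piCoreOf (hNX : N ≤ X) (hXN : X ≤ Subgroup.normalizer (N : Set G))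
    (hN : Cfsg.IsPiSubgroup π N) : N ≤ Cfsg.piCoreOf π X := by
  rw [← Subgroup.map_subgroupOf_eq_of_le hNX]
  refine Subgroup.map_mono (le_piCore ((Subgroup.normal_subgroupOf_iff_le_normalizer hNX).2 hXN) ?_)
  exact isPiSubgroup_of_dvd hN (Subgroup.card_comap_dvd_of_injective _ _ X.subtype_injective)

theorem map_piCoreOf {H : Type*} [Group H] (f : G →* H) (hf : Function.Injective f) (π : Set ℕ)
    (X : Subgroup G) : (Cfsg.piCoreOf π X).map f = Cfsg.piCoreOf π (X.map f) := by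
  have h := map_piCore_mulEquiv (π := π) (X.equivMapOfInjective f hf)
  rw [Cfsg.piCoreOf, Cfsg.piCoreOf, ← h, Subgroup.map_map, Subgroup.map_map]
  exact congrArg (fun g => Subgroup.map g (Cfsg.piCore π X)) (MonoidHom.ext fun _ => rfl)

theorem map_piCoreOf_conj (π : Set ℕ) (X : Subgroup G) (g : G) :
    (Cfsg.piCoreOf π X).map (MulAut.conj g).toMonoidHom =
      Cfsg.piCoreOf π (X.map (MulAut.conj g).toMonoidHom) :=
  map_piCoreOf _ (MulAut.conj g).injective π X

theorem normalizer_le_normalizer_piCoreOf (π : Set ℕ) (X : Subgroup G) :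
    Subgroup.normalizer (X : Set G) ≤ Subgroup.normalizer (Cfsg.piCoreOf π X : Set G) := by
  intro g hg
  rw [Subgroup.mem_normalizer_iff_map_conj_eq] at hg ⊢
  rw [show ((MulAut.conj g : MulAut G) : G →* G) = (MulAut.conj g).toMonoidHom from rfl] at hg ⊢
  rw [map_piCoreOf_conj, hg]

theorem le_normalizer_piCoreOf (π : Set ℕ) (X : Subgroup G) :
    X ≤ Subgroup.normalizer (Cfsg.piCoreOf π X : Set G) :=
  Subgroup.le_normalizer.trans (normalizer_le_normalizer_piCoreOf π X)

theorem piCoreOf_inf_le (π : Set ℕ) (hYX : Y ≤ X) :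
    Cfsg.piCoreOf π X ⊓ Y ≤ Cfsg.piCoreOf π Y := by
  refine le_piCoreOf inf_le_right ?_ (IsPiSubgroup.anti (piCoreOf_isPiSubgroup π X) inf_le_left)
  intro y hy
  rw [Subgroup.mem_normalizer_iff_map_conj_eq, Subgroup.map_inf _ _ _ (MulAut.conj y).injective]
  congr 1
  · exact (Subgroup.mem_normalizer_iff_map_conj_eq).1 (le_normalizer_piCoreOf π X (hYX hy))
  · exact (Subgroup.mem_normalizer_iff_map_conj_eq).1 (Subgroup.le_normalizer hy)

end PiCoreOf

end CfsgLib.OddOrder
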