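import Cfsg.Agent.S1445
import Cfsg.Agent.S1446
import Cfsg.Agent.Lib.Solvable.InvariantHall
import Cfsg.Agent.Lib.Solvable.PrimeActionCore
import Cfsg.Agent.Lib.OddOrder.ExceptionalTools
import Cfsg.Agent.Lib.OddOrder.PiCore
import Cfsg.Agent.Lib.OddOrder.FittingPGroup
import Cfsg.Agent.Lib.PGroup.Basic

/-!
BG 15.2 as pure group theory: `K` acts with prime action on a non-nilpotent `N = [N, K]` and fixes a
subgroup of prime order `q`. Then `N` has a normal Sylow `q`-subgroup `Q` with nilpotent complements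
and `Q / C_Q(D)` is one chief factor of order `q ^ |K|`.
-/

set_option autoImplicit false
set_option linter.style.haveILetI false

open scoped commutatorElement Pointwise

namespace CfsgLib.OddOrder

open Subgroup

variable {X : Type*} [Group X] [Finite X]

omit [Finite X] in
theorem centralizer_zpowers_eq' (x : X) :
    centralizer (zpowers x : Set X) = centralizer ({x} : Set X) := by
  rw [zpowers_eq_closure, centralizer_closure]

/-- Coprime fixed points in an image. -/
theorem map_inf_centralizer {Y : Type*} [Group Y] [Finite Y] (f : X →* Y) {A W : Subgroup X}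
    (hAW : A ≤ normalizer (W : Set X)) (hcop : (Nat.card A).Coprime (Nat.card W))
    (hsolv : Group.IsSolvable W) (hker : f.ker ≤ W) :
    W.map f ⊓ centralizer (A.map f : Set Y) = (W ⊓ centralizer (A : Set X)).map f := by
  have hn : ∀ Z : Subgroup X, Z ≤ normalizer (f.ker : Set X) := fun Z => by
    rw [normalizer_eq_top]
    exact le_top
  refine le_antisymm ?_ ?_
  · rintro _ ⟨⟨w, hw, rfl⟩, hc⟩
    obtain ⟨c, hc', hwc⟩ := Solvable.exists_fixed_of_fixed_mod hAW hcop (Or.inr hsolv) hker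
      (hn W) (hn A) hw fun a ha => by
        rw [MonoidHom.mem_ker, map_mul, map_mul, map_mul, map_inv, map_inv,
          hc (f a) (mem_map_of_mem f ha)]
        group
    refine ⟨c, hc', ?_⟩
    rw [MonoidHom.mem_ker, map_mul, map_inv, inv_mul_eq_one] at hwc
    exact hwc.symm
  · rintro _ ⟨w, ⟨hw, hwc⟩, rfl⟩
    refine ⟨mem_map_of_mem f hw, ?_⟩
    rintro _ ⟨a, ha, rfl⟩
    rw [← map_mul, ← map_mul, hwc a ha]

/-- An element of prime order without fixed points pushes `[T, ⟨x⟩]` into the centralizer. -/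
theorem commutator_le_centralizer_of_fpf {t : ℕ} [Fact t.Prime] (ht2 : t ≠ 2) {V T : Subgroup X}
    {x : X} (hx : (orderOf x).Prime) (htx : t ≠ orderOf x) (hV : Group.IsNilpotent V)
    (hVt : (Nat.card V).Coprime t) (hVx : (Nat.card V).Coprime (orderOf x)) (hT : IsPGroup t T)
    (hxT : x ∈ normalizer (T : Set X)) (hTV : T ≤ normalizer (V : Set X))
    (hxV : x ∈ normalizer (V : Set X)) (hfix : V ⊓ centralizer ({x} : Set X) = ⊥) :
    ⁅T, zpowers x⁆ ≤ centralizer (V : Set X) := by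
  haveI := Fact.mk hx
  rw [Subgroup.commutator_le]
  intro g hg y hy
  by_cases hy1 : y = 1
  · rw [hy1, commutatorElement_one_right]
    exact one_mem _
  have hyo : orderOf y = orderOf x :=
    orderOf_eq_prime (by
      obtain ⟨i, rfl⟩ := hy
      show (x ^ i) ^ orderOf x = 1
      rw [← zpow_natCast, ← zpow_mul, mul_comm, zpow_mul, zpow_natCast, pow_orderOf_eq_one,
        one_zpow]) hy1
  have hxy : zpowers x ≤ zpowers y := (eq_of_le_of_card_ge (zpowers_le.2 hy) (by
    rw [Nat.card_zpowers, Nat.card_zpowers, hyo])).ge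
  have hfy : V ⊓ centralizer ({y} : Set X) = ⊥ := by
    rw [← centralizer_zpowers_eq'] at hfix ⊢
    exact le_bot_iff.1 ((inf_le_inf_left _ (centralizer_le hxy)).trans hfix.le)
  have := Solvable.PrimeAction.commute_of_fpf_nilpotent (r := orderOf x) ht2 htx hV hVt hVx hT
    (fun a ha => (mem_normalizer_iff.1 (zpowers_le.2 hxT hy) a).1 ha)
    (hyo ▸ pow_orderOf_eq_one y) hTV (zpowers_le.2 hxV hy) hfy g⁻¹ (inv_mem hg)
  rwa [show g⁻¹⁻¹ * (y * g⁻¹ * y⁻¹) = ⁅g, y⁆ by rw [commutatorElement_def]; group] at this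

section Chief

variable [Group.IsSolvable X] (hodd : Odd (Nat.card X)) {N K : Subgroup X} [N.Normal]
  (hsup : N ⊔ K = ⊤) (hcop : (Nat.card N).Coprime (Nat.card K)) (hK1 : K ≠ ⊥)
  (hprime : ∀ x ∈ K, x ≠ 1 →
    N ⊓ centralizer ({x} : Set X) = N ⊓ centralizer (K : Set X))
  {q : ℕ} [hq : Fact q.Prime] (hCq : Nat.card ↥(N ⊓ centralizer (K : Set X)) = q)
  (hgen : ⁅N, K⁆ = N) (hnil : ¬ Group.IsNilpotent N)
include hodd hsup hcop hK1 hprime hCq hgen hnil

omit hK1 hnil in
/-- `N / O_q(N)` is a nilpotent `q'`-group. -/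
theorem core_quotient_nilpotent [(Cfsg.piCoreOf {q} N).Normal] :
    Group.IsNilpotent (N.map (QuotientGroup.mk' (Cfsg.piCoreOf {q} N))) ∧
      ¬ q ∣ Nat.card (N.map (QuotientGroup.mk' (Cfsg.piCoreOf {q} N))) := by
  set f := QuotientGroup.mk' (Cfsg.piCoreOf {q} N) with hfdef
  have hsurj : Function.Surjective f := QuotientGroup.mk'_surjective _
  have hker : f.ker ≤ N := by
    rw [hfdef, QuotientGroup.ker_mk']
    exact piCoreOf_le _ _
  haveI hNn : (N.map f).Normal := Subgroup.Normal.map ‹_› f hsurj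
  have hcore : Cfsg.piCoreOf {q} (N.map f) = ⊥ := by
    set W := Cfsg.piCoreOf {q} (N.map f) with hW
    haveI : W.Normal := normalizer_eq_top_iff.1 (top_le_iff.1
      ((normalizer_eq_top (H := N.map f)).ge.trans (normalizer_le_normalizer_piCoreOf _ _)))
    have hP : IsPGroup q (W.comap f) :=
      (piCoreOf_singleton_isPGroup q _).comap_of_ker_isPGroup f (by
        rw [hfdef, QuotientGroup.ker_mk']
        exact piCoreOf_singleton_isPGroup q N)
    have hPN : W.comap f ≤ N := by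
      exact (comap_mono (piCoreOf_le _ _)).trans (comap_map_eq_self hker).le
    have hle : W.comap f ≤ Cfsg.piCoreOf {q} N :=
      le_piCoreOf hPN (by rw [normalizer_eq_top]; exact le_top) (isPiSubgroup_singleton.2 hP)
    refine (eq_bot_iff_forall _).2 fun w hw => ?_
    obtain ⟨x, rfl⟩ := hsurj w
    rw [hfdef, QuotientGroup.mk'_apply, QuotientGroup.eq_one_iff]
    exact hle hw
  haveI hNs : Group.IsSolvable N := inferInstance
  have hcopk : ∀ A : Subgroup X, A ≤ K → (Nat.card A).Coprime (Nat.card N) := fun A hA =>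
    (hcop.coprime_dvd_right (card_dvd_of_le hA)).symm
  have hnormN : ∀ A : Subgroup X, A ≤ normalizer (N : Set X) := fun A => by
    rw [normalizer_eq_top]
    exact le_top
  have hmap := map_inf_centralizer f (hnormN K) (hcopk K le_rfl) hNs hker
  have hFbot : Cfsg.fittingOf (N.map f) ⊓ centralizer (K.map f : Set _) = ⊥ := by
    refine (eq_bot_iff_forall _).2 fun z hz => ?_
    have hzC : z ∈ N.map f ⊓ centralizer (K.map f : Set _) := ⟨fittingOf_le _ hz.1, hz.2⟩
    rw [hmap] at hzC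
    obtain ⟨c, hc, rfl⟩ := hzC
    refine mem_bot.1 (hcore ▸ ?_)
    rw [← piCoreOf_singleton_fittingOf (N.map f)]
    refine mem_piCoreOf_of_nilpotent (fittingOf_isNilpotent _) hz.1 fun s hs hd => ?_
    exact Set.mem_singleton_iff.2 ((Nat.prime_dvd_prime_iff_eq hs hq.out).1
      (hd.trans ((orderOf_map_dvd f c).trans (hCq ▸ orderOf_dvd_card_of_mem hc))))
  have hFle : N.map f ≤ Cfsg.fittingOf (N.map f) := by
    refine le_trans (le_of_eq ?_) (Cfsg.Agent.S1445.result
      (hodd.of_dvd_nat (card_quotient_dvd_card _)) (N.map f) (K.map f)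
      (by rw [← Subgroup.map_sup, hsup, ← MonoidHom.range_eq_map, MonoidHom.range_eq_top.2 hsurj])
      ((hcop.coprime_dvd_left (card_map_dvd _ f)).coprime_dvd_right (card_map_dvd _ f)) ?_ hFbot)
    · rw [← map_commutator, hgen]
    · rintro _ ⟨k, hk, rfl⟩ hk1
      rw [← centralizer_zpowers_eq', ← MonoidHom.map_zpowers,
        map_inf_centralizer f (hnormN _) (hcopk _ (zpowers_le.2 hk)) hNs hker,
        centralizer_zpowers_eq', hprime k hk (fun h1 => hk1 (by rw [h1, map_one])), hmap]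
  have hFeq : Cfsg.fittingOf (N.map f) = N.map f := le_antisymm (fittingOf_le _) hFle
  have hn : Group.IsNilpotent (N.map f) := hFeq ▸ fittingOf_isNilpotent _
  refine ⟨hn, fun hd => ?_⟩
  obtain ⟨z, hz⟩ := exists_prime_orderOf_dvd_card' q hd
  have h1 : (z : X ⧸ Cfsg.piCoreOf {q} N) ∈ Cfsg.piCoreOf {q} (N.map f) :=
    mem_piCoreOf_of_nilpotent hn z.2 fun s hs hsd => by
      rw [Subgroup.orderOf_coe, hz] at hsd
      exact Set.mem_singleton_iff.2 ((Nat.prime_dvd_prime_iff_eq hs hq.out).1 hsd)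
  rw [hcore, mem_bot, ← orderOf_eq_one_iff, Subgroup.orderOf_coe, hz] at h1
  exact hq.out.one_lt.ne' h1

/-- BG 15.2, abstract form. -/
theorem exists_prime_action_chief :
    ∃ Q : Subgroup X, Q.Normal ∧ Q ≤ N ∧ IsPGroup q Q ∧ Q ≠ ⊥ ∧ ¬ q ∣ Q.relIndex N ∧
      (Nat.card K).Prime ∧
      ∀ D : Subgroup X, Cfsg.IsComplIn Q D N →
        Group.IsNilpotent D ∧ (Q ⊓ centralizer (D : Set X)).Normal ∧
        Q ⊓ centralizer (D : Set X) < Q ∧
        Nat.card Q = Nat.card ↥(Q ⊓ centralizer (D : Set X)) * q ^ Nat.card K ∧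
        (∀ a ∈ Q, ∀ b ∈ Q, a ^ q ∈ Q ⊓ centralizer (D : Set X) ∧
          a * b * a⁻¹ * b⁻¹ ∈ Q ⊓ centralizer (D : Set X)) ∧
        ∀ W : Subgroup X, Q ⊓ centralizer (D : Set X) < W → W < Q → ¬ W.Normal := by
  classical
  set Q := Cfsg.piCoreOf {q} N with hQdef
  have hnormT : ∀ (W : Subgroup X) [W.Normal] (A : Subgroup X), A ≤ normalizer (W : Set X) :=
    fun W _ A => by rw [normalizer_eq_top]; exact le_top
  haveI hQn : Q.Normal := normalizer_eq_top_iff.1 (top_le_iff.1
    ((normalizer_eq_top (H := N)).ge.trans (normalizer_le_normalizer_piCoreOf _ _)))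
  have hQN : Q ≤ N := piCoreOf_le _ _
  have hQp : IsPGroup q Q := piCoreOf_singleton_isPGroup q N
  obtain ⟨hNbar, hqN⟩ := core_quotient_nilpotent hodd hsup hcop hprime hCq hgen
  have hrel : ¬ q ∣ Q.relIndex N := by
    rwa [← relIndex_ker, QuotientGroup.ker_mk'] at hqN
  set C := N ⊓ centralizer (K : Set X) with hC
  have hCN : C ≤ N := inf_le_left
  have hCQ : C ≤ Q := by
    intro c hc
    by_contra hcQ
    refine hrel ?_
    have h1 : orderOf (QuotientGroup.mk' Q c) = q :=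
      ((Nat.dvd_prime hq.out).1 ((orderOf_map_dvd _ c).trans
        (hCq ▸ orderOf_dvd_card_of_mem hc))).resolve_left
        fun h => hcQ ((QuotientGroup.eq_one_iff c).1 (orderOf_eq_one_iff.1 h))
    rw [← QuotientGroup.ker_mk' Q, relIndex_ker, ← h1]
    exact orderOf_dvd_card_of_mem (mem_map_of_mem _ (hCN hc))
  have hCprime : ∀ Y : Subgroup X, ¬ C ≤ Y → C ⊓ Y = ⊥ := fun Y hY => by
    rcases (Nat.dvd_prime hq.out).1 (hCq ▸ card_dvd_of_le (inf_le_left : C ⊓ Y ≤ C)) with h1 | h1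
    · exact Subgroup.card_eq_one.1 h1
    · exact absurd ((eq_of_le_of_card_ge inf_le_left (by rw [h1, hCq])).ge.trans inf_le_right) hY
  haveI : Group.IsSolvable N := inferInstance
  -- an invariant complement
  obtain ⟨D₀, hD₀, hKD₀⟩ := Solvable.exists_invariant_isPiHallOf (hnormT N K) hcop.symm
    ‹Group.IsSolvable N› {s : ℕ | s ≠ q}
  have hQD₀ : Q ⊓ D₀ = ⊥ := inf_eq_bot_of_coprime (by
    obtain ⟨n, hn⟩ := hQp.exists_card_eq
    rw [hn]
    exact (hq.out.coprime_iff_not_dvd.2 fun hd => hD₀.2.1 q hq.out hd rfl).pow_left n)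
  have hcompl : Q ⊔ D₀ = N := by
    refine eq_of_le_of_card_ge (sup_le hQN hD₀.1) ?_
    rw [Solvable.card_sup_of_disjoint (hnormT Q D₀) (disjoint_iff.2 hQD₀)]
    refine Nat.le_of_dvd (Nat.mul_pos Nat.card_pos Nat.card_pos) ?_
    have e1 : Nat.card N = Nat.card Q * Q.relIndex N := by
      rw [← relIndex_bot_left Q, relIndex_mul_relIndex ⊥ Q N bot_le hQN, relIndex_bot_left]
    have e2 : Nat.card N = Nat.card D₀ * D₀.relIndex N := by
      rw [← relIndex_bot_left D₀, relIndex_mul_relIndex ⊥ D₀ N bot_le hD₀.1, relIndex_bot_left]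
    obtain ⟨n, hn⟩ := hQp.exists_card_eq
    rw [e1]
    refine Nat.mul_dvd_mul_left _ ?_
    have hdiv : Q.relIndex N ∣ Nat.card D₀ * D₀.relIndex N := by
      rw [← e2, e1]
      exact dvd_mul_left _ _
    refine (Nat.Coprime.dvd_mul_right ?_).1 hdiv
    refine Nat.coprime_of_dvd fun s hs h1 h2 => ?_
    by_cases hsq : s = q
    · subst hsq; exact hrel h1
    · exact hD₀.2.2 s hs hsq h2
  have hDnil : ∀ D : Subgroup X, Q ⊓ D = ⊥ → D ≤ N → Group.IsNilpotent D := by
    intro D hD hDN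
    haveI := hNbar
    refine Subgroup.isNilpotent_of_ker_le_center (((QuotientGroup.mk' Q).comp D.subtype).codRestrict
      (N.map (QuotientGroup.mk' Q)) fun d => mem_map_of_mem _ (hDN d.2)) ?_
    intro d hd
    have h1 : (d : X) ∈ Q ⊓ D :=
      ⟨(QuotientGroup.eq_one_iff (d : X)).1 (congrArg Subtype.val hd :), d.2⟩
    rw [hD, mem_bot] at h1
    rw [show d = 1 from Subtype.ext h1]
    exact one_mem _
  have hD₀nil := hDnil D₀ hQD₀ hD₀.1
  obtain ⟨kp, hkp, hkd⟩ := Nat.exists_prime_and_dvd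
    (fun h1 => hK1 (Subgroup.card_eq_one.1 h1) : Nat.card K ≠ 1)
  haveI := Fact.mk hkp
  obtain ⟨k, hko⟩ := exists_prime_orderOf_dvd_card' kp hkd
  rw [← Subgroup.orderOf_coe] at hko
  have hk1 : (k : X) ≠ 1 := fun h1 => hkp.one_lt.ne (by rw [← hko, h1, orderOf_one])
  have hkN : (Nat.card N).Coprime (orderOf (k : X)) :=
    hcop.coprime_dvd_right (orderOf_dvd_card_of_mem k.2)
  have hkfix : ∀ V : Subgroup X, V ≤ N →
      V ⊓ centralizer ({(k : X)} : Set X) ≤ C := fun V hV => by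
    rw [← hprime k k.2 hk1]
    exact inf_le_inf_right _ hV
  -- `D₀` is generated by parts moved by `k`
  have hparts : ∀ W : Subgroup X, (∀ t : ℕ, t.Prime → t ∣ Nat.card N → t ≠ q →
      ∀ T : Subgroup X, IsPGroup t T → T ≤ D₀ → (k : X) ∈ normalizer (T : Set X) →
      T = ⁅T, zpowers (k : X)⁆ → T ≤ W) → D₀ ≤ W := by
    intro W hW d hd
    refine mem_of_forall_exists_pow_mem (orderOf_pos d) fun t ht htd => ?_
    haveI := Fact.mk ht
    obtain ⟨n, m, hm, hno⟩ :=
      Nat.exists_eq_pow_mul_and_not_dvd (orderOf_pos d).ne' t ht.one_lt.ne'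
    refine ⟨m, fun hd' => hm hd', ?_⟩
    have htD : t ∣ Nat.card D₀ := htd.trans (orderOf_dvd_card_of_mem hd)
    set T := Cfsg.piCoreOf {t} D₀
    have hdT : d ^ m ∈ T := mem_piCoreOf_of_nilpotent hD₀nil (pow_mem hd m) fun s hs hsd => by
      have h2 : orderOf (d ^ m) ∣ t ^ n := orderOf_dvd_of_pow_eq_one
        (by rw [← pow_mul, mul_comm, ← hno, pow_orderOf_eq_one])
      exact Set.mem_singleton_iff.2
        ((Nat.prime_dvd_prime_iff_eq hs ht).1 (hs.dvd_of_dvd_pow (hsd.trans h2)))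
    have hkT : (k : X) ∈ normalizer (T : Set X) :=
      normalizer_le_normalizer_piCoreOf _ _ (hKD₀ k.2)
    have hTN : T ≤ N := (piCoreOf_le _ _).trans hD₀.1
    refine hW t ht (htD.trans (card_dvd_of_le hD₀.1)) (hD₀.2.1 t ht htD) T
      (piCoreOf_singleton_isPGroup t D₀) (piCoreOf_le _ _) hkT ?_ hdT
    have h1 := Solvable.commutator_sup_centralizer (A := zpowers (k : X)) (K := T)
      (zpowers_le.2 hkT) ((hkN.coprime_dvd_left (card_dvd_of_le hTN)).symm.coprime_dvd_left
        (dvd_of_eq (Nat.card_zpowers _))) (Or.inr inferInstance)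
    have h2 : T ⊓ centralizer (zpowers (k : X) : Set X) = ⊥ := by
      rw [centralizer_zpowers_eq', eq_bot_iff, ← hQD₀]
      exact le_inf ((hkfix T hTN).trans hCQ) (inf_le_left.trans (piCoreOf_le _ _))
    rw [h2, sup_bot_eq] at h1
    exact h1.symm
  -- `D₀` centralizes every invariant part of `Q` missing `C`
  have hcent : ∀ V : Subgroup X, V.Normal → V ≤ Q → C ⊓ V = ⊥ →
      D₀ ≤ centralizer (V : Set X) := by
    intro V hVn hVQ hVC
    haveI := hVn
    refine hparts _ fun t ht htN htq T hT _ hkT hTe => ?_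
    rw [hTe]
    haveI := Fact.mk ht
    refine commutator_le_centralizer_of_fpf (fun h2 => ?_) (hko.symm ▸ hkp) (fun h2 => ?_)
      (hQp.to_le hVQ).isNilpotent ?_ (hkN.coprime_dvd_left (card_dvd_of_le (hVQ.trans hQN)))
      hT hkT (hnormT V T) (hnormT V ⊤ (mem_top _)) ?_
    · subst h2
      obtain ⟨j, hj⟩ := hodd
      obtain ⟨i, hi⟩ := htN.trans (card_subgroup_dvd_card N)
      omega
    · exact Nat.not_coprime_of_dvd_of_dvd ht.one_lt htN (h2 ▸ dvd_rfl) hkN
    · obtain ⟨n, hn⟩ := (hQp.to_le hVQ).exists_card_eq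
      rw [hn]
      exact ((Nat.coprime_primes hq.out ht).2 (Ne.symm htq)).pow_left n
    · rw [eq_bot_iff, ← hVC]
      exact le_inf (hkfix V (hVQ.trans hQN)) inf_le_left
  -- `D₀` centralizes `Q` modulo every invariant subgroup containing `C`
  have hmod : ∀ Y : Subgroup X, Y.Normal → Y ≤ Q → C ≤ Y →
      ∀ d ∈ D₀, ∀ a ∈ Q, ⁅d, a⁆ ∈ Y := by
    intro Y hYn hYQ hCY
    haveI := hYn
    set f := QuotientGroup.mk' Y with hf
    have hker : f.ker ≤ Q := by rw [hf, QuotientGroup.ker_mk']; exact hYQ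
    suffices h : D₀ ≤ (centralizer (Q.map f : Set (X ⧸ Y))).comap f by
      intro d hd a ha
      rw [← QuotientGroup.eq_one_iff (N := Y)]
      show f ⁅d, a⁆ = 1
      rw [map_commutatorElement, commutatorElement_eq_one_iff_mul_comm]
      exact (h hd (f a) (mem_map_of_mem f ha)).symm
    refine hparts _ fun t ht htN htq T hT _ hkT hTe => ?_
    haveI := Fact.mk ht
    rw [← map_le_iff_le_comap, hTe, map_commutator, MonoidHom.map_zpowers]
    have hfk : orderOf (f k) = orderOf (k : X) := by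
      rcases (Nat.dvd_prime (hko.symm ▸ hkp)).1 (orderOf_map_dvd f (k : X)) with h1 | h1
      · exfalso
        have h2 : (k : X) ∈ Y := (QuotientGroup.eq_one_iff _).1 (orderOf_eq_one_iff.1 h1)
        exact Nat.not_coprime_of_dvd_of_dvd hkp.one_lt
          (hko ▸ (orderOf_dvd_card_of_mem (hQN (hYQ h2)))) (dvd_of_eq hko.symm) hkN
      · exact h1
    have hVq : IsPGroup q (Q.map f) := hQp.map f
    refine commutator_le_centralizer_of_fpf (fun h2 => ?_) (hfk ▸ hko.symm ▸ hkp)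
      (fun h2 => ?_) hVq.isNilpotent ?_ (hfk.symm ▸ (hkN.coprime_dvd_left (card_dvd_of_le hQN)
        ).coprime_dvd_left (card_map_dvd _ f)) (hT.map f)
      (le_normalizer_map f (mem_map_of_mem f hkT)) ?_ ?_ ?_
    · subst h2
      obtain ⟨j, hj⟩ := hodd
      obtain ⟨i, hi⟩ := htN.trans (card_subgroup_dvd_card N)
      omega
    · exact Nat.not_coprime_of_dvd_of_dvd ht.one_lt htN (h2 ▸ dvd_of_eq hfk) hkN
    · obtain ⟨n, hn⟩ := hVq.exists_card_eq
      rw [hn]
      exact ((Nat.coprime_primes hq.out ht).2 (Ne.symm htq)).pow_left n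
    · haveI : (Q.map f).Normal := Subgroup.Normal.map hQn f (QuotientGroup.mk'_surjective _)
      rw [normalizer_eq_top]
      exact le_top
    · haveI : (Q.map f).Normal := Subgroup.Normal.map hQn f (QuotientGroup.mk'_surjective _)
      rw [normalizer_eq_top]
      exact mem_top _
    · rw [← centralizer_zpowers_eq', ← MonoidHom.map_zpowers, map_inf_centralizer f
        (hnormT Q _) ((hkN.coprime_dvd_left (card_dvd_of_le hQN)).symm.coprime_dvd_left
          (dvd_of_eq (Nat.card_zpowers _))) inferInstance hker, centralizer_zpowers_eq']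
      refine (eq_bot_iff_forall _).2 ?_
      rintro _ ⟨c, hc, rfl⟩
      exact (QuotientGroup.eq_one_iff c).2 (hCY (hkfix Q hQN hc))
  have hnotcent : ¬ D₀ ≤ centralizer (Q : Set X) := by
    intro hc
    refine hnil ?_
    have hD : N ≤ normalizer (D₀ : Set X) := by
      rw [← hcompl]
      exact sup_le ((le_centralizer_iff.1 hc).trans (centralizer_le_normalizer _)) le_normalizer
    have hF : N ≤ Cfsg.fittingOf N := hcompl.ge.trans
      (sup_le (le_fittingOf hQN (hnormT Q N) hQp.isNilpotent) (le_fittingOf hD₀.1 hD hD₀nil))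
    exact le_antisymm (fittingOf_le N) hF ▸ fittingOf_isNilpotent N
  have hQ1 : Q ≠ ⊥ := fun hb => hnotcent fun d _ a ha => by
    rw [hb, SetLike.mem_coe, mem_bot] at ha
    simp [ha]
  set Φ := (frattini Q).map Q.subtype with hΦ
  have hΦQ : Φ ≤ Q := map_subtype_le _
  haveI hΦn : Φ.Normal := normalizer_eq_top_iff.1 (top_le_iff.1
    ((normalizer_eq_top (H := Q)).ge.trans
      (Solvable.normalizer_le_of_characteristic_map (frattini Q))))
  have hΦC : D₀ ≤ centralizer (Φ : Set X) := by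
    refine hcent Φ hΦn hΦQ (hCprime Φ fun hCΦ => hnotcent ?_)
    refine Solvable.le_centralizer_of_trivial_on_frattini_quotient
      (A := D₀) (K := Q) ?_ fun a ha k' hk' => ?_
    · obtain ⟨n, hn⟩ := (hQp.to_subgroup (frattini Q)).exists_card_eq
      rw [hn]
      exact ((hq.out.coprime_iff_not_dvd.2 fun hd => hD₀.2.1 q hq.out hd rfl).pow_left n).symm
    · rw [← commutatorElement_def]
      exact hmod Φ hΦn hΦQ hCΦ a ha k' hk'
  set Q₀ := Q ⊓ centralizer (D₀ : Set X) with hQ₀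
  have hΦQ₀ : Φ ≤ Q₀ := le_inf hΦQ (le_centralizer_iff.1 hΦC)
  have hpow : ∀ a ∈ Q, ∀ b ∈ Q, a ^ q ∈ Q₀ ∧ a * b * a⁻¹ * b⁻¹ ∈ Q₀ := fun a ha b hb =>
    ⟨hΦQ₀ ⟨(⟨a, ha⟩ : Q) ^ q, PGroup.pow_mem_frattini hQp _, rfl⟩,
      hΦQ₀ ⟨⁅(⟨a, ha⟩ : Q), ⟨b, hb⟩⁆, PGroup.commutator_le_frattini hQp (by
        rw [_root_.commutator_def]
        exact commutator_mem_commutator (mem_top _) (mem_top _)), by
        rw [map_commutatorElement, commutatorElement_def]; rfl⟩⟩
  haveI hQ₀n : Q₀.Normal := by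
    refine normalizer_eq_top_iff.1 (top_le_iff.1 ?_)
    rw [← hsup, ← hcompl]
    refine sup_le (sup_le (fun a ha => ?_) fun d hd => ?_) fun a ha => ?_
    · refine mem_normalizer_of_map_le ?_
      rintro _ ⟨b, hb, rfl⟩
      simp only [MulEquiv.coe_toMonoidHom, MulAut.conj_apply]
      rw [show a * b * a⁻¹ = a * b * a⁻¹ * b⁻¹ * b by group]
      exact mul_mem (hpow a ha b hb.1).2 hb
    · exact centralizer_le_normalizer _ fun b hb => (hb.2 d hd).symm
    · exact inf_normalizer_le_normalizer_inf ⟨hnormT Q ⊤ (mem_top _),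
        normalizer_le_normalizer_centralizer _ (hKD₀ ha)⟩
  have hlift : ∀ Y : Subgroup X, Y.Normal → Y ≤ Q → C ≤ Y → Q ≤ Q₀ ⊔ Y := by
    intro Y hYn hYQ hCY a ha
    haveI := hYn
    obtain ⟨c, hc, hac⟩ := Solvable.exists_fixed_of_fixed_mod (hnormT Q D₀) (by
      obtain ⟨n, hn⟩ := hQp.exists_card_eq
      rw [hn]
      exact ((hq.out.coprime_iff_not_dvd.2 fun hd => hD₀.2.1 q hq.out hd rfl).pow_left n).symm)
      (Or.inr inferInstance) hYQ (hnormT Y Q) (hnormT Y D₀) ha fun d hd => by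
        rw [← commutatorElement_def]
        exact hmod Y hYn hYQ hCY d hd a ha
    rw [show a = c * (a⁻¹ * c)⁻¹ by group]
    exact mul_mem (mem_sup_left hc) (mem_sup_right (inv_mem hac))
  have hCQ₀ : ¬ C ≤ Q₀ := fun hle => hnotcent (le_centralizer_iff.1 fun a ha => by
    have h1 := hlift Q₀ hQ₀n inf_le_left hle ha
    rw [sup_idem] at h1
    exact h1.2)
  have hlt : Q₀ < Q := lt_of_le_of_ne inf_le_left fun e => hCQ₀ (e ▸ hCQ)
  have hirr : ∀ W : Subgroup X, Q₀ < W → W < Q → ¬ W.Normal := by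
    intro W hW1 hW2 hWn
    by_cases hCW : C ≤ W
    · exact hW2.ne (le_antisymm hW2.le ((hlift W hWn hW2.le hCW).trans (sup_le hW1.le le_rfl)))
    · exact hW1.not_ge (le_inf hW2.le (le_centralizer_iff.1 (hcent W hWn hW2.le (hCprime W hCW))))
  -- the factor `Q / Q₀`
  set f := QuotientGroup.mk' Q₀ with hfdef
  have hsurj : Function.Surjective f := QuotientGroup.mk'_surjective _
  have hfker : f.ker = Q₀ := QuotientGroup.ker_mk' _
  have hD₀Q₀ : D₀ ⊓ Q₀ = ⊥ := eq_bot_iff.2 (hQD₀ ▸ le_inf (inf_le_right.trans inf_le_left) inf_le_left)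
  have hKQ₀ : K ⊓ Q₀ = ⊥ := inf_eq_bot_of_coprime
    (hcop.coprime_dvd_left (card_dvd_of_le (inf_le_left.trans hQN))).symm
  have hinj : ∀ Z : Subgroup X, Z ⊓ Q₀ = ⊥ → Nat.card (Z.map f) = Nat.card Z := fun Z hZ => by
    rw [← relIndex_ker, hfker, ← inf_relIndex_left, hZ, relIndex_bot_left]
  have hne : ∀ Z : Subgroup X, Z ⊓ Q₀ = ⊥ → Z ≠ ⊥ → Z.map f ≠ ⊥ := fun Z hZ hZ1 hb =>
    hZ1 (Subgroup.card_eq_one.1 (by rw [← hinj Z hZ, hb, Subgroup.card_bot]))
  have hD₀1 : D₀ ≠ ⊥ := fun hb => hnotcent (hb.le.trans bot_le)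
  have hsupc : Nat.card ↥(D₀ ⊔ K) = Nat.card D₀ * Nat.card K :=
    Solvable.card_sup_of_disjoint hKD₀ (disjoint_iff.2
      (inf_eq_bot_of_coprime (hcop.coprime_dvd_left (card_dvd_of_le hD₀.1))))
  haveI : (Q.map f).Normal := Subgroup.Normal.map hQn f hsurj
  have hQD : (Nat.card D₀).Coprime (Nat.card Q) := by
    obtain ⟨n, hn⟩ := hQp.exists_card_eq
    rw [hn]
    exact ((hq.out.coprime_iff_not_dvd.2 fun hd => hD₀.2.1 q hq.out hd rfl).pow_left n).symm
  have hCk : ∀ A : Subgroup X, A ≤ K → centralizer (K : Set X) ≤ centralizer (A : Set X) ∧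
      Q.map f ⊓ centralizer (A.map f : Set (X ⧸ Q₀)) = (Q ⊓ centralizer (A : Set X)).map f :=
    fun A hA => ⟨centralizer_le hA, map_inf_centralizer f (hnormT Q A)
      ((hcop.coprime_dvd_left (card_dvd_of_le hQN)).symm.coprime_dvd_left (card_dvd_of_le hA))
      inferInstance (by rw [hfker]; exact inf_le_left)⟩
  have hQC : Q ⊓ centralizer (K : Set X) = C :=
    le_antisymm (inf_le_inf_right _ hQN) (le_inf hCQ inf_le_right)
  obtain ⟨hKp, hcard, -⟩ := Cfsg.Agent.S1446.result (D₀.map f) (K.map f) (Q.map f)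
    (hne D₀ hD₀Q₀ hD₀1) (hne K hKQ₀ hK1)
    (inf_eq_bot_of_coprime (by
      rw [hinj D₀ hD₀Q₀, hinj K hKQ₀]
      exact hcop.coprime_dvd_left (card_dvd_of_le hD₀.1)))
    ((map_mono hKD₀).trans (le_normalizer_map f))
    (by
      rintro _ ⟨x, hx, rfl⟩ hx1
      refine (eq_bot_iff_forall _).2 ?_
      rintro _ ⟨⟨d, hd, rfl⟩, hc⟩
      have h1 : ⁅x, d⁆ ∈ D₀ ⊓ Q₀ := by
        refine ⟨?_, ?_⟩
        · rw [commutatorElement_def]
          exact D₀.mul_mem ((mem_normalizer_iff.1 (hKD₀ hx) d).1 hd) (D₀.inv_mem hd)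
        · show ⁅x, d⁆ ∈ Q₀
          rw [← hfker, MonoidHom.mem_ker, map_commutatorElement,
            commutatorElement_eq_one_iff_mul_comm]
          exact (mem_centralizer_singleton_iff.1 hc).symm
      rw [hD₀Q₀, mem_bot, commutatorElement_eq_one_iff_mul_comm] at h1
      have h2 : d ∈ N ⊓ centralizer ({x} : Set X) :=
        ⟨hD₀.1 hd, mem_centralizer_singleton_iff.2 h1.symm⟩
      rw [hprime x hx (fun e => hx1 (by rw [e, map_one]))] at h2
      have h3 : d ∈ D₀ ⊓ Q₀ ∨ d ∈ Q ⊓ D₀ := Or.inr ⟨hCQ h2, hd⟩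
      rw [hQD₀, mem_bot] at h3
      rcases h3 with h3 | h3
      · rw [hD₀Q₀, mem_bot] at h3; rw [h3, map_one]
      · rw [h3, map_one])
    inferInstance ((hodd.of_dvd_nat (card_quotient_dvd_card _)).of_dvd_nat
      (card_subgroup_dvd_card _))
    (fun hb => hlt.ne (le_antisymm inf_le_left (by
      rw [← hfker]
      exact Subgroup.map_eq_bot_iff _ |>.1 hb)))
    (hQp.map f).isNilpotent (by rw [normalizer_eq_top]; exact le_top)
    (by rw [normalizer_eq_top]; exact le_top)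
    (by
      rw [← Subgroup.map_sup]
      refine (Nat.Coprime.coprime_dvd_left (card_map_dvd _ f) ?_).coprime_dvd_right
        (card_map_dvd _ f)
      rw [hsupc]
      exact Nat.Coprime.mul_left hQD (hcop.coprime_dvd_left (card_dvd_of_le hQN)).symm)
    (by
      rw [map_inf_centralizer f (hnormT Q D₀) hQD inferInstance (by rw [hfker]; exact inf_le_left),
        Subgroup.map_eq_bot_iff, hfker])
    (by
      rintro _ ⟨x, hx, rfl⟩ hx1
      rw [← centralizer_zpowers_eq', ← MonoidHom.map_zpowers, (hCk _ (zpowers_le.2 hx)).2,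
        (hCk K le_rfl).2, centralizer_zpowers_eq', hQC]
      have e : Q ⊓ centralizer ({x} : Set X) = C := le_antisymm
        (by rw [← hprime x hx (fun e => hx1 (by rw [e, map_one]))]
            exact inf_le_inf_right _ hQN)
        (le_inf hCQ (inf_le_right.trans (centralizer_le (Set.singleton_subset_iff.2 hx))))
      rw [e])
  rw [(hCk K le_rfl).2, hQC, hinj C (hCprime Q₀ hCQ₀), hCq, hinj K hKQ₀] at hcard
  rw [hinj K hKQ₀] at hKp
  have hQcard : Nat.card Q = Nat.card Q₀ * q ^ Nat.card K := by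
    rw [← hcard, ← relIndex_ker, hfker, ← relIndex_bot_left Q₀,
      relIndex_mul_relIndex ⊥ Q₀ Q bot_le inf_le_left, relIndex_bot_left]
  refine ⟨Q, hQn, hQN, hQp, hQ1, hrel, hKp, fun D hD => ?_⟩
  -- all complements have the same fixed points
  have hDhall : Cfsg.IsPiHallOf {s : ℕ | s ≠ q} D N := by
    have hc : Nat.card N = Nat.card Q * Nat.card D := by
      have e : Q ⊔ D = N := le_antisymm (sup_le hQN hD.2.1) fun x hx => by
        obtain ⟨a, ha, b, hb, rfl⟩ := hD.2.2.2 x hx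
        exact mul_mem (mem_sup_left ha) (mem_sup_right hb)
      rw [← e]
      exact Solvable.card_sup_of_disjoint (hnormT Q D) (disjoint_iff.2 hD.2.2.1)
    have h1 : Q.relIndex N = Nat.card D := by
      refine Nat.eq_of_mul_eq_mul_left (Nat.card_pos (α := Q)) ?_
      rw [← hc, ← relIndex_bot_left Q, relIndex_mul_relIndex ⊥ Q N bot_le hQN, relIndex_bot_left]
    refine ⟨hD.2.1, fun s hs hd e => hrel (h1 ▸ (e ▸ hd : q ∣ Nat.card D)), fun s hs hsq hd => ?_⟩
    have h2 : D.relIndex N = Nat.card Q := by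
      refine Nat.eq_of_mul_eq_mul_left (Nat.card_pos (α := D)) ?_
      rw [mul_comm _ (Nat.card Q), ← hc, ← relIndex_bot_left D,
        relIndex_mul_relIndex ⊥ D N bot_le hD.2.1, relIndex_bot_left]
    obtain ⟨n, hn⟩ := hQp.exists_card_eq
    exact hsq ((Nat.prime_dvd_prime_iff_eq hs hq.out).1 (hs.dvd_of_dvd_pow (hn ▸ h2 ▸ hd)))
  obtain ⟨g, -, hg⟩ := Solvable.exists_conj_of_isPiHallOf ‹Group.IsSolvable N› hD₀ hDhall
  have he : Q ⊓ centralizer (D : Set X) = Q₀ := by
    ext x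
    have hxc : x ∈ centralizer (D : Set X) ↔ g⁻¹ * x * g ∈ centralizer (D₀ : Set X) := by
      constructor
      · intro hx d hd
        have h1 : g * d * g⁻¹ ∈ D := hg.le (Subgroup.smul_mem_pointwise_smul d (MulAut.conj g) D₀ hd)
        calc d * (g⁻¹ * x * g) = g⁻¹ * ((g * d * g⁻¹) * x) * g := by group
          _ = g⁻¹ * (x * (g * d * g⁻¹)) * g := by rw [hx _ h1]
          _ = _ := by group
      · intro hx d hd
        rw [← hg, SetLike.mem_coe, Subgroup.mem_pointwise_smul_iff_inv_smul_mem] at hd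
        have h2 : g⁻¹ * d * g ∈ D₀ := by simpa using hd
        calc d * x = g * ((g⁻¹ * d * g) * (g⁻¹ * x * g)) * g⁻¹ := by group
          _ = g * ((g⁻¹ * x * g) * (g⁻¹ * d * g)) * g⁻¹ := by rw [hx _ h2]
          _ = x * d := by group
    constructor
    · rintro ⟨hxQ, hxC⟩
      have h1 : g⁻¹ * x * g ∈ Q₀ := ⟨by simpa using hQn.conj_mem x hxQ g⁻¹, hxc.1 hxC⟩
      have h2 := hQ₀n.conj_mem _ h1 g
      rwa [show g * (g⁻¹ * x * g) * g⁻¹ = x by group] at h2
    · intro hx
      exact ⟨hx.1, hxc.2 (by simpa using (hQ₀n.conj_mem x hx g⁻¹).2)⟩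
  refine ⟨hDnil D hD.2.2.1 hD.2.1, ?_⟩
  rw [he]
  exact ⟨hQ₀n, hlt, hQcard, hpow, hirr⟩

end Chief

end CfsgLib.OddOrder
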