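import Cfsg.Agent.Lib.OddOrder.KappaDual

/-!
BG 14.7: properties of a pair and its partner.
-/

set_option autoImplicit false
set_option linter.style.haveILetI false

open scoped commutatorElement

namespace CfsgLib.OddOrder

open Subgroup

variable {G : Type*} [Group G] [Finite G] (hG : Cfsg.IsMinSimpleOddOrder G)
include hG

namespace IsKappaPair

variable {M K L : Subgroup G} (h : IsKappaPair M K) (h' : IsKappaPair L (kappaStar M K))
  (he : kappaStar L (kappaStar M K) = K)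
include h h' he

omit hG h h' in
theorem zsub_dual : kappaStar M K ⊔ kappaStar L (kappaStar M K) = K ⊔ kappaStar M K := by
  rw [he, sup_comm]

theorem ne_dual : L ≠ M := by
  obtain ⟨k, hk, hkp⟩ := h.exists_prime_order hG
  exact h.ne_of_mem_kappaStar hG h' hk
    (fun h1 => Nat.not_prime_one (by rwa [h1, orderOf_one] at hkp)) (he.symm ▸ hk)

theorem eq_dual {L' : Subgroup G} (hL' : IsCoatom L') {z : G} (hz : z ∈ K) (hz1 : z ≠ 1)
    (hzL : z ∈ Cfsg.sigmaCore L') : L' = L :=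
  h'.eq_of_mem hG (he.symm ▸ hz : z ∈ kappaStar L (kappaStar M K)) hz1 hL' hzL

theorem member_eq {L' : Subgroup G} (hL' : IsCoatom L') {z : G} (hz : z ∈ K ⊔ kappaStar M K)
    (hz1 : z ≠ 1) (hzL : z ∈ Cfsg.sigmaCore L') :
    (L' = M ∧ z ∈ kappaStar M K) ∨ (L' = L ∧ z ∈ K) := by
  obtain ⟨q, hq, hd⟩ := Nat.exists_prime_and_dvd
    (fun h1 => hz1 (orderOf_eq_one_iff.1 h1) : orderOf z ≠ 1)
  have hwo : orderOf (z ^ (orderOf z / q)) = q := orderOf_pow_orderOf_div (orderOf_pos z).ne' hd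
  have hw1 : z ^ (orderOf z / q) ≠ 1 := fun h1 => hq.one_lt.ne (by rw [← hwo, h1, orderOf_one])
  have hwL : z ^ (orderOf z / q) ∈ Cfsg.sigmaCore L' := pow_mem hzL _
  by_cases hqσ : q ∈ Cfsg.sigma M
  · obtain rfl := h.eq_of_mem hG (h.mem_kappaStar (pow_mem hz _) fun s hs hsd => by
      rw [hwo] at hsd
      rwa [(Nat.prime_dvd_prime_iff_eq hs hq).1 hsd]) hw1 hL' hwL
    exact Or.inl ⟨rfl, h.zsub_inf_sigmaCore.le ⟨hz, hzL⟩⟩
  · have hwK : z ^ (orderOf z / q) ∈ K := h.mem_of_coprime (pow_mem hz _) (by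
      rw [hwo]
      exact (hq.coprime_iff_not_dvd.2 fun hd' => hqσ (h.primes_kappaStar hq hd')).symm)
    obtain rfl := h.eq_dual hG h' he hL' hwK hw1 hwL
    refine Or.inr ⟨rfl, ?_⟩
    rw [← he, ← h'.zsub_inf_sigmaCore, he, sup_comm]
    exact ⟨hz, hzL⟩

theorem kappaReg_eq : kappaReg M K =
    ((K ⊔ kappaStar M K : Subgroup G) : Set G) \ ((K : Set G) ∪ (kappaStar M K : Set G)) := by
  ext z
  constructor
  · rintro ⟨hz, hσ⟩
    refine ⟨hz, ?_⟩
    rintro (hzK | hzS)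
    · exact hσ L h'.max (he.symm ▸ hzK : z ∈ kappaStar L (kappaStar M K)).1
    · exact hσ M h.max hzS.1
  · rintro ⟨hz, hn⟩
    refine ⟨hz, fun L' hL' hzL => ?_⟩
    have hz1 : z ≠ 1 := fun h1 => hn (Or.inl (h1 ▸ one_mem K))
    rcases h.member_eq hG h' he hL' hz hz1 hzL with ⟨-, h1⟩ | ⟨-, h1⟩
    · exact hn (Or.inr h1)
    · exact hn (Or.inl h1)

/-- The size of the regular part. -/
theorem ncard_kappaReg :
    Set.ncard (kappaReg M K) + Nat.card K + Nat.card ↥(kappaStar M K) =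
      Nat.card K * Nat.card ↥(kappaStar M K) + 1 := by
  have h1 : ((K : Set G) ∩ (kappaStar M K : Set G)).ncard = 1 := by
    rw [← Subgroup.coe_inf, h.inf_eq_bot, Subgroup.coe_bot, Set.ncard_singleton]
  have h2 := Set.ncard_union_add_ncard_inter (K : Set G) (kappaStar M K : Set G)
  have h3 : ((K : Set G) ∪ (kappaStar M K : Set G)) ⊆ ((K ⊔ kappaStar M K : Subgroup G) : Set G) :=
    Set.union_subset (fun x hx => mem_sup_left hx) (fun x hx => mem_sup_right hx)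
  have h4 := Set.ncard_sdiff_add_ncard_of_subset h3
  rw [h.kappaReg_eq hG h' he, ← h.card_zsub]
  simp only [← Nat.card_coe_set_eq, SetLike.coe_sort_coe] at h1 h2 h4 ⊢
  omega

theorem card_lt_two_mul_conjUnion :
    Nat.card G < 2 * Set.ncard (conjUnion (kappaReg M K)) := by
  have hC := h.ncard_conjUnion hG (T := kappaReg M K) le_rfl
  rw [h.card_zsub] at hC
  have hT := h.ncard_kappaReg hG h' he
  have hk : 3 ≤ Nat.card K := by
    rcases odd_card_subgroup hG K with ⟨m, hm⟩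
    have : Nat.card K ≠ 1 := fun h1 => h.ne_bot (Subgroup.card_eq_one.1 h1)
    omega
  have hks : 3 ≤ Nat.card ↥(kappaStar M K) := by
    rcases odd_card_subgroup hG (kappaStar M K) with ⟨m, hm⟩
    have : Nat.card ↥(kappaStar M K) ≠ 1 := fun h1 =>
      h.kappaStar_ne_bot hG (Subgroup.card_eq_one.1 h1)
    omega
  have hne : Nat.card K ≠ Nat.card ↥(kappaStar M K) := fun e => by
    have hco := h.coprime_card
    rw [← e, Nat.coprime_self] at hco
    omega
  obtain ⟨a, ha⟩ := Nat.exists_eq_add_of_le hk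
  obtain ⟨b, hb⟩ := Nat.exists_eq_add_of_le hks
  have hg : 0 < Nat.card G := Nat.card_pos
  have hab : 2 ≤ a + b := by
    rcases odd_card_subgroup hG K with ⟨m, hm⟩
    rcases odd_card_subgroup hG (kappaStar M K) with ⟨m', hm'⟩
    omega
  rw [ha, hb] at hC hT
  by_contra hlt
  push Not at hlt
  have h5 : Nat.card G * (2 * Set.ncard (kappaReg M K)) ≤
      Nat.card G * ((3 + a) * (3 + b)) := by
    calc Nat.card G * (2 * Set.ncard (kappaReg M K))
        = 2 * Set.ncard (conjUnion (kappaReg M K)) * ((3 + a) * (3 + b)) := by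
          rw [mul_assoc 2 (Set.ncard _) _, hC]; ring
      _ ≤ _ := Nat.mul_le_mul_right _ hlt
  have h6 := Nat.le_of_mul_le_mul_left h5 hg
  nlinarith [Nat.zero_le (a * b)]

/-- BG 14.7: two classes of maximal subgroups with nonempty `κ`. -/
theorem conj_cases {H : Subgroup G} (hH : IsCoatom H) (hκ : (Cfsg.kappa H).Nonempty) :
    ∃ g : G, H = M.map (MulAut.conj g).toMonoidHom ∨ H = L.map (MulAut.conj g).toMonoidHom := by
  obtain ⟨K₁, hK₁⟩ := (Cfsg.Agent.S1351.result hG H hH).1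
  obtain ⟨p, hp⟩ := hκ
  have h₁ : IsKappaPair H K₁ := ⟨hH, hK₁, fun hb => by
    refine hK₁.2.2 p hp.1 hp ?_
    rw [hb, relIndex_bot_left]
    exact hp.2.1⟩
  obtain ⟨L₁, h₁', he₁, -, -⟩ := h₁.exists_dual hG
  by_contra hno
  push Not at hno
  have hdis : Disjoint (conjUnion (kappaReg M K)) (conjUnion (kappaReg H K₁)) := by
    rw [Set.disjoint_left]
    rintro a ⟨g, t, ht, rfl⟩ ⟨g₁, t₁, ht₁, he'⟩
    set u := g₁⁻¹ * g with hu
    have htu : u * t * u⁻¹ = t₁ := by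
      calc u * t * u⁻¹ = g₁⁻¹ * (g * t * g⁻¹) * g₁ := by rw [hu]; group
        _ = t₁ := by rw [he']; group
    have hZ : K₁ ⊔ kappaStar H K₁ = (K ⊔ kappaStar M K).map (MulAut.conj u).toMonoidHom := by
      rw [← h₁.centralizer_kappaReg hG ht₁, ← htu, centralizer_singleton_conj,
        h.centralizer_kappaReg hG ht]
    obtain ⟨y, hy, hy1⟩ : ∃ y ∈ kappaStar H K₁, y ≠ 1 := by
      by_contra hcon
      push Not at hcon
      exact h₁.kappaStar_ne_bot hG ((Subgroup.eq_bot_iff_forall _).2 hcon)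
    obtain ⟨z, hz, hzy⟩ := mem_map.1 (hZ.le (mem_sup_right hy))
    have hzy' : u * z * u⁻¹ = y := hzy
    have hz1 : z ≠ 1 := fun h1 => hy1 (by rw [← hzy', h1]; simp)
    have hzH : z ∈ Cfsg.sigmaCore (H.map (MulAut.conj u⁻¹).toMonoidHom) := by
      rw [sigmaCore_conj, mem_map_conj_iff, inv_inv, hzy']
      exact hy.1
    have hHu : H = (H.map (MulAut.conj u⁻¹).toMonoidHom).map (MulAut.conj u).toMonoidHom := by
      rw [map_conj_map_conj, mul_inv_cancel, map_conj_one]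
    rcases h.member_eq hG h' he (isCoatom_conj hH u⁻¹) hz hz1 hzH with ⟨e, -⟩ | ⟨e, -⟩
    · exact (hno u).1 (hHu.trans (by rw [e]))
    · exact (hno u).2 (hHu.trans (by rw [e]))
  have h2 := h.card_lt_two_mul_conjUnion hG h' he
  have h3 := h₁.card_lt_two_mul_conjUnion hG h₁' he₁
  have h4 : Set.ncard (conjUnion (kappaReg M K) ∪ conjUnion (kappaReg H K₁)) ≤ Nat.card G := by
    rw [← Set.ncard_univ]
    exact Set.ncard_le_ncard (Set.subset_univ _)
  rw [Set.ncard_union_eq hdis] at h4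
  omega

/-- BG 14.7 (c). -/
theorem inf_dual : M ⊓ L = K ⊔ kappaStar M K := by
  obtain ⟨k, hk, hkp⟩ := h.exists_prime_order hG
  have hZL : K ⊔ kappaStar M K ≤ L := (zsub_dual he).ge.trans (h'.zsub_le hG)
  refine le_antisymm (fun m hm => ?_) (le_inf (h.zsub_le hG) hZL)
  -- `M_σ` and `L_σ` meet trivially
  have hdis : Cfsg.sigmaCore M ⊓ Cfsg.sigmaCore L = ⊥ := by
    refine inf_eq_bot_of_coprime (Nat.coprime_of_dvd fun q hq h1 h2 => h.ne_dual hG h' he ?_)
    obtain ⟨g, hg⟩ := (Cfsg.Agent.S1378.result hG).2 M L h.max h'.max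
      ⟨q, sigma_of_dvd_sigmaCore hq h1, sigma_of_dvd_sigmaCore hq h2⟩
    exact h.eq_of_conj hG h' (zsub_dual he) hg
  have hM : L ⊓ Cfsg.sigmaCore M ≤ kappaStar M K := fun y hy => by
    refine ⟨hy.2, fun a ha => ?_⟩
    have haL : a ∈ Cfsg.sigmaCore L := (he.symm ▸ ha : a ∈ kappaStar L (kappaStar M K)).1
    have h1 : a * y * a⁻¹ * y⁻¹ ∈ Cfsg.sigmaCore M ⊓ Cfsg.sigmaCore L := by
      refine ⟨mul_mem ((mem_normalizer_iff.1 (le_normalizer_piCoreOf _ _ (h.hall.1 ha)) y).1 hy.2)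
        ((Cfsg.sigmaCore M).inv_mem hy.2), ?_⟩
      rw [show a * y * a⁻¹ * y⁻¹ = a * (y * a⁻¹ * y⁻¹) by group]
      exact mul_mem haL ((mem_normalizer_iff.1 (le_normalizer_piCoreOf _ _ hy.1) _).1 ((Cfsg.sigmaCore L).inv_mem haL))
    rw [hdis, mem_bot, mul_inv_eq_one, mul_inv_eq_iff_eq_mul] at h1
    exact h1
  have hL : M ⊓ Cfsg.sigmaCore L ≤ K := fun a ha => by
    rw [← he]
    refine ⟨ha.2, fun y hy => ?_⟩
    have h1 : y * a * y⁻¹ * a⁻¹ ∈ Cfsg.sigmaCore M ⊓ Cfsg.sigmaCore L := by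
      refine ⟨?_, mul_mem ((mem_normalizer_iff.1 (le_normalizer_piCoreOf _ _
        (hZL (mem_sup_right hy))) a).1 ha.2) ((Cfsg.sigmaCore L).inv_mem ha.2)⟩
      rw [show y * a * y⁻¹ * a⁻¹ = y * (a * y⁻¹ * a⁻¹) by group]
      exact mul_mem hy.1 ((mem_normalizer_iff.1 (le_normalizer_piCoreOf _ _ ha.1) _).1 ((Cfsg.sigmaCore M).inv_mem hy.1))
    rw [hdis, mem_bot, mul_inv_eq_one, mul_inv_eq_iff_eq_mul] at h1
    exact h1
  have hmK : m ∈ normalizer (K : Set G) := mem_normalizer_of_map_le (by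
    rintro _ ⟨a, ha, rfl⟩
    simp only [MulEquiv.coe_toMonoidHom, MulAut.conj_apply]
    refine hL ⟨mul_mem (M.mul_mem hm.1 (h.hall.1 ha)) (M.inv_mem hm.1), ?_⟩
    exact (mem_normalizer_iff.1 (le_normalizer_piCoreOf _ _ hm.2) a).1
      (he.symm ▸ ha : a ∈ kappaStar L (kappaStar M K)).1)
  obtain ⟨-, -, hN⟩ := Cfsg.Agent.S1430.result hG M h.max K h.hall h.ne_bot
  exact ((hN (zpowers k) (zpowers_le.2 hk) (by rwa [Nat.card_zpowers])).2.1).le ⟨hm.1, hmK⟩

end IsKappaPair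

/-- `κ(M) = τ₁(M)` when `κ(M)` is nonempty. -/
theorem IsKappaPair.kappa_eq_tau1 {M K : Subgroup G} (h : IsKappaPair M K) :
    Cfsg.kappa M = Cfsg.tau1 M := by
  refine Set.ext fun q => ⟨kappa_subset_tau1 hG h.max (h.cyclic hG) h.hall, fun hq => ?_⟩
  by_contra hqκ
  haveI := Fact.mk hq.1
  obtain ⟨-, ⟨U, -, hU, hKU, hUfpf⟩, -⟩ :=
    Cfsg.Agent.S1430.result hG M h.max K h.hall h.ne_bot
  have hqU : q ∣ Nat.card U := by
    have h1 := hq.2.2.1
    rw [← relIndex_bot_left M, ← relIndex_mul_relIndex ⊥ U M bot_le hU.1, relIndex_bot_left] at h1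
    exact (hq.1.dvd_mul.1 h1).resolve_right (hU.2.2 q hq.1 ⟨hq.1, hqκ, hq.2.1⟩)
  have hcop : (Nat.card K).Coprime (Nat.card U) :=
    Nat.coprime_of_dvd fun s hs h1 h2 => (hU.2.1 s hs h2).2.1 (h.hall.2.1 s hs h1)
  have hUK : U ≤ ⁅U, K⁆ := by
    have h1 := Solvable.commutator_sup_centralizer hKU hcop
      (Or.inl (isSolvable_of_ne_top hG fun hb => h.max.1 (top_le_iff.1 (hb ▸ h.hall.1))))
    obtain ⟨k, hk, hkp⟩ := h.exists_prime_order hG
    have h2 : U ⊓ centralizer (K : Set G) = ⊥ := le_bot_iff.1 (le_trans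
      (inf_le_inf_left _ (centralizer_le (Set.singleton_subset_iff.2 hk)))
      (hUfpf k hk (fun e => Nat.not_prime_one (by rwa [e, orderOf_one] at hkp))).le)
    rw [h2, sup_bot_eq] at h1
    exact h1.ge
  exact hq.2.2.2.1 (hqU.trans (card_dvd_of_le (hUK.trans (commutator_mono hU.1 h.hall.1))))

end CfsgLib.OddOrder
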