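import Cfsg.Agent.S1431
import Cfsg.Agent.Lib.OddOrder.KappaPartner

/-!
BG 14.7: corollaries in the form of the statements.
-/

set_option autoImplicit false
set_option linter.style.haveILetI false

namespace CfsgLib.OddOrder

open Subgroup

variable {G : Type*} [Group G] [Finite G] (hG : Cfsg.IsMinSimpleOddOrder G) {M K : Subgroup G}
include hG

omit hG in
theorem isKappaPair_of_decomposition (hM : IsCoatom M) {U : Subgroup G}
    (hKU : Cfsg.IsSigmaDecomposition M K U) (hK1 : K ≠ ⊥) : IsKappaPair M K :=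
  ⟨hM, hKU.hall, hK1⟩

theorem IsKappaPair.dual_spec (h : IsKappaPair M K) {Mstar : Subgroup G} (hMs : IsCoatom Mstar)
    (hKst : K = Cfsg.sigmaCore Mstar ⊓ centralizer (kappaStar M K : Set G)) :
    IsKappaPair Mstar (kappaStar M K) ∧ kappaStar Mstar (kappaStar M K) = K ∧
      ((∃ q : ℕ, q.Prime ∧ q ∣ Nat.card M ∧ q ∉ Cfsg.sigma M ∧ q ∉ Cfsg.kappa M) ∨
        ∃ q : ℕ, q.Prime ∧ q ∣ Nat.card Mstar ∧ q ∉ Cfsg.sigma Mstar ∧
          q ∉ Cfsg.kappa Mstar) := by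
  obtain ⟨L, h', he, -, hP⟩ := h.exists_dual hG
  obtain ⟨k, hk, hkp⟩ := h.exists_prime_order hG
  obtain rfl : Mstar = L := h.eq_dual hG h' he hMs hk
    (fun h1 => Nat.not_prime_one (by rwa [h1, orderOf_one] at hkp)) (hKst.le hk).1
  exact ⟨h', he, hP⟩

/-- The complement `U` is trivial exactly for type `P₁`. -/
theorem decomposition_U_ne_bot (hM : IsCoatom M) {U : Subgroup G}
    (hKU : Cfsg.IsSigmaDecomposition M K U)
    (hq : ∃ q : ℕ, q.Prime ∧ q ∣ Nat.card M ∧ q ∉ Cfsg.sigma M ∧ q ∉ Cfsg.kappa M) : U ≠ ⊥ := by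
  obtain ⟨q, hq, hd, hσ, hκ⟩ := hq
  intro hU
  have hc := decomposition_isComplIn hKU
  rw [hU, bot_sup_eq] at hc
  have h1 : Nat.card M = Nat.card (Cfsg.sigmaCore M) * Nat.card K := by
    rw [card_eq_relIndex_of_isComplIn hc, ← relIndex_bot_left (Cfsg.sigmaCore M),
      relIndex_mul_relIndex ⊥ (Cfsg.sigmaCore M) M bot_le hc.2.1, relIndex_bot_left]
  rw [h1, hq.dvd_mul] at hd
  rcases hd with hd | hd
  · exact hσ (sigma_of_dvd_sigmaCore hq hd)
  · exact hκ (hKU.hall.2.1 q hq hd)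

/-- `K*` is a Hall `σ(M)`-subgroup of the partner. -/
theorem IsKappaPair.hall_sigma (h : IsKappaPair M K) {L : Subgroup G}
    (h' : IsKappaPair L (kappaStar M K)) (he : kappaStar L (kappaStar M K) = K) :
    Cfsg.IsPiHallOf (Cfsg.sigma M) (kappaStar M K) L := by
  refine ⟨h'.hall.1, fun q hq hd => h.primes_kappaStar hq hd, fun q hq hqσ hd => ?_⟩
  by_cases hqK : q ∣ Nat.card ↥(kappaStar M K)
  · exact h'.hall.2.2 q hq (h'.hall.2.1 q hq hqK) hd
  haveI := Fact.mk hq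
  have hqL : q ∣ Nat.card L := hd.trans (by
    rw [← relIndex_bot_left L, ← relIndex_mul_relIndex ⊥ (kappaStar M K) L bot_le h'.hall.1]
    exact dvd_mul_left _ _)
  have hqσL : q ∉ Cfsg.sigma L := fun hqL' => h.ne_dual hG h' he (by
    obtain ⟨g, hg⟩ := (Cfsg.Agent.S1378.result hG).2 M L h.max h'.max ⟨q, hqσ, hqL'⟩
    exact h.eq_of_conj hG h' (IsKappaPair.zsub_dual he) hg)
  have hqκ : q ∉ Cfsg.kappa L := fun hqκ => h'.hall.2.2 q hq hqκ hd
  obtain ⟨-, ⟨U, hUc, hU, hKU, -⟩, -⟩ :=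
    Cfsg.Agent.S1430.result hG L h'.max _ h'.hall h'.ne_bot
  haveI := hUc
  have hqU : q ∣ Nat.card U := by
    rw [← relIndex_bot_left L, ← relIndex_mul_relIndex ⊥ U L bot_le hU.1, relIndex_bot_left] at hqL
    exact (hq.dvd_mul.1 hqL).resolve_right (hU.2.2 q hq ⟨hq, hqκ, hqσL⟩)
  obtain ⟨u, hu⟩ := exists_prime_orderOf_dvd_card' q hqU
  set Y := Cfsg.piCoreOf {q} U with hY
  have hUn : Group.IsNilpotent U := by
    letI : CommGroup U :=
      { (inferInstance : Group U) with mul_comm := fun a b => Subtype.ext (setLike_mul_comm a.2 b.2) }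
    exact CommGroup.isNilpotent
  have huY : (u : G) ∈ Y := mem_piCoreOf_of_nilpotent hUn u.2 fun s hs hsd => by
    rw [Subgroup.orderOf_coe, hu] at hsd
    exact Set.mem_singleton_iff.2 ((Nat.prime_dvd_prime_iff_eq hs hq).1 hsd)
  have hKY : kappaStar M K ≤ normalizer (Y : Set G) :=
    hKU.trans (normalizer_le_normalizer_piCoreOf _ _)
  have hYp : IsPGroup q Y := piCoreOf_singleton_isPGroup q U
  have hdisj : Disjoint Y (kappaStar M K) := disjoint_iff.2 (inf_eq_bot_of_coprime (by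
    obtain ⟨n, hn⟩ := hYp.exists_card_eq
    rw [hn]
    exact (hq.coprime_iff_not_dvd.2 hqK).pow_left n))
  obtain ⟨-, -, -, hYσ⟩ := Cfsg.Agent.S1431.result hG M h.max K h.hall h.ne_bot
  have hne : (Y ⊔ kappaStar M K) ⊓ kappaStar M K ≠ ⊥ := by
    rw [inf_eq_right.2 le_sup_right]
    exact h.kappaStar_ne_bot hG
  have hsub := hYσ (Y ⊔ kappaStar M K) (fun s hs hsd => by
    rw [Solvable.card_sup_of_disjoint hKY hdisj, hs.dvd_mul] at hsd
    rcases hsd with hd' | hd'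
    · obtain ⟨n, hn⟩ := hYp.exists_card_eq
      rw [(Nat.prime_dvd_prime_iff_eq hs hq).1 (hs.dvd_of_dvd_pow (hn ▸ hd'))]
      exact hqσ
    · exact h.primes_kappaStar hs hd') hne
  have huZ : (u : G) ∈ M ⊓ L := ⟨piCoreOf_le _ _ (hsub (mem_sup_left huY)), hU.1 u.2⟩
  rw [h.inf_dual hG h' he] at huZ
  refine hqK ?_
  have h1 := h.zsub_inf_sigmaCore.le ⟨huZ, hsub (mem_sup_left huY)⟩
  rw [← hu, ← Subgroup.orderOf_coe]
  exact orderOf_dvd_card_of_mem h1

end CfsgLib.OddOrder
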