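import Cfsg.Agent.Lib.OddOrder.UniqueAux
import Mathlib.GroupTheory.PGroup
import Mathlib.GroupTheory.SpecificGroups.Cyclic

/-!
Central products of a nonabelian group of order `p³` and exponent `p` with a cyclic group.
-/

set_option autoImplicit false
set_option linter.style.haveILetI false

open scoped commutatorElement

namespace CfsgLib.OddOrder

open Subgroup

/-- The conclusion of BG 10.? for a nonabelian Sylow subgroup of rank two. -/
structure IsCPPair {G : Type*} [Group G] (p : ℕ) (S P₁ P₂ : Subgroup G) : Prop where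
  sup : P₁ ⊔ P₂ = S
  comm : ∀ a ∈ P₁, ∀ b ∈ P₂, a * b = b * a
  nonab : ¬ IsMulCommutative P₁
  card : Nat.card P₁ = p ^ 3
  exp : Monoid.exponent P₁ = p
  cyc : IsCyclic P₂
  omega : closure {x : G | x ∈ P₂ ∧ x ^ p = 1} = P₁ ⊓ centralizer (P₁ : Set G)

namespace IsCPPair

variable {G : Type*} [Group G] [Finite G] {p : ℕ} [hp : Fact p.Prime] {S P₁ P₂ : Subgroup G}
  (h : IsCPPair p S P₁ P₂)
include h

omit [Finite G] hp in
theorem le : P₁ ≤ S := h.sup ▸ le_sup_left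

omit [Finite G] hp in
theorem exists_mul {x : G} (hx : x ∈ S) : ∃ a ∈ P₁, ∃ b ∈ P₂, x = a * b := by
  have hn : P₂ ≤ normalizer (P₁ : Set G) :=
    le_trans (fun b hb => mem_centralizer_iff.2 fun a ha => h.comm a ha b hb)
      (centralizer_le_normalizer _)
  rw [← h.sup] at hx
  obtain ⟨a, ha, b, hb, e⟩ := (Solvable.mem_sup_of_le_normalizer hn).1 hx
  exact ⟨a, ha, b, hb, e.symm⟩

omit [Finite G] hp in
theorem pow_eq_one {a : G} (ha : a ∈ P₁) : a ^ p = 1 := by
  have := Monoid.pow_exponent_eq_one (⟨a, ha⟩ : P₁)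
  rw [h.exp] at this
  exact congrArg Subtype.val this

omit [Finite G] hp in
theorem mem_of_pow {x : G} (hx : x ∈ S) (hxp : x ^ p = 1) : x ∈ P₁ := by
  obtain ⟨a, ha, b, hb, rfl⟩ := h.exists_mul hx
  rw [(show Commute a b from h.comm a ha b hb).mul_pow, h.pow_eq_one ha, one_mul] at hxp
  have h1 : b ∈ closure {x : G | x ∈ P₂ ∧ x ^ p = 1} := subset_closure ⟨hb, hxp⟩
  rw [h.omega] at h1
  exact P₁.mul_mem ha h1.1

omit [Finite G] hp in
theorem central {c : G} (hc : c ∈ P₁ ⊓ centralizer (P₁ : Set G)) :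
    c ∈ centralizer (S : Set G) := by
  have h1 : S ≤ centralizer ({c} : Set G) := by
    rw [← h.sup]
    refine sup_le (fun a ha => mem_centralizer_singleton_iff.2 (mem_centralizer_iff.1 hc.2 a ha))
      (fun b hb => mem_centralizer_singleton_iff.2 (h.comm c hc.1 b hb).symm)
  exact fun x hx => mem_centralizer_singleton_iff.1 (h1 hx)

omit [Finite G] hp in
theorem mem_center_of_pow {x : G} (hx : x ∈ S) (hxS : x ∈ centralizer (S : Set G))
    (hxp : x ^ p = 1) : x ∈ P₁ ⊓ centralizer (P₁ : Set G) :=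
  ⟨h.mem_of_pow hx hxp, centralizer_le h.le hxS⟩

theorem card_center : Nat.card ↥(P₁ ⊓ centralizer (P₁ : Set G) : Subgroup G) = p := by
  set Z := P₁ ⊓ centralizer (P₁ : Set G) with hZ
  have hZ2 : Z ≤ P₂ := by
    rw [hZ, ← h.omega, closure_le]
    exact fun x hx => hx.1
  haveI := h.cyc
  haveI : IsCyclic Z := isCyclic_of_injective (inclusion hZ2) (inclusion_injective hZ2)
  have hP : IsPGroup p P₁ := IsPGroup.of_card h.card
  haveI : Nontrivial P₁ := Finite.one_lt_card_iff_nontrivial.1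
    (h.card ▸ Nat.one_lt_pow (by omega) hp.out.one_lt)
  haveI := hP.center_nontrivial
  obtain ⟨⟨z, hz⟩, hz1⟩ := exists_ne (1 : center P₁)
  have hzZ : (z : G) ∈ Z := ⟨z.2, fun a ha => congrArg Subtype.val (mem_center_iff.1 hz ⟨a, ha⟩)⟩
  obtain ⟨g, hg⟩ := (Subgroup.isCyclic_iff_exists_zpowers_eq_top Z).1 inferInstance
  have hgZ : g ∈ Z := hg ▸ mem_zpowers g
  rw [← hg, Nat.card_zpowers]
  refine ((Nat.dvd_prime hp.out).1 (orderOf_dvd_of_pow_eq_one (h.pow_eq_one hgZ.1))).resolve_left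
    fun h1 => hz1 ?_
  rw [← hg, orderOf_eq_one_iff.1 h1, zpowers_one_eq_bot, mem_bot] at hzZ
  exact Subtype.ext (Subtype.ext hzZ)

theorem commutator_mem {a b : G} (ha : a ∈ P₁) (hb : b ∈ P₁) :
    ⁅a, b⁆ ∈ P₁ ⊓ centralizer (P₁ : Set G) := by
  refine ⟨?_, fun c hc => ?_⟩
  · rw [commutatorElement_def]
    exact P₁.mul_mem (P₁.mul_mem (P₁.mul_mem ha hb) (P₁.inv_mem ha)) (P₁.inv_mem hb)
  have hq : Nat.card (P₁ ⧸ center P₁) = p ^ 2 := by
    have e : (center P₁).map P₁.subtype = P₁ ⊓ centralizer (P₁ : Set G) := by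
      ext x
      constructor
      · rintro ⟨y, hy, rfl⟩
        exact ⟨y.2, fun a ha => congrArg Subtype.val (mem_center_iff.1 hy ⟨a, ha⟩)⟩
      · rintro ⟨hx, hxc⟩
        exact ⟨⟨x, hx⟩, mem_center_iff.2 fun y => Subtype.ext (mem_centralizer_iff.1 hxc y y.2), rfl⟩
    have h1 := (center P₁).card_mul_index
    rw [h.card, ← card_map_of_injective P₁.subtype_injective, e, h.card_center,
      index_eq_card, pow_succ'] at h1
    exact Nat.eq_of_mul_eq_mul_left hp.out.pos h1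
  haveI : IsMulCommutative (P₁ ⧸ center P₁) :=
    IsPGroup.isMulCommutative_of_card_eq_prime_sq hq
  have h2 : ⁅(⟨a, ha⟩ : P₁), ⟨b, hb⟩⁆ ∈ center P₁ := by
    rw [← QuotientGroup.eq_one_iff (N := center P₁)]
    show QuotientGroup.mk' (center P₁) _ = 1
    rw [map_commutatorElement, commutatorElement_eq_one_iff_mul_comm]
    exact mul_comm' _ _
  exact congrArg Subtype.val (mem_center_iff.1 h2 ⟨c, hc⟩)

theorem commute_of_centralizer {b : G} (hb : b ∈ P₁) (hbZ : b ∉ centralizer (P₁ : Set G))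
    {x y : G} (hx : x ∈ S) (hxb : x * b = b * x) (hy : y ∈ S) (hyb : y * b = b * y) :
    x * y = y * x := by
  set C := P₁ ⊓ centralizer ({b} : Set G) with hC
  have hlt : C < P₁ := lt_of_le_not_ge inf_le_left fun hle =>
    hbZ fun a ha => mem_centralizer_singleton_iff.1 (hle ha).2
  have hbC : b ∈ C := ⟨hb, mem_centralizer_singleton_iff.2 rfl⟩
  have hZC : P₁ ⊓ centralizer (P₁ : Set G) ≤ C := fun z hz =>
    ⟨hz.1, mem_centralizer_singleton_iff.2 (mem_centralizer_iff.1 hz.2 b hb).symm⟩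
  have hP : IsPGroup p P₁ := IsPGroup.of_card h.card
  obtain ⟨i, hi⟩ := (hP.to_le (inf_le_left : C ≤ P₁)).exists_card_eq
  have h1 : p < Nat.card C := by
    refine lt_of_le_of_ne (h.card_center ▸ card_le_of_le hZC) fun e => hbZ ?_
    have : P₁ ⊓ centralizer (P₁ : Set G) = C := eq_of_le_of_card_ge hZC (e ▸ h.card_center.ge)
    exact (this.symm ▸ hbC : b ∈ P₁ ⊓ centralizer (P₁ : Set G)).2
  have h2 : Nat.card C < p ^ 3 := h.card ▸ lt_of_le_of_ne (card_le_of_le hlt.le)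
    fun e => hlt.ne (eq_of_le_of_card_ge hlt.le e.ge)
  have h3 : p ^ 1 < p ^ i := by rwa [pow_one, ← hi]
  rw [hi, Nat.pow_lt_pow_iff_right hp.out.one_lt] at h2
  rw [Nat.pow_lt_pow_iff_right hp.out.one_lt] at h3
  have hi2 : i = 2 := by omega
  subst hi2
  have hcomm : ∀ u ∈ C, ∀ v ∈ C, Commute u v := fun u hu v hv =>
    haveI := IsPGroup.isMulCommutative_of_card_eq_prime_sq hi
    congrArg Subtype.val (mul_comm' (⟨u, hu⟩ : C) ⟨v, hv⟩)
  obtain ⟨a, ha, c, hc, rfl⟩ := h.exists_mul hx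
  obtain ⟨a', ha', c', hc', rfl⟩ := h.exists_mul hy
  have hmem : ∀ a ∈ P₁, ∀ c ∈ P₂, a * c * b = b * (a * c) → a ∈ C := by
    intro a ha c hc e
    refine ⟨ha, mem_centralizer_singleton_iff.2 ?_⟩
    have h4 : a * b * c = b * a * c := by
      rw [mul_assoc a b c, h.comm b hb c hc, ← mul_assoc, e, mul_assoc]
    exact mul_right_cancel h4
  haveI := h.cyc
  have hcc : Commute c c' := congrArg Subtype.val
    ((IsCyclic.commGroup (α := P₂)).mul_comm (⟨c, hc⟩ : P₂) ⟨c', hc'⟩)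
  exact ((hcomm a (hmem a ha c hc hxb) a' (hmem a' ha' c' hc' hyb)).mul_right
    (h.comm a ha c' hc')).mul_left
    (((show Commute a' c from h.comm a' ha' c hc).symm).mul_right hcc)

theorem conj_eq {b x : G} (hb : b ∈ P₁) (hx : x ∈ S) :
    ∃ c ∈ P₁ ⊓ centralizer (P₁ : Set G), x * b * x⁻¹ = b * c := by
  obtain ⟨a, ha, d, hd, rfl⟩ := h.exists_mul hx
  refine ⟨⁅b⁻¹, a⁆, h.commutator_mem (P₁.inv_mem hb) ha, ?_⟩
  have h1 : d * b * d⁻¹ = b := by rw [← h.comm b hb d hd, mul_inv_cancel_right]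
  calc a * d * b * (a * d)⁻¹ = a * (d * b * d⁻¹) * a⁻¹ := by group
    _ = a * b * a⁻¹ := by rw [h1]
    _ = b * ⁅b⁻¹, a⁆ := by rw [commutatorElement_def]; group

/-- The lines of `⟨b⟩Z(P₁)` other than the centre are conjugate under any element moving `b`. -/
theorem line_conj {b x : G} (hb : b ∈ P₁) (hx : x ∈ S) (hxb : x * b ≠ b * x) {B : Subgroup G}
    (hB : B ≤ zpowers b ⊔ (P₁ ⊓ centralizer (P₁ : Set G))) (hBc : Nat.card B = p)
    (hBZ : B ≠ P₁ ⊓ centralizer (P₁ : Set G)) :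
    ∃ j : ℕ, B = (zpowers b).map (MulAut.conj (x ^ j)).toMonoidHom := by
  set Z := P₁ ⊓ centralizer (P₁ : Set G) with hZdef
  obtain ⟨c, hc, hxc⟩ := h.conj_eq hb hx
  have hc1 : c ≠ 1 := fun e => hxb (by rw [e, mul_one] at hxc; exact mul_inv_eq_iff_eq_mul.1 hxc)
  have hcx : ∀ y ∈ S, y * c * y⁻¹ = c := fun y hy => by
    rw [mem_centralizer_iff.1 (h.central hc) y hy, mul_inv_cancel_right]
  obtain ⟨w, hwB, hwZ⟩ := SetLike.not_le_iff_exists.1
    fun hle : B ≤ Z => hBZ (eq_of_le_of_card_ge hle (hBc ▸ h.card_center.le))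
  have hn : Z ≤ normalizer ((zpowers b : Subgroup G) : Set G) := fun z hz =>
    centralizer_le_normalizer _ ((centralizer_le (zpowers_le.2 hb)) hz.2)
  obtain ⟨u, hu, z, hz, rfl⟩ := (Solvable.mem_sup_of_le_normalizer hn).1 (hB hwB)
  obtain ⟨i, rfl⟩ := mem_powers_iff_mem_zpowers.2 hu
  have hbp : b ^ p = 1 := h.pow_eq_one hb
  have hi : ¬ p ∣ i := fun ⟨k, hk⟩ => hwZ (by
    show b ^ i * z ∈ Z
    rwa [hk, pow_mul, hbp, one_pow, one_mul])
  obtain ⟨k, -, hk⟩ := Nat.exists_mul_mod_eq_one_of_coprime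
    ((hp.out.coprime_iff_not_dvd).2 hi).symm hp.out.one_lt
  obtain ⟨j, hj⟩ := mem_powers_iff_mem_zpowers.2
    ((zpowers_eq_of_card_eq hc hc1).ge (Z.pow_mem hz k))
  refine ⟨j, (eq_of_le_of_card_ge ?_ ?_).symm⟩
  · rw [MonoidHom.map_zpowers, zpowers_le]
    have h1 : (b ^ i * z) ^ k = b * c ^ j := by
      rw [(show Commute (b ^ i) z from (mem_centralizer_iff.1 hz.2 _ (P₁.pow_mem hb i))).mul_pow,
        ← pow_mul, ← hj]
      congr 1
      rw [← Nat.mod_add_div (i * k) p, hk, pow_add, pow_one, pow_mul, hbp, one_pow, mul_one]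
    have h2 : ∀ n : ℕ, x ^ n * b * (x ^ n)⁻¹ = b * c ^ n := by
      intro n
      induction n with
      | zero => simp
      | succ n ih =>
        calc x ^ (n + 1) * b * (x ^ (n + 1))⁻¹ = x * (x ^ n * b * (x ^ n)⁻¹) * x⁻¹ := by
              rw [pow_succ']; group
          _ = (x * b * x⁻¹) * (x * c ^ n * x⁻¹) := by rw [ih]; group
          _ = b * c ^ (n + 1) := by
              rw [hxc, ← conj_pow, hcx x hx, mul_assoc, ← pow_succ']
    show MulAut.conj (x ^ j) b ∈ B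
    rw [MulAut.conj_apply, h2, ← h1]
    exact B.pow_mem hwB k
  · rw [card_map_of_injective (MulAut.conj (x ^ j)).injective, Nat.card_zpowers, hBc]
    refine le_of_eq (orderOf_eq_prime hbp fun e => hxb (by rw [e, one_mul, mul_one])).symm
where
  zpowers_eq_of_card_eq {c : G} (hc : c ∈ P₁ ⊓ centralizer (P₁ : Set G)) (hc1 : c ≠ 1) :
      zpowers c = P₁ ⊓ centralizer (P₁ : Set G) := by
    refine eq_of_le_of_card_ge (zpowers_le.2 hc) ?_
    rw [h.card_center, Nat.card_zpowers, orderOf_eq_prime (h.pow_eq_one hc.1) hc1]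

end IsCPPair

end CfsgLib.OddOrder
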