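import Mathlib.GroupTheory.Abelianization.Defs
import Mathlib.GroupTheory.Index
import Mathlib.Algebra.BigOperators.Group.Finset.Basic
import Mathlib.GroupTheory.OrderOfElement

/-!
Fixed points of a coprime action with `[S, E] = S` lie in `[S, S]`.
-/

set_option autoImplicit false
set_option linter.style.haveILetI false

open scoped commutatorElement

namespace CfsgLib.OddOrder

open Subgroup

theorem inf_centralizer_le_commutator_of_coprime {G : Type*} [Group G] [Finite G] {S E : Subgroup G}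
    (hES : E ≤ normalizer (S : Set G)) (hcop : (Nat.card E).Coprime (Nat.card S))
    (hSE : S ≤ ⁅S, E⁆) : S ⊓ centralizer (E : Set G) ≤ ⁅S, S⁆ := by
  classical
  haveI : Fintype E := Fintype.ofFinite E
  let conjHom : E → (S →* S) := fun e => MonoidHom.mk'
    (fun s => ⟨(e : G) * s * (e : G)⁻¹, (mem_normalizer_iff.1 (hES e.2) _).1 s.2⟩)
    (fun a b => Subtype.ext (by simp [mul_assoc]))
  let ψ : S →* Abelianization S := ∏ e : E, Abelianization.of.comp (conjHom e)
  have hψ : ∀ s : S, ψ s = ∏ e : E, Abelianization.of (conjHom e s) := fun s => by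
    exact map_prod (MonoidHom.eval s : (S →* Abelianization S) →* Abelianization S) _ _
  have hshift : ∀ (s : S) (d : E), ψ (conjHom d s) = ψ s := by
    intro s d
    rw [hψ, hψ]
    refine Fintype.prod_equiv (Equiv.mulRight d) _ _ fun e => congrArg _ (Subtype.ext ?_)
    simp [conjHom, mul_assoc]
  have hgen : ∀ g ∈ ⁅S, E⁆, ∀ hg : g ∈ S, ψ ⟨g, hg⟩ = 1 := by
    intro g hg
    rw [Subgroup.commutator_def] at hg
    refine closure_induction (p := fun g _ => ∀ hg : g ∈ S, ψ ⟨g, hg⟩ = 1) ?_ ?_ ?_ ?_ hg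
    · rintro _ ⟨s, hs, e, he, rfl⟩ hmem
      have h1 : (⟨⁅s, e⁆, hmem⟩ : S) = ⟨s, hs⟩ * conjHom ⟨e, he⟩ ⟨s, hs⟩⁻¹ :=
        Subtype.ext (by simp [conjHom, commutatorElement_def, mul_assoc])
      rw [h1, map_mul, hshift, map_inv, mul_inv_cancel]
    · intro h
      exact map_one ψ
    · intro a b ha hb iha ihb hab
      have hle : ⁅S, E⁆ ≤ S := by
        rw [commutator_le]
        intro s hs e he
        rw [commutatorElement_def, mul_assoc s, mul_assoc s]
        exact S.mul_mem hs ((mem_normalizer_iff.1 (hES he) _).1 (S.inv_mem hs))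
      rw [Subgroup.commutator_def] at hle
      rw [show (⟨a * b, hab⟩ : S) = ⟨a, hle ha⟩ * ⟨b, hle hb⟩ from rfl, map_mul, iha, ihb, one_mul]
    · intro a _ iha hinv
      rw [show (⟨a⁻¹, hinv⟩ : S) = ⟨a, by simpa using S.inv_mem hinv⟩⁻¹ from rfl, map_inv, iha,
        inv_one]
  rintro c ⟨hcS, hcE⟩
  have h1 := hgen c (hSE hcS) hcS
  have h0 : ∀ e : E, conjHom e ⟨c, hcS⟩ = ⟨c, hcS⟩ := fun e => Subtype.ext
    (show (e : G) * c * (e : G)⁻¹ = c by
      rw [mem_centralizer_iff.1 hcE e e.2, mul_inv_cancel_right])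
  simp only [hψ, h0] at h1
  rw [Finset.prod_const, Finset.card_univ, ← Nat.card_eq_fintype_card, ← map_pow] at h1
  have h2 : (⟨c, hcS⟩ : S) ^ Nat.card E ∈ commutator S := by
    rw [← Abelianization.ker_of, MonoidHom.mem_ker]
    exact h1
  have hc : (⟨c, hcS⟩ : S) ∈ commutator S := by
    obtain ⟨k, hk⟩ := exists_pow_eq_self_of_coprime
      (hcop.coprime_dvd_right (orderOf_dvd_natCard (⟨c, hcS⟩ : S)))
    rw [← hk]
    exact pow_mem h2 k
  rw [← map_subtype_commutator]
  exact ⟨_, hc, rfl⟩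

end CfsgLib.OddOrder
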