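import Cfsg.Agent.Lib.OddOrder.SigmaEmbedding
import Cfsg.Agent.Lib.OddOrder.Exceptional
import Cfsg.Agent.Lib.OddOrder.CentralProductSylow
import Cfsg.Agent.Lib.OddOrder.CoprimeAbelianization
import Cfsg.Agent.Lib.OddOrder.SigmaCompl
import Cfsg.Agent.S1412
import Cfsg.Agent.S1414

/-!
BG 12.14 and 12.17, given 12.4 and 12.13.
-/

set_option autoImplicit false
set_option linter.style.haveILetI false

open scoped commutatorElement

namespace CfsgLib.OddOrder

open Subgroup

/-- In a `p`-group of rank at least three, an element of order `p` of the derived group has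
centralizer of rank at least three. -/
theorem not_pRankLE_centralizer_commutator {R : Type*} [Group R] [Finite R] {p : ℕ}
    [hp : Fact p.Prime] (hp2 : p ≠ 2) (hR : IsPGroup p R) (hr : ¬ Cfsg.PRankLE p 2 R)
    {X : Subgroup R} (hX : Nat.card X = p) (hXR : X ≤ commutator R) :
    ¬ Cfsg.PRankLE p 2 (centralizer (X : Set R)) := by
  intro hC
  haveI : IsCyclic X := isCyclic_of_prime_card hX
  have hXe : Cfsg.IsElementaryAbelian p X := ⟨inferInstance, fun x hx => orderOf_dvd_iff_pow_eq_one.1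
    ((orderOf_dvd_card_of_mem hx).trans (dvd_of_eq hX))⟩
  obtain ⟨B, ⟨hBe, hXB⟩, hBmax⟩ := (Set.toFinite
    {B : Subgroup R | Cfsg.IsElementaryAbelian p B ∧ X ≤ B}).exists_maximal ⟨X, hXe, le_rfl⟩
  have hmax : ∀ C : Subgroup R, Cfsg.IsElementaryAbelian p C → B ≤ C → C = B := fun C hC' hle =>
    le_antisymm (hBmax ⟨hC', hXB.trans hle⟩ hle) hle
  have hext : ∀ y ∈ centralizer (B : Set R), y ^ p = 1 → y ∈ B := fun y hy hyp =>
    hmax _ (elementary_sup_zpowers hBe hy hyp) le_sup_left ▸ mem_sup_right (mem_zpowers y)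
  haveI := hBe.1
  have hBC : B ≤ centralizer (X : Set R) := fun b hb e he => setLike_mul_comm (hXB he) hb
  obtain ⟨z, -, hz, hzo⟩ := PGroup.exists_central_orderOf_eq hR (⊤ : Subgroup R) fun h => by
    have h1 := card_le_of_le (le_top : X ≤ ⊤)
    rw [h, card_bot, hX] at h1
    exact absurd h1 hp.out.one_lt.not_ge
  have hzB : z ∈ B := hext z (center_le_centralizer _ hz) (hzo ▸ pow_orderOf_eq_one z)
  have hzX : z ∉ X := by
    intro hzX
    have he : zpowers z = X := eq_of_le_of_card_ge (zpowers_le.2 hzX)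
      (by rw [Nat.card_zpowers, hzo, hX])
    refine hr (TwoFusion.PRank.pRankLE_of_injective (MonoidHom.codRestrict (MonoidHom.id R) _
      fun x => ?_) (fun a b h => congrArg Subtype.val h) hC)
    rw [← he, mem_centralizer_iff]
    intro w hw
    obtain ⟨k, rfl⟩ := mem_zpowers_iff.1 hw
    exact (mem_center_iff.1 ((center R).zpow_mem hz k) x).symm
  obtain ⟨i, hi⟩ := (hR.to_subgroup B).exists_card_eq
  have hi2 : i = 2 := by
    have h1 : i ≤ 2 := by
      by_contra h
      exact not_pRankLE_of_elementary hBC hBe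
        (hi ▸ Nat.pow_lt_pow_right hp.out.one_lt (not_le.1 h)) hC
    have h2 : p < Nat.card B := lt_of_le_of_ne (hX ▸ card_le_of_le hXB) fun e =>
      hzX ((eq_of_le_of_card_ge hXB (by rw [← e, hX])).symm ▸ hzB)
    rw [hi] at h2
    have h3 : 1 < i := (Nat.pow_lt_pow_iff_right hp.out.one_lt).1 (by rwa [pow_one])
    omega
  subst hi2
  obtain ⟨hBT, -, -, hTc, hTi⟩ := Cfsg.Agent.S1453.result p hp2 hR hr B hBe hi hmax
  set T := centralizer ((closure {x : R | x ∈ Subgroup.upperCentralSeries R 2 ∧ x ^ p = 1} :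
    Subgroup R) : Set R)
  haveI := hTc
  haveI hTn : T.Normal := inferInstance
  have hDT : commutator R ≤ T := by
    haveI : IsCyclic (R ⧸ T) := isCyclic_of_prime_card (p := p) (T.index_eq_card.symm.trans hTi)
    letI := IsCyclic.commGroup (α := R ⧸ T)
    have := Abelianization.commutator_subset_ker (QuotientGroup.mk' T)
    rwa [QuotientGroup.ker_mk'] at this
  have hBeq : X ⊔ zpowers z = B := by
    refine eq_of_le_of_card_ge (sup_le hXB (zpowers_le.2 hzB)) ?_
    obtain ⟨n, hn⟩ := (hR.to_subgroup (X ⊔ zpowers z)).exists_card_eq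
    have h1 : p < Nat.card ↥(X ⊔ zpowers z) := lt_of_le_of_ne (hX ▸ card_le_of_le le_sup_left)
      fun e => hzX ((eq_of_le_of_card_ge le_sup_left (by rw [← e, hX])).symm ▸
        mem_sup_right (mem_zpowers z))
    rw [hn] at h1
    rw [hi, hn]
    exact Nat.pow_le_pow_right hp.out.pos
      ((Nat.pow_lt_pow_iff_right hp.out.one_lt).1 (by rwa [pow_one] : p ^ 1 < p ^ n))
  exact hBT (hBeq ▸ sup_le (hXR.trans hDT) (zpowers_le.2 (center_le_centralizer _ hz)))

theorem IsCPPair.commutator_le {G : Type*} [Group G] [Finite G] {p : ℕ} [Fact p.Prime]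
    {S P₁ P₂ : Subgroup G} (h : IsCPPair p S P₁ P₂) : ⁅S, S⁆ ≤ centralizer (S : Set G) := by
  rw [Subgroup.commutator_le]
  intro x hx y hy
  obtain ⟨a, ha, c, hc, rfl⟩ := h.exists_mul hx
  obtain ⟨a', ha', c', hc', rfl⟩ := h.exists_mul hy
  haveI := h.cyc
  have e1 : c * a' = a' * c := (h.comm a' ha' c hc).symm
  have e2 : c' * a = a * c' := (h.comm a ha c' hc').symm
  have e3 : c * c' = c' * c := congrArg Subtype.val
    ((IsCyclic.commGroup (α := P₂)).mul_comm (⟨c, hc⟩ : P₂) ⟨c', hc'⟩)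
  have e : ⁅a * c, a' * c'⁆ = ⁅a, a'⁆ := by
    simp only [commutatorElement_def]
    calc a * c * (a' * c') * (a * c)⁻¹ * (a' * c')⁻¹
        = a * (c * a') * c' * (c⁻¹ * a⁻¹) * (c'⁻¹ * a'⁻¹) := by group
      _ = a * a' * (c * c') * c⁻¹ * a⁻¹ * c'⁻¹ * a'⁻¹ := by rw [e1]; group
      _ = a * a' * (c' * a⁻¹) * c'⁻¹ * a'⁻¹ := by rw [e3]; group
      _ = a * a' * (a⁻¹ * c') * c'⁻¹ * a'⁻¹ := by
          rw [(show Commute c' a from e2).inv_right.eq]
      _ = a * a' * a⁻¹ * a'⁻¹ := by group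
  rw [e]
  exact h.central (h.commutator_mem ha ha')

variable {G : Type*} [Group G] [Finite G] (hG : Cfsg.IsMinSimpleOddOrder G) {M : Subgroup G}
  (hM : IsCoatom M) {p : ℕ} [hp : Fact p.Prime]
include hG hM

/-- A Sylow subgroup of `M_σ` is one of `M`. -/
theorem isMaxPIn_of_sigmaCore_sylow (hσ : p ∈ Cfsg.sigma M) (P : Sylow p (Cfsg.sigmaCore M)) :
    IsMaxPIn p M ((P : Subgroup (Cfsg.sigmaCore M)).map (Cfsg.sigmaCore M).subtype) := by
  have h := isMaxPIn_of_sylow P
  exact ⟨h.le.trans (piCoreOf_le _ _), h.pgroup,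
    fun Q hQ hle hQM => h.max Q hQ hle (le_sigmaCore_of_pgroup hG hM hσ hQ hQM)⟩

/-- BG 12.14 from 12.13. -/
theorem sigma_centralizer_unique
    (hU : ∀ P : Subgroup G, IsPGroup p P → ¬ IsMulCommutative P → Cfsg.InUniqueMaximal P)
    (hσ : p ∈ Cfsg.sigma M) {X : Subgroup G} (hXM : X ≤ M) (hX : Nat.card X = p)
    (P : Sylow p (Cfsg.sigmaCore M))
    (h : p ∈ Cfsg.beta M ∨ X ≤ ⁅Cfsg.sigmaCore M, Cfsg.sigmaCore M⁆) :
    (centralizer (X : Set G) ≤ M ∧
        ∀ L : Subgroup G, IsCoatom L → centralizer (X : Set G) ≤ L → L = M) ∧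
      Cfsg.InUniqueMaximal ((P : Subgroup (Cfsg.sigmaCore M)).map (Cfsg.sigmaCore M).subtype) ∧
      (P : Subgroup (Cfsg.sigmaCore M)).map (Cfsg.sigmaCore M).subtype ≤ M := by
  have hPM : (P : Subgroup (Cfsg.sigmaCore M)).map (Cfsg.sigmaCore M).subtype ≤ M :=
    (map_subtype_le _).trans (piCoreOf_le _ _)
  have hXp : IsPGroup p X := IsPGroup.of_card (n := 1) (by rw [hX, pow_one])
  have hXS : X ≤ (Cfsg.sigmaCore M) := le_sigmaCore_of_pgroup hG hM hσ hXp hXM
  by_cases hβ : p ∈ Cfsg.beta M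
  · refine ⟨centralizer_unique_of_beta hG hM hβ hXM hX,
      inUniqueMaximal_of_ideal hG hβ.2 (P.2.map _) fun hc => hβ.1.2 ?_, hPM⟩
    refine pRankLE_of_isMaxPIn (isMaxPIn_of_sigmaCore_sylow hG hM hσ P) fun B hB hBp => ?_
    haveI := hc
    obtain ⟨b, hb⟩ := IsCyclic.exists_generator (α := B)
    rw [← orderOf_eq_card_of_forall_mem_zpowers hb]
    refine (Nat.le_of_dvd hp.out.pos (orderOf_dvd_of_pow_eq_one
      (Subtype.ext (by rw [SubgroupClass.coe_pow]; exact hBp b b.2)))).trans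
        (Nat.le_self_pow two_ne_zero p)
  replace h := h.resolve_left hβ
  have hnpc : Cfsg.HasNormalPComplement p (Cfsg.sigmaCore M) :=
    ((Cfsg.Agent.S1414.result hG M hM).2.2.2.2 p hp.out hσ.2.1 hβ).2.1
  obtain ⟨N, hN⟩ := NPC.hasNormalPComplement_iff.1 hnpc
  obtain ⟨P₀, hP₀⟩ := (hXp.of_equiv (subgroupOfEquivOfLe hXS).symm).exists_le_sylow
  set T := (P₀ : Subgroup (Cfsg.sigmaCore M)).map (Cfsg.sigmaCore M).subtype with hT
  have hXT : X ≤ T := by
    rw [← map_subgroupOf_eq_of_le hXS]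
    exact map_mono hP₀
  haveI := hN.1
  have hPN : (P₀ : Subgroup (Cfsg.sigmaCore M)) ⊓ N = ⊥ := by
    obtain ⟨n, hn⟩ := P₀.2.exists_card_eq
    exact disjoint_iff.1 (disjoint_of_coprime_natCard (hn ▸ (hN.2.1.pow_right n).symm))
  have hXD : X.subgroupOf (Cfsg.sigmaCore M) ≤ ⁅(P₀ : Subgroup (Cfsg.sigmaCore M)), (P₀ : Subgroup (Cfsg.sigmaCore M))⁆ := by
    intro x hx
    have hxD : x ∈ commutator (Cfsg.sigmaCore M) := by
      have := h (mem_subgroupOf.1 hx)
      rw [← map_subtype_commutator] at this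
      obtain ⟨y, hy, hyx⟩ := this
      exact ((Cfsg.sigmaCore M).subtype_injective hyx) ▸ hy
    have hsurj : (P₀ : Subgroup (Cfsg.sigmaCore M)).map (QuotientGroup.mk' N) = ⊤ := by
      obtain ⟨k, hk⟩ := hN.2.2
      have hq : IsPGroup p ((Cfsg.sigmaCore M) ⧸ N) := IsPGroup.of_card (n := k) (N.index_eq_card.symm.trans hk)
      let Pq := P₀.mapSurjective (QuotientGroup.mk'_surjective N)
      have h1 : (Pq : Subgroup ((Cfsg.sigmaCore M) ⧸ N)) = ⊤ :=
        (Pq.is_maximal' (hq.to_subgroup ⊤) le_top).symm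
      rwa [Sylow.coe_mapSurjective] at h1
    have h2 := mem_map_of_mem (QuotientGroup.mk' N) hxD
    have h3 : (commutator (Cfsg.sigmaCore M)).map (QuotientGroup.mk' N) ≤
        ⁅(P₀ : Subgroup (Cfsg.sigmaCore M)), (P₀ : Subgroup (Cfsg.sigmaCore M))⁆.map (QuotientGroup.mk' N) := by
      rw [_root_.commutator_def, map_commutator, map_commutator, hsurj]
      exact commutator_mono le_top le_top
    obtain ⟨d, hd, hdx⟩ := h3 h2
    have hdP : d ∈ (P₀ : Subgroup (Cfsg.sigmaCore M)) := commutator_le_self _ hd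
    have h4 : d⁻¹ * x ∈ (P₀ : Subgroup (Cfsg.sigmaCore M)) ⊓ N :=
      ⟨(P₀ : Subgroup (Cfsg.sigmaCore M)).mul_mem
        ((P₀ : Subgroup (Cfsg.sigmaCore M)).inv_mem hdP) (hP₀ hx), QuotientGroup.eq.1 hdx⟩
    rw [hPN, mem_bot, inv_mul_eq_one] at h4
    exact h4 ▸ hd
  have hXTT : X ≤ ⁅T, T⁆ := by
    rw [← map_subgroupOf_eq_of_le hXS, hT, ← map_commutator]
    exact map_mono hXD
  have hTna : ¬ IsMulCommutative T := fun hc => by
    rw [commutator_eq_bot_iff_le_centralizer.2 (le_centralizer_iff_isMulCommutative.2 hc),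
      le_bot_iff] at hXTT
    rw [hXTT, card_bot] at hX
    exact hp.out.ne_one hX.symm
  have hTp : IsPGroup p T := P₀.2.map _
  have hTU := hU T hTp hTna
  have hmxT := isMaxPIn_of_sigmaCore_sylow hG hM hσ P₀
  have hTM : T ≤ M := hmxT.le
  refine ⟨?_, ?_, hPM⟩
  swap
  · obtain ⟨g, hg⟩ := MulAction.exists_smul_eq (Cfsg.sigmaCore M) P₀ P
    have he : (P : Subgroup (Cfsg.sigmaCore M)).map (Cfsg.sigmaCore M).subtype = T.map (MulAut.conj (g : G)).toMonoidHom := by
      rw [← hg, hT, map_map]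
      show ((P₀ : Subgroup (Cfsg.sigmaCore M)).map (MulAut.conj g).toMonoidHom).map (Cfsg.sigmaCore M).subtype = _
      rw [map_map]
      rfl
    exact he ▸ inUniqueMaximal_conj hTU _
  have hX1 : X ≠ ⊥ := fun h0 => hp.out.ne_one (by rw [← hX, h0, card_bot])
  have hCt : centralizer (X : Set G) ≠ ⊤ := fun h0 =>
    normalizer_ne_top hG hX1 (isPGroup_ne_top hG hXp)
      (top_le_iff.1 (h0 ▸ centralizer_le_normalizer _))
  suffices hW : ∃ W : Subgroup G, W ≤ T ∧ W ≤ centralizer (X : Set G) ∧ Cfsg.InUniqueMaximal W by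
    obtain ⟨W, hWT, hWC, hWU⟩ := hW
    exact ⟨le_of_inUniqueMaximal hWU hM (hWT.trans hTM) hCt hWC,
      fun L hL hle => ExistsUnique.unique hWU ⟨hL, hWC.trans hle⟩ ⟨hM, hWT.trans hTM⟩⟩
  by_cases hr : Cfsg.PRankLE p 2 T
  · have hmx := isMaxPIn_top_of_sigma hσ hmxT
    let Q : Sylow p G := ⟨T, hTp, fun {R} hR hle => hmx.max R hR hle le_top⟩
    rcases Cfsg.Agent.S1412.result hG p Q hr with h' | ⟨P₁, P₂, h1, h2, h3, h4, h5, h6, h7⟩
    · exact absurd h' hTna
    · exact ⟨T, le_rfl, le_centralizer_iff.1 (hXTT.trans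
        (IsCPPair.commutator_le ⟨h1, h2, h3, h4, h5, h6, h7⟩)), hTU⟩
  · have hp2 : p ≠ 2 := prime_ne_two_of_dvd_card hG hσ.2.1
    have hC : ¬ Cfsg.PRankLE p 2 ↥(T ⊓ centralizer (X : Set G)) := by
      intro hC
      refine not_pRankLE_centralizer_commutator hp2 hTp hr (X := X.subgroupOf T) ?_ ?_ ?_
      · rw [Nat.card_congr (subgroupOfEquivOfLe hXT).toEquiv, hX]
      · intro x hx
        have := hXTT (mem_subgroupOf.1 hx)
        rw [← map_subtype_commutator] at this
        obtain ⟨y, hy, hyx⟩ := this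
        exact (T.subtype_injective hyx) ▸ hy
      · refine TwoFusion.PRank.pRankLE_of_injective (MonoidHom.mk'
          (fun a : centralizer (X.subgroupOf T : Set T) =>
            (⟨((a : T) : G), (a : T).2, fun x hx => congrArg Subtype.val
              (mem_centralizer_iff.1 a.2 ⟨x, hXT hx⟩ (mem_subgroupOf.2 hx))⟩ :
                ↥(T ⊓ centralizer (X : Set G)))) fun _ _ => rfl) (fun a b hab => ?_) hC
        exact Subtype.ext (Subtype.ext (congrArg Subtype.val hab :))
    obtain ⟨B, hB, hBe, hBc⟩ := exists_elementary_of_not_pRankLE hC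
    exact ⟨B, hB.trans inf_le_left, hB.trans inf_le_right,
      inUniqueMaximal_of_elementary_three hG hBe hBc⟩

omit hp in
/-- BG 12.17 (a): `[M_σ, E] = M_σ`. -/
theorem sigmaCore_commutator_complement {E : Subgroup G}
    (hE : Cfsg.IsComplIn E (Cfsg.sigmaCore M) M) :
    ⁅Cfsg.sigmaCore M, E⁆ = Cfsg.sigmaCore M := by
  set S := Cfsg.sigmaCore M with hS
  haveI := sigmaCore_isSolvable hG hM
  have hSM : S ≤ M := piCoreOf_le _ _
  have hES : E ≤ normalizer (S : Set G) := hE.1.trans (le_normalizer_piCoreOf _ _)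
  set N := ⁅S, E⁆ with hN
  have hNS : N ≤ S := by
    rw [hN, Subgroup.commutator_le]
    intro s hs e he
    rw [commutatorElement_def, mul_assoc s, mul_assoc s]
    exact S.mul_mem hs ((mem_normalizer_iff.1 (hES he) _).1 (S.inv_mem hs))
  refine le_antisymm hNS ?_
  have hSN : S ≤ normalizer (N : Set G) := Solvable.le_normalizer_commutator_left S E
  set W := N ⊔ ⁅S, S⁆ with hW
  have hSS : ⁅S, S⁆ ≤ S := commutator_le_self S
  have hWS : W ≤ S := sup_le hNS hSS
  have hMW : M ≤ normalizer (W : Set G) := by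
    intro m hm
    obtain ⟨e, he, s, hs, rfl⟩ := hE.2.2.2 m hm
    refine mul_mem (normalizer_inf_normalizer_le_normalizer_sup _ _
      ⟨Solvable.le_normalizer_commutator_right S E he, ?_⟩)
      (normalizer_inf_normalizer_le_normalizer_sup _ _
        ⟨hSN hs, Solvable.le_normalizer_commutator_left S S hs⟩)
    show e ∈ normalizer ((⁅S, S⁆ : Subgroup G) : Set G)
    rw [mem_normalizer_iff_map_conj_eq]
    show ⁅S, S⁆.map (MulAut.conj e).toMonoidHom = ⁅S, S⁆
    have h1 := hES he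
    rw [mem_normalizer_iff_map_conj_eq] at h1
    rw [map_commutator, show S.map (MulAut.conj e).toMonoidHom = S from h1]
  haveI : (W.subgroupOf M).Normal := normal_subgroupOf_of_le_normalizer hMW
  set π := QuotientGroup.mk' (W.subgroupOf M)
  have hSW : S ≤ W := by
    intro s hs
    have hcomm : ∀ b : M, (b : G) ∈ S → ∀ c : M, (c : G) ∈ S ∨ (c : G) ∈ E →
        π b * π c = π c * π b := fun b hb c hc => by
      rw [← commutatorElement_eq_one_iff_mul_comm, ← map_commutatorElement]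
      refine (QuotientGroup.eq_one_iff _).2 (mem_subgroupOf.2 ?_)
      rcases hc with hc | hc
      · exact mem_sup_right (commutator_mem_commutator hb hc)
      · exact mem_sup_left (commutator_mem_commutator hb hc)
    have hD : (commutator M).map π ≤ (⁅E.subgroupOf M, E.subgroupOf M⁆).map π := by
      rw [_root_.commutator_def, map_commutator, map_commutator, Subgroup.commutator_le]
      rintro _ ⟨x, -, rfl⟩ _ ⟨y, -, rfl⟩
      obtain ⟨a, ha, b, hb, hx⟩ := hE.2.2.2 x x.2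
      obtain ⟨a', ha', b', hb', hy⟩ := hE.2.2.2 y y.2
      let A : M := ⟨a, hE.1 ha⟩
      let B : M := ⟨b, hSM hb⟩
      let A' : M := ⟨a', hE.1 ha'⟩
      let B' : M := ⟨b', hSM hb'⟩
      have ex : x = A * B := Subtype.ext hx
      have ey : y = A' * B' := Subtype.ext hy
      have c1 : Commute (π B) (π A') := hcomm B hb A' (Or.inr ha')
      have c2 : Commute (π B') (π A) := hcomm B' hb' A (Or.inr ha)
      have c3 : Commute (π B) (π B') := hcomm B hb B' (Or.inl hb')
      have key : ⁅π x, π y⁆ = ⁅π A, π A'⁆ := by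
        rw [ex, ey, map_mul, map_mul, commutatorElement_def, commutatorElement_def]
        calc π A * π B * (π A' * π B') * (π A * π B)⁻¹ * (π A' * π B')⁻¹
            = π A * (π B * π A') * π B' * (π B)⁻¹ * (π A)⁻¹ * ((π B')⁻¹ * (π A')⁻¹) := by group
          _ = π A * π A' * (π B * π B') * (π B)⁻¹ * (π A)⁻¹ * ((π B')⁻¹ * (π A')⁻¹) := by
              rw [c1.eq]; group
          _ = π A * π A' * (π B' * (π A)⁻¹) * ((π B')⁻¹ * (π A')⁻¹) := by rw [c3.eq]; group
          _ = π A * π A' * ((π A)⁻¹ * π B') * ((π B')⁻¹ * (π A')⁻¹) := by rw [c2.inv_right.eq]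
          _ = π A * π A' * (π A)⁻¹ * (π A')⁻¹ := by group
      rw [key]
      exact commutator_mem_commutator (mem_map_of_mem π (mem_subgroupOf.2 ha : A ∈ E.subgroupOf M))
        (mem_map_of_mem π (mem_subgroupOf.2 ha' : A' ∈ E.subgroupOf M))
    obtain ⟨t, ht, rfl⟩ := hs
    have htD : t ∈ commutator M := piCore_sigma_le_commutator hG hM ht
    obtain ⟨e, he, het⟩ := hD (mem_map_of_mem π htD)
    have heE : (e : G) ∈ E := mem_subgroupOf.1 (commutator_le_self _ he)
    have h1 : (e : G)⁻¹ * t ∈ W := mem_subgroupOf.1 (QuotientGroup.eq.1 het)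
    have htS : (t : G) ∈ S := mem_map_of_mem _ ht
    have h2 : (e : G) ∈ E ⊓ S := ⟨heE, by
      have h := S.mul_mem htS (S.inv_mem (hWS h1))
      simpa using h⟩
    rw [hE.2.2.1, mem_bot] at h2
    simpa [h2] using h1
  haveI : (N.subgroupOf S).Normal := normal_subgroupOf_of_le_normalizer hSN
  by_contra hne
  haveI : Nontrivial (S ⧸ N.subgroupOf S) := by
    refine (QuotientGroup.nontrivial_iff).2 fun e => hne ?_
    exact subgroupOf_eq_top.1 e
  haveI : Group.IsSolvable (S ⧸ N.subgroupOf S) :=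
    Group.isSolvable_of_surjective (QuotientGroup.mk'_surjective _)
  refine (Group.IsSolvable.commutator_lt_top_of_nontrivial (S ⧸ N.subgroupOf S)).ne ?_
  rw [eq_top_iff]
  intro q _
  obtain ⟨x, rfl⟩ := QuotientGroup.mk'_surjective _ q
  obtain ⟨n, hn, d, hd, hnd⟩ := (Solvable.mem_sup_of_le_normalizer (hSS.trans hSN)).1 (hSW x.2)
  rw [← map_subtype_commutator] at hd
  obtain ⟨d', hd', rfl⟩ := hd
  have h1 : QuotientGroup.mk' (N.subgroupOf S) x = QuotientGroup.mk' (N.subgroupOf S) d' := by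
    rw [show x = ⟨n, hNS hn⟩ * d' from Subtype.ext hnd.symm, map_mul,
      show QuotientGroup.mk' (N.subgroupOf S) ⟨n, hNS hn⟩ = 1 from
        (QuotientGroup.eq_one_iff _).2 (mem_subgroupOf.2 hn), one_mul]
  rw [h1]
  have h2 := mem_map_of_mem (QuotientGroup.mk' (N.subgroupOf S)) hd'
  rw [_root_.commutator_def, map_commutator] at h2
  exact commutator_mono le_top le_top h2

omit hp in
theorem sigmaCore_inf_centralizer_complement {E : Subgroup G}
    (hE : Cfsg.IsComplIn E (Cfsg.sigmaCore M) M) :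
    Cfsg.sigmaCore M ⊓ centralizer (E : Set G) ≤ ⁅Cfsg.sigmaCore M, Cfsg.sigmaCore M⁆ := by
  refine inf_centralizer_le_commutator_of_coprime (hE.1.trans (le_normalizer_piCoreOf _ _)) ?_
    (sigmaCore_commutator_complement hG hM hE).ge
  exact Nat.coprime_of_dvd fun q hq h1 h2 => complement_prime_not_sigma hG hM hE hq h1
    (sigma_of_dvd_sigmaCore hq h2)

omit hp in
/-- BG 12.17 (c). -/
theorem sigmaCore_inf_conj_small
    (hC : ∀ (p : ℕ), p.Prime → p ∈ Cfsg.sigma M → ∀ A : Subgroup G, A ≤ M →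
      Cfsg.IsElementaryAbelian p A → Nat.card A = p ^ 2 → centralizer (A : Set G) ≤ M)
    (hU : ∀ (p : ℕ), p.Prime → ∀ P : Subgroup G, IsPGroup p P → ¬ IsMulCommutative P →
      Cfsg.InUniqueMaximal P)
    {g : G} (hg : g ∉ M) :
    IsCyclic ↥(Cfsg.sigmaCore M ⊓ M.map (MulAut.conj g).toMonoidHom) ∧
      (∀ p : ℕ, p.Prime → p ∣ Nat.card ↥(Cfsg.sigmaCore M ⊓ M.map (MulAut.conj g).toMonoidHom) →
        p ∉ Cfsg.beta M) ∧
      Cfsg.sigmaCore M ⊓ M.map (MulAut.conj g).toMonoidHom ⊓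
        ⁅Cfsg.sigmaCore M, Cfsg.sigmaCore M⁆ = ⊥ := by
  set S := Cfsg.sigmaCore M with hS
  set Y := S ⊓ M.map (MulAut.conj g).toMonoidHom with hY
  have hSM : S ≤ M := piCoreOf_le _ _
  have key : ∀ (q : ℕ), q.Prime → q ∣ Nat.card Y → ∀ X : Subgroup G, IsPGroup q X → X ≠ ⊥ → X ≤ Y →
      ¬ centralizer (X : Set G) ≤ M := by
    intro q hq hqY X hXq hX1 hXY hC'
    haveI := Fact.mk hq
    have hσ : q ∈ Cfsg.sigma M := sigma_of_dvd_sigmaCore hq (hqY.trans (card_dvd_of_le inf_le_left))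
    refine hg (inv_mem_iff.1 (mem_of_conj_le hG hM hσ hXq hX1 ((hXY.trans inf_le_left).trans hSM) hC'
      (g := g⁻¹) ?_))
    rintro _ ⟨x, hx, rfl⟩
    have : x ∈ M.map (MulAut.conj g).toMonoidHom := (hXY hx).2
    rw [mem_map_conj_iff] at this
    simpa [MulAut.conj_apply] using this
  have horder : ∀ (q : ℕ), q.Prime → ∀ Z : Subgroup G, Z ≤ Y → q ∣ Nat.card Z →
      ∃ X : Subgroup G, X ≤ Z ∧ Nat.card X = q := by
    intro q hq Z hZ hd
    haveI := Fact.mk hq
    obtain ⟨x, hx⟩ := exists_prime_orderOf_dvd_card' q hd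
    refine ⟨zpowers (x : G), zpowers_le.2 x.2, ?_⟩
    rw [Nat.card_zpowers, Subgroup.orderOf_coe, hx]
  have hkey1 : ∀ (q : ℕ), q.Prime → ∀ X : Subgroup G, X ≤ Y → Nat.card X = q →
      (q ∈ Cfsg.beta M ∨ X ≤ ⁅S, S⁆) → False := by
    intro q hq X hXY hXc h
    haveI := Fact.mk hq
    have hd : q ∣ Nat.card Y := hXc ▸ card_dvd_of_le hXY
    have hσ : q ∈ Cfsg.sigma M := sigma_of_dvd_sigmaCore hq (hd.trans (card_dvd_of_le inf_le_left))
    obtain ⟨P⟩ : Nonempty (Sylow q S) := inferInstance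
    exact key q hq hd X (IsPGroup.of_card (n := 1) (by rw [hXc, pow_one]))
      (fun h0 => hq.ne_one (by rw [← hXc, h0, card_bot])) hXY
      (sigma_centralizer_unique hG hM (hU q hq) hσ ((hXY.trans inf_le_left).trans hSM) hXc P h).1.1
  have hbot : Y ⊓ ⁅S, S⁆ = ⊥ := by
    refine card_eq_one.1 (Nat.eq_one_iff_not_exists_prime_dvd.2 fun q hq hd => ?_)
    obtain ⟨X, hX, hXc⟩ := horder q hq _ inf_le_left hd
    exact hkey1 q hq X (hX.trans inf_le_left) hXc (Or.inr (hX.trans inf_le_right))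
  refine ⟨?_, fun q hq hd hβ => ?_, hbot⟩
  · haveI : IsMulCommutative Y := ⟨⟨fun a b => Subtype.ext (commutatorElement_eq_one_iff_mul_comm.1 (by
      have h1 : ⁅(a : G), (b : G)⁆ ∈ Y ⊓ ⁅S, S⁆ :=
        ⟨Subgroup.commutator_le_self Y (commutator_mem_commutator a.2 b.2),
          commutator_mono inf_le_left inf_le_left (commutator_mem_commutator a.2 b.2)⟩
      rwa [hbot, mem_bot] at h1))⟩⟩
    haveI : IsZGroup Y := by
      refine (isZGroup_iff _).2 fun q hq Q => ?_
      haveI := Fact.mk hq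
      by_contra hnc
      obtain ⟨n, hn⟩ := Q.2.exists_card_eq
      have hd : q ∣ Nat.card Y := by
        rcases n with _ | n
        · refine absurd ?_ hnc
          rw [card_eq_one.1 (hn.trans (pow_zero q))]
          exact isCyclic_of_subsingleton
        · exact (hn ▸ dvd_pow_self q n.succ_ne_zero).trans (card_subgroup_dvd_card _)
      have hσ : q ∈ Cfsg.sigma M :=
        sigma_of_dvd_sigmaCore hq (hd.trans (card_dvd_of_le inf_le_left))
      have hnc' : ¬ IsCyclic ((Q : Subgroup Y).map Y.subtype) := fun h => hnc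
        (isCyclic_of_surjective _
          ((Q : Subgroup Y).equivMapOfInjective _ Y.subtype_injective).symm.surjective)
      have hQY : (Q : Subgroup Y).map Y.subtype ≤ Y := map_subtype_le _
      refine key q hq hd _ (Q.2.map _) (fun h => hnc' (by rw [h]; exact isCyclic_of_subsingleton)) hQY
        (centralizer_le_of_noncyclic hG hσ.2.1 (hC q hq hσ) (Q.2.map _)
          ((hQY.trans inf_le_left).trans hSM) hnc')
    haveI : Group.IsNilpotent Y := by
      letI : CommGroup Y :=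
        { (inferInstance : Group Y) with mul_comm := fun a b => mul_comm' a b }
      infer_instance
    infer_instance
  · obtain ⟨X, hX, hXc⟩ := horder q hq Y le_rfl hd
    exact hkey1 q hq X hX hXc (Or.inl hβ)

end CfsgLib.OddOrder
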