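import Cfsg.Agent.Lib.OddOrder.ExceptionalTools
import Cfsg.Agent.Lib.Solvable.CoprimeAbelian
import Cfsg.Agent.Lib.Solvable.PrimeActionCore

/-!
BG 11.5-11.7: abelian Sylow subgroups and `M_σ A ◁ M` for exceptional maximal subgroups.
-/

set_option autoImplicit false
set_option linter.style.haveILetI false

open scoped commutatorElement

namespace CfsgLib.OddOrder

open Subgroup

variable {G : Type*} [Group G] [Finite G]

namespace IsExceptional

variable {p : ℕ} [hp : Fact p.Prime] {M A A₀ : Subgroup G}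
  (hG : Cfsg.IsMinSimpleOddOrder G) (hM : IsCoatom M) (h : IsExceptional p M A A₀)
include hG hM h

omit hM in
theorem ne_two : p ≠ 2 := prime_ne_two_of_dvd_card hG h.dvd_card

/-- BG 11.5. -/
theorem isMulCommutative_sylow {P : Subgroup G} (hP : IsMaxPIn p M P) : IsMulCommutative P := by
  obtain ⟨Q, hQ, hAQ⟩ := exists_isMaxPIn_ge h.le h.pgroup
  obtain ⟨S, hS⟩ := hQ.pgroup.exists_le_sylow
  have hQC := h.le_centralizer_of_isMaxPIn hG hM hQ hAQ
  haveI hQc : IsMulCommutative Q := ⟨⟨fun a b => Subtype.ext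
    (commute_of_maximal_elementary hG (h.ne_two hG) S (hAQ.trans hS) h.elem h.card
      (fun B hB hAB => h.maximal hG hM hB hAB) (hS a.2) (hQC a.2) (hS b.2) (hQC b.2))⟩⟩
  obtain ⟨S₁, hS₁⟩ := hP.exists_sylow
  obtain ⟨S₂, hS₂⟩ := hQ.exists_sylow
  obtain ⟨g, hg⟩ := MulAction.exists_smul_eq M S₂ S₁
  rw [← hS₁]
  haveI : IsMulCommutative (S₂ : Subgroup M) := ⟨⟨fun a b => Subtype.ext (Subtype.ext
    (setLike_mul_comm (s := Q) (hS₂ ▸ mem_map_of_mem M.subtype a.2)
      (hS₂ ▸ mem_map_of_mem M.subtype b.2)))⟩⟩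
  rw [← hg, Sylow.coe_subgroup_smul]
  exact map_isMulCommutative ((S₂ : Subgroup M).map (MulAut.conj g).toMonoidHom) (f := M.subtype)

theorem mem_iff_pow_eq_one {P : Subgroup G} (hP : IsMaxPIn p M P) (hAP : A ≤ P) {x : G}
    (hx : x ∈ P) : x ^ p = 1 ↔ x ∈ A :=
  ⟨h.mem_of_commute hG hM (h.le_centralizer_of_isMaxPIn hG hM hP hAP hx), h.elem.2 x⟩

theorem normalizer_le_normalizer {P : Subgroup G} (hP : IsMaxPIn p M P) (hAP : A ≤ P) :
    normalizer (P : Set G) ≤ normalizer (A : Set G) := by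
  refine fun g hg => mem_normalizer_of_map_le ?_
  rintro _ ⟨x, hx, rfl⟩
  refine (h.mem_iff_pow_eq_one hG hM hP hAP ((mem_normalizer_iff.1 hg x).1 (hAP hx))).1 ?_
  rw [conj_pow, h.elem.2 x hx, mul_one, mul_inv_cancel]

/-- An element outside `M` normalizing `A`. -/
theorem exists_mover : ∃ g ∈ normalizer (A : Set G), g ∉ M := by
  obtain ⟨P, hP, hAP⟩ := exists_isMaxPIn_ge h.le h.pgroup
  obtain ⟨g, hgP, hgM⟩ := exists_normalizer_not_mem hG hM h.notSigma hP h.dvd_card
  exact ⟨g, h.normalizer_le_normalizer hG hM hP hAP hgP, hgM⟩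

/-- BG 11.6: two independent elements of `A` acting fixed-point-freely on `M_σ`. -/
theorem exists_pair : ∃ a₁ a₂ : G, a₁ ∈ A ∧ a₂ ∈ A ∧ a₁ ^ p = 1 ∧ a₂ ^ p = 1 ∧
    A ≤ zpowers a₁ ⊔ zpowers a₂ ∧ Cfsg.sigmaCore M ⊓ Subgroup.centralizer {a₁} = ⊥ ∧
    Cfsg.sigmaCore M ⊓ Subgroup.centralizer {a₂} = ⊥ := by
  obtain ⟨g, hgA, hgM⟩ := h.exists_mover hG hM
  obtain ⟨a, ha, hap, ha1, hCa⟩ := h.exists_generator
  have haA : a ∈ A := h.sub (ha ▸ mem_zpowers a)
  have hconj : ∀ {k : G}, k ∈ normalizer (A : Set G) →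
      A ≤ M.map (MulAut.conj k).toMonoidHom := fun hk => by
    rw [mem_normalizer_iff_map_conj_eq] at hk
    exact hk.ge.trans (map_mono h.le)
  have hg2 : g * g ∉ M := fun hcon => hgM (by
    obtain ⟨k, hk⟩ := (odd_card_subgroup hG (zpowers g)).of_dvd_nat dvd_rfl
    rw [Nat.card_zpowers] at hk
    have h2 : g = ((g * g) ^ k)⁻¹ := by
      refine eq_inv_of_mul_eq_one_left ?_
      rw [← sq, ← pow_mul, ← pow_succ', ← hk, pow_orderOf_eq_one]
    rw [h2]
    exact inv_mem (pow_mem hcon k))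
  have hmemA : ∀ {k : G}, k ∈ normalizer (A : Set G) → k * a * k⁻¹ ∈ A := fun hk =>
    (mem_normalizer_iff.1 hk a).1 haA
  refine ⟨g * a * g⁻¹, (g * g) * a * (g * g)⁻¹, hmemA hgA, hmemA (mul_mem hgA hgA),
    by rw [conj_pow, hap, mul_one, mul_inv_cancel], by rw [conj_pow, hap, mul_one, mul_inv_cancel],
    ?_, h.sigmaCore_inf_centralizer_conj hG hM hgM (hconj hgA) hCa,
    h.sigmaCore_inf_centralizer_conj hG hM hg2 (hconj (mul_mem hgA hgA)) hCa⟩
  set a₁ := g * a * g⁻¹
  set a₂ := (g * g) * a * (g * g)⁻¹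
  have ho : ∀ k : G, orderOf (k * a * k⁻¹) = p := fun k => orderOf_eq_prime
    (by rw [conj_pow, hap, mul_one, mul_inv_cancel]) (by simpa using ha1)
  have hne : a₂ ∉ zpowers a₁ := by
    rintro ⟨i, hi⟩
    refine hgM (h.norm (mem_normalizer_of_map_le ?_))
    rw [ha, MonoidHom.map_zpowers, zpowers_le]
    refine ⟨i, ?_⟩
    simp only [MulEquiv.coe_toMonoidHom, MulAut.conj_apply]
    calc a ^ i = g⁻¹ * a₁ ^ i * g := by simp only [a₁, conj_zpow]; group
      _ = g⁻¹ * a₂ * g := by rw [show a₁ ^ i = a₂ from hi]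
      _ = g * a * g⁻¹ := by simp only [a₂]; group
  haveI := h.elem.1
  have hc : a₂ ∈ Subgroup.centralizer (zpowers a₁ : Set G) := by
    rintro _ ⟨j, rfl⟩
    exact ((show Commute a₁ a₂ from setLike_mul_comm (s := A) (hmemA hgA)
      (hmemA (mul_mem hgA hgA))).zpow_left j).eq
  have hle : zpowers a₁ ⊔ zpowers a₂ ≤ A :=
    sup_le (zpowers_le.2 (hmemA hgA)) (zpowers_le.2 (hmemA (mul_mem hgA hgA)))
  refine (eq_of_le_of_card_ge hle ?_).ge
  rw [h.card, sq]
  refine le_trans ?_ (card_mul_le_card_sup (elementary_zpowers (q := p)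
    (by rw [← ho g]; exact pow_orderOf_eq_one _)) hc (by rw [← ho (g * g)]; exact pow_orderOf_eq_one _) hne)
  rw [Nat.card_zpowers, ho g]

/-- BG 11.6. -/
theorem sigmaCore_inf_centralizer : Cfsg.sigmaCore M ⊓ Subgroup.centralizer (A : Set G) = ⊥ := by
  obtain ⟨a₁, a₂, ha₁, -, -, -, -, hC, -⟩ := h.exists_pair hG hM
  exact le_bot_iff.1 ((inf_le_inf_left _
    (Subgroup.centralizer_le (Set.singleton_subset_iff.2 ha₁))).trans hC.le)

omit hM in
theorem coprime_card {q : ℕ} [Fact q.Prime] (hqp : q ≠ p) {W : Subgroup G} (hW : IsPGroup q W) :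
    (Nat.card A).Coprime (Nat.card W) := by
  obtain ⟨n, hn⟩ := hW.exists_card_eq
  rw [h.card, hn]
  exact (((Nat.coprime_primes hp.out Fact.out).2 hqp.symm).pow_left 2).pow_right n

/-- An invariant Sylow subgroup above a `q`-group on which `A` acts nontrivially. -/
theorem exists_inv_sylow {q : ℕ} [hq : Fact q.Prime] (hqp : q ≠ p) (hqσ : q ∉ Cfsg.sigma M)
    {W : Subgroup G} (hW : IsPGroup q W) (hWM : W ≤ M) (hWA : A ≤ normalizer (W : Set G))
    (hWC : ¬ A ≤ Subgroup.centralizer (W : Set G)) :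
    ∃ T, W ≤ T ∧ IsMaxPIn q M T ∧ A ≤ normalizer (T : Set G) := by
  have hW1 : W ≠ ⊥ := fun hb => hWC fun a _ x hx => by
    rw [hb, Subgroup.coe_bot, Set.mem_singleton_iff] at hx
    simp [hx]
  have hqM : q ∣ Nat.card M := (dvd_card_of_isPGroup hW hW1).trans (card_dvd_of_le hWM)
  have hq2 : q ≠ 2 := prime_ne_two_of_dvd_card hG hqM
  have hpq : p < q := by
    by_contra hcon
    have hlt : q < p := lt_of_le_of_ne (not_lt.1 hcon) hqp
    refine hWC fun a ha => ?_
    by_cases ha1 : a = 1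
    · subst ha1; exact one_mem _
    refine mem_centralizer_of_primes_gt hq2 hW
      (TwoFusion.PRank.pRankLE_mono hWM (pRankLE_two_of_not_sigma hG hM hq.out hqσ)) (hWA ha)
      fun t ht htd => ?_
    rw [orderOf_eq_prime (h.elem.2 a ha) ha1] at htd
    rw [(Nat.prime_dvd_prime_iff_eq ht hp.out).1 htd]
    exact hlt
  have hcard : Nat.card ↥(W ⊔ A) = Nat.card W * Nat.card A :=
    Solvable.card_sup_of_disjoint hWA
      (disjoint_iff.2 (inf_eq_bot_of_coprime (h.coprime_card hG hqp hW).symm))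
  obtain ⟨E, hKE, hE⟩ := exists_complement_ge hG hM (sup_le hWM h.le) fun t ht htd => by
    rw [hcard] at htd
    rcases ht.dvd_mul.1 htd with hd | hd
    · obtain ⟨n, hn⟩ := hW.exists_card_eq
      rw [(Nat.prime_dvd_prime_iff_eq ht hq.out).1 (ht.dvd_of_dvd_pow (hn ▸ hd))]
      exact hqσ
    · rw [(Nat.prime_dvd_prime_iff_eq ht hp.out).1 (ht.dvd_of_dvd_pow (h.card ▸ hd))]
      exact h.notSigma
  haveI := isSolvable_of_ne_top hG (H := E) fun hb => hM.1 (top_le_iff.1 (hb ▸ hE.1))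
  obtain ⟨N, hNc, hN⟩ :=
    exists_characteristic_hall (odd_card_subgroup hG E) (Or.inl (rankLE_complement hG hM hE)) p
  haveI := hNc
  haveI : N.Normal := inferInstance
  set H₀ := N.map E.subtype with hH₀
  have hH₀E : H₀ ≤ E := map_subtype_le _
  have hWE : W ≤ E := le_sup_left.trans hKE
  have hWH : W ≤ H₀ := fun w hw => by
    refine ⟨⟨w, hWE hw⟩, (QuotientGroup.eq_one_iff (N := N) _).1 (orderOf_eq_one_iff.1 ?_), rfl⟩
    refine Nat.eq_one_iff_not_exists_prime_dvd.2 fun t ht htd => ?_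
    have h1 : t ∣ orderOf w := by
      refine htd.trans ((orderOf_map_dvd (QuotientGroup.mk' N) (⟨w, hWE hw⟩ : E)).trans ?_)
      rw [Subgroup.orderOf_mk]
    obtain ⟨n, hn⟩ := hW.exists_card_eq
    have h2 := (Nat.prime_dvd_prime_iff_eq ht hq.out).1
      (ht.dvd_of_dvd_pow (hn ▸ h1.trans (orderOf_dvd_card_of_mem hw)))
    exact hN.2 t ht ⟨ht, h2 ▸ hpq⟩ (htd.trans (orderOf_dvd_natCard _))
  have hAH : A ≤ normalizer (H₀ : Set G) := (le_sup_right.trans hKE).trans
    (le_normalizer.trans (normalizer_le_normalizer_map_of_characteristic E N))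
  have hcop : (Nat.card A).Coprime (Nat.card H₀) := by
    rw [h.card]
    refine ((hp.out.coprime_iff_not_dvd).2 fun hd => ?_).pow_left 2
    rw [card_map_of_injective E.subtype_injective] at hd
    exact lt_irrefl p (hN.1 p hp.out hd).2
  have hH₀s : Group.IsSolvable H₀ :=
    isSolvable_of_ne_top hG fun hb => hM.1 (top_le_iff.1 (hb ▸ hH₀E.trans hE.1))
  obtain ⟨S, hWS, hAS⟩ :=
    Solvable.exists_invariant_sylow_ge hAH hcop (Or.inr hH₀s) q hWH hW hWA
  set T := (S : Subgroup H₀).map H₀.subtype with hT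
  have hTH : T ≤ H₀ := map_subtype_le _
  refine ⟨T, hWS, ⟨hTH.trans (hH₀E.trans hE.1), S.2.map _, fun R hR hle hRM => ?_⟩, hAS⟩
  refine (eq_of_le_of_card_ge hle ?_).symm
  obtain ⟨n, hn⟩ := hR.exists_card_eq
  have hidx : ¬ q ∣ T.relIndex M := by
    rw [← relIndex_mul_relIndex T H₀ M hTH (hH₀E.trans hE.1),
      ← relIndex_mul_relIndex H₀ E M hH₀E hE.1]
    intro hd
    rcases hq.out.dvd_mul.1 hd with hd | hd
    · rw [hT, relIndex, subgroupOf, comap_map_eq_self_of_injective H₀.subtype_injective] at hd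
      exact S.not_dvd_index hd
    rcases hq.out.dvd_mul.1 hd with hd | hd
    · rw [hH₀, relIndex, subgroupOf, comap_map_eq_self_of_injective E.subtype_injective] at hd
      exact hN.2 q hq.out ⟨hq.out, hpq⟩ hd
    · have h1 : E.relIndex M ∣ Nat.card (Cfsg.sigmaCore M) := by
        have h2 := Nat.card E * E.relIndex M
        have h3 : Nat.card E * E.relIndex M = Nat.card M := by
          rw [← relIndex_bot_left E, relIndex_mul_relIndex ⊥ E M bot_le hE.1, relIndex_bot_left]
        have h4 : Nat.card (Cfsg.sigmaCore M) * Nat.card E = Nat.card M := by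
          rw [card_complement hE, ← relIndex_bot_left (Cfsg.sigmaCore M),
            relIndex_mul_relIndex ⊥ _ M bot_le
              (show Cfsg.sigmaCore M ≤ M from piCoreOf_le _ _), relIndex_bot_left]
        exact dvd_of_eq (Nat.eq_of_mul_eq_mul_left Nat.card_pos
          (h3.trans (by rw [← h4, mul_comm])))
      exact hqσ (sigma_of_dvd_sigmaCore hq.out (hd.trans h1))
  have h5 : T.relIndex R = 1 := by
    obtain ⟨j, hj⟩ : ∃ j, T.relIndex R = q ^ j := by
      obtain ⟨j, -, hj⟩ := (Nat.dvd_prime_pow hq.out).1 ((T.relIndex_dvd_card R).trans (dvd_of_eq hn))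
      exact ⟨j, hj⟩
    rcases j with _ | j
    · simpa using hj
    · exact absurd ((hj ▸ dvd_pow_self q j.succ_ne_zero : q ∣ T.relIndex R).trans
        (Dvd.intro _ (relIndex_mul_relIndex T R M hle hRM))) hidx
  have h6 := relIndex_mul_relIndex ⊥ T R bot_le hle
  rw [h5, mul_one, relIndex_bot_left, relIndex_bot_left] at h6
  exact h6.ge

/-- The core of BG 11.7: structure of an invariant Sylow subgroup with nontrivial action. -/
theorem exists_core {q : ℕ} [hq : Fact q.Prime] (hqp : q ≠ p) (hqσ : q ∉ Cfsg.sigma M)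
    {T : Subgroup G} (hT : IsMaxPIn q M T) (hTA : A ≤ normalizer (T : Set G))
    (hTC : ¬ A ≤ Subgroup.centralizer (T : Set G)) :
    IsMulCommutative T ∧ IsCyclic ↥⁅T, A⁆ ∧ ⁅T, A⁆ ≠ ⊥ ∧ normalizer ((⁅T, A⁆ : Subgroup G) : Set G) = M ∧
      T ⊓ Subgroup.centralizer (A : Set G) ≠ ⊥ ∧ ¬ Cfsg.PRankLE q 1 M := by
  set S := Cfsg.sigmaCore M with hS
  have hT1 : T ≠ ⊥ := fun hb => hTC fun a _ x hx => by
    rw [hb, Subgroup.coe_bot, Set.mem_singleton_iff] at hx
    simp [hx]
  have hqM : q ∣ Nat.card M := (dvd_card_of_isPGroup hT.pgroup hT1).trans (card_dvd_of_le hT.le)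
  have hq2 : q ≠ 2 := prime_ne_two_of_dvd_card hG hqM
  have hMS : M ≤ normalizer (S : Set G) := le_normalizer_piCoreOf _ _
  have hD1 : ⁅T, A⁆ ≠ ⊥ := fun hb =>
    hTC (le_centralizer_iff.1 (commutator_eq_bot_iff_le_centralizer.1 hb))
  have hcop := h.coprime_card hG hqp hT.pgroup
  haveI hAc := h.elem.1
  have hTs : Group.IsSolvable T := by
    haveI := hT.pgroup.isNilpotent
    infer_instance
  have hcard : Nat.card ↥(T ⊔ A) = Nat.card T * Nat.card A :=
    Solvable.card_sup_of_disjoint hTA (disjoint_iff.2 (inf_eq_bot_of_coprime hcop.symm))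
  obtain ⟨E, hKE, hE⟩ := exists_complement_ge hG hM (sup_le hT.le h.le) fun t ht htd => by
    rw [hcard] at htd
    rcases ht.dvd_mul.1 htd with hd | hd
    · obtain ⟨n, hn⟩ := hT.pgroup.exists_card_eq
      rw [(Nat.prime_dvd_prime_iff_eq ht hq.out).1 (ht.dvd_of_dvd_pow (hn ▸ hd))]
      exact hqσ
    · rw [(Nat.prime_dvd_prime_iff_eq ht hp.out).1 (ht.dvd_of_dvd_pow (h.card ▸ hd))]
      exact h.notSigma
  have hTE : T ≤ E := le_sup_left.trans hKE
  have hAE : A ≤ E := le_sup_right.trans hKE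
  set Q := Cfsg.piCoreOf {q} E with hQ
  have hQE : Q ≤ E := piCoreOf_le _ _
  have hEQ : E ≤ normalizer (Q : Set G) := le_normalizer_piCoreOf _ _
  have hQq : IsPGroup q Q := piCoreOf_singleton_isPGroup q E
  have hQT : Q ≤ T := by
    have h1 := hT.max (T ⊔ Q) (hT.pgroup.to_sup_of_normal_right' hQq (hTE.trans hEQ)) le_sup_left
      (sup_le hT.le (hQE.trans hE.1))
    exact h1 ▸ le_sup_right
  have hTQ : ⁅T, A⁆ ≤ Q := by
    haveI := isSolvable_of_ne_top hG (H := E) fun hb => hM.1 (top_le_iff.1 (hb ▸ hE.1))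
    intro x hx
    have h1 : x ∈ Cfsg.fittingOf E :=
      commutator_le_fittingOf (odd_card_subgroup hG E) (fun t ht => TwoFusion.PRank.pRankLE_mono
        (piCoreOf_le _ _) (rankLE_complement hG hM hE t ht)) (commutator_mono hTE hAE hx)
    rw [hQ, ← piCoreOf_singleton_fittingOf]
    refine mem_piCoreOf_of_nilpotent (fittingOf_isNilpotent E) h1 fun t ht htd => ?_
    obtain ⟨n, hn⟩ := hT.pgroup.exists_card_eq
    exact Set.mem_singleton_iff.2 ((Nat.prime_dvd_prime_iff_eq ht hq.out).1 (ht.dvd_of_dvd_pow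
      (hn ▸ htd.trans (orderOf_dvd_card_of_mem (Solvable.commutator_le_of_normalizes hTA hx)))))
  have hQA : ⁅Q, A⁆ ≤ Subgroup.centralizer (S : Set G) := by
    obtain ⟨a₁, a₂, ha₁, ha₂, hp₁, hp₂, hgen, hC₁, hC₂⟩ := h.exists_pair hG hM
    haveI := h.isNilpotent_sigmaCore hG hM
    have hcq : ∀ t : ℕ, t.Prime → t ∉ Cfsg.sigma M → (Nat.card S).Coprime t := fun t ht hσ =>
      ((ht.coprime_iff_not_dvd).2 fun hd => hσ (sigma_of_dvd_sigmaCore ht hd)).symm
    have hmov : ∀ a ∈ A, a ^ p = 1 → S ⊓ Subgroup.centralizer {a} = ⊥ → ∀ y ∈ Q,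
        y⁻¹ * (a * y * a⁻¹) ∈ Subgroup.centralizer (S : Set G) := fun a ha hap hCa =>
      Solvable.PrimeAction.commute_of_fpf_nilpotent hq2 hqp (h.isNilpotent_sigmaCore hG hM)
        (hcq q hq.out hqσ) (hcq p hp.out h.notSigma) hQq
        (fun y hy => (mem_normalizer_iff.1 (hEQ (hAE ha)) y).1 hy) hap
        ((hQE.trans hE.1).trans hMS) (hMS (h.le ha)) hCa
    set C := Subgroup.centralizer (S : Set G)
    let P : G → Prop := fun a => a ∈ normalizer (Q : Set G) ∧ ∀ y ∈ Q, y⁻¹ * (a * y * a⁻¹) ∈ C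
    have hmul : ∀ a b, P a → P b → P (a * b) := fun a b ha hb =>
      ⟨mul_mem ha.1 hb.1, fun y hy => by
        have h1 := ha.2 _ ((mem_normalizer_iff.1 hb.1 y).1 hy)
        rw [show y⁻¹ * (a * b * y * (a * b)⁻¹) = y⁻¹ * (b * y * b⁻¹) *
          ((b * y * b⁻¹)⁻¹ * (a * (b * y * b⁻¹) * a⁻¹)) by group]
        exact mul_mem (hb.2 y hy) h1⟩
    have hpow : ∀ a, P a → ∀ k : ℕ, P (a ^ k) := fun a ha k => by
      induction k with
      | zero => exact ⟨by rw [pow_zero]; exact one_mem _, fun y _ => by simp⟩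
      | succ k ih => rw [pow_succ]; exact hmul _ _ ih ha
    let B : Subgroup G :=
      { carrier := {a | P a}
        mul_mem' := fun {a b} => hmul a b
        one_mem' := ⟨one_mem _, fun y _ => by simp⟩
        inv_mem' := fun {a} ha => by
          have h1 : a⁻¹ = a ^ (orderOf a - 1) := by
            refine inv_eq_of_mul_eq_one_left ?_
            rw [← pow_succ, Nat.sub_add_cancel (orderOf_pos a), pow_orderOf_eq_one]
          show P a⁻¹
          rw [h1]
          exact hpow a ha _ }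
    have hB : A ≤ B := hgen.trans (sup_le
      (zpowers_le.2 ⟨hEQ (hAE ha₁), hmov a₁ ha₁ hp₁ hC₁⟩)
      (zpowers_le.2 ⟨hEQ (hAE ha₂), hmov a₂ ha₂ hp₂ hC₂⟩))
    rw [commutator_le]
    intro y hy a ha
    have h1 := (hB ha).2 y⁻¹ (inv_mem hy)
    rwa [inv_inv, show y * (a * y⁻¹ * a⁻¹) = ⁅y, a⁆ by rw [commutatorElement_def]; group] at h1
  have hDS : ⁅T, A⁆ ≤ Subgroup.centralizer (S : Set G) := by
    rw [← Solvable.commutator_commutator_eq hTA hcop (Or.inr hTs)]
    exact (commutator_mono hTQ le_rfl).trans hQA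
  set K := Q ⊓ Subgroup.centralizer (S : Set G) with hK
  have hDK : ⁅T, A⁆ ≤ K := le_inf hTQ hDS
  have hK1 : K ≠ ⊥ := fun hb => hD1 (le_bot_iff.1 (hDK.trans hb.le))
  have hKM : K ≤ M := inf_le_left.trans (hQE.trans hE.1)
  have hMK : M ≤ normalizer (K : Set G) := by
    intro m hm
    obtain ⟨e, he, s, hs, rfl⟩ := hE.2.2.2 m hm
    refine mul_mem (inf_normalizer_le_normalizer_inf ⟨hEQ he, ?_⟩) (centralizer_le_normalizer _ ?_)
    · exact normalizer_le_normalizer_centralizer S (hMS (hE.1 he))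
    · exact (le_centralizer_iff.1 (inf_le_right : K ≤ _)) hs
  have hNK : normalizer (K : Set G) = M := normalizer_eq_of_isCoatom_of_le hG hM hK1 hKM hMK
  have hCT : Subgroup.centralizer (T : Set G) ≤ M :=
    (Subgroup.centralizer_le (inf_le_left.trans hQT : K ≤ T)).trans
      ((centralizer_le_normalizer _).trans hNK.le)
  -- some central element of order `q` lies outside `C(M_σ)`
  obtain ⟨z, hzT, hzC, hzq, hzS⟩ : ∃ z ∈ T, z ∈ Subgroup.centralizer (T : Set G) ∧ z ^ q = 1 ∧
      z ∉ Subgroup.centralizer (S : Set G) := by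
    by_contra hcon
    push Not at hcon
    set Z := Subgroup.closure {x | x ∈ T ∧ x ∈ Subgroup.centralizer (T : Set G) ∧ x ^ q = 1}
      with hZ
    have hZT : Z ≤ T := (closure_le _).2 fun x hx => hx.1
    have hZS : Z ≤ Subgroup.centralizer (S : Set G) :=
      (closure_le _).2 fun x hx => hcon x hx.1 hx.2.1 hx.2.2
    have hZ1 : Z ≠ ⊥ := by
      haveI : Nontrivial T := (nontrivial_iff_ne_bot _).2 hT1
      obtain ⟨u, -, hu, huo⟩ := PGroup.exists_central_orderOf_eq hT.pgroup ⊤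
        (fun hb => hT1 (by
          rw [← card_eq_one, ← Subgroup.card_top (G := T), hb, Subgroup.card_bot]))
      intro hb
      have h1 : (u : G) ∈ Z := subset_closure ⟨u.2, fun v hv =>
        congrArg Subtype.val (mem_center_iff.1 hu ⟨v, hv⟩), by
          rw [← huo, ← Subgroup.orderOf_coe, pow_orderOf_eq_one]⟩
      rw [hb, mem_bot, OneMemClass.coe_eq_one] at h1
      rw [h1, orderOf_one] at huo
      exact hq.out.one_lt.ne huo
    have hNZ : normalizer (T : Set G) ≤ normalizer (Z : Set G) := fun g hg => by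
      refine mem_normalizer_of_map_le ?_
      rw [hZ, MonoidHom.map_closure]
      refine closure_mono ?_
      rintro _ ⟨x, ⟨hx1, hx2, hx3⟩, rfl⟩
      refine ⟨(mem_normalizer_iff.1 hg x).1 hx1, ?_, by rw [← map_pow, hx3, map_one]⟩
      exact (mem_normalizer_iff.1 (normalizer_le_normalizer_centralizer T hg) x).1 hx2
    obtain ⟨H, hH, hle⟩ :=
      exists_isCoatom_ge (normalizer_ne_top hG hZ1 (isPGroup_ne_top hG (hT.pgroup.to_le hZT)))
    have hSH : S ≤ H := ((le_centralizer_iff.1 hZS).trans (centralizer_le_normalizer _)).trans hle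
    have hAH : A ≤ H := (hTA.trans hNZ).trans hle
    have hNH : normalizer (T : Set G) ≤ H := hNZ.trans hle
    have hTH : T ≤ H := le_normalizer.trans hNH
    obtain ⟨g, hgT, hgM⟩ := exists_normalizer_not_mem hG hM hqσ hT hqM
    have hdis : S ⊓ Cfsg.sigmaCore H = ⊥ := by_contra fun hne =>
      hgM (h.eq_of_sigmaCore_inf_ne_bot hG hM hH hAH hne ▸ hNH hgT)
    have hHS : H ≤ normalizer (Cfsg.sigmaCore H : Set G) := le_normalizer_piCoreOf _ _
    by_cases hqH : q ∈ Cfsg.sigma H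
    · have hTH' : T ≤ Cfsg.sigmaCore H := le_sigmaCore_of_pgroup hG hH hqH hT.pgroup hTH
      have hST : S ≤ Subgroup.centralizer (T : Set G) := by
        intro s (hs : s ∈ S) t (ht : t ∈ T)
        have h1 : t * s * t⁻¹ * s⁻¹ ∈ S ⊓ Cfsg.sigmaCore H := by
          refine mem_inf.2 ⟨mul_mem ((mem_normalizer_iff.1 (hMS (hT.le ht)) s).1 hs) (inv_mem hs), ?_⟩
          rw [show t * s * t⁻¹ * s⁻¹ = t * (s * t⁻¹ * s⁻¹) by group]
          exact mul_mem (hTH' ht)
            ((mem_normalizer_iff.1 (hHS (hSH hs)) t⁻¹).1 (inv_mem (hTH' ht)))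
        rw [hdis, mem_bot] at h1
        exact mul_inv_eq_iff_eq_mul.1 (mul_inv_eq_one.1 h1)
      set C := Subgroup.centralizer (T : Set G)
      have hP : Cfsg.piCoreOf (Cfsg.sigma M) C = S := by
        refine le_antisymm ?_ (le_piCoreOf hST (hCT.trans hMS) (piCoreOf_isPiSubgroup _ _))
        intro x hx
        have hle1 : S ≤ Cfsg.piCoreOf (Cfsg.sigma M) C :=
          le_piCoreOf hST (hCT.trans hMS) (piCoreOf_isPiSubgroup _ _)
        have h1 : S.relIndex (Cfsg.piCoreOf (Cfsg.sigma M) C) = 1 := by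
          refine Nat.eq_one_iff_not_exists_prime_dvd.2 fun t ht htd => ?_
          obtain ⟨h1, -⟩ := hall_of_subset hG hM (π := Cfsg.sigma M) subset_rfl
            fun p _ S hp => sylow_le_sigmaCore hG hM hp S
          refine h1.2.2 t ht (piCoreOf_isPiSubgroup _ C t ht (htd.trans (relIndex_dvd_card _ _))) ?_
          exact htd.trans (Dvd.intro _
            (relIndex_mul_relIndex S _ M hle1 ((piCoreOf_le _ _).trans hCT)))
        exact relIndex_eq_one.1 h1 hx
      refine hgM ((normalizer_eq_of_isCoatom_of_le hG hM (sigmaCore_ne_bot hG hM)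
        (piCoreOf_le _ _) hMS).le ?_)
      show g ∈ normalizer (S : Set G)
      rw [← hP]
      exact normalizer_le_normalizer_piCoreOf _ _ (normalizer_le_normalizer_centralizer T hgT)
    · obtain ⟨r, hr, hrd⟩ := Nat.exists_prime_and_dvd (n := Nat.card S)
        fun h1 => sigmaCore_ne_bot hG hM (card_eq_one.1 h1)
      haveI := Fact.mk hr
      obtain ⟨R, hRS, hR, hR1, hNR⟩ :=
        h.exists_normal_sigma_sylow hG hM (sigma_of_dvd_sigmaCore hr hrd)
      have hRH : R ≤ H := hRS.trans hSH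
      have hrH : r ∉ Cfsg.sigma H := fun hσ => hR1 (le_bot_iff.1
        ((le_inf hRS (le_sigmaCore_of_pgroup hG hH hσ hR.pgroup hRH)).trans hdis.le))
      obtain ⟨E', hRE', hE'⟩ := exists_complement_ge hG hH hRH fun t ht htd => by
        obtain ⟨n, hn⟩ := hR.pgroup.exists_card_eq
        rw [(Nat.prime_dvd_prime_iff_eq ht hr).1 (ht.dvd_of_dvd_pow (hn ▸ htd))]
        exact hrH
      have hScomm : S ≤ ⁅H, H⁆ := by
        refine le_trans (le_of_eq ?_) (commutator_mono hSH hAH)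
        have h1 := Solvable.commutator_sup_centralizer (h.le.trans hMS) (K := S) (by
          rw [h.card]
          exact ((hp.out.coprime_iff_not_dvd).2 fun hd =>
            h.notSigma (sigma_of_dvd_sigmaCore hp.out hd)).pow_left 2)
          (Or.inr (sigmaCore_isSolvable hG hM))
        rw [h.sigmaCore_inf_centralizer hG hM, sup_bot_eq] at h1
        exact h1.symm
      set L := ⁅E', E'⁆ ⊔ Cfsg.sigmaCore H with hL
      have hE'N : E' ≤ normalizer (Cfsg.sigmaCore H : Set G) := hE'.1.trans hHS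
      have hL' : ⁅H, H⁆ ≤ L := by
        rw [commutator_le]
        intro u hu v hv
        obtain ⟨e₁, he₁, s₁, hs₁, rfl⟩ := hE'.2.2.2 u hu
        obtain ⟨e₂, he₂, s₂, hs₂, rfl⟩ := hE'.2.2.2 v hv
        set N := Cfsg.sigmaCore H with hN
        haveI : (N.subgroupOf H).Normal := normal_subgroupOf_of_le_normalizer hHS
        set f := QuotientGroup.mk' (N.subgroupOf H) with hf
        have hzero : ∀ x : H, (x : G) ∈ N → f x = 1 := fun x hx =>
          (QuotientGroup.eq_one_iff (N := N.subgroupOf H) x).2 (mem_subgroupOf.2 hx)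
        let x₁ : H := ⟨e₁, hE'.1 he₁⟩
        let x₂ : H := ⟨e₂, hE'.1 he₂⟩
        let y₁ : H := ⟨s₁, piCoreOf_le _ _ hs₁⟩
        let y₂ : H := ⟨s₂, piCoreOf_le _ _ hs₂⟩
        have h1 : f ⁅x₁ * y₁, x₂ * y₂⁆ = f ⁅x₁, x₂⁆ := by
          simp only [map_commutatorElement, map_mul, hzero y₁ hs₁, hzero y₂ hs₂, mul_one]
        rw [hf, QuotientGroup.mk'_apply, QuotientGroup.mk'_apply] at h1
        have h2 := mem_subgroupOf.1 (QuotientGroup.eq.1 h1.symm)
        have h3 : ⁅e₁ * s₁, e₂ * s₂⁆ = ⁅e₁, e₂⁆ * (⁅e₁, e₂⁆⁻¹ * ⁅e₁ * s₁, e₂ * s₂⁆) := by group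
        rw [h3]
        exact mul_mem (mem_sup_left (commutator_mem_commutator he₁ he₂)) (mem_sup_right h2)
      have hRE : R ≤ ⁅E', E'⁆ := fun x hx => by
        have h1 : x ∈ Cfsg.sigmaCore H ⊔ ⁅E', E'⁆ := by
          rw [sup_comm]
          exact hL' (hScomm (hRS hx))
        obtain ⟨s, hs, e, he, rfl⟩ :=
          (Solvable.mem_sup_of_le_normalizer ((commutator_le_self E').trans hE'N)).1 h1
        have hs1 : s ∈ E' ⊓ Cfsg.sigmaCore H := ⟨by
          simpa using mul_mem (hRE' hx) (inv_mem (commutator_le_self E' he)), hs⟩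
        rw [hE'.2.2.1, mem_bot] at hs1
        rw [hs1, one_mul]
        exact he
      have hEN : E' ≤ M := by
        rw [← hNR]
        have hn := isNilpotent_complement_commutator hG hH hE'
        have h1 : R = Cfsg.piCoreOf {r} ⁅E', E'⁆ := by
          refine (hR.max _ (piCoreOf_singleton_isPGroup r _) (fun x hx => ?_) le_top).symm
          refine mem_piCoreOf_of_nilpotent hn (hRE hx) fun t ht htd => ?_
          obtain ⟨n, hn'⟩ := hR.pgroup.exists_card_eq
          exact Set.mem_singleton_iff.2 ((Nat.prime_dvd_prime_iff_eq ht hr).1 (ht.dvd_of_dvd_pow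
            (hn' ▸ htd.trans (orderOf_dvd_card_of_mem hx))))
        rw [h1]
        exact le_trans (le_trans (Solvable.le_normalizer_commutator_left E' E') le_rfl)
          (normalizer_le_normalizer_piCoreOf _ _)
      obtain ⟨e, he, b, hb, rfl⟩ := hE'.2.2.2 g (hNH hgT)
      set T' := T.map (MulAut.conj b).toMonoidHom with hT'
      have hbT : T' ≤ M := by
        rintro _ ⟨t, ht, rfl⟩
        have h1 := (mem_normalizer_iff.1 hgT t).1 ht
        rw [show (MulAut.conj b).toMonoidHom t = e⁻¹ * ((e * b) * t * (e * b)⁻¹) * e by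
          simp only [MulEquiv.coe_toMonoidHom, MulAut.conj_apply]; group]
        exact mul_mem (mul_mem (inv_mem (hEN he)) (hT.le h1)) (hEN he)
      set N := Cfsg.sigmaCore H ⊓ M with hN
      have hTN : T ≤ normalizer (N : Set G) :=
        le_normalizer_inf_of_le (hTH.trans hHS) (hT.le.trans le_normalizer)
      set Y := N ⊔ T with hY
      have hYM : Y ≤ M := sup_le inf_le_right hT.le
      have hT'Y : T' ≤ Y := by
        rintro _ ⟨t, ht, rfl⟩
        simp only [MulEquiv.coe_toMonoidHom, MulAut.conj_apply]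
        have h2 : b * t * b⁻¹ = (b * (t * b⁻¹ * t⁻¹)) * t := by group
        have h3 : b * (t * b⁻¹ * t⁻¹) ∈ N := by
          refine ⟨mul_mem hb ((mem_normalizer_iff.1 (hHS (hTH ht)) b⁻¹).1 (inv_mem hb)), ?_⟩
          have h4 := mul_mem (hbT ⟨t, ht, rfl⟩) (inv_mem (hT.le ht))
          simpa [mul_assoc] using h4
        rw [h2]
        exact mul_mem (mem_sup_left h3) (mem_sup_right ht)
      have hTY : IsMaxPIn q Y T := hT.of_le hYM le_sup_right
      obtain ⟨S₁, hS₁⟩ := hTY.exists_sylow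
      obtain ⟨S₂, hS₂⟩ := ((hT.pgroup.map (MulAut.conj b).toMonoidHom).of_equiv
        (subgroupOfEquivOfLe hT'Y).symm).exists_le_sylow
      obtain ⟨u, hu⟩ := MulAction.exists_smul_eq Y S₁ S₂
      have hT'e : T' = T.map (MulAut.conj (u : G)).toMonoidHom := by
        refine eq_of_le_of_card_ge ?_ ?_
        · intro x hx
          have h1 := hS₂ (mem_subgroupOf.2 hx : (⟨x, hT'Y hx⟩ : Y) ∈ T'.subgroupOf Y)
          rw [← hu, Sylow.coe_subgroup_smul] at h1
          obtain ⟨w, hw, hwx⟩ := h1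
          exact ⟨(w : G), hS₁ ▸ mem_map_of_mem Y.subtype hw, congrArg Subtype.val hwx⟩
        · rw [card_map_of_injective (MulAut.conj (u : G)).injective, hT',
            card_map_of_injective (MulAut.conj b).injective]
      obtain ⟨s, hs, t, ht, hst⟩ := (Solvable.mem_sup_of_le_normalizer hTN).1 u.2
      have hTs : T.map (MulAut.conj t).toMonoidHom = T :=
        mem_normalizer_iff_map_conj_eq.1 (le_normalizer ht)
      rw [← hst, ← map_conj_map_conj T t s, hTs] at hT'e
      set c := s⁻¹ * b with hc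
      have hcN : c ∈ normalizer (T : Set G) := by
        refine mem_normalizer_of_map_le (le_of_eq ?_)
        rw [hc, ← map_conj_map_conj, ← hT', hT'e, map_conj_map_conj, inv_mul_cancel, map_conj_one]
      have hcH : c ∈ Cfsg.sigmaCore H := mul_mem (inv_mem hs.1) hb
      refine hgM (mul_mem (hEN he) ?_)
      rw [show b = s * c by rw [hc, mul_inv_cancel_left]]
      refine mul_mem hs.2 (hCT fun t (ht : t ∈ T) => ?_)
      have h1 : t * c * t⁻¹ * c⁻¹ ∈ Cfsg.sigmaCore H ⊓ T := by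
        refine mem_inf.2 ⟨mul_mem ((mem_normalizer_iff.1 (hHS (hTH ht)) c).1 hcH) (inv_mem hcH), ?_⟩
        rw [show t * c * t⁻¹ * c⁻¹ = t * (c * t⁻¹ * c⁻¹) by group]
        exact mul_mem ht ((mem_normalizer_iff.1 hcN _).1 (inv_mem ht))
      rw [inf_eq_bot_of_coprime (Nat.Coprime.symm (by
        obtain ⟨n, hn⟩ := hT.pgroup.exists_card_eq
        rw [hn]
        exact ((hq.out.coprime_iff_not_dvd).2 fun hd =>
          hqH (sigma_of_dvd_sigmaCore hq.out hd)).pow_left n)), mem_bot] at h1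
      exact mul_inv_eq_iff_eq_mul.1 (mul_inv_eq_one.1 h1)
  have hTr : Cfsg.PRankLE q 2 T :=
    TwoFusion.PRank.pRankLE_mono hT.le (pRankLE_two_of_not_sigma hG hM hq.out hqσ)
  have hKT : K ≤ T := inf_le_left.trans hQT
  have hKc : IsCyclic K := by
    by_contra hnc
    obtain ⟨F, hFK, hF, hFc⟩ := exists_elementary_of_not_pRankLE
      (not_pRankLE_one_of_not_isCyclic hq2 (hT.pgroup.to_le hKT) hnc)
    rw [pow_one] at hFc
    have hzF : z ∈ Subgroup.centralizer (F : Set G) := fun f hf => hzC f (hKT (hFK hf))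
    refine not_pRankLE_of_elementary (sup_le (hFK.trans hKT) (zpowers_le.2 hzT))
      (elementary_sup_zpowers hF hzF hzq) ?_ hTr
    obtain ⟨i, hi⟩ := (isPGroup_of_exp hF.2).exists_card_eq
    rw [hi] at hFc
    have h2 : 1 < i := (Nat.pow_lt_pow_iff_right hq.out.one_lt).1 ((pow_one q).symm ▸ hFc)
    calc q ^ 2 < q ^ i * q := by
          rw [← pow_succ]; exact Nat.pow_lt_pow_right hq.out.one_lt (by omega)
      _ ≤ _ := by rw [← hi]; exact card_mul_le_card_sup hF hzF hzq fun hzF' => hzS (hFK hzF').2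
  obtain ⟨y, hy⟩ := exists_prime_orderOf_dvd_card' q
    (dvd_card_of_isPGroup (hT.pgroup.to_le hKT) hK1)
  rw [← Subgroup.orderOf_coe] at hy
  have hyq : (y : G) ^ q = 1 := hy ▸ pow_orderOf_eq_one _
  have hYK : zpowers (y : G) ≤ K := zpowers_le.2 y.2
  set B := zpowers (y : G) ⊔ zpowers z with hB
  have hzy : z ∈ Subgroup.centralizer (zpowers (y : G) : Set G) := fun v hv =>
    hzC v (hKT (hYK hv))
  have hBe : Cfsg.IsElementaryAbelian q B := elementary_sup_zpowers (elementary_zpowers hyq) hzy hzq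
  have hBT : B ≤ T := sup_le (hYK.trans hKT) (zpowers_le.2 hzT)
  have hBlt : q * q ≤ Nat.card B := by
    refine le_trans ?_ (card_mul_le_card_sup (elementary_zpowers hyq) hzy hzq fun hc =>
      hzS (hYK hc).2)
    rw [Nat.card_zpowers, hy]
  have hBc : Nat.card B = q ^ 2 := by
    obtain ⟨i, hi⟩ := (isPGroup_of_exp hBe.2).exists_card_eq
    refine le_antisymm ?_ (sq q ▸ hBlt)
    by_contra hcon
    exact not_pRankLE_of_elementary hBT hBe (not_le.1 hcon) hTr
  have hYM : normalizer (zpowers (y : G) : Set G) = M := by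
    refine normalizer_eq_of_isCoatom_of_le hG hM ?_ (hYK.trans hKM)
      (le_normalizer_of_cyclic hMK hKc hYK)
    rw [Ne, zpowers_eq_bot]
    intro hy1
    rw [hy1, orderOf_one] at hy
    exact hq.out.one_lt.ne hy
  have hexc : IsExceptional q M B (zpowers (y : G)) :=
    ⟨hqσ, hBT.trans hT.le, hBe, hBc, le_sup_left, by rw [Nat.card_zpowers, hy], hYM.le⟩
  haveI hTc : IsMulCommutative T := hexc.isMulCommutative_sylow hG hM hT
  refine ⟨hTc, ?_, hD1, normalizer_eq_of_isCoatom_of_le hG hM hD1 (hDK.trans hKM)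
    (le_normalizer_of_cyclic hMK hKc hDK), fun hb => hzS ?_,
    not_pRankLE_of_elementary (hBT.trans hT.le) hBe
      (by rw [hBc]; exact Nat.pow_lt_pow_right hq.out.one_lt one_lt_two)⟩
  · haveI := hKc
    exact isCyclic_of_injective (inclusion hDK) (inclusion_injective hDK)
  · have h1 := Solvable.centralizer_sup_commutator_eq hTA hcop
    rw [hb, bot_sup_eq] at h1
    exact hDS (h1.ge hzT)

/-- `A` centralizes the invariant `q`-subgroups of `M`, `q ∉ σ(M)`. -/
theorem le_centralizer_of_inv {q : ℕ} [hq : Fact q.Prime] (hqp : q ≠ p) (hqσ : q ∉ Cfsg.sigma M)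
    {W : Subgroup G} (hW : IsPGroup q W) (hWM : W ≤ M) (hWA : A ≤ normalizer (W : Set G)) :
    A ≤ Subgroup.centralizer (W : Set G) := by
  by_contra hWC
  obtain ⟨T, hWT, hT, hTA⟩ := h.exists_inv_sylow hG hM hqp hqσ hW hWM hWA hWC
  have hTC : ¬ A ≤ Subgroup.centralizer (T : Set G) := fun hc =>
    hWC (hc.trans (Subgroup.centralizer_le hWT))
  obtain ⟨hTc, hDc, hD1, hND, hC1, hr1⟩ := h.exists_core hG hM hqp hqσ hT hTA hTC
  haveI := hTc
  haveI := h.elem.1
  have hcop := h.coprime_card hG hqp hT.pgroup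
  have hqC : q ∣ Nat.card (Subgroup.centralizer (A : Set G)) :=
    (dvd_card_of_isPGroup (hT.pgroup.to_le inf_le_left) hC1).trans (card_dvd_of_le inf_le_right)
  obtain ⟨U, hTU, hU⟩ := (Set.toFinite
    {R : Subgroup G | IsPGroup q R ∧ A ≤ normalizer (R : Set G)}).exists_le_maximal
      ⟨hT.pgroup, hTA⟩
  obtain ⟨hUp, hUA⟩ := hU.prop
  have hUmax : U ∈ Cfsg.maxInvSubgroups ⊤ A {q} :=
    ⟨⟨le_top, isPiSubgroup_singleton.2 hUp, hUA⟩, fun R hR hle =>
      le_antisymm (hU.2 ⟨isPiSubgroup_singleton.1 hR.2.1, hR.2.2⟩ hle) hle⟩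
  obtain ⟨g, hgA, hgM⟩ := h.exists_mover hG hM
  by_cases hUT : U = T
  · rw [hUT] at hUmax
    set T' := T.map (MulAut.conj g).toMonoidHom with hT'
    have hT'max : T' ∈ Cfsg.maxInvSubgroups ⊤ A {q} := by
      have hAg : ∀ k ∈ normalizer (A : Set G), ∀ R : Subgroup G, A ≤ normalizer (R : Set G) →
          A ≤ normalizer ((R.map (MulAut.conj k).toMonoidHom : Subgroup G) : Set G) := by
        intro k hk R hR
        rw [mem_normalizer_iff_map_conj_eq] at hk
        exact hk.ge.trans ((map_mono hR).trans (le_normalizer_map _))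
      refine ⟨⟨le_top, isPiSubgroup_singleton.2 (hT.pgroup.map _), hAg g hgA _ hTA⟩,
        fun R hR hle => ?_⟩
      have h1 := hUmax.2 (R.map (MulAut.conj g⁻¹).toMonoidHom)
        ⟨le_top, IsPiSubgroup.map hR.2.1 _, hAg g⁻¹ (inv_mem hgA) _ hR.2.2⟩ (by
          have := map_mono (f := (MulAut.conj g⁻¹).toMonoidHom) hle
          rwa [hT', map_conj_map_conj, inv_mul_cancel, map_conj_one] at this)
      rw [hT', ← h1, map_conj_map_conj, mul_inv_cancel, map_conj_one]
    have hZ : ¬ Cfsg.RankLE 1 ↥(A ⊓ Subgroup.centralizer (A : Set G)) := by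
      rw [inf_eq_left.2 (le_centralizer_iff_isMulCommutative.2 h.elem.1)]
      exact fun hr => not_pRankLE_of_elementary (le_refl A) h.elem
        (by rw [h.card]; exact Nat.pow_lt_pow_right hp.out.one_lt one_lt_two) (hr p hp.out)
    obtain ⟨k, hk, hkT⟩ := conjBy_of_rank_two hG (h.transitivity hG hM) hZ
      (fun hd => hqp ((Nat.prime_dvd_prime_iff_eq hq.out hp.out).1
        (hq.out.dvd_of_dvd_pow (h.card ▸ hd)))) hqC T hUmax T' hT'max
    have hkC : k ∈ Subgroup.centralizer (A : Set G) := piCoreOf_le _ _ hk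
    have hkA : k ∈ normalizer (A : Set G) := centralizer_le_normalizer _ hkC
    have hg' : k⁻¹ * g ∈ normalizer (T : Set G) := by
      refine mem_normalizer_of_map_le (le_of_eq ?_)
      rw [← map_conj_map_conj, ← hT', hkT, map_conj_map_conj, inv_mul_cancel, map_conj_one]
    have hg'A : k⁻¹ * g ∈ normalizer (A : Set G) := mul_mem (inv_mem hkA) hgA
    refine hgM ?_
    rw [show g = k * (k⁻¹ * g) by group]
    refine mul_mem (h.centralizer_le hkC) (hND.le (mem_normalizer_of_map_le ?_))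
    rw [map_commutator]
    exact commutator_mono (le_of_eq (mem_normalizer_iff_map_conj_eq.1 hg'))
      (le_of_eq (mem_normalizer_iff_map_conj_eq.1 hg'A))
  have hUM : ¬ U ≤ M := fun hc => hUT (hT.max U hUp hTU hc)
  obtain ⟨y, hy⟩ := exists_prime_orderOf_dvd_card' q
    (dvd_card_of_isPGroup (hT.pgroup.to_le (Solvable.commutator_le_of_normalizes hTA)) hD1)
  rw [← Subgroup.orderOf_coe] at hy
  have hDT : ⁅T, A⁆ ≤ T := Solvable.commutator_le_of_normalizes hTA
  obtain ⟨x, hxA, hx1, hxy⟩ := exists_mem_centralizer_zpowers (A := A)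
    (elementary_not_isCyclic h.elem (by rw [h.card]; exact lt_self_pow₀ hp.out.one_lt one_lt_two))
    hy ((le_normalizer_of_cyclic (h.le.trans hND.ge) hDc (zpowers_le.2 y.2)))
  have hxA' : zpowers x ≤ A := zpowers_le.2 hxA
  have hxD : zpowers x ≤ Subgroup.centralizer ((⁅T, A⁆ : Subgroup G) : Set G) := by
    haveI := hDc
    haveI : IsMulCommutative ↥⁅T, A⁆ := ⟨⟨fun a b => Subtype.ext (setLike_mul_comm (s := T) (hDT a.2) (hDT b.2))⟩⟩
    refine Solvable.le_centralizer_of_fix_prime_order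
      ((hxA'.trans h.le).trans hND.ge) ((hcop.coprime_dvd_left (card_dvd_of_le hxA')).coprime_dvd_right
        (card_dvd_of_le hDT)) fun v hv hvo a ha => ?_
    have hvq : orderOf v = q := by
      obtain ⟨n, hn⟩ := hT.pgroup.exists_card_eq
      exact (Nat.prime_dvd_prime_iff_eq hvo hq.out).1
        (hvo.dvd_of_dvd_pow (hn ▸ orderOf_dvd_card_of_mem (hDT hv)))
    have hmem : v ∈ zpowers (y : G) := (eq_of_card_eq_of_le_cyclic hDc (zpowers_le.2 hv)
      (zpowers_le.2 y.2) (by rw [Nat.card_zpowers, Nat.card_zpowers, hvq, hy])).le (mem_zpowers v)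
    obtain ⟨i, rfl⟩ := hmem
    obtain ⟨j, rfl⟩ := ha
    exact ((hxy.zpow_left j).zpow_right i).eq
  have hxT : zpowers x ≤ Subgroup.centralizer (T : Set G) := by
    rw [le_centralizer_iff]
    calc T = (T ⊓ Subgroup.centralizer (A : Set G)) ⊔ ⁅T, A⁆ :=
          (Solvable.centralizer_sup_commutator_eq hTA hcop).symm
      _ ≤ _ := sup_le (inf_le_right.trans (Subgroup.centralizer_le hxA'))
          (le_centralizer_iff.1 hxD)
  have hUC : U ⊓ Subgroup.centralizer (T : Set G) ≤ T := by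
    have hCT : Subgroup.centralizer (T : Set G) ≤ M :=
      ((Subgroup.centralizer_le hDT).trans (centralizer_le_normalizer _)).trans hND.le
    have hTU' : T ≤ U ⊓ M := le_inf hTU hT.le
    have h1 := hT.max (U ⊓ M) (hUp.to_le inf_le_left) hTU' inf_le_right
    exact (inf_le_inf_left _ hCT).trans h1.le
  have hxU : zpowers x ≤ Subgroup.centralizer (U : Set G) :=
    Solvable.thompson_pxq (P := T) (Q := zpowers x) hT.pgroup
      (Nat.Coprime.coprime_dvd_left (card_dvd_of_le hxA')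
        (by rw [h.card]; exact ((Nat.coprime_primes hp.out hq.out).2 hqp.symm).pow_left 2))
      hUp (le_centralizer_iff.1 hxT) (hTU.trans le_normalizer) (hxA'.trans hUA)
      (hUC.trans (le_centralizer_iff.1 hxT))
  have hxne : zpowers x ≠ ⊥ := by rwa [Ne, zpowers_eq_bot]
  obtain ⟨H, hH, hle⟩ := exists_isCoatom_ge
    (normalizer_ne_top hG hxne (isPGroup_ne_top hG (h.pgroup.to_le hxA')))
  have hUH : U ≤ H :=
    ((le_centralizer_iff.1 hxU).trans (centralizer_le_normalizer _)).trans hle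
  have hAH : A ≤ H := (((le_centralizer_iff_isMulCommutative.2 h.elem.1).trans
    (Subgroup.centralizer_le hxA')).trans (centralizer_le_normalizer _)).trans hle
  by_cases hpH : p ∈ Cfsg.sigma H
  · refine hUM ((le_centralizer_iff.1 (le_centralizer_of_sigma hG hH hqp hpH
      (fun hβ => not_idealPrime hG hM (pRankLE_two_of_not_sigma hG hM hq.out hqσ) hr1 hβ.2)
      h.pgroup hAH hUp hUH hUA)).trans h.centralizer_le)
  have hexc : IsExceptional p H A (zpowers x) :=
    ⟨hpH, hAH, h.elem, h.card, hxA',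
      by rw [Nat.card_zpowers, orderOf_eq_prime (h.elem.2 x hxA) hx1], hle⟩
  by_cases hqH : q ∈ Cfsg.sigma H
  · exact hC1 (le_bot_iff.1 ((inf_le_inf_right _
      (le_sigmaCore_of_pgroup hG hH hqH hT.pgroup (hTU.trans hUH))).trans
      (hexc.sigmaCore_inf_centralizer hG hH).le))
  have hUC' : ¬ A ≤ Subgroup.centralizer (U : Set G) := fun hc =>
    hTC (hc.trans (Subgroup.centralizer_le hTU))
  obtain ⟨V, hUV, hV, hVA⟩ := hexc.exists_inv_sylow hG hH hqp hqH hUp hUH hUA hUC'
  have hVU : V = U := le_antisymm (hU.2 ⟨hV.pgroup, hVA⟩ hUV) hUV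
  subst hVU
  obtain ⟨hUc, -⟩ := hexc.exists_core hG hH hqp hqH hV hVA hUC'
  haveI := hUc
  refine hUM (((show V ≤ Subgroup.centralizer ((⁅T, A⁆ : Subgroup G) : Set G) from fun v hv w hw =>
    setLike_mul_comm (s := V) (hTU (hDT hw)) hv).trans (centralizer_le_normalizer _)).trans hND.le)

/-- BG 11.7, for a complement of `M_σ`. -/
theorem complement_le_normalizer {E : Subgroup G} (hE : Cfsg.IsComplIn E (Cfsg.sigmaCore M) M)
    (hAE : A ≤ E) : E ≤ normalizer (A : Set G) := by
  haveI := isSolvable_of_ne_top hG (H := E) fun hb => hM.1 (top_le_iff.1 (hb ▸ hE.1))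
  set F := Cfsg.fittingOf E with hF
  have hFn := fittingOf_isNilpotent E
  have hEF : E ≤ normalizer (F : Set G) := le_normalizer_fittingOf E
  have hF' : ⁅E, E⁆ ≤ F := commutator_le_fittingOf (odd_card_subgroup hG E)
    (fun t ht => TwoFusion.PRank.pRankLE_mono (piCoreOf_le _ _) (rankLE_complement hG hM hE t ht))
  set P₀ := Cfsg.piCoreOf {p} E with hP₀
  have hFP : F ≤ P₀ ⊔ Subgroup.centralizer (A : Set G) := by
    intro f hf
    have h1 := le_sup_piCoreOf_of_nilpotent hFn {p} hf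
    refine (sup_le_sup (piCoreOf_singleton_fittingOf E p).le ?_ : _ ≤ P₀ ⊔ _) h1
    set O := Cfsg.piCoreOf {s | s.Prime ∧ s ∉ ({p} : Set ℕ)} F
    intro x hx
    have hOn : Group.IsNilpotent O := by
      haveI := hFn
      exact isNilpotent_of_subgroup_le hFn (piCoreOf_le _ _)
    refine mem_of_forall_exists_pow_mem (orderOf_pos x) fun t ht htd => ?_
    haveI := Fact.mk ht
    have htπ := piCoreOf_isPiSubgroup _ F t ht (htd.trans (orderOf_dvd_card_of_mem hx))
    have htp : t ≠ p := fun hc => htπ.2 (Set.mem_singleton_iff.2 hc)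
    obtain ⟨k, m, hm, hko⟩ := Nat.exists_eq_pow_mul_and_not_dvd (orderOf_pos x).ne' t ht.one_lt.ne'
    refine ⟨m, fun hd => hm hd, ?_⟩
    have hxm : x ^ m ∈ Cfsg.piCoreOf {t} E := by
      rw [← piCoreOf_singleton_fittingOf]
      refine mem_piCoreOf_of_nilpotent hFn (pow_mem (piCoreOf_le _ _ hx) m) fun s hs hsd => ?_
      have h2 : orderOf (x ^ m) ∣ t ^ k := by
        refine orderOf_dvd_of_pow_eq_one ?_
        rw [← pow_mul, mul_comm, ← hko, pow_orderOf_eq_one]
      exact Set.mem_singleton_iff.2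
        ((Nat.prime_dvd_prime_iff_eq hs ht).1 (hs.dvd_of_dvd_pow (hsd.trans h2)))
    have hQ := piCoreOf_singleton_isPGroup t E
    have htσ : t ∉ Cfsg.sigma M := complement_prime_not_sigma hG hM hE ht
      (htd.trans (orderOf_dvd_card_of_mem (fittingOf_le E (piCoreOf_le _ _ hx))))
    intro a ha
    exact ((h.le_centralizer_of_inv hG hM htp htσ hQ ((piCoreOf_le _ _).trans hE.1)
      (hAE.trans (le_normalizer_piCoreOf _ _))) ha (x ^ m) hxm).symm
  obtain ⟨P, hP, hAP⟩ := exists_isMaxPIn_ge (B := A ⊔ P₀) (sup_le h.le ((piCoreOf_le _ _).trans hE.1))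
    (h.pgroup.to_sup_of_normal_right' (piCoreOf_singleton_isPGroup p E)
      (hAE.trans (le_normalizer_piCoreOf _ _)))
  haveI := h.isMulCommutative_sylow hG hM hP
  have hFA : F ≤ Subgroup.centralizer (A : Set G) := hFP.trans (sup_le
    (fun y hy a ha => setLike_mul_comm (s := P) (hAP (mem_sup_left ha)) (hAP (mem_sup_right hy)))
    le_rfl)
  intro e he
  refine mem_normalizer_of_map_le ?_
  rintro _ ⟨a, ha, rfl⟩
  simp only [MulEquiv.coe_toMonoidHom, MulAut.conj_apply]
  refine h.mem_of_commute hG hM ?_ (by rw [conj_pow, h.elem.2 a ha, mul_one, mul_inv_cancel])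
  intro b hb
  haveI := h.elem.1
  have h1 : ⁅e, a⁆ ∈ F := hF' (commutator_mem_commutator he (hAE ha))
  rw [show e * a * e⁻¹ = ⁅e, a⁆ * a by rw [commutatorElement_def]; group]
  exact ((show Commute b ⁅e, a⁆ from hFA h1 b hb).mul_right
    (show Commute b a from setLike_mul_comm (s := A) hb ha)).eq

/-- BG 11.7. -/
theorem le_normalizer_sup : M ≤ normalizer ((Cfsg.sigmaCore M ⊔ A : Subgroup G) : Set G) := by
  obtain ⟨E, hAE, hE⟩ := exists_complement_ge hG hM h.le fun t ht htd => by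
    rw [(Nat.prime_dvd_prime_iff_eq ht hp.out).1 (ht.dvd_of_dvd_pow (h.card ▸ htd))]
    exact h.notSigma
  intro m hm
  obtain ⟨e, he, s, hs, rfl⟩ := hE.2.2.2 m hm
  refine mul_mem (mem_normalizer_of_map_le ?_) (le_normalizer (mem_sup_left hs))
  have h1 := le_normalizer_piCoreOf (Cfsg.sigma M) M (hE.1 he)
  have h2 := h.complement_le_normalizer hG hM hE hAE he
  rw [mem_normalizer_iff_map_conj_eq] at h1 h2
  rw [Subgroup.map_sup]
  exact sup_le_sup h1.le h2.le

end IsExceptional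

end CfsgLib.OddOrder
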