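import Cfsg.Agent.Lib.OddOrder.NonabelianUnique
import Cfsg.Agent.Lib.OddOrder.SigmaUnique
import Cfsg.Agent.Lib.OddOrder.SigmaJordan
import Cfsg.Agent.S1416
import Cfsg.Agent.S1417

/-!
BG 12.4, 12.5 and 12.13 in the forms used afterwards.
-/

set_option autoImplicit false
set_option linter.style.haveILetI false

namespace CfsgLib.OddOrder

open Subgroup

variable {G : Type*} [Group G] [Finite G] (hG : Cfsg.IsMinSimpleOddOrder G)
include hG

omit hG in
/-- A group of `p`-rank above one has an elementary subgroup of order `p ^ 2`. -/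
theorem exists_elementary_two {p : ℕ} [hp : Fact p.Prime] {X : Subgroup G}
    (h : ¬ Cfsg.PRankLE p 1 X) :
    ∃ A : Subgroup G, A ≤ X ∧ Cfsg.IsElementaryAbelian p A ∧ Nat.card A = p ^ 2 := by
  obtain ⟨E, hEX, hEe, hE⟩ := exists_elementary_of_not_pRankLE h
  obtain ⟨n, hn⟩ := (isPGroup_of_exp hEe.2).exists_card_eq
  have hn2 : 2 ≤ n := by
    rw [hn] at hE
    exact (Nat.pow_lt_pow_iff_right hp.out.one_lt).1 hE
  obtain ⟨A₀, hA₀⟩ := Sylow.exists_subgroup_card_pow_prime (G := E) p (n := 2)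
    (hn ▸ pow_dvd_pow p hn2)
  have hAE : A₀.map E.subtype ≤ E := map_subtype_le _
  refine ⟨_, hAE.trans hEX, ⟨?_, fun a ha => hEe.2 a (hAE ha)⟩, ?_⟩
  · haveI := hEe.1
    exact map_isMulCommutative A₀ E.subtype
  · rw [card_map_of_injective E.subtype_injective, hA₀]

/-- BG 12.4 (a). -/
theorem centralizer_elementary_le {L : Subgroup G} (hL : IsCoatom L) {p : ℕ} [Fact p.Prime]
    {A : Subgroup G} (hAL : A ≤ L) (hA : Cfsg.IsElementaryAbelian p A) (hA2 : Nat.card A = p ^ 2) :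
    centralizer (A : Set G) ≤ L :=
  (Cfsg.Agent.S1416.result hG L hL p A ⟨hAL, hA, hA2⟩).1

/-- BG 12.5 (a), (c), (d). -/
theorem tau2_facts {L : Subgroup G} (hL : IsCoatom L) {p : ℕ} [Fact p.Prime]
    (hp : p ∈ Cfsg.tau2 L) {A : Subgroup G} (hAL : A ≤ L) (hA : Cfsg.IsElementaryAbelian p A)
    (hA2 : Nat.card A = p ^ 2) :
    Group.IsNilpotent (Cfsg.sigmaCore L) ∧
      L ≤ normalizer ((Cfsg.sigmaCore L ⊔ A : Subgroup G) : Set G) ∧
      Cfsg.sigmaCore L ⊓ centralizer (A : Set G) = ⊥ := by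
  obtain ⟨h1, -, h3, h4, -⟩ := Cfsg.Agent.S1417.result hG L hL p hp A ⟨hAL, hA, hA2⟩
  exact ⟨h1, h3, h4⟩

/-- BG 12.13. -/
theorem nonabelian_inUniqueMaximal {p : ℕ} [Fact p.Prime] {P : Subgroup G} (hP : IsPGroup p P)
    (hna : ¬ IsMulCommutative P) : Cfsg.InUniqueMaximal P := by
  refine nonabelian_unique hG (fun L hL hp T => ?_)
    (fun L hL A hAL hA hA2 => centralizer_elementary_le hG hL hAL hA hA2)
    (fun L hL A hAL hA hA2 h => ((Cfsg.Agent.S1416.result hG L hL p A ⟨hAL, hA, hA2⟩).2 h).2.2)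
    hP hna
  obtain ⟨A, hAL, hA, hA2⟩ := exists_elementary_two hp.2.2.2
  exact ((Cfsg.Agent.S1417.result hG L hL p hp A ⟨hAL, hA, hA2⟩).2.1 T).1

end CfsgLib.OddOrder
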