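import Cfsg.Agent.Lib.OddOrder.Basic
import Cfsg.Agent.Lib.OddOrder.PiCore
import Cfsg.Agent.Lib.Solvable.CoprimeAction
import Mathlib.GroupTheory.IsSubnormal
import Mathlib.GroupTheory.Nilpotent

/-!
Maximal invariant `q`-subgroups under the transitivity hypothesis.
-/

set_option autoImplicit false
set_option linter.style.haveILetI false

open scoped Pointwise

namespace CfsgLib.OddOrder

open Subgroup

variable {G : Type*} [Group G]

/-- `O_{π(A)'}(C(A))`. -/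
def coreCent (A : Subgroup G) (n : ℕ) : Subgroup G :=
  Cfsg.piCoreOf (Cfsg.primesNotDvd n) (centralizer (A : Set G))

/-- `Q'` is the conjugate of `Q` by an element of `K`. -/
def ConjBy (K Q Q' : Subgroup G) : Prop :=
  ∃ k ∈ K, Q' = Q.map (MulAut.conj k).toMonoidHom

theorem map_conj_one (Q : Subgroup G) : Q.map (MulAut.conj (1 : G)).toMonoidHom = Q := by
  rw [map_one]
  exact Subgroup.map_id Q

theorem ConjBy.refl (K Q : Subgroup G) : ConjBy K Q Q :=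
  ⟨1, K.one_mem, (map_conj_one Q).symm⟩

theorem map_conj_map_conj (Q : Subgroup G) (a b : G) :
    (Q.map (MulAut.conj a).toMonoidHom).map (MulAut.conj b).toMonoidHom =
      Q.map (MulAut.conj (b * a)).toMonoidHom := by
  rw [Subgroup.map_map, map_mul]
  rfl

theorem ConjBy.trans {K Q Q' Q'' : Subgroup G} (h : ConjBy K Q Q') (h' : ConjBy K Q' Q'') :
    ConjBy K Q Q'' := by
  obtain ⟨a, ha, rfl⟩ := h
  obtain ⟨b, hb, rfl⟩ := h'
  exact ⟨b * a, K.mul_mem hb ha, map_conj_map_conj Q a b⟩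

theorem ConjBy.symm {K Q Q' : Subgroup G} (h : ConjBy K Q Q') : ConjBy K Q' Q := by
  obtain ⟨a, ha, rfl⟩ := h
  refine ⟨a⁻¹, K.inv_mem ha, ?_⟩
  rw [map_conj_map_conj, inv_mul_cancel, map_conj_one]

variable [Finite G]

theorem piSubgroup_primesNotDvd_of_singleton {q n : ℕ} (hq : q.Prime) (hqn : ¬ q ∣ n)
    {Q : Subgroup G} (hQ : Cfsg.IsPiSubgroup {q} Q) :
    Cfsg.IsPiSubgroup (Cfsg.primesNotDvd n) Q :=
  IsPiSubgroup.mono hQ (Set.singleton_subset_iff.2 ⟨hq, hqn⟩)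

theorem coprime_of_piSubgroup_primesNotDvd {n : ℕ} {B L : Subgroup G}
    (hB : ∀ r : ℕ, r.Prime → r ∣ Nat.card B → r ∣ n)
    (hL : Cfsg.IsPiSubgroup (Cfsg.primesNotDvd n) L) :
    (Nat.card B).Coprime (Nat.card L) :=
  Nat.coprime_of_dvd fun r hr hrB hrL => (hL r hr hrL).2 (hB r hr hrB)

theorem exists_maxInvSubgroup_ge {A Y : Subgroup G} {π : Set ℕ}
    (hY : Y ∈ Cfsg.invSubgroups ⊤ A π) :
    ∃ Q ∈ Cfsg.maxInvSubgroups ⊤ A π, Y ≤ Q := by
  obtain ⟨Q, hYQ, hQ⟩ := (Set.toFinite (Cfsg.invSubgroups ⊤ A π)).exists_le_maximal hY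
  exact ⟨Q, ⟨hQ.prop, fun R hR hle => le_antisymm (hQ.le_of_ge hR hle) hle⟩, hYQ⟩

theorem bot_mem_invSubgroups (A : Subgroup G) (π : Set ℕ) :
    (⊥ : Subgroup G) ∈ Cfsg.invSubgroups ⊤ A π :=
  ⟨le_top, isPiSubgroup_bot, by rw [normalizer_eq_top]; exact le_top⟩

theorem le_normalizer_inf_of_le {A X Y : Subgroup G} (hX : A ≤ normalizer (X : Set G))
    (hY : A ≤ normalizer (Y : Set G)) : A ≤ normalizer ((X ⊓ Y : Subgroup G) : Set G) :=
  (le_inf hX hY).trans inf_normalizer_le_normalizer_inf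

theorem le_normalizer_map_conj {A Q : Subgroup G} {k : G} (hk : k ∈ centralizer (A : Set G))
    (hQ : A ≤ normalizer (Q : Set G)) :
    A ≤ normalizer ((Q.map (MulAut.conj k).toMonoidHom : Subgroup G) : Set G) := by
  intro a ha
  have hcomm : a * k = k * a := mem_centralizer_iff.1 hk a ha
  have h := hQ ha
  rw [mem_normalizer_iff_map_conj_eq] at h ⊢
  rw [show ((MulAut.conj a : MulAut G) : G →* G) = (MulAut.conj a).toMonoidHom from rfl] at h ⊢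
  rw [map_conj_map_conj, hcomm, ← map_conj_map_conj, h]

theorem mem_maxInv_map_conj {A Q : Subgroup G} {π : Set ℕ} {k : G}
    (hk : k ∈ centralizer (A : Set G)) (hQ : Q ∈ Cfsg.maxInvSubgroups ⊤ A π) :
    Q.map (MulAut.conj k).toMonoidHom ∈ Cfsg.maxInvSubgroups ⊤ A π := by
  have hinv : ∀ (c : G), c ∈ centralizer (A : Set G) → ∀ R ∈ Cfsg.invSubgroups ⊤ A π,
      R.map (MulAut.conj c).toMonoidHom ∈ Cfsg.invSubgroups ⊤ A π := fun c hc R hR =>
    ⟨le_top, IsPiSubgroup.map hR.2.1 _, le_normalizer_map_conj hc hR.2.2⟩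
  refine ⟨hinv k hk Q hQ.1, fun R hR hle => ?_⟩
  have h := hQ.2 _ (hinv k⁻¹ (inv_mem hk) R hR) ?_
  · rw [← h, map_conj_map_conj, mul_inv_cancel, map_conj_one]
  · have := Subgroup.map_mono (f := (MulAut.conj k⁻¹).toMonoidHom) hle
    rwa [map_conj_map_conj, inv_mul_cancel, map_conj_one] at this

/-- A `q`-subgroup properly contained in a `q`-group grows in its normalizer. -/
theorem lt_inf_normalizer {q : ℕ} [Fact q.Prime] {D Q : Subgroup G} (hQ : IsPGroup q Q)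
    (h : D < Q) : D < Q ⊓ normalizer (D : Set G) := by
  haveI : Group.IsNilpotent Q := hQ.isNilpotent
  have hlt : D.subgroupOf Q < ⊤ := by
    rw [lt_top_iff_ne_top, Ne, subgroupOf_eq_top]
    exact not_le_of_gt h
  obtain ⟨x, hx, hxD⟩ := SetLike.exists_of_lt
    (Group.normalizerCondition_of_isNilpotent (D.subgroupOf Q) hlt)
  refine lt_of_le_not_ge (le_inf h.le le_normalizer) fun hle => hxD ?_
  rw [mem_subgroupOf]
  refine hle ⟨x.2, ?_⟩
  rw [← map_subgroupOf_eq_of_le h.le]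
  exact le_normalizer_map Q.subtype ⟨x, hx, rfl⟩

section Hypothesis

variable (hG : Cfsg.IsMinSimpleOddOrder G) {A : Subgroup G} (hA : Cfsg.TransitivityHypothesis A)
include hA

theorem inv_le_piCoreOf {H Y : Subgroup G} (hH : H ≠ ⊤) (hAH : A ≤ H) (hYH : Y ≤ H)
    (hY : Cfsg.IsPiSubgroup (Cfsg.primesNotDvd (Nat.card A)) Y)
    (hAY : A ≤ normalizer (Y : Set G)) :
    Y ≤ Cfsg.piCoreOf (Cfsg.primesNotDvd (Nat.card A)) H :=
  hA.2.2 H hH hAH ▸ le_sSup ⟨hYH, hY, hAY⟩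

include hG

/-- Every `π(A)'`-subgroup centralizing `A` lies in `O_{π(A)'}(C(A))`. -/
theorem le_coreCent {L : Subgroup G} (hL : Cfsg.IsPiSubgroup (Cfsg.primesNotDvd (Nat.card A)) L)
    (hLA : L ≤ centralizer (A : Set G)) : L ≤ coreCent A (Nat.card A) := by
  set π := Cfsg.primesNotDvd (Nat.card A)
  set N := normalizer (A : Set G) with hN
  set O := Cfsg.piCoreOf π N with hO
  have hLO : L ≤ O := inv_le_piCoreOf hA (normalizer_ne_top hG hA.1 hA.2.1) le_normalizer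
    (hLA.trans (centralizer_le_normalizer _)) hL
    ((le_centralizer_iff.1 hLA).trans (centralizer_le_normalizer _))
  have hdis : Disjoint A O := Subgroup.disjoint_of_coprime_natCard
    (coprime_of_piSubgroup_primesNotDvd (fun _ _ h => h) (piCoreOf_isPiSubgroup π N))
  have hOC : O ≤ centralizer (A : Set G) := fun x hx =>
    Solvable.inf_normalizer_le_centralizer (le_normalizer.trans (le_normalizer_piCoreOf π N)) hdis
      ⟨hx, piCoreOf_le π N hx⟩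
  exact hLO.trans (le_piCoreOf hOC
    ((centralizer_le_normalizer _).trans (le_normalizer_piCoreOf π N))
    (piCoreOf_isPiSubgroup π N))

variable {q : ℕ} [hq : Fact q.Prime] (hqA : ¬ q ∣ Nat.card A)
include hqA

/-- Inside a proper subgroup `H ≥ A`, two invariant `q`-subgroups lie, up to `K`-conjugacy,
in a common maximal invariant `q`-subgroup. -/
theorem exists_common_max {H Y₁ Y₂ : Subgroup G} (hH : H ≠ ⊤) (hAH : A ≤ H)
    (hY₁ : Y₁ ∈ Cfsg.invSubgroups H A {q}) (hY₂ : Y₂ ∈ Cfsg.invSubgroups H A {q}) :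
    ∃ k ∈ coreCent A (Nat.card A), ∃ Q₃ ∈ Cfsg.maxInvSubgroups ⊤ A {q},
      Y₁.map (MulAut.conj k).toMonoidHom ≤ Q₃ ∧ Y₂ ≤ Q₃ := by
  set π := Cfsg.primesNotDvd (Nat.card A)
  set L := Cfsg.piCoreOf π H with hL
  have hle : ∀ Y ∈ Cfsg.invSubgroups H A {q}, Y ≤ L := fun Y hY => inv_le_piCoreOf hA hH hAH hY.1
    (piSubgroup_primesNotDvd_of_singleton hq.out hqA hY.2.1) hY.2.2
  have hAL : A ≤ normalizer (L : Set G) := hAH.trans (le_normalizer_piCoreOf π H)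
  have hcop := coprime_of_piSubgroup_primesNotDvd (B := A) (fun _ _ h => h)
    (piCoreOf_isPiSubgroup π H)
  have hsol : Group.IsSolvable A ∨ Group.IsSolvable L := Or.inl (isSolvable_of_ne_top hG hA.2.1)
  obtain ⟨P₁, hP₁, hAP₁⟩ := Solvable.exists_invariant_sylow_ge hAL hcop hsol q (hle Y₁ hY₁)
    (isPiSubgroup_singleton.1 hY₁.2.1) hY₁.2.2
  obtain ⟨P₂, hP₂, hAP₂⟩ := Solvable.exists_invariant_sylow_ge hAL hcop hsol q (hle Y₂ hY₂)
    (isPiSubgroup_singleton.1 hY₂.2.1) hY₂.2.2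
  obtain ⟨c, hc, hP⟩ := Solvable.exists_invariant_sylow_conj hAL hcop hsol P₁ P₂ hAP₁ hAP₂
  obtain ⟨Q₃, hQ₃, hP₂Q⟩ := exists_maxInvSubgroup_ge
    (show (P₂ : Subgroup L).map L.subtype ∈ Cfsg.invSubgroups ⊤ A {q} from
      ⟨le_top, isPiSubgroup_singleton.2 (P₂.2.map _), hAP₂⟩)
  refine ⟨c, ?_, Q₃, hQ₃, ?_, hP₂.trans hP₂Q⟩
  · exact le_coreCent hG hA (IsPiSubgroup.anti (piCoreOf_isPiSubgroup π H) inf_le_left) inf_le_right
      (show (c : G) ∈ L ⊓ centralizer (A : Set G) from ⟨c.2, hc⟩)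
  · refine le_trans (Subgroup.map_mono hP₁) (le_of_eq_of_le ?_ hP₂Q)
    rw [← hP]
    change _ = (MulAut.conj c • (P₁ : Subgroup L)).map L.subtype
    rw [Solvable.map_conj_smul, Solvable.conj_smul_eq_map]
    rfl

/-- Two maximal invariant `q`-subgroups with nontrivial intersection are conjugate. -/
theorem conjBy_of_inf_ne_bot : ∀ (Q₁ Q₂ : Subgroup G),
    Q₁ ∈ Cfsg.maxInvSubgroups ⊤ A {q} → Q₂ ∈ Cfsg.maxInvSubgroups ⊤ A {q} → Q₁ ⊓ Q₂ ≠ ⊥ →
      ConjBy (coreCent A (Nat.card A)) Q₁ Q₂ := by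
  intro Q₁ Q₂
  induction hn : Nat.card G - Nat.card ↥(Q₁ ⊓ Q₂) using Nat.strong_induction_on
    generalizing Q₁ Q₂ with
  | _ n IH =>
    intro hQ₁ hQ₂ hne
    by_cases heq : Q₁ = Q₂
    · exact heq ▸ ConjBy.refl _ _
    set D := Q₁ ⊓ Q₂ with hD
    have hp₁ : IsPGroup q Q₁ := isPiSubgroup_singleton.1 hQ₁.1.2.1
    have hp₂ : IsPGroup q Q₂ := isPiSubgroup_singleton.1 hQ₂.1.2.1
    have hlt₁ : D < Q₁ := lt_of_le_of_ne inf_le_left fun h =>
      heq (hQ₁.2 Q₂ hQ₂.1 (inf_eq_left.1 h)).symm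
    have hlt₂ : D < Q₂ := lt_of_le_of_ne inf_le_right fun h =>
      heq (hQ₂.2 Q₁ hQ₁.1 (inf_eq_right.1 h))
    set H := normalizer (D : Set G) with hHdef
    have hH : H ≠ ⊤ := normalizer_ne_top hG hne
      (isPGroup_ne_top hG (hp₁.to_le (inf_le_left : D ≤ Q₁)))
    have hAH : A ≤ H := le_normalizer_inf_of_le hQ₁.1.2.2 hQ₂.1.2.2
    have hinv : ∀ Q ∈ Cfsg.maxInvSubgroups ⊤ A {q}, Q ⊓ H ∈ Cfsg.invSubgroups H A {q} :=
      fun Q hQ => ⟨inf_le_right, IsPiSubgroup.anti hQ.1.2.1 inf_le_left,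
        le_normalizer_inf_of_le hQ.1.2.2 (hAH.trans le_normalizer)⟩
    obtain ⟨k, hk, Q₃, hQ₃, h₁, h₂⟩ := exists_common_max hG hA hqA hH hAH (hinv Q₁ hQ₁) (hinv Q₂ hQ₂)
    have hkC : k ∈ centralizer (A : Set G) := piCoreOf_le _ _ hk
    have step : ∀ (R₁ R₂ : Subgroup G) (m : ℕ), Nat.card D < m → m ≤ Nat.card ↥(R₁ ⊓ R₂) →
        R₁ ∈ Cfsg.maxInvSubgroups ⊤ A {q} → R₂ ∈ Cfsg.maxInvSubgroups ⊤ A {q} →
        ConjBy (coreCent A (Nat.card A)) R₁ R₂ := by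
      intro R₁ R₂ m hm hm' hR₁ hR₂
      have hle := Subgroup.card_le_card_group (R₁ ⊓ R₂)
      refine IH _ ?_ R₁ R₂ rfl hR₁ hR₂ ?_
      · omega
      · intro hb
        rw [hb, Subgroup.card_bot] at hm'
        have : 0 < Nat.card D := Nat.card_pos
        omega
    refine ConjBy.trans ⟨k, hk, rfl⟩ (ConjBy.trans
      (step (Q₁.map (MulAut.conj k).toMonoidHom) Q₃ (Nat.card ↥(Q₁ ⊓ H)) ?_ ?_
        (mem_maxInv_map_conj hkC hQ₁) hQ₃)
      (step Q₂ Q₃ (Nat.card ↥(Q₂ ⊓ H)) ?_ ?_ hQ₂ hQ₃).symm)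
    · exact Set.Finite.card_lt_card (Set.toFinite _) (lt_inf_normalizer hp₁ hlt₁)
    · rw [← Subgroup.card_map_of_injective (K := Q₁ ⊓ H)
        (f := (MulAut.conj k).toMonoidHom) (MulAut.conj k).injective]
      exact Subgroup.card_le_of_le (le_inf (Subgroup.map_mono inf_le_left) h₁)
    · exact Set.Finite.card_lt_card (Set.toFinite _) (lt_inf_normalizer hp₂ hlt₂)
    · exact Subgroup.card_le_of_le (le_inf inf_le_left h₂)

/-- Two maximal invariant `q`-subgroups meeting a proper `H ≥ A` nontrivially are conjugate. -/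
theorem conjBy_of_common_overgroup {H Q₁ Q₂ : Subgroup G} (hH : H ≠ ⊤) (hAH : A ≤ H)
    (hQ₁ : Q₁ ∈ Cfsg.maxInvSubgroups ⊤ A {q}) (hQ₂ : Q₂ ∈ Cfsg.maxInvSubgroups ⊤ A {q})
    (h₁ : H ⊓ Q₁ ≠ ⊥) (h₂ : H ⊓ Q₂ ≠ ⊥) : ConjBy (coreCent A (Nat.card A)) Q₁ Q₂ := by
  have hinv : ∀ Q ∈ Cfsg.maxInvSubgroups ⊤ A {q}, H ⊓ Q ∈ Cfsg.invSubgroups H A {q} :=
    fun Q hQ => ⟨inf_le_left, IsPiSubgroup.anti hQ.1.2.1 inf_le_right,
      le_normalizer_inf_of_le (hAH.trans le_normalizer) hQ.1.2.2⟩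
  obtain ⟨k, hk, Q₃, hQ₃, hk₁, hk₂⟩ :=
    exists_common_max hG hA hqA hH hAH (hinv Q₁ hQ₁) (hinv Q₂ hQ₂)
  have hkC : k ∈ centralizer (A : Set G) := piCoreOf_le _ _ hk
  refine ConjBy.trans ⟨k, hk, rfl⟩ (ConjBy.trans
    (conjBy_of_inf_ne_bot hG hA hqA _ _ (mem_maxInv_map_conj hkC hQ₁) hQ₃ ?_)
    (conjBy_of_inf_ne_bot hG hA hqA _ _ hQ₂ hQ₃ ?_).symm)
  · refine fun hb => h₁ ((Subgroup.map_eq_bot_iff_of_injective _
      (f := (MulAut.conj k).toMonoidHom) (MulAut.conj k).injective).1 (le_bot_iff.1 ?_))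
    exact hb ▸ le_inf (Subgroup.map_mono inf_le_right) hk₁
  · exact fun hb => h₂ (le_bot_iff.1 (hb ▸ le_inf inf_le_right hk₂))

end Hypothesis

end CfsgLib.OddOrder
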