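import Cfsg.Agent.Lib.OddOrder.Bender
import Cfsg.Agent.Lib.OddOrder.Transitivity
import Cfsg.Agent.Lib.Solvable.CoprimeAction
import Cfsg.Agent.Lib.TwoFusion.BenderMaximal
import Cfsg.Prelude.Def_CaseTheorems

/-!
# Bender: invariant subgroups of solvable groups under a large subgroup of a Fitting subgroup
-/

set_option autoImplicit false
set_option linter.style.haveILetI false

namespace CfsgLib.OddOrder

open Subgroup
open scoped commutatorElement

variable {G : Type*} [Group G] [Finite G]

theorem normalizer_le_normalizer_fittingOf (S : Subgroup G) :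
    normalizer (S : Set G) ≤ normalizer (Cfsg.fittingOf S : Set G) := by
  intro g hg
  rw [mem_normalizer_iff_map_conj_eq]
  have hgS : S.map (MulAut.conj g).toMonoidHom = S := mem_normalizer_iff_map_conj_eq.mp hg
  refine eq_of_le_of_card_ge ?_ (le_of_eq (card_map_of_injective (MulAut.conj g).injective).symm)
  refine le_fittingOf ?_ ?_ ?_
  · exact (map_mono (fittingOf_le S)).trans hgS.le
  · exact hgS.ge.trans ((map_mono (le_normalizer_fittingOf S)).trans (le_normalizer_map _))
  · haveI := fittingOf_isNilpotent S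
    exact Group.nilpotent_of_mulEquiv
      (equivMapOfInjective (Cfsg.fittingOf S) _ (MulAut.conj g).injective)

variable {H : Subgroup G}

/-- A solvable subgroup of `H ∩ C(F(H))` normalised by that group lies in `F(H)`. -/
theorem le_fittingOf_of_solvable_normal {S : Subgroup G}
    (hS : S ≤ H ⊓ centralizer (Cfsg.fittingOf H : Set G))
    (hXS : H ⊓ centralizer (Cfsg.fittingOf H : Set G) ≤ normalizer (S : Set G))
    (hsol : Group.IsSolvable S) : S ≤ Cfsg.fittingOf H := by
  set X := H ⊓ centralizer (Cfsg.fittingOf H : Set G) with hX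
  have h1 : Cfsg.fittingOf S ≤ Cfsg.fittingOf X := le_fittingOf ((fittingOf_le S).trans hS)
    (hXS.trans (normalizer_le_normalizer_fittingOf S)) (fittingOf_isNilpotent S)
  have hHX : H ≤ normalizer (X : Set G) := fun x hx => inf_normalizer_le_normalizer_inf
    (mem_inf.2 ⟨le_normalizer hx, le_normalizer_centralizer_of_le (le_normalizer_fittingOf H) hx⟩)
  have h2 : Cfsg.fittingOf X ≤ Cfsg.fittingOf H := le_fittingOf ((fittingOf_le X).trans inf_le_left)
    (hHX.trans (normalizer_le_normalizer_fittingOf X)) (fittingOf_isNilpotent X)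
  intro s hs
  refine (h1.trans h2) (inf_centralizer_fittingOf_le hsol ⟨hs, ?_⟩)
  exact centralizer_le (h1.trans h2) (hS hs).2

theorem fitCenterPart_isPGroup (H : Subgroup G) (s : ℕ) [Fact s.Prime] :
    IsPGroup s (fitCenterPart H s) :=
  piCoreOf_singleton_isPGroup s _

theorem normalizer_fitCenterPart_of_maximal_local (hH : Cfsg.IsLocalSubgroup H)
    (hHmax : ∀ L : Subgroup G, Cfsg.IsLocalSubgroup L → H ≤ L → L = H) {s : ℕ} [hs : Fact s.Prime]
    (hd : s ∣ Nat.card (Cfsg.fittingOf H)) : normalizer (fitCenterPart H s : Set G) = H := by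
  exact hHmax _ ⟨s, fitCenterPart H s, hs.out, fitCenterPart_isPGroup H s,
    fitCenterPart_ne_bot H hd, rfl⟩ (le_normalizer_fitCenterPart H s)

/-- Bender: the invariant coprime subgroups lie in the largest coprime normal subgroup. -/
theorem inv_le_piCoreOf_of_bender (hH : Cfsg.IsLocalSubgroup H)
    (hHmax : ∀ L : Subgroup G, Cfsg.IsLocalSubgroup L → H ≤ L → L = H)
    (hF2 : 2 ≤ (Nat.card (Cfsg.fittingOf H)).primeFactors.card)
    {M : Subgroup G} (hM : M ≤ Cfsg.fittingOf H)
    (hCM : Cfsg.fittingOf H ⊓ centralizer (M : Set G) ≤ M)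
    {R : Subgroup G} (hR : Group.IsSolvable R) (hMR : M ≤ normalizer (R : Set G))
    (hXR : H ⊓ centralizer (Cfsg.fittingOf H : Set G) ≤ normalizer (R : Set G)) :
    (∀ Y ∈ Cfsg.invSubgroups R M (Cfsg.primesNotDvd (Nat.card (Cfsg.fittingOf H))), Y ≤ H →
        Y = ⊥) ∧
      ∀ {q : ℕ}, q.Prime → ¬ q ∣ Nat.card (Cfsg.fittingOf H) →
        ∀ Q ∈ Cfsg.invSubgroups R M {q},
          Q ≤ Cfsg.piCoreOf (Cfsg.primesNotDvd (Nat.card (Cfsg.fittingOf H))) R := by
  set F := Cfsg.fittingOf H with hF
  set n := Nat.card F with hn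
  set π' := Cfsg.primesNotDvd n with hπ'
  have hFn : Group.IsNilpotent F := fittingOf_isNilpotent H
  have hMH : M ≤ H := hM.trans (fittingOf_le H)
  have hZM : fitCenter H ≤ M :=
    le_trans (inf_le_inf_left F (centralizer_le hM)) hCM
  have hAM : ∀ s, fitCenterPart H s ≤ M := fun s => (piCoreOf_le _ _).trans hZM
  have hdisF : ∀ Y : Subgroup G, Cfsg.IsPiSubgroup π' Y → F ⊓ Y = ⊥ := fun Y hY =>
    (disjoint_of_coprime_natCard (isPiSubgroup_primesNotDvd.1 hY).symm).eq_bot
  have hbot : ∀ Y ∈ Cfsg.invSubgroups R M π', Y ≤ H → Y = ⊥ := by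
    rintro Y ⟨hYR, hYπ, hMY⟩ hYH
    have hdis := hdisF Y hYπ
    have hFH : H ≤ normalizer (F : Set G) := le_normalizer_fittingOf H
    rw [eq_bot_iff]
    intro y hy
    have hMc : ∀ m ∈ M, Commute y m := by
      intro m hm
      have h1 : m * y * m⁻¹ * y⁻¹ ∈ Y :=
        mul_mem ((mem_normalizer_iff.1 (hMY hm) y).1 hy) (inv_mem hy)
      have h2 : m * y * m⁻¹ * y⁻¹ ∈ F := by
        rw [show m * y * m⁻¹ * y⁻¹ = m * (y * m⁻¹ * y⁻¹) by group]
        exact mul_mem (hM hm) ((mem_normalizer_iff.1 (hFH (hYH hy)) _).1 (inv_mem (hM hm)))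
      have h3 : m * y * m⁻¹ * y⁻¹ = 1 := by
        rw [← Subgroup.mem_bot, ← hdis]
        exact ⟨h2, h1⟩
      exact (mul_inv_eq_iff_eq_mul.1 (mul_inv_eq_one.1 h3)).symm
    have hcop : (orderOf y).Coprime n :=
      (isPiSubgroup_primesNotDvd.1 hYπ).coprime_dvd_left (orderOf_dvd_card_of_mem hy)
    have hyC : y ∈ centralizer (F : Set G) := fun f hf =>
      ((CfsgLib.TwoFusion.BenderMax.commute_of_selfCentralizing hFn hM hCM
        (fun f hf => (mem_normalizer_iff.1 (hFH (hYH hy)) f).1 hf) hcop hMc f hf).eq).symm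
    have hyF : y ∈ F := by
      refine le_fittingOf_of_solvable_normal (S := R ⊓ (H ⊓ centralizer (F : Set G))) inf_le_right
        (fun x hx => inf_normalizer_le_normalizer_inf (mem_inf.2 ⟨hXR hx, le_normalizer hx⟩)) ?_
        ⟨hYR hy, hYH hy, hyC⟩
      haveI := hR
      exact Group.isSolvable_of_isSolvable_injective (inclusion_injective inf_le_left)
    rw [← hdis]
    exact ⟨hyF, hy⟩
  refine ⟨hbot, fun {q} hq hqn Q hQmem => ?_⟩
  obtain ⟨hQR, hQq, hMQ⟩ := hQmem
  haveI := Fact.mk hq
  have hQπ : Cfsg.IsPiSubgroup π' Q :=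
    IsPiSubgroup.mono hQq (Set.singleton_subset_iff.2 ⟨hq, hqn⟩)
  have hQH : ∀ W : Subgroup G, W ≤ H → Q ⊓ W = ⊥ := fun W hW => eq_bot_iff.2
    ((inf_le_inf_left Q hW).trans (hbot (Q ⊓ H) ⟨inf_le_left.trans hQR,
      IsPiSubgroup.anti hQπ inf_le_left,
      fun m hm => inf_normalizer_le_normalizer_inf (mem_inf.2 ⟨hMQ hm, le_normalizer (hMH hm)⟩)⟩
      inf_le_right).le)
  set K := Cfsg.piCoreOf π' R with hK
  set L := normalizer (K : Set G) with hL
  have hKπ : Cfsg.IsPiSubgroup π' K := piCoreOf_isPiSubgroup π' R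
  have hRL : R ≤ L := le_normalizer_piCoreOf π' R
  have hML : M ≤ L := hMR.trans (normalizer_le_normalizer_piCoreOf π' R)
  have hKL : K ≤ L := le_normalizer
  haveI : (K.subgroupOf L).Normal := normal_in_normalizer
  set f := QuotientGroup.mk' (K.subgroupOf L) with hf
  have hfsurj : Function.Surjective f := QuotientGroup.mk'_surjective _
  set Rb := (R.subgroupOf L).map f with hRb
  have hsolb : Group.IsSolvable Rb := by
    haveI := hR
    haveI : Group.IsSolvable (R.subgroupOf L) :=
      Group.isSolvable_of_isSolvable_injective (f := (subgroupOfEquivOfLe hRL).toMonoidHom)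
        (subgroupOfEquivOfLe hRL).injective
    exact Group.isSolvable_of_surjective (f.subgroupMap_surjective _)
  have hnormb : ∀ x : L, (x : G) ∈ normalizer (R : Set G) → f x ∈ normalizer (Rb : Set _) := by
    intro x hx
    refine le_normalizer_map f (mem_map_of_mem f ?_)
    exact mem_normalizer_iff.2 fun r => by
      simpa [mem_subgroupOf] using mem_normalizer_iff.1 hx (r : G)
  have hcore : Cfsg.piCoreOf π' Rb = ⊥ := by
    set N := ((Cfsg.piCoreOf π' Rb).comap f ⊓ R.subgroupOf L).map L.subtype with hN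
    have hNK : N ≤ K := by
      refine le_piCoreOf ?_ ?_ ?_
      · exact (map_mono inf_le_right).trans (le_of_eq (map_subgroupOf_eq_of_le hRL))
      · intro r hr
        refine le_normalizer_map L.subtype (mem_map_of_mem L.subtype (x := ⟨r, hRL hr⟩) ?_)
        refine inf_normalizer_le_normalizer_inf (mem_inf.2 ⟨?_, ?_⟩)
        · exact le_normalizer_comap f (show f ⟨r, hRL hr⟩ ∈ _ from
            le_normalizer_piCoreOf π' Rb (mem_map_of_mem f (mem_subgroupOf.2 hr)))
        · exact le_normalizer (mem_subgroupOf.2 hr)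
      · refine IsPiSubgroup.map (A := (Cfsg.piCoreOf π' Rb).comap f ⊓ R.subgroupOf L) ?_ _
        refine IsPiSubgroup.anti ?_ inf_le_left
        intro t ht htd
        have hle : (K.subgroupOf L) ≤ (Cfsg.piCoreOf π' Rb).comap f :=
          (le_of_eq (QuotientGroup.ker_mk' _).symm).trans (MonoidHom.ker_le_comap _ _)
        have hmul := relIndex_mul_relIndex ⊥ (K.subgroupOf L) _ bot_le hle
        have hrel : (K.subgroupOf L).relIndex ((Cfsg.piCoreOf π' Rb).comap f) =
            Nat.card (Cfsg.piCoreOf π' Rb) := by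
          have h := Subgroup.relIndex_ker (K := (Cfsg.piCoreOf π' Rb).comap f) f
          rwa [map_comap_eq_self_of_surjective hfsurj, QuotientGroup.ker_mk'] at h
        rw [relIndex_bot_left, relIndex_bot_left, hrel,
          Nat.card_congr (subgroupOfEquivOfLe hKL).toEquiv] at hmul
        rw [← hmul] at htd
        rcases ht.dvd_mul.1 htd with h | h
        · exact hKπ t ht h
        · exact piCoreOf_isPiSubgroup π' Rb t ht h
    rw [eq_bot_iff]
    intro v hv
    obtain ⟨x, hx, rfl⟩ := piCoreOf_le π' Rb hv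
    exact mem_bot.2 ((QuotientGroup.eq_one_iff x).2
      (mem_subgroupOf.2 (hNK ⟨x, ⟨hv, hx⟩, rfl⟩)))
  set C := centralizer (Cfsg.fittingOf Rb : Set (L ⧸ K.subgroupOf L)) with hC
  set Qb := (Q.subgroupOf L).map f with hQb
  have hQL : Q ≤ L := hQR.trans hRL
  have hcomp : ∀ p : ℕ, p.Prime → Cfsg.piCoreOf {p} Rb ≤
      centralizer (Qb : Set (L ⧸ K.subgroupOf L)) := by
    intro p hp
    haveI := Fact.mk hp
    by_cases hpn : ¬ p ∣ n
    · refine le_trans ?_ bot_le
      rw [← hcore]
      exact le_piCoreOf (piCoreOf_le _ _) (le_normalizer_piCoreOf _ _)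
        (IsPiSubgroup.mono (piCoreOf_isPiSubgroup _ _) (Set.singleton_subset_iff.2 ⟨hp, hpn⟩))
    rw [not_not] at hpn
    set V := Cfsg.piCoreOf {p} Rb with hV
    have hVp : IsPGroup p V := piCoreOf_singleton_isPGroup p Rb
    obtain ⟨r, hr, hrn, hrp⟩ := exists_other_prime hF2 p
    haveI := Fact.mk hr
    set A := fitCenterPart H p with hA
    set B := fitCenterPart H r with hB
    have hAL : A ≤ L := (hAM p).trans hML
    have hBL : B ≤ L := (hAM r).trans hML
    have hVn : ∀ x : L, (x : G) ∈ normalizer (R : Set G) → f x ∈ normalizer (V : Set _) :=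
      fun x hx => normalizer_le_normalizer_piCoreOf _ _ (hnormb x hx)
    set Ab := (A.subgroupOf L).map f with hAb
    set Bb := (B.subgroupOf L).map f with hBb
    have hAp : IsPGroup p Ab :=
      ((fitCenterPart_isPGroup H p).comap_of_injective _ (subtype_injective L)).map f
    have hBr : IsPGroup r Bb :=
      ((fitCenterPart_isPGroup H r).comap_of_injective _ (subtype_injective L)).map f
    have hBV : Bb ≤ centralizer (V : Set (L ⧸ K.subgroupOf L)) := by
      refine Solvable.thompson_pxq hAp ?_ hVp ?_ ?_ ?_ ?_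
      · obtain ⟨k, hk⟩ := hBr.exists_card_eq
        rw [hk]
        exact Nat.Coprime.pow_left k ((Nat.coprime_primes hr hp).2 hrp)
      · rintro _ ⟨a, ha, rfl⟩ _ ⟨b, hb, rfl⟩
        rw [← map_mul, ← map_mul]
        exact congrArg f (Subtype.ext (fitCenterPart_commute H p r ha (b : G) hb))
      · rintro _ ⟨a, ha, rfl⟩
        exact hVn a (hMR (hAM p ha))
      · rintro _ ⟨b, hb, rfl⟩
        exact hVn b (hMR (hAM r hb))
      · rintro v ⟨hv, hvA⟩
        obtain ⟨x, hx, rfl⟩ := piCoreOf_le {p} Rb hv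
        have hxR : (x : G) ∈ R := mem_subgroupOf.1 hx
        obtain ⟨d, hd, hyA⟩ := Solvable.exists_mul_mem_normalizer (A := A) (D := K)
          (x := (x : G)) hAL (coprime_of_piSubgroup_primesNotDvd (fun t ht htA =>
            htA.trans (card_dvd_of_le ((hAM p).trans hM))) hKπ)
          (Or.inl (by
            haveI := (fitCenterPart_isPGroup H p).isNilpotent
            infer_instance)) fun a ha => by
              have h1 := hvA _ ⟨⟨a, hAL ha⟩, mem_subgroupOf.2 ha, rfl⟩
              have h2 : f (x⁻¹ * (⟨a, hAL ha⟩ * x * (⟨a, hAL ha⟩ : L)⁻¹)) = 1 := by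
                rw [map_mul, map_mul, map_mul, map_inv, map_inv, h1]
                group
              exact mem_subgroupOf.1 ((QuotientGroup.eq_one_iff _).1 h2)
        have hyH : (x : G) * d ∈ H :=
          (normalizer_fitCenterPart_of_maximal_local hH hHmax hpn).le hyA
        have hdL : d ∈ L := hKL hd
        have hfy : f (x * ⟨d, hdL⟩) = f x := by
          rw [map_mul, show f ⟨d, hdL⟩ = 1 from
            (QuotientGroup.eq_one_iff _).2 (mem_subgroupOf.2 hd), mul_one]
        rw [← hfy] at hv ⊢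
        set y : L := x * ⟨d, hdL⟩ with hy
        rintro _ ⟨b, hb, rfl⟩
        have hcB : y * b * y⁻¹ * b⁻¹ ∈ B.subgroupOf L := by
          refine mem_subgroupOf.2 (mul_mem ?_ (inv_mem hb))
          exact (mem_normalizer_iff.1 (le_normalizer_fitCenterPart H r hyH) (b : G)).1 hb
        have hc1 : f (y * b * y⁻¹ * b⁻¹) ∈ V := by
          rw [map_mul, map_mul, map_mul, map_inv, map_inv, mul_assoc (f y), mul_assoc (f y)]
          exact mul_mem hv ((mem_normalizer_iff.1 (hVn b (hMR (hAM r hb))) _).1 (inv_mem hv))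
        have hc : f (y * b * y⁻¹ * b⁻¹) = 1 := by
          rw [← mem_bot, ← ((IsPGroup.disjoint_of_ne p r (Ne.symm hrp) _ _ hVp hBr).eq_bot)]
          exact ⟨hc1, mem_map_of_mem f hcB⟩
        rw [map_mul, map_mul, map_mul, map_inv, map_inv] at hc
        exact (mul_inv_eq_iff_eq_mul.1 (mul_inv_eq_one.1 hc)).symm
    set W := ((centralizer (V : Set (L ⧸ K.subgroupOf L))).comap f).map L.subtype with hW
    have hcomm : ⁅Q, B⁆ ≤ W := by
      rw [commutator_le]
      intro a ha b hb
      refine ⟨⁅(⟨a, hQL ha⟩ : L), (⟨b, hBL hb⟩ : L)⁆, ?_, rfl⟩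
      show f ⁅(⟨a, hQL ha⟩ : L), (⟨b, hBL hb⟩ : L)⁆ ∈ centralizer (V : Set (L ⧸ K.subgroupOf L))
      rw [map_commutatorElement, commutatorElement_def]
      have hb' := hBV (mem_map_of_mem f (x := (⟨b, hBL hb⟩ : L)) (mem_subgroupOf.2 hb))
      refine mul_mem ?_ (inv_mem hb')
      exact (mem_normalizer_iff.1 (le_normalizer_centralizer_of_le
        (X := normalizer (V : Set (L ⧸ K.subgroupOf L))) le_rfl
        (hVn ⟨a, hQL ha⟩ (le_normalizer (hQR ha)))) _).1 hb'
    have hQB : B ≤ normalizer (Q : Set G) := (hAM r).trans hMQ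
    have hcopQB : (Nat.card B).Coprime (Nat.card Q) :=
      coprime_of_piSubgroup_primesNotDvd (fun t ht htB =>
        htB.trans (card_dvd_of_le ((hAM r).trans hM))) hQπ
    have hsolvB : Group.IsSolvable B := by
      haveI := (fitCenterPart_isPGroup H r).isNilpotent
      infer_instance
    have hQW : Q ≤ W := by
      rw [← Solvable.commutator_sup_centralizer hQB hcopQB (Or.inl hsolvB),
        hQH _ ((centralizer_le_normalizer _).trans
          (normalizer_fitCenterPart_of_maximal_local hH hHmax hrn).le), sup_bot_eq]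
      exact hcomm
    rw [le_centralizer_iff]
    rintro _ ⟨a, ha, rfl⟩
    obtain ⟨w, hw, hwa⟩ := hQW (mem_subgroupOf.1 ha)
    rw [← L.subtype_injective hwa]
    exact hw
  have hQC : Qb ≤ C := by
    rw [hC, le_centralizer_iff]
    refine le_of_components (fittingOf_isNilpotent Rb) fun s hs _ => ?_
    haveI := Fact.mk hs
    rw [piCoreOf_singleton_fittingOf]
    exact hcomp s hs
  have hQF : Qb ≤ Cfsg.fittingOf Rb :=
    (le_inf (map_mono (comap_mono hQR)) hQC).trans (inf_centralizer_fittingOf_le hsolb)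
  have hQbot : Qb ≤ Cfsg.piCoreOf π' Rb := fun v hv =>
    (le_piCoreOf ((piCoreOf_le _ _).trans (fittingOf_le Rb))
      ((le_normalizer_fittingOf Rb).trans (normalizer_le_normalizer_piCoreOf _ _))
      (piCoreOf_isPiSubgroup π' _))
      (mem_piCoreOf_of_nilpotent (fittingOf_isNilpotent Rb) (hQF hv) fun t ht htd =>
        (IsPiSubgroup.map (isPiSubgroup_of_dvd hQπ
          (dvd_of_eq (Nat.card_congr (subgroupOfEquivOfLe hQL).toEquiv))) f) t ht
            (htd.trans (orderOf_dvd_card_of_mem hv)))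
  intro x hx
  have := hQbot (mem_map_of_mem f (x := (⟨x, hQL hx⟩ : L)) (mem_subgroupOf.2 hx))
  rw [hcore, mem_bot] at this
  exact mem_subgroupOf.1 ((QuotientGroup.eq_one_iff _).1 this)

end CfsgLib.OddOrder
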