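import Cfsg.Agent.Lib.OddOrder.KappaBasic
import Cfsg.Agent.Lib.OddOrder.TypeP
import Cfsg.Agent.Lib.OddOrder.BenderInvariant
import Cfsg.Agent.Lib.OddOrder.FittingHallSigma

/-!
`M_F` inside a maximal subgroup: basic facts used for BG sections 15 and 16.
-/

set_option autoImplicit false
set_option maxHeartbeats 400000
set_option linter.style.haveILetI false

namespace CfsgLib.OddOrder

open Subgroup

variable {G : Type*} [Group G] [Finite G] {M : Subgroup G}

/-- `M_F` is nilpotent. -/
theorem fittingHallOf_isNilpotent (M : Subgroup G) :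
    Group.IsNilpotent (Cfsg.fittingHallOf M) := by
  haveI := Solvable.fittingSubgroup_isNilpotent M
  have hle : Cfsg.fittingHall M ≤ Cfsg.fittingSubgroup M :=
    sSup_le_sSup fun N hN => ⟨hN.1, hN.2.1⟩
  haveI : Group.IsNilpotent ↥(Cfsg.fittingHall M) :=
    Group.nilpotent_of_mulEquiv (subgroupOfEquivOfLe hle)
  exact Group.nilpotent_of_mulEquiv
    ((Cfsg.fittingHall M).equivMapOfInjective _ M.subtype_injective)

theorem le_normalizer_fittingHallOf (M : Subgroup G) :
    M ≤ normalizer (Cfsg.fittingHallOf M : Set G) := by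
  have := le_normalizer_map M.subtype (H := Cfsg.fittingHall M)
  rwa [normalizer_eq_top, ← MonoidHom.range_eq_map, range_subtype] at this

/-- A normal nilpotent Hall subgroup of `M` lies in `M_F`. -/
theorem le_fittingHallOf {N : Subgroup G} (hNM : N ≤ M) (hMN : M ≤ normalizer (N : Set G))
    (hN : Group.IsNilpotent N) (hco : (Nat.card N).Coprime (N.relIndex M)) :
    N ≤ Cfsg.fittingHallOf M := by
  rw [← map_subgroupOf_eq_of_le hNM]
  refine Subgroup.map_mono (le_sSup ⟨(normal_subgroupOf_iff_le_normalizer hNM).2 hMN, ?_, ?_⟩)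
  · haveI := hN
    exact Group.nilpotent_of_mulEquiv (subgroupOfEquivOfLe hNM).symm
  · rwa [Nat.card_congr (subgroupOfEquivOfLe hNM).toEquiv]

theorem fittingHallOf_coprime_relIndex (M : Subgroup G) :
    (Nat.card (Cfsg.fittingHallOf M)).Coprime ((Cfsg.fittingHallOf M).relIndex M) := by
  rw [Cfsg.fittingHallOf, card_map_of_injective M.subtype_injective, Subgroup.relIndex,
    ← comap_subtype, comap_map_eq_self_of_injective M.subtype_injective]
  exact TypeP.fittingHall_coprime M

theorem fittingHallOf_le_fittingOf (M : Subgroup G) :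
    Cfsg.fittingHallOf M ≤ Cfsg.fittingOf M :=
  le_fittingOf (TypeP.fittingHallOf_le M) (le_normalizer_fittingHallOf M)
    (fittingHallOf_isNilpotent M)

/-- An element of order prime to the index of a normal subgroup lies in it. -/
theorem mem_of_orderOf_coprime_relIndex {H : Subgroup G} (hMH : M ≤ normalizer (H : Set G))
    {x : G} (hx : x ∈ M) (hco : (orderOf x).Coprime (H.relIndex M)) : x ∈ H := by
  haveI : (H.subgroupOf M).Normal := normal_subgroupOf_of_le_normalizer hMH
  have h1 : orderOf (QuotientGroup.mk' (H.subgroupOf M) ⟨x, hx⟩) ∣ orderOf x := by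
    rw [← Subgroup.orderOf_mk x hx]
    exact orderOf_map_dvd _ _
  have h2 : orderOf (QuotientGroup.mk' (H.subgroupOf M) ⟨x, hx⟩) ∣ H.relIndex M := by
    rw [Subgroup.relIndex, Subgroup.index_eq_card]
    exact orderOf_dvd_natCard _
  have h3 := Nat.eq_one_of_dvd_coprimes hco h1 h2
  rw [orderOf_eq_one_iff, QuotientGroup.mk'_apply, QuotientGroup.eq_one_iff] at h3
  exact h3

/-- `M_F C_M(M_F)` contains `F(M)`. -/
theorem fittingOf_le_sup_centralizer (M : Subgroup G) :
    Cfsg.fittingOf M ≤
      (M ⊓ centralizer (Cfsg.fittingHallOf M : Set G)) ⊔ Cfsg.fittingHallOf M := by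
  set H := Cfsg.fittingHallOf M with hH
  set F := Cfsg.fittingOf M with hF
  set π : Set ℕ := {q | q.Prime ∧ q ∣ Nat.card H} with hπ
  have hHM : H ≤ M := TypeP.fittingHallOf_le M
  have hFM : F ≤ M := fittingOf_le M
  have hFn : Group.IsNilpotent F := fittingOf_isNilpotent M
  have hHF : H ≤ F := fittingHallOf_le_fittingOf M
  refine (le_sup_piCoreOf_of_nilpotent hFn π).trans (sup_le ?_ ?_)
  · refine le_sup_of_le_right fun x hx => ?_
    refine mem_of_orderOf_coprime_relIndex (le_normalizer_fittingHallOf M)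
      (hFM (piCoreOf_le _ _ hx)) (Nat.coprime_of_dvd fun s hs hsx hsi => ?_)
    have hsπ := piCoreOf_isPiSubgroup π F s hs (hsx.trans (orderOf_dvd_card_of_mem hx))
    exact hs.not_dvd_one ((fittingHallOf_coprime_relIndex M) ▸ Nat.dvd_gcd hsπ.2 hsi)
  · refine le_sup_of_le_left (le_inf ((piCoreOf_le _ _).trans hFM) ?_)
    refine commute_of_normalize_disjoint
      ((piCoreOf_le _ _).trans (hFM.trans (le_normalizer_fittingHallOf M)))
      (hHF.trans (le_normalizer_piCoreOf _ _)) ?_
    exact disjoint_of_isPiSubgroup (piCoreOf_isPiSubgroup _ F)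
      (fun q hq hd => (⟨hq, hd⟩ : q ∈ π)) fun s hs hsπ _ => hs.2 hsπ

variable (hG : Cfsg.IsMinSimpleOddOrder G) (hM : IsCoatom M)

include hG hM

/-- `M_σ ≤ M'`. -/
theorem sigmaCore_le_commutator : Cfsg.sigmaCore M ≤ ⁅M, M⁆ := by
  intro x hx
  refine mem_of_forall_exists_pow_mem (orderOf_pos x) fun s hs hsd => ?_
  haveI := Fact.mk hs
  set n := orderOf x
  have hxM : x ∈ M := piCoreOf_le _ M hx
  have hsσ : s ∈ Cfsg.sigma M :=
    piCoreOf_isPiSubgroup _ M s hs (hsd.trans (orderOf_dvd_card_of_mem hx))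
  refine ⟨n / s ^ n.factorization s, Nat.not_dvd_ordCompl hs (orderOf_pos x).ne', ?_⟩
  set y := x ^ (n / s ^ n.factorization s)
  have hord : orderOf y = s ^ n.factorization s :=
    orderOf_pow_orderOf_div (orderOf_pos x).ne' (Nat.ordProj_dvd n s)
  obtain ⟨T, hT, hyT⟩ := exists_isMaxPIn_ge (p := s) (X := M) (B := zpowers y)
    (zpowers_le.2 (pow_mem hxM _)) (IsPGroup.of_card (n := n.factorization s)
      (by rw [Nat.card_zpowers, hord]))
  exact le_commutator_of_sigma hG hM hsσ hT (hyT (mem_zpowers y))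

theorem commutator_lt : ⁅M, M⁆ < M := by
  refine lt_of_le_of_ne (commutator_le_self M) fun h => ?_
  haveI := isSolvable_of_ne_top hG hM.1
  have hM1 : M ≠ ⊥ := fun hb => sigmaCore_ne_bot hG hM
    (le_bot_iff.1 ((piCoreOf_le _ M).trans hb.le))
  have hc : commutator M = ⊤ := by
    apply Subgroup.map_injective M.subtype_injective
    rw [_root_.commutator_def, map_commutator, ← MonoidHom.range_eq_map, range_subtype, h]
  haveI : Nontrivial M := (nontrivial_iff_ne_bot M).2 hM1
  exact (IsSolvable.commutator_lt_top_of_nontrivial M).ne hc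

end CfsgLib.OddOrder
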