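import Cfsg.Agent.Lib.OddOrder.KappaBasic
import Cfsg.Agent.Lib.OddOrder.CoprimeAbelianization
import Cfsg.Agent.Lib.Solvable.CoprimeAction

/-!
BG 15.1: `M' = U M_σ` and `C_{M_σ}(K) ≤ M''` when `κ(M)` is nonempty.
-/

set_option autoImplicit false
set_option linter.style.haveILetI false

open scoped commutatorElement

namespace CfsgLib.OddOrder

open Subgroup

variable {G : Type*} [Group G] [Finite G]

omit [Finite G] in
/-- If `X = D K` is solvable with `K` abelian and `D ≤ X'`, and `N ≥ [D, K]` is normal, then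
`D ≤ N`. -/
theorem le_of_commutator_le_of_abelian_top {X D K N : Subgroup G} (hXs : Group.IsSolvable X)
    (hDX : D ≤ X) (hKX : K ≤ X) (hX : ∀ x ∈ X, ∃ d ∈ D, ∃ k ∈ K, x = d * k)
    (hKab : ∀ a ∈ K, ∀ b ∈ K, a * b = b * a) (hDd : D ≤ ⁅X, X⁆)
    (hN : X ≤ normalizer (N : Set G)) (hNX : N ≤ X) (hDK : ⁅D, K⁆ ≤ N) : D ≤ N := by
  haveI := hXs
  haveI : (N.subgroupOf X).Normal := normal_subgroupOf_of_le_normalizer hN
  set π := QuotientGroup.mk' (N.subgroupOf X)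
  set Db := (D.subgroupOf X).map π
  haveI : Group.IsSolvable (X ⧸ N.subgroupOf X) :=
    Group.isSolvable_of_surjective (QuotientGroup.mk'_surjective _)
  have hcomm : ∀ d, ∀ hd : d ∈ D, ∀ k, ∀ hk : k ∈ K,
      π ⟨d, hDX hd⟩ * π ⟨k, hKX hk⟩ = π ⟨k, hKX hk⟩ * π ⟨d, hDX hd⟩ := by
    intro d hd k hk
    rw [← commutatorElement_eq_one_iff_mul_comm, ← map_commutatorElement]
    exact (QuotientGroup.eq_one_iff _).2 (mem_subgroupOf.2 (hDK (commutator_mem_commutator hd hk)))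
  have hle : commutator (X ⧸ N.subgroupOf X) ≤ ⁅Db, Db⁆ := by
    rw [_root_.commutator_def, commutator_le]
    intro a _ b _
    obtain ⟨⟨x, hx⟩, rfl⟩ := QuotientGroup.mk'_surjective _ a
    obtain ⟨⟨y, hy⟩, rfl⟩ := QuotientGroup.mk'_surjective _ b
    obtain ⟨d, hd, k, hk, rfl⟩ := hX x hx
    obtain ⟨d', hd', k', hk', rfl⟩ := hX y hy
    have c1 : Commute (π ⟨d, hDX hd⟩) (π ⟨k', hKX hk'⟩) := hcomm d hd k' hk'
    have c2 : Commute (π ⟨d', hDX hd'⟩) (π ⟨k, hKX hk⟩) := hcomm d' hd' k hk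
    have c3 : Commute (π ⟨k, hKX hk⟩) (π ⟨k', hKX hk'⟩) := by
      have h := congrArg π (show (⟨k, hKX hk⟩ : X) * ⟨k', hKX hk'⟩ = ⟨k', hKX hk'⟩ * ⟨k, hKX hk⟩ from
        Subtype.ext (hKab k hk k' hk'))
      rwa [map_mul, map_mul] at h
    have c4 : Commute (π ⟨d, hDX hd⟩) (π ⟨k, hKX hk⟩) := hcomm d hd k hk
    have c5 : Commute (π ⟨d', hDX hd'⟩) (π ⟨k', hKX hk'⟩) := hcomm d' hd' k' hk'
    have e : ⁅π (⟨d * k, hx⟩ : X), π (⟨d' * k', hy⟩ : X)⁆ =
        ⁅π ⟨d, hDX hd⟩, π ⟨d', hDX hd'⟩⁆ := by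
      rw [show (⟨d * k, hx⟩ : X) = ⟨d, hDX hd⟩ * ⟨k, hKX hk⟩ from rfl,
        show (⟨d' * k', hy⟩ : X) = ⟨d', hDX hd'⟩ * ⟨k', hKX hk'⟩ from rfl, map_mul, map_mul,
        commutatorElement_def, commutatorElement_def]
      generalize π ⟨d, hDX hd⟩ = A at c1 c4
      generalize π ⟨d', hDX hd'⟩ = B at c2 c5
      generalize π ⟨k, hKX hk⟩ = k₁ at c2 c3 c4
      generalize π ⟨k', hKX hk'⟩ = k₂ at c1 c3 c5
      calc A * k₁ * (B * k₂) * (A * k₁)⁻¹ * (B * k₂)⁻¹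
          = A * (k₁ * B) * k₂ * k₁⁻¹ * A⁻¹ * k₂⁻¹ * B⁻¹ := by group
        _ = A * B * (k₁ * k₂) * k₁⁻¹ * A⁻¹ * k₂⁻¹ * B⁻¹ := by rw [← c2.eq]; group
        _ = A * B * (k₂ * A⁻¹) * k₂⁻¹ * B⁻¹ := by rw [c3.eq]; group
        _ = A * B * A⁻¹ * B⁻¹ := by rw [← c1.inv_left.eq]; group
    rw [e]
    exact commutator_mem_commutator (mem_map_of_mem π (mem_subgroupOf.2 hd))
      (mem_map_of_mem π (mem_subgroupOf.2 hd'))
  have hDb : Db ≤ commutator (X ⧸ N.subgroupOf X) := by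
    rintro _ ⟨⟨x, hx⟩, hxD, rfl⟩
    have h1 : (⟨x, hx⟩ : X) ∈ commutator X := by
      have h2 := hDd (mem_subgroupOf.1 hxD)
      rw [← map_subtype_commutator] at h2
      obtain ⟨z, hz, hzx⟩ := h2
      rwa [show (⟨x, hx⟩ : X) = z from Subtype.ext hzx.symm]
    have h3 := mem_map_of_mem π h1
    rw [_root_.commutator_def, map_commutator] at h3
    exact commutator_mono le_top le_top h3
  have hbot : Db = ⊥ := by
    by_contra h
    exact (Group.IsSolvable.commutator_lt_of_ne_bot h).not_ge (hDb.trans hle)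
  intro d hd
  have h1 : π ⟨d, hDX hd⟩ ∈ Db := mem_map_of_mem π (mem_subgroupOf.2 hd)
  rw [hbot, mem_bot] at h1
  exact mem_subgroupOf.1 ((QuotientGroup.eq_one_iff _).1 h1)

variable (hG : Cfsg.IsMinSimpleOddOrder G) {M K U : Subgroup G} (hM : IsCoatom M)
  (hKU : Cfsg.IsSigmaDecomposition M K U)
include hG hM hKU

theorem decomposition_coprime :
    (Nat.card K).Coprime (Nat.card ↥(U ⊔ Cfsg.sigmaCore M)) := by
  have hn : U ≤ normalizer ((Cfsg.sigmaCore M : Subgroup G) : Set G) :=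
    (decomposition_le hKU).2.trans (le_normalizer_piCoreOf (Cfsg.sigma M) M)
  rw [sup_comm]
  refine Nat.Coprime.coprime_dvd_right (card_sup_dvd_mul_of_le_normalizer hn) ?_
  refine Nat.coprime_of_dvd fun q hq h1 h2 => ?_
  rcases hq.dvd_mul.1 h2 with h | h
  · exact kappa_not_sigma (hKU.hall.2.1 q hq h1) (sigma_of_dvd_sigmaCore hq h)
  · exact (decomposition_U_primes hG hM hKU hq h).2 (hKU.hall.2.1 q hq h1)

/-- BG 15.1 (b). -/
theorem derived_eq_of_kappa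
    (hWn : M ≤ normalizer ((U ⊔ Cfsg.sigmaCore M : Subgroup G) : Set G))
    (hfix : U ⊓ centralizer (K : Set G) = ⊥) :
    ⁅M, M⁆ = U ⊔ Cfsg.sigmaCore M ∧
      (Cfsg.sigmaCore M ⊓ centralizer (K : Set G)) ≤ ⁅⁅M, M⁆, ⁅M, M⁆⁆ := by
  obtain ⟨hKM, hUM⟩ := decomposition_le hKU
  set W := U ⊔ Cfsg.sigmaCore M with hW
  have hSM : Cfsg.sigmaCore M ≤ M := piCoreOf_le _ _
  have hWM : W ≤ M := sup_le hUM hSM
  have hKW : K ≤ normalizer (W : Set G) := hKM.trans hWn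
  have hKab : ∀ a ∈ K, ∀ b ∈ K, a * b = b * a := fun a ha b hb => by
    haveI := hKU.cyclic
    letI : CommGroup K := IsCyclic.commGroup
    exact congrArg Subtype.val (mul_comm (⟨a, ha⟩ : K) ⟨b, hb⟩)
  have hfac : ∀ m ∈ M, ∃ w ∈ W, ∃ k ∈ K, m = w * k := fun m hm => by
    obtain ⟨u, hu, t, ht, rfl⟩ := hKU.compl.2.2.2 m hm
    have h : u * t ∈ W ⊔ K := mul_mem (mem_sup_left (mem_sup_left hu))
      ((sup_le le_sup_right (le_sup_of_le_left le_sup_right) : K ⊔ Cfsg.sigmaCore M ≤ W ⊔ K) ht)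
    obtain ⟨w, hw, k, hk, e⟩ := (Solvable.mem_sup_of_le_normalizer hKW).1 h
    exact ⟨w, hw, k, hk, e.symm⟩
  have hco := decomposition_coprime hG hM hKU
  haveI hMs : Group.IsSolvable M := isSolvable_of_ne_top hG hM.1
  have hd : ⁅M, M⁆ = W := by
    refine le_antisymm (commutator_le.2 fun a ha b hb => ?_) (sup_le ?_ ?_)
    · obtain ⟨w, hw, k, hk, rfl⟩ := hfac a ha
      obtain ⟨w', hw', k', hk', rfl⟩ := hfac b hb
      have hn : ∀ j ∈ K, ∀ z ∈ W, j * z * j⁻¹ ∈ W := fun j hj z hz =>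
        (mem_normalizer_iff.1 (hKW hj) z).1 hz
      have e : ⁅w * k, w' * k'⁆ = w * (k * w' * k⁻¹) *
          ((k * k') * k⁻¹ * w⁻¹ * ((k * k') * k⁻¹)⁻¹) * (k * k' * k⁻¹ * k'⁻¹) * w'⁻¹ := by
        rw [commutatorElement_def]; group
      rw [e, hKab k hk k' hk', mul_inv_cancel_right, mul_inv_cancel, mul_one]
      exact mul_mem (mul_mem (mul_mem hw (hn k hk w' hw')) (hn k' hk' w⁻¹ (inv_mem hw)))
        (inv_mem hw')
    · have hUs : Group.IsSolvable U :=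
        Group.isSolvable_of_isSolvable_injective (Subgroup.inclusion_injective hUM)
      have h := Solvable.commutator_sup_centralizer hKU.normal
        (hco.coprime_dvd_right (card_dvd_of_le le_sup_left)) (Or.inr hUs)
      rw [hfix, sup_bot_eq] at h
      exact h.ge.trans (commutator_mono hUM hKM)
    · refine (Subgroup.map_mono (piCore_sigma_le_commutator hG hM)).trans ?_
      rw [map_subtype_commutator]
  refine ⟨hd, ?_⟩
  rw [hd]
  have hDK : ⁅W, K⁆ ≤ W := Solvable.commutator_le_of_normalizes hKW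
  have hSE : W ≤ ⁅W, K⁆ := le_of_commutator_le_of_abelian_top hMs hWM hKM hfac hKab hd.ge
    (fun m hm => by
      obtain ⟨w, hw, k, hk, rfl⟩ := hfac m hm
      exact mul_mem (Solvable.le_normalizer_commutator_left W K hw)
        (Solvable.le_normalizer_commutator_right W K hk))
    (hDK.trans hWM) le_rfl
  exact (inf_le_inf_right _ le_sup_right).trans
    (inf_centralizer_le_commutator_of_coprime hKW hco hSE)

end CfsgLib.OddOrder
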