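import Cfsg.Prelude.Def_OddOrderLocal
import Cfsg.Agent.Lib.Solvable.Basic
import Mathlib.GroupTheory.SchurZassenhaus

/-!
Schur–Zassenhaus inside a subgroup, in the form `Cfsg.IsComplIn`.
-/

set_option autoImplicit false
set_option linter.style.haveILetI false

namespace CfsgLib.OddOrder

open Subgroup

variable {G : Type*} [Group G]

/-- A subgroup `N` normal in `S` of order prime to its index has a complement in `S`. -/
theorem exists_isComplIn_of_coprime {N S : Subgroup G} (hNS : N ≤ S)
    (hSN : S ≤ normalizer (N : Set G)) (hco : (Nat.card N).Coprime (N.relIndex S)) :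
    ∃ D : Subgroup G, Cfsg.IsComplIn N D S := by
  haveI : (N.subgroupOf S).Normal := normal_subgroupOf_of_le_normalizer hSN
  obtain ⟨C, hC⟩ := exists_right_complement'_of_coprime (N := N.subgroupOf S)
    (by rw [Nat.card_congr (subgroupOfEquivOfLe hNS).toEquiv]; exact hco)
  refine ⟨C.map S.subtype, hNS, map_subtype_le _, ?_, fun s hs => ?_⟩
  · rw [← map_subgroupOf_eq_of_le hNS, ← map_inf _ _ _ S.subtype_injective, hC.disjoint.eq_bot,
      Subgroup.map_bot]
  · obtain ⟨⟨n, c⟩, hnc⟩ := hC.2 ⟨s, hs⟩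
    exact ⟨_, n.2, _, ⟨c, c.2, rfl⟩, (congrArg Subtype.val hnc).symm⟩

end CfsgLib.OddOrder
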