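import Cfsg.Agent.Lib.OddOrder.Stable
import Cfsg.Agent.Lib.PLocal.Families
import Cfsg.Agent.Lib.PLocal.SylowAux
import Cfsg.Agent.Lib.PLocal.Constrained
import Cfsg.Agent.Lib.PGroup.Basic

/-!
Glauberman's ZJ theorem for groups of odd order, for the intersection `interMaxAb e S` of the
abelian subgroups of exponent dividing `e` of largest order (`e = 0`: `Z(J(S))`).
-/

set_option autoImplicit false
set_option linter.style.haveILetI false

open scoped commutatorElement

namespace CfsgLib.OddOrder

open Subgroup PLoc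

variable {X : Type*} [Group X]

/-- Families of abelian subgroups of largest order transport along injective homomorphisms. -/
theorem isMaxAb_map {Y : Type*} [Group Y] {f : Y →* X} (hf : Function.Injective f) {e : ℕ}
    {D A : Subgroup Y} (hA : IsMaxAb e D A) : IsMaxAb e (D.map f) (A.map f) := by
  haveI := hA.comm
  refine ⟨map_mono hA.le, map_isMulCommutative A (f := f), ?_, fun B hB hBc hBe => ?_⟩
  · rintro _ ⟨a, ha, rfl⟩
    rw [← map_pow, hA.exp a ha, map_one]
  · haveI := hBc
    have h1 : Nat.card (B.comap f) = Nat.card B := by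
      refine (Subgroup.card_map_of_injective (K := B.comap f) hf).symm.trans ?_
      rw [map_comap_eq_self (hB.trans (map_le_range f D))]
    rw [Subgroup.card_map_of_injective hf, ← h1]
    refine hA.max _ (fun y hy => ?_) ?_ (fun y hy => hf (by rw [map_pow, hBe _ hy, map_one]))
    · obtain ⟨z, hz, hzy⟩ := hB hy
      exact hf hzy ▸ hz
    · refine le_centralizer_iff_isMulCommutative.1 fun y hy z hz => hf ?_
      rw [map_mul, map_mul]
      exact mem_centralizer_iff.1 (le_centralizer_iff_isMulCommutative.2 hBc hy) _ hz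

theorem exists_isMaxAb_eq_map [Finite X] {Y : Type*} [Group Y] [Finite Y] {f : Y →* X}
    (hf : Function.Injective f) {e : ℕ} {D : Subgroup Y} {B : Subgroup X}
    (hB : IsMaxAb e (D.map f) B) : ∃ A, IsMaxAb e D A ∧ A.map f = B := by
  haveI := hB.comm
  have hBf : (B.comap f).map f = B := map_comap_eq_self (hB.le.trans (map_le_range f D))
  obtain ⟨A0, hA0⟩ := exists_isMaxAb e D
  refine ⟨B.comap f, ⟨fun y hy => ?_, ?_, fun y hy => hf (by rw [map_pow, hB.exp _ hy, map_one]),
    fun C hC hCc hCe => ?_⟩, hBf⟩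
  · obtain ⟨z, hz, hzy⟩ := hB.le hy
    exact hf hzy ▸ hz
  · refine le_centralizer_iff_isMulCommutative.1 fun y hy z hz => hf ?_
    rw [map_mul, map_mul]
    exact mem_centralizer_iff.1 (le_centralizer_iff_isMulCommutative.2 hB.comm hy) _ hz
  · haveI := hCc
    rw [← Subgroup.card_map_of_injective hf, ← Subgroup.card_map_of_injective hf (K := B.comap f),
      hBf]
    refine hB.max _ (map_mono hC) (map_isMulCommutative C (f := f)) ?_
    rintro _ ⟨c, hc, rfl⟩
    rw [← map_pow, hCe c hc, map_one]

theorem interMaxAb_map [Finite X] {Y : Type*} [Group Y] [Finite Y] {f : Y →* X}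
    (hf : Function.Injective f) (e : ℕ) (D : Subgroup Y) :
    interMaxAb e (D.map f) = (interMaxAb e D).map f := by
  refine le_antisymm (fun x hx => ?_) ?_
  · obtain ⟨A, hA⟩ := exists_isMaxAb e D
    obtain ⟨y, -, rfl⟩ := interMaxAb_le (isMaxAb_map hf hA) hx
    refine ⟨y, mem_sInf.2 fun A' hA' => ?_, rfl⟩
    obtain ⟨y', hy', hyy⟩ := interMaxAb_le (isMaxAb_map hf hA') hx
    exact hf hyy ▸ hy'
  · rintro _ ⟨y, hy, rfl⟩
    refine mem_sInf.2 fun B hB => ?_
    obtain ⟨A, hA, rfl⟩ := exists_isMaxAb_eq_map hf hB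
    exact mem_map_of_mem f (interMaxAb_le hA hy)

theorem interMaxAb_le_self [Finite X] (e : ℕ) (D : Subgroup X) : interMaxAb e D ≤ D := by
  obtain ⟨A, hA⟩ := exists_isMaxAb e D
  exact (interMaxAb_le hA).trans hA.le

theorem interMaxAb_comm [Finite X] {e : ℕ} {D : Subgroup X} {x y : X} (hx : x ∈ interMaxAb e D)
    (hy : y ∈ interMaxAb e D) : x * y = y * x := by
  obtain ⟨A, hA⟩ := exists_isMaxAb e D
  exact mem_centralizer_iff.1 (le_centralizer_iff_isMulCommutative.2 hA.comm (interMaxAb_le hA hy))
    x (interMaxAb_le hA hx)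

theorem normalizer_le_normalizer_interMaxAb [Finite X] (e : ℕ) (D : Subgroup X) :
    normalizer (D : Set X) ≤ normalizer (interMaxAb e D : Set X) := by
  intro g hg
  refine mem_normalizer_fintype fun z hz => ?_
  have hD : D.map (MulAut.conj g).toMonoidHom = D := by
    refine le_antisymm ?_ fun x hx => ⟨g⁻¹ * x * g, (mem_normalizer_iff''.1 hg x).1 hx, by
      simp [mul_assoc]⟩
    rintro _ ⟨x, hx, rfl⟩
    exact (mem_normalizer_iff.1 hg x).1 hx
  have h := interMaxAb_map (f := (MulAut.conj g).toMonoidHom) (MulAut.conj g).injective e D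
  rw [show (D.map (MulAut.conj g).toMonoidHom) = D from hD] at h
  rw [SetLike.mem_coe, h]
  exact ⟨z, hz, rfl⟩

/-- Larger domains have smaller intersections, provided they share a member. -/
theorem isMaxAb_of_subset {e : ℕ} {D E A B : Subgroup X} (hED : E ≤ D) (hA : IsMaxAb e D A)
    (hAE : A ≤ E) (hB : IsMaxAb e E B) : IsMaxAb e D B :=
  ⟨hB.le.trans hED, hB.comm, hB.exp, fun C hC hc hce =>
    (hA.max C hC hc hce).trans (hB.max A hAE hA.comm hA.exp)⟩

/-- The central elements of `D` of exponent dividing `e` lie in the intersection. -/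
theorem mem_interMaxAb_of_center [Finite X] {e : ℕ} {D : Subgroup X} {x : X} (hxD : x ∈ D)
    (hxe : x ^ e = 1) (hx : ∀ d ∈ D, d * x = x * d) : x ∈ interMaxAb e D :=
  mem_sInf.2 fun _ hA => mem_of_commute hA hxD hxe fun a ha => hx a (hA.le ha)

theorem interMaxAb_zero_ne_bot [Finite X] {p : ℕ} [Fact p.Prime] {D : Subgroup X}
    (hD : IsPGroup p D) (hne : D ≠ ⊥) : interMaxAb 0 D ≠ ⊥ := by
  intro h
  haveI : Nontrivial D := (nontrivial_iff_ne_bot D).2 hne
  haveI := hD.center_nontrivial
  obtain ⟨z, hz⟩ := exists_ne (1 : center D)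
  have : ((z : D) : X) ∈ interMaxAb 0 D :=
    mem_interMaxAb_of_center (z : D).2 (pow_zero _) fun d hd =>
      congrArg Subtype.val (mem_center_iff.1 z.2 ⟨d, hd⟩)
  rw [h, mem_bot] at this
  exact hz (Subtype.ext (Subtype.ext this))

variable [Finite X] {p : ℕ} [hp : Fact p.Prime]

/-- The replacement step, inside a `p`-subgroup `S`. -/
theorem replacement_step_of_le (hp2 : p ≠ 2) {S B A : Subgroup X} (hS : IsPGroup p S) {e : ℕ}
    (hBS : B ≤ S) (hSB : S ≤ normalizer (B : Set X)) (hA : IsMaxAb e S A) (hBA : ⁅B, B⁆ ≤ A)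
    (hnot : ¬ B ≤ normalizer (A : Set X)) :
    ∃ A', IsMaxAb e S A' ∧ ¬ B ≤ A' ∧ Nat.card ↥(A ⊓ B) < Nat.card ↥(A' ⊓ B) := by
  have hinj := S.subtype_injective
  have htop : (⊤ : Subgroup S).map S.subtype = S := by
    rw [← MonoidHom.range_eq_map, range_subtype]
  rw [← htop] at hA
  obtain ⟨A0, hA0, rfl⟩ := exists_isMaxAb_eq_map hinj hA
  haveI : (B.subgroupOf S).Normal := normal_subgroupOf_of_le_normalizer hSB
  have hBeq : (B.subgroupOf S).map S.subtype = B := map_subgroupOf_eq_of_le hBS
  obtain ⟨A', hA', -, hnB, hlt⟩ := PLoc.replacement_step hS hp2 (B := B.subgroupOf S) hA0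
    (by
      rw [commutator_le]
      intro u hu v hv
      obtain ⟨w, hw, hwv⟩ := hBA (commutator_mem_commutator (mem_subgroupOf.1 hu) (mem_subgroupOf.1 hv))
      have : w = ⁅u, v⁆ := hinj (hwv.trans (map_commutatorElement S.subtype u v).symm)
      exact this ▸ hw)
    (fun hn => hnot (by
      rw [← hBeq]
      exact (map_mono hn).trans (le_normalizer_map _)))
  refine ⟨A'.map S.subtype, by have h := isMaxAb_map hinj hA'; rwa [htop] at h, fun hle => hnB ?_, ?_⟩
  · rw [← hBeq] at hle
    exact (map_le_map_iff_of_injective hinj).1 hle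
  · rw [← hBeq, ← map_inf _ _ _ hinj, ← map_inf _ _ _ hinj, Subgroup.card_map_of_injective hinj,
      Subgroup.card_map_of_injective hinj]
    exact (Subgroup.card_le_of_le hlt.le).lt_of_ne fun he =>
      hlt.ne (Subgroup.eq_of_le_of_card_ge hlt.le he.ge)

/-- Gorenstein 8.2.10 for odd order: `Z ∩ B` is normal for every normal `p`-subgroup `B`. -/
theorem interMaxAb_inf_normal (hodd : Odd (Nat.card X)) (hp2 : p ≠ 2) (S : Sylow p X) (e : ℕ) :
    ∀ B : Subgroup X, B.Normal → IsPGroup p B →
      (interMaxAb e (S : Subgroup X) ⊓ B).Normal := by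
  intro B
  induction hn : Nat.card B using Nat.strong_induction_on generalizing B with
  | _ n ih =>
    intro hBn hBp
    subst hn
    haveI := hBn
    set Z := interMaxAb e (S : Subgroup X) with hZ
    have hBS : B ≤ S := (Solvable.le_pCore hBn hBp).trans (Solvable.pCore_le_sylow S)
    have hSB : (S : Subgroup X) ≤ normalizer (B : Set X) := by
      rw [normalizer_eq_top B]; exact le_top
    have hSZ : (S : Subgroup X) ≤ normalizer (Z : Set X) :=
      le_normalizer.trans (normalizer_le_normalizer_interMaxAb e _)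
    by_cases hB0 : B = ⊥
    · rw [hB0, inf_bot_eq]; infer_instance
    set Z0 := Z ⊓ B with hZ0
    set B1 := normalClosure (Z0 : Set X) with hB1
    have hB1B : B1 ≤ B := normalClosure_le_normal inf_le_right
    by_cases hB1eq : B1 = B
    swap
    · have hlt : Nat.card B1 < Nat.card B := (Subgroup.card_le_of_le hB1B).lt_of_ne fun he =>
        hB1eq (Subgroup.eq_of_le_of_card_ge hB1B he.ge)
      have := ih _ hlt B1 rfl normalClosure_normal (hBp.to_le hB1B)
      have e1 : Z ⊓ B1 = Z0 := le_antisymm (inf_le_inf_left _ hB1B)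
        (le_inf inf_le_left subset_normalClosure)
      rwa [e1] at this
    -- the derived subgroup of `B` lies in `Z`
    have hBB : ⁅B, B⁆ ≤ B := commutator_le_self B
    have hlt : Nat.card ↥⁅B, B⁆ < Nat.card B := (Subgroup.card_le_of_le hBB).lt_of_ne fun he => by
      have h1 : ⁅B, B⁆ = B := Subgroup.eq_of_le_of_card_ge hBB he.ge
      haveI : Group.IsNilpotent B := hBp.isNilpotent
      haveI : Nontrivial B := (nontrivial_iff_ne_bot B).2 hB0
      refine (Group.IsSolvable.commutator_lt_top_of_nontrivial B).ne (map_injective B.subtype_injective ?_)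
      rw [map_subtype_commutator, h1, ← MonoidHom.range_eq_map, range_subtype]
    haveI hWn := ih _ hlt ⁅B, B⁆ rfl inferInstance (hBp.to_le hBB)
    set W := Z ⊓ ⁅B, B⁆ with hW
    have hB'Z : ⁅B, B⁆ ≤ W := by
      set f := QuotientGroup.mk' W
      have hfs : Function.Surjective f := QuotientGroup.mk'_surjective _
      haveI : (B.map f).Normal := Subgroup.Normal.map inferInstance f hfs
      have hcz : B1 ≤ (centralizer (B.map f : Set (X ⧸ W))).comap f := by
        refine normalClosure_le_normal fun z hz => ?_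
        rintro _ ⟨b, hb, rfl⟩
        show f b * f z = f z * f b
        rw [← map_mul, ← map_mul]
        refine QuotientGroup.eq.2 ?_
        have h1 : (b * z)⁻¹ * (z * b) = ⁅z⁻¹, b⁻¹⁆ := by simp [commutatorElement_def, mul_assoc]
        rw [h1]
        refine mem_inf.2 ⟨?_, commutator_mem_commutator (inv_mem hz.2) (inv_mem hb)⟩
        rw [commutatorElement_def, mul_assoc, mul_assoc]
        refine mul_mem (inv_mem (show z ∈ Z from hz.1)) ?_
        rw [inv_inv, inv_inv, ← mul_assoc]
        simpa using (mem_normalizer_iff.1 (hSZ (hBS (inv_mem hb))) z).1 hz.1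
      rw [hB1eq] at hcz
      rw [commutator_le]
      intro u hu v hv
      rw [← QuotientGroup.eq_one_iff (N := W)]
      show f ⁅u, v⁆ = 1
      rw [map_commutatorElement, commutatorElement_eq_one_iff_mul_comm]
      exact (mem_centralizer_iff.1 (hcz hu) _ ⟨v, hv, rfl⟩).symm
    have hB'Z' : ⁅B, B⁆ ≤ Z := hB'Z.trans inf_le_left
    -- the largest normal subgroup normalising `Z0`
    set L := normalCore (normalizer (Z0 : Set X)) with hL
    haveI hLn : L.Normal := normalCore_normal _
    have hLZ : L ≤ normalizer (Z0 : Set X) := normalCore_le _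
    have hSZ0 : (S : Subgroup X) ≤ normalizer (Z0 : Set X) :=
      (le_inf hSZ hSB).trans inf_normalizer_le_normalizer_inf
    set X0 := (S : Subgroup X) ⊓ L with hX0
    have hfr : L ⊔ normalizer (X0 : Set X) = ⊤ := PLocal.frattini_inf S L
    have hsub : ∀ A, IsMaxAb e (S : Subgroup X) A → A ≤ L → ∀ C, IsMaxAb e X0 C →
        IsMaxAb e (S : Subgroup X) C := fun A hA hAL C hC =>
      isMaxAb_of_subset inf_le_left hA (le_inf hA.le hAL) hC
    by_cases hall : ∀ A, IsMaxAb e (S : Subgroup X) A → A ≤ L
    · obtain ⟨A, hA⟩ := exists_isMaxAb e (S : Subgroup X)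
      have hZeq : interMaxAb e X0 = Z := by
        refine le_antisymm (le_sInf fun C hC => interMaxAb_le ?_)
          (le_sInf fun C hC => interMaxAb_le (hsub A hA (hall A hA) C hC))
        exact ⟨le_inf hC.le (hall C hC), hC.comm, hC.exp,
          fun E hE hEc hEe => hC.max E (hE.trans inf_le_left) hEc hEe⟩
      have : normalizer (X0 : Set X) ≤ normalizer (Z0 : Set X) := by
        refine le_trans ?_ inf_normalizer_le_normalizer_inf
        refine le_inf ?_ (by rw [normalizer_eq_top B]; exact le_top)
        have h := normalizer_le_normalizer_interMaxAb e X0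
        rwa [hZeq] at h
      rw [← normalizer_eq_top_iff, eq_top_iff, ← hfr]
      exact sup_le hLZ this
    · exfalso
      push Not at hall
      obtain ⟨A, ⟨hA, hAL⟩, hmax⟩ := Set.exists_max_image
        {A | IsMaxAb e (S : Subgroup X) A ∧ ¬ A ≤ L} (fun A => Nat.card ↥(A ⊓ B)) (Set.toFinite _) hall
      have hZA : Z ≤ A := interMaxAb_le hA
      by_cases hBA : B ≤ normalizer (A : Set X)
      · -- `A` acts quadratically, so lies in `L`
        set C := centralizer (B : Set X) with hC
        set K := (Cfsg.pCore p (X ⧸ C)).comap (QuotientGroup.mk' C) with hK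
        haveI hKn : K.Normal := (Solvable.pCore_normal p _).comap _
        have hKS : K ≤ (S : Subgroup X) ⊔ C := by
          intro x hx
          have h1 := Solvable.pCore_le_sylow (S.mapSurjective (QuotientGroup.mk'_surjective C)) hx
          rw [Sylow.coe_mapSurjective] at h1
          obtain ⟨s, hs, hsx⟩ := h1
          have : s⁻¹ * x ∈ C := QuotientGroup.eq.1 hsx
          rw [show x = s * (s⁻¹ * x) by group]
          exact mul_mem (mem_sup_left hs) (mem_sup_right this)
        have hKL : K ≤ L := by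
          rw [hL, normal_le_normalCore]
          refine hKS.trans (sup_le hSZ0 ?_)
          exact (centralizer_le inf_le_right).trans (centralizer_le_normalizer _)
        refine hAL fun a ha => hKL (quad_mk_mem_pCore hodd hp2 hBp fun b hb => ?_)
        have h1 : ⁅a, b⁆ ∈ A := by
          rw [commutatorElement_def, mul_assoc, mul_assoc, ← mul_assoc b]
          exact mul_mem ha ((mem_normalizer_iff.1 (hBA hb) _).1 (inv_mem ha))
        exact mem_centralizer_iff.1 (le_centralizer_iff_isMulCommutative.2 hA.comm h1) a ha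
      · obtain ⟨A', hA', hnB, hlt'⟩ := replacement_step_of_le hp2 S.2 hBS hSB hA
          (hB'Z'.trans hZA) hBA
        have hA'L : A' ≤ L := by
          by_contra h
          exact absurd (hmax A' ⟨hA', h⟩) (not_le.2 hlt')
        have hA'X : IsMaxAb e X0 A' := ⟨le_inf hA'.le hA'L, hA'.comm, hA'.exp,
          fun E hE hEc hEe => hA'.max E (hE.trans inf_le_left) hEc hEe⟩
        have hZ1 : Z ≤ interMaxAb e X0 :=
          le_sInf fun C hC => interMaxAb_le (hsub A' hA' hA'L C hC)
        apply hnB
        rw [← hB1eq]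
        refine le_trans ?_ (interMaxAb_le hA'X)
        refine (closure_le _).2 fun y hy => ?_
        obtain ⟨z, hz, hzy⟩ := Group.mem_conjugatesOfSet_iff.1 hy
        obtain ⟨g, rfl⟩ := isConj_iff.1 hzy
        have hg : g ∈ normalizer (X0 : Set X) ⊔ L := by rw [sup_comm, hfr]; exact mem_top g
        obtain ⟨u, hu, v, hv, rfl⟩ := mem_sup_of_normal_right.1 hg
        have hvz : v * z * v⁻¹ ∈ interMaxAb e X0 :=
          hZ1 ((mem_normalizer_iff.1 (hLZ hv) z).1 hz).1
        have := (mem_normalizer_iff.1 (normalizer_le_normalizer_interMaxAb e X0 hu) _).1 hvz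
        rw [SetLike.mem_coe, show u * v * z * (u * v)⁻¹ = u * (v * z * v⁻¹) * u⁻¹ by group]
        exact this

/-- **ZJ theorem** for groups of odd order. -/
theorem interMaxAb_normal (hodd : Odd (Nat.card X)) (hp2 : p ≠ 2)
    (hC : centralizer (Cfsg.pCore p X : Set X) ≤ Cfsg.pCore p X) (S : Sylow p X) (e : ℕ) :
    (interMaxAb e (S : Subgroup X)).Normal := by
  have hle : interMaxAb e (S : Subgroup X) ≤ Cfsg.pCore p X := by
    intro a ha
    refine mem_pCore_of_quad hodd hp2 hC fun b hb => interMaxAb_comm ha ?_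
    rw [commutatorElement_def, mul_assoc, mul_assoc, ← mul_assoc b]
    exact mul_mem ha ((mem_normalizer_iff.1 ((le_normalizer.trans
      (normalizer_le_normalizer_interMaxAb e _)) (Solvable.pCore_le_sylow S hb)) _).1 (inv_mem ha))
  have := interMaxAb_inf_normal hodd hp2 S e (Cfsg.pCore p X) (Solvable.pCore_normal p X)
    (Solvable.pCore_isPGroup p X)
  rwa [inf_eq_left.2 hle] at this

/-- `X = O_{p'}(X) N(Z)` for solvable groups of odd order. -/
theorem pPrimeCore_sup_normalizer_interMaxAb [Group.IsSolvable X] (hodd : Odd (Nat.card X))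
    (hp2 : p ≠ 2) (S : Sylow p X) (e : ℕ) :
    Cfsg.pPrimeCore p X ⊔ normalizer (interMaxAb e (S : Subgroup X) : Set X) = ⊤ := by
  set N := Cfsg.piCore (Cfsg.primesNotDvd p) X with hN
  set f := barHom X p with hf
  haveI : Group.IsSolvable (X ⧸ N) :=
    Group.isSolvable_of_surjective (QuotientGroup.mk'_surjective _)
  set S' := S.mapSurjective (barHom_surjective (Y := X) (p := p)) with hS'
  have hker : ∀ x ∈ (S : Subgroup X), f x = 1 → x = 1 := by
    intro x hx h1
    have h2 : x ∈ (S : Subgroup X) ⊓ f.ker := ⟨hx, h1⟩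
    rw [disjoint_of_pgroup_coprime S.2 barHom_ker_coprime] at h2
    exact mem_bot.1 h2
  have hinj : Function.Injective (f.comp (S : Subgroup X).subtype) := by
    intro u v huv
    have := hker _ (mul_mem u.2 (inv_mem v.2)) (by
      rw [map_mul, map_inv]; exact mul_inv_eq_one.2 huv)
    exact Subtype.ext (mul_inv_eq_one.1 this)
  have h1 : interMaxAb e (S' : Subgroup (X ⧸ N)) = (interMaxAb e (S : Subgroup X)).map f := by
    have e1 : (S' : Subgroup (X ⧸ N)) = (⊤ : Subgroup (S : Subgroup X)).map
        (f.comp (S : Subgroup X).subtype) := by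
      rw [← map_map, ← MonoidHom.range_eq_map, range_subtype]
      exact Sylow.coe_mapSurjective _ _
    have e2 : (S : Subgroup X) = (⊤ : Subgroup (S : Subgroup X)).map (S : Subgroup X).subtype := by
      rw [← MonoidHom.range_eq_map, range_subtype]
    rw [e1, interMaxAb_map hinj, ← map_map, ← interMaxAb_map (S : Subgroup X).subtype_injective,
      ← e2]
  have h2 : (interMaxAb e (S' : Subgroup (X ⧸ N))).Normal :=
    interMaxAb_normal (Odd.of_dvd_nat hodd (Subgroup.card_quotient_dvd_card N)) hp2
      centralizer_pCore_bar_le S' e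
  rw [h1, ← normalizer_eq_top_iff,
    PLoc.normalizer_map_eq barHom_surjective barHom_ker_coprime
      (S.2.to_le (interMaxAb_le_self e _))] at h2
  have h3 := congrArg (comap f) h2
  rw [comap_map_eq, comap_top, barHom_ker] at h3
  rwa [sup_comm]

end CfsgLib.OddOrder
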