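import Cfsg.Agent.Lib.OddOrder.Bender
import Cfsg.Agent.Lib.OddOrder.ZJ
import Cfsg.Agent.Lib.OddOrder.TransitivityCriteria
import Cfsg.Agent.Lib.PGroup.CyclicMaximal

/-!
Preliminaries for the uniqueness theorem (BG §8-9).
-/

set_option autoImplicit false
set_option linter.style.haveILetI false

namespace CfsgLib.OddOrder

open Subgroup

variable {G : Type*} [Group G] [Finite G] {p : ℕ} [hp : Fact p.Prime]

/-- A noncyclic `p`-group, `p` odd, has rank at least two. -/
theorem not_pRankLE_one_of_not_isCyclic (hp2 : p ≠ 2) {R : Type*} [Group R] [Finite R]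
    (hR : IsPGroup p R) (hnc : ¬ IsCyclic R) : ¬ Cfsg.PRankLE p 1 R := by
  intro hr
  by_cases hne : (⊤ : Subgroup R) = ⊥
  · haveI : Subsingleton R := by
      refine ⟨fun a b => ?_⟩
      have ha : a ∈ (⊥ : Subgroup R) := hne ▸ mem_top a
      have hb : b ∈ (⊥ : Subgroup R) := hne ▸ mem_top b
      rw [mem_bot.1 ha, mem_bot.1 hb]
    exact hnc isCyclic_of_subsingleton
  obtain ⟨z, -, hzc, hzo⟩ := PGroup.exists_central_orderOf_eq hR ⊤ hne
  have hz1 : z ≠ 1 := fun h => by
    rw [h, orderOf_one] at hzo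
    exact hp.out.ne_one hzo.symm
  have hall : ∀ y : R, y ^ p = 1 → y ∈ zpowers z := by
    intro y hy
    by_contra hyz
    haveI hcomm : IsMulCommutative (closure ({z, y} : Set R)) := isMulCommutative_closure (by
      intro u hu v hv
      simp only [Set.mem_insert_iff, Set.mem_singleton_iff] at hu hv
      rcases hu with rfl | rfl <;> rcases hv with rfl | rfl
      exacts [rfl, (mem_center_iff.1 hzc v).symm, mem_center_iff.1 hzc u, rfl])
    have hexp : ∀ a ∈ closure ({z, y} : Set R), a ^ p = 1 := by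
      intro a ha
      induction ha using closure_induction with
      | mem w hw =>
        simp only [Set.mem_insert_iff, Set.mem_singleton_iff] at hw
        rcases hw with rfl | rfl
        exacts [hzo ▸ pow_orderOf_eq_one w, hy]
      | one => exact one_pow p
      | mul u v hu hv ihu ihv =>
        rw [Commute.mul_pow (setLike_mul_comm (s := closure ({z, y} : Set R)) hu hv), ihu, ihv,
          one_mul]
      | inv u _ ih => rw [inv_pow, ih, inv_one]
    have hlt : zpowers z < closure ({z, y} : Set R) :=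
      lt_of_le_of_ne (zpowers_le.2 (subset_closure (by simp)))
        fun h => hyz (h ▸ subset_closure (by simp))
    have h1 := hr _ hcomm hexp
    rw [pow_one] at h1
    refine hlt.ne (Subgroup.eq_of_le_of_card_ge hlt.le ?_)
    rw [Nat.card_zpowers, hzo]
    exact h1
  refine hnc (PGroup.isCyclic_of_unique_order_prime hp2 hR fun x y hxp hx1 hyp => ?_)
  have hxz : zpowers x = zpowers z := Subgroup.eq_of_le_of_card_ge (zpowers_le.2 (hall x hxp))
    (by rw [Nat.card_zpowers, Nat.card_zpowers, hzo, orderOf_eq_prime hxp hx1])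
  rw [hxz]
  exact hall y hyp

omit hp in
/-- An elementary subgroup witnessing the failure of a rank bound. -/
theorem exists_elementary_of_not_pRankLE {k : ℕ} {X : Subgroup G} (h : ¬ Cfsg.PRankLE p k X) :
    ∃ E : Subgroup G, E ≤ X ∧ Cfsg.IsElementaryAbelian p E ∧ p ^ k < Nat.card E := by
  simp only [Cfsg.PRankLE] at h
  push Not at h
  obtain ⟨E, hEc, hEp, hE⟩ := h
  haveI := hEc
  refine ⟨E.map X.subtype, map_subtype_le _, ⟨map_isMulCommutative E (f := X.subtype), ?_⟩, ?_⟩
  · rintro _ ⟨x, hx, rfl⟩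
    rw [← map_pow, hEp x hx, map_one]
  · rwa [Subgroup.card_map_of_injective X.subtype_injective]

omit hp in
theorem not_pRankLE_of_elementary {k : ℕ} {E X : Subgroup G} (hEX : E ≤ X)
    (hE : Cfsg.IsElementaryAbelian p E) (hcard : p ^ k < Nat.card E) : ¬ Cfsg.PRankLE p k X := by
  intro h
  haveI := hE.1
  have h1 := h (E.subgroupOf X) inferInstance fun a ha => Subtype.ext (hE.2 _ (mem_subgroupOf.1 ha))
  rw [Nat.card_congr (subgroupOfEquivOfLe hEX).toEquiv] at h1
  omega

omit [Finite G] in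
theorem not_rankLE_of_not_pRankLE {k : ℕ} {X : Subgroup G} (h : ¬ Cfsg.PRankLE p k X) :
    ¬ Cfsg.RankLE k X := fun hr => h (hr p hp.out)

/-- An elementary abelian group of order `> p` is not cyclic. -/
theorem elementary_not_isCyclic {E : Subgroup G} (hE : Cfsg.IsElementaryAbelian p E)
    (hcard : p < Nat.card E) : ¬ IsCyclic E := by
  rintro ⟨g, hg⟩
  have h1 : Nat.card E = orderOf g :=
    (orderOf_eq_card_of_forall_mem_zpowers hg).symm
  have h2 : orderOf g ∣ p := orderOf_dvd_of_pow_eq_one (Subtype.ext (hE.2 g g.2))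
  have := Nat.le_of_dvd hp.out.pos h2
  omega

omit hp in
/-- `T` is a maximal `p`-subgroup of `X`. -/
structure IsMaxPIn (p : ℕ) (X T : Subgroup G) : Prop where
  le : T ≤ X
  pgroup : IsPGroup p T
  max : ∀ S : Subgroup G, IsPGroup p S → T ≤ S → S ≤ X → S = T

omit hp in
theorem exists_isMaxPIn_ge {X B : Subgroup G} (hBX : B ≤ X) (hB : IsPGroup p B) :
    ∃ T, IsMaxPIn p X T ∧ B ≤ T := by
  obtain ⟨T, hBT, hT⟩ := (Set.toFinite {S : Subgroup G | S ≤ X ∧ IsPGroup p S}).exists_le_maximal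
    (⟨hBX, hB⟩ : B ∈ {S : Subgroup G | S ≤ X ∧ IsPGroup p S})
  exact ⟨T, ⟨hT.prop.1, hT.prop.2, fun S hS hTS hSX => le_antisymm (hT.le_of_ge ⟨hSX, hS⟩ hTS) hTS⟩,
    hBT⟩

omit hp in
theorem IsMaxPIn.of_le {X Y T : Subgroup G} (h : IsMaxPIn p X T) (hYX : Y ≤ X) (hTY : T ≤ Y) :
    IsMaxPIn p Y T :=
  ⟨hTY, h.pgroup, fun S hS hTS hSY => h.max S hS hTS (hSY.trans hYX)⟩

theorem exists_gt_normalizer_of_not_max {X T : Subgroup G} (hTX : T ≤ X) (hT : IsPGroup p T)
    (h : ¬ IsMaxPIn p X T) :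
    ∃ S : Subgroup G, IsPGroup p S ∧ T < S ∧ S ≤ X ⊓ normalizer (T : Set G) := by
  obtain ⟨S, hS, hTS, hSX, hne⟩ : ∃ S : Subgroup G, IsPGroup p S ∧ T ≤ S ∧ S ≤ X ∧ S ≠ T := by
    by_contra hc
    push Not at hc
    exact h ⟨hTX, hT, hc⟩
  exact ⟨S ⊓ normalizer (T : Set G), hS.to_le inf_le_left,
    lt_inf_normalizer hS (hTS.lt_of_ne' hne), inf_le_inf_right _ hSX⟩

omit [Finite G] hp in
/-- The Sylow subgroup of `X` given by a maximal `p`-subgroup. -/
theorem IsMaxPIn.exists_sylow {X T : Subgroup G} (h : IsMaxPIn p X T) :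
    ∃ S : Sylow p X, (S : Subgroup X).map X.subtype = T := by
  refine ⟨⟨T.subgroupOf X, h.pgroup.of_equiv (subgroupOfEquivOfLe h.le).symm, ?_⟩,
    map_subgroupOf_eq_of_le h.le⟩
  intro Q hQ hle
  have h1 : Q.map X.subtype = T := h.max _ (hQ.map _)
    ((map_subgroupOf_eq_of_le h.le).ge.trans (Subgroup.map_mono hle)) (map_subtype_le _)
  rw [← h1, subgroupOf, comap_map_eq_self_of_injective X.subtype_injective]

/-- In a solvable group, a `p'`-subgroup normalised by a Sylow `p`-subgroup lies in `O_{p'}`. -/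
theorem IsMaxPIn.inv_le_piCoreOf {X T V : Subgroup G} (h : IsMaxPIn p X T)
    (hXs : Group.IsSolvable X) (hVX : V ≤ X) (hV : (Nat.card V).Coprime p)
    (hTV : T ≤ normalizer (V : Set G)) : V ≤ Cfsg.piCoreOf (Cfsg.primesNotDvd p) X := by
  haveI := hXs
  obtain ⟨S, hS⟩ := h.exists_sylow
  rw [← map_subgroupOf_eq_of_le hVX, ← map_pPrimeCore_subtype]
  refine Subgroup.map_mono fun v hv => mem_pPrimeCore_of_barHom_eq_one ?_
  set f := barHom X p with hf
  set R := Cfsg.pCore p (X ⧸ Cfsg.piCore (Cfsg.primesNotDvd p) X) with hR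
  haveI : R.Normal := Solvable.pCore_normal p _
  set V' := (V.subgroupOf X).map f with hV'
  have hV'c : (Nat.card V').Coprime p :=
    (coprime_subgroupOf hV X).coprime_dvd_left (Subgroup.card_map_dvd _ _)
  have hVn : (S : Subgroup X) ≤ normalizer (V.subgroupOf X : Set X) := fun x hx =>
    subgroupOf_le_normalizer (X := X) hTV (mem_subgroupOf.2 (hS.le (mem_map_of_mem X.subtype hx)))
  have hRV : R ≤ normalizer (V' : Set _) := by
    refine (Solvable.pCore_le_sylow (S.mapSurjective barHom_surjective)).trans ?_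
    rw [Sylow.coe_mapSurjective]
    exact (Subgroup.map_mono hVn).trans (le_normalizer_map _)
  have hd : R ⊓ V' = ⊥ :=
    PLoc.disjoint_of_pgroup_coprime (Solvable.pCore_isPGroup p _) hV'c
  have hc : V' ≤ centralizer (R : Set _) := commute_of_normalize_disjoint
    (le_top.trans (normalizer_eq_top R).ge) hRV (disjoint_iff.2 (inf_comm R V' ▸ hd))
  have hwR : f v ∈ R := centralizer_pCore_bar_le (hc (mem_map_of_mem f hv))
  have : f v ∈ R ⊓ V' := ⟨hwR, mem_map_of_mem f hv⟩
  rw [hd] at this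
  exact mem_bot.1 this

/-- `X = O_{p'}(X) (X ∩ N(Z(J(T))))` for a Sylow `p`-subgroup `T` of the solvable group `X`. -/
theorem IsMaxPIn.le_piCoreOf_sup_normalizer {X T : Subgroup G} (h : IsMaxPIn p X T)
    (hXs : Group.IsSolvable X) (hodd : Odd (Nat.card X)) (hp2 : p ≠ 2) :
    X ≤ Cfsg.piCoreOf (Cfsg.primesNotDvd p) X ⊔
      (X ⊓ normalizer (PLoc.interMaxAb 0 T : Set G)) := by
  haveI := hXs
  obtain ⟨S, hS⟩ := h.exists_sylow
  have h1 := congrArg (Subgroup.map X.subtype) (pPrimeCore_sup_normalizer_interMaxAb hodd hp2 S 0)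
  rw [← MonoidHom.range_eq_map, range_subtype, Subgroup.map_sup, map_pPrimeCore_subtype] at h1
  refine h1.ge.trans (sup_le_sup_left (le_inf (map_subtype_le _) ?_) _)
  rw [← hS, interMaxAb_map X.subtype_injective]
  exact le_normalizer_map _

/-- If moreover `O_{p'}(X) = 1`, then `X` normalises `Z(J(T))`. -/
theorem IsMaxPIn.le_normalizer_zj {X T : Subgroup G} (h : IsMaxPIn p X T)
    (hXs : Group.IsSolvable X) (hodd : Odd (Nat.card X)) (hp2 : p ≠ 2)
    (hO : Cfsg.piCoreOf (Cfsg.primesNotDvd p) X = ⊥) :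
    X ≤ normalizer (PLoc.interMaxAb 0 T : Set G) := by
  have h1 := h.le_piCoreOf_sup_normalizer hXs hodd hp2
  rw [hO, bot_sup_eq] at h1
  exact h1.trans inf_le_right

theorem piCoreOf_primesNotDvd_coprime (X : Subgroup G) :
    (Nat.card ↥(Cfsg.piCoreOf (Cfsg.primesNotDvd p) X)).Coprime p :=
  isPiSubgroup_primesNotDvd.1 (piCoreOf_isPiSubgroup _ _)

end CfsgLib.OddOrder
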