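import Cfsg.Agent.Lib.OddOrder.FittingPGroup
import Cfsg.Agent.Lib.OddOrder.UniqueAux
import Cfsg.Agent.Lib.OddOrder.ExceptionalTools
import Cfsg.Agent.Lib.Solvable.CoprimeAbelian
import Cfsg.Agent.Lib.Solvable.PrimeActionCore
import Cfsg.Agent.Lib.Solvable.Hall
import Cfsg.Agent.Lib.Fusion.CriticalSmall

/-!
Group theoretic tools for BG section 13: moved `q`-subgroups of a coprime action, conjugation into a
supplement, and the Frobenius fixed point lemma for a cyclic fixed point group.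
-/

set_option autoImplicit false
set_option linter.style.haveILetI false

open scoped commutatorElement Pointwise

namespace CfsgLib.OddOrder

open Subgroup

variable {G : Type*} [Group G] [Finite G]

/-- A subgroup containing every prime power subgroup of `X` contains `X`. -/
theorem le_of_pgroups_le {X K : Subgroup G}
    (h : ∀ s : ℕ, s.Prime → ∀ P : Subgroup G, IsPGroup s P → P ≤ X → P ≤ K) : X ≤ K := by
  refine subgroupOf_eq_top.1 (Subgroup.eq_top_of_le_card _ (Nat.le_of_dvd Nat.card_pos ?_))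
  rw [Nat.dvd_iff_prime_pow_dvd_dvd]
  intro s k hs hk
  haveI := Fact.mk hs
  obtain ⟨S⟩ : Nonempty (Sylow s X) := inferInstance
  refine (S.pow_dvd_card_of_pow_dvd_card hk).trans (card_dvd_of_le fun x hx => mem_subgroupOf.2 ?_)
  exact h s hs _ (S.2.map X.subtype) (map_subtype_le _) (mem_map_of_mem X.subtype hx)

/-- A coprime action which is not trivial moves some invariant `q`-subgroup onto itself. -/
theorem exists_moved_pgroup {A C : Subgroup G} (hAC : A ≤ normalizer (C : Set G))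
    (hcop : (Nat.card A).Coprime (Nat.card C)) (hsol : Group.IsSolvable C)
    (hne : ¬ C ≤ centralizer (A : Set G)) :
    ∃ q : ℕ, q.Prime ∧ ∃ Y : Subgroup G, IsPGroup q Y ∧ Y ≠ ⊥ ∧ Y ≤ C ∧
      A ≤ normalizer (Y : Set G) ∧ ⁅Y, A⁆ = Y := by
  by_contra hno
  refine hne (le_trans (subgroupOf_eq_top.1 (Subgroup.eq_top_of_le_card
    ((C ⊓ centralizer (A : Set G)).subgroupOf C) (Nat.le_of_dvd Nat.card_pos ?_))) inf_le_right)
  rw [Nat.dvd_iff_prime_pow_dvd_dvd]
  intro s k hs hk
  haveI := Fact.mk hs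
  obtain ⟨S, hS⟩ := Solvable.exists_invariant_sylow hAC hcop (Or.inr hsol) s
  refine (S.pow_dvd_card_of_pow_dvd_card hk).trans (card_dvd_of_le fun x hx => mem_subgroupOf.2 ?_)
  set Q := (S : Subgroup C).map C.subtype with hQ
  have hQC : Q ≤ C := map_subtype_le _
  have hcopQ := hcop.coprime_dvd_right (card_dvd_of_le hQC)
  refine ⟨x.2, ?_⟩
  have h0 : ⁅Q, A⁆ = ⊥ := by
    by_contra h
    have hle : ⁅Q, A⁆ ≤ Q := Solvable.commutator_le_of_normalizes hS
    exact hno ⟨s, hs, ⁅Q, A⁆, (S.2.map C.subtype).to_le hle, h, hle.trans hQC,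
      Solvable.le_normalizer_commutator_right Q A,
      Solvable.commutator_commutator_eq hS hcopQ (Solvable.solvable_or_of_le hQC (Or.inr hsol))⟩
  exact commutator_eq_bot_iff_le_centralizer.1 h0 (mem_map_of_mem C.subtype hx)

/-- The Frattini argument inside `G`. -/
theorem frattini_le {q : ℕ} [Fact q.Prime] {C L T : Subgroup G} (hT : IsMaxPIn q C T) (hCL : C ≤ L)
    (hLC : L ≤ normalizer (C : Set G)) : L ≤ C ⊔ (L ⊓ normalizer (T : Set G)) := by
  intro l hl
  set T' := T.map (MulAut.conj l).toMonoidHom with hT'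
  have hT'C : T' ≤ C := by
    rintro _ ⟨t, ht, rfl⟩
    exact (mem_normalizer_iff.1 (hLC hl) t).1 (hT.le ht)
  obtain ⟨S, hS⟩ := hT.exists_sylow
  obtain ⟨S', hS'⟩ := ((hT.pgroup.map _).of_equiv
    (subgroupOfEquivOfLe hT'C).symm).exists_le_sylow
  obtain ⟨c, hc⟩ := MulAction.exists_smul_eq C S' S
  have h1 : T'.map (MulAut.conj (c : G)).toMonoidHom ≤ T := by
    rintro _ ⟨t, ht, rfl⟩
    rw [← hS]
    refine ⟨c * ⟨t, hT'C ht⟩ * c⁻¹, ?_, rfl⟩
    rw [← hc]
    exact smul_mem_pointwise_smul _ _ _ (hS' (mem_subgroupOf.2 ht))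
  have h2 : (c : G) * l ∈ normalizer (T : Set G) := by
    refine mem_normalizer_of_map_le ?_
    rwa [← map_conj_map_conj]
  have h3 : (c : G)⁻¹ * ((c : G) * l) = l := by group
  rw [← h3]
  exact mul_mem (mem_sup_left (inv_mem c.2)) (mem_sup_right ⟨mul_mem (hCL c.2) hl, h2⟩)

/-- If `L = K J` with `K` normal, a subgroup of order prime to `|K|` is conjugate into `J`. -/
theorem exists_conj_into {L K J Y : Subgroup G} (hLs : Group.IsSolvable L)
    (hLK : L ≤ normalizer (K : Set G)) (hJL : J ≤ L) (hL : L ≤ K ⊔ J) (hYL : Y ≤ L)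
    (hdisj : ∀ s : ℕ, s.Prime → s ∣ Nat.card Y → ¬ s ∣ Nat.card K) :
    ∃ l ∈ L, Y.map (MulAut.conj l).toMonoidHom ≤ J := by
  set π : Set ℕ := {s | s.Prime ∧ s ∣ Nat.card Y} with hπ
  haveI := hLs
  haveI : Group.IsSolvable J :=
    Group.isSolvable_of_isSolvable_injective (Subgroup.inclusion_injective hJL)
  obtain ⟨H₀, hH₀⟩ := Solvable.exists_isPiHall (G := J) π
  set H := (H₀.map J.subtype).subgroupOf L
  have hHL : H₀.map J.subtype ≤ L := (map_subtype_le _).trans hJL
  have hH : Cfsg.IsPiHall π H := by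
    refine ⟨fun s hs hd => hH₀.1 s hs ?_, fun s hs hsπ hd => ?_⟩
    · rwa [Nat.card_congr (subgroupOfEquivOfLe hHL).toEquiv,
        card_map_of_injective J.subtype_injective] at hd
    · change s ∣ (H₀.map J.subtype).relIndex L at hd
      rw [← relIndex_mul_relIndex _ J L (map_subtype_le _) hJL] at hd
      rcases hs.dvd_mul.1 hd with h | h
      · rw [relIndex, subgroupOf, comap_map_eq_self_of_injective J.subtype_injective] at h
        exact hH₀.2 s hs hsπ h
      · refine hdisj s hs hsπ.2 (h.trans ?_)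
        have h1 : J.relIndex L * Nat.card J ∣ Nat.card K * Nat.card J := by
          rw [mul_comm, ← relIndex_bot_left J, relIndex_mul_relIndex ⊥ J L bot_le hJL,
            relIndex_bot_left, relIndex_bot_left]
          exact (card_dvd_of_le hL).trans
            (card_sup_dvd_mul_of_le_normalizer (hJL.trans hLK))
        exact Nat.dvd_of_mul_dvd_mul_right Nat.card_pos h1
  obtain ⟨l, hl⟩ := Solvable.exists_conj_le_isPiHall hH (K := Y.subgroupOf L) fun s hs hd =>
    ⟨hs, by rwa [Nat.card_congr (subgroupOfEquivOfLe hYL).toEquiv] at hd⟩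
  refine ⟨l, l.2, ?_⟩
  rintro _ ⟨y, hy, rfl⟩
  have h1 : l * (⟨y, hYL hy⟩ : L) * l⁻¹ ∈ H :=
    hl (smul_mem_pointwise_smul _ _ _ (mem_subgroupOf.2 hy : (⟨y, hYL hy⟩ : L) ∈ Y.subgroupOf L))
  exact map_subtype_le H₀ (mem_subgroupOf.1 h1)

/-- If `L = K J` with `K` normal, the primes of `L'` outside `|K|` divide `|J'|`. -/
theorem dvd_commutator_supplement {L K J : Subgroup G} (hKL : K ≤ L)
    (hLK : L ≤ normalizer (K : Set G)) (hJL : J ≤ L) (hL : L ≤ K ⊔ J) {p : ℕ} (hp : p.Prime)
    (hd : p ∣ Nat.card ↥⁅L, L⁆) : p ∣ Nat.card K ∨ p ∣ Nat.card ↥⁅J, J⁆ := by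
  haveI : (K.subgroupOf L).Normal := normal_subgroupOf_of_le_normalizer hLK
  set π := QuotientGroup.mk' (K.subgroupOf L) with hπ
  have hsurj : (J.subgroupOf L).map π = ⊤ := by
    refine eq_top_iff.2 fun x _ => ?_
    obtain ⟨y, rfl⟩ := QuotientGroup.mk'_surjective _ x
    obtain ⟨k, hk, j, hj, hkj⟩ :=
      (Solvable.mem_sup_of_le_normalizer (hJL.trans hLK)).1 (hL y.2)
    refine ⟨⟨j, hJL hj⟩, mem_subgroupOf.2 hj, ?_⟩
    rw [show y = ⟨k, hKL hk⟩ * ⟨j, hJL hj⟩ from Subtype.ext hkj.symm, map_mul,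
      show π ⟨k, hKL hk⟩ = 1 from (QuotientGroup.eq_one_iff _).2 (mem_subgroupOf.2 hk), one_mul]
  set D := (⁅J.subgroupOf L, J.subgroupOf L⁆ : Subgroup L) with hD
  have h1 : commutator L ≤ K.subgroupOf L ⊔ D := by
    intro x hx
    have h2 := mem_map_of_mem π hx
    rw [_root_.commutator_def, map_commutator] at h2
    have h3 : π x ∈ D.map π := by
      rw [hD, map_commutator, hsurj]
      exact commutator_mono le_top le_top h2
    have h4 : x ∈ (D.map π).comap π := h3
    rw [comap_map_eq, QuotientGroup.ker_mk', sup_comm] at h4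
    exact h4
  have hc : Nat.card ↥(commutator L) ∣ Nat.card (K.subgroupOf L) * Nat.card D :=
    (card_dvd_of_le h1).trans (card_sup_dvd_mul_of_le_normalizer
      (le_top.trans (normalizer_eq_top (K.subgroupOf L)).ge))
  have hcL : Nat.card ↥(commutator L) = Nat.card ↥⁅L, L⁆ := by
    rw [← map_subtype_commutator, card_map_of_injective L.subtype_injective]
  have hcD : Nat.card D = Nat.card ↥⁅J, J⁆ := by
    rw [← card_map_of_injective L.subtype_injective (K := D), hD, map_commutator,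
      map_subgroupOf_eq_of_le hJL]
  rw [hcL, Nat.card_congr (subgroupOfEquivOfLe hKL).toEquiv, hcD] at hc
  exact hp.dvd_mul.1 (hd.trans hc)

omit [Finite G] in
/-- A section `W / N` of prime order is fixed by the commutators of its normalizer. -/
theorem mem_of_commutator_mod {W N : Subgroup G} {p : ℕ} (hp : p.Prime)
    (hWN : W ≤ normalizer (N : Set G)) (hi : N.relIndex W = p) {T : Subgroup G}
    (hTW : T ≤ normalizer (W : Set G)) (hTN : T ≤ normalizer (N : Set G)) {c a : G}
    (hc : c ∈ ⁅T, T⁆) (ha : a ∈ W) : c * a * c⁻¹ * a⁻¹ ∈ N := by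
  set X := normalizer (W : Set G) ⊓ normalizer (N : Set G) with hX
  have hWX : W ≤ X := le_inf le_normalizer hWN
  haveI : (N.subgroupOf X).Normal := normal_subgroupOf_of_le_normalizer inf_le_right
  haveI : (W.subgroupOf X).Normal := normal_subgroupOf_of_le_normalizer inf_le_left
  set π := QuotientGroup.mk' (N.subgroupOf X) with hπ
  set B := (W.subgroupOf X).map π with hB
  haveI : B.Normal := Subgroup.Normal.map inferInstance π (QuotientGroup.mk'_surjective _)
  have hBc : Nat.card B = p := by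
    have h1 : Nat.card B = (N.subgroupOf X).relIndex (W.subgroupOf X) := by
      rw [← relIndex_ker, QuotientGroup.ker_mk']
    rw [h1, relIndex_subgroupOf hWX, hi]
  haveI := Fact.mk hp
  haveI : IsCyclic B := isCyclic_of_prime_card hBc
  have hcT : c ∈ ⁅X, X⁆ := commutator_mono (le_inf hTW hTN) (le_inf hTW hTN) hc
  rw [← map_subtype_commutator] at hcT
  obtain ⟨d, hd, rfl⟩ := hcT
  let φ : X →* MulAut B := (MulAut.conjNormal (H := B)).comp π
  have hφ : φ d = 1 := by
    rw [_root_.commutator_def] at hd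
    have h2 : ⁅(⊤ : Subgroup X), ⊤⁆ ≤ φ.ker := by
      rw [Subgroup.commutator_le]
      intro x _ y _
      rw [MonoidHom.mem_ker, map_commutatorElement, commutatorElement_eq_one_iff_mul_comm]
      exact (IsCyclic.mulAutMulEquiv B).injective (by rw [map_mul, map_mul, mul_comm])
    exact h2 hd
  have hb : π ⟨a, hWX ha⟩ ∈ B := mem_map_of_mem π (mem_subgroupOf.2 ha)
  have h3 : π d * π ⟨a, hWX ha⟩ * (π d)⁻¹ = π ⟨a, hWX ha⟩ := by
    have h4 := congrArg (fun e : MulAut B => ((e ⟨_, hb⟩ : B) : X ⧸ N.subgroupOf X)) hφ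
    simpa [φ] using h4
  have h5 : π (d * ⟨a, hWX ha⟩ * d⁻¹ * (⟨a, hWX ha⟩)⁻¹) = 1 := by
    rw [map_mul, map_mul, map_mul, map_inv, map_inv, h3, mul_inv_cancel]
  exact mem_subgroupOf.1 ((QuotientGroup.eq_one_iff _).1 h5)

/-- An element `x` with `g⁻¹ g^x ∈ C` for all `g ∈ T` has `[T, ⟨x⟩] ≤ C`. -/
theorem commutator_zpowers_le {T C : Subgroup G} {x : G}
    (hxC : x ∈ normalizer (C : Set G)) (h : ∀ g ∈ T, g⁻¹ * (x * g * x⁻¹) ∈ C) :
    ⁅T, zpowers x⁆ ≤ C := by
  have key : ∀ i : ℕ, ∀ g ∈ T, g⁻¹ * (x ^ i * g * (x ^ i)⁻¹) ∈ C := by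
    intro i
    induction i with
    | zero => intro g hg; simp
    | succ i ih =>
      intro g hg
      have h1 := (mem_normalizer_iff.1 hxC _).1 (ih g hg)
      have h2 := h g hg
      have h3 := mul_mem h2 h1
      have e : g⁻¹ * (x * g * x⁻¹) * (x * (g⁻¹ * (x ^ i * g * (x ^ i)⁻¹)) * x⁻¹) =
          g⁻¹ * (x ^ (i + 1) * g * (x ^ (i + 1))⁻¹) := by
        rw [pow_succ']
        group
      rwa [e] at h3
  rw [Subgroup.commutator_le]
  intro g hg y hy
  obtain ⟨i, rfl⟩ := Submonoid.mem_powers_iff _ _ |>.1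
    ((isOfFinOrder_of_finite x).mem_powers_iff_mem_zpowers.2 hy)
  have h1 := key i g⁻¹ (inv_mem hg)
  simpa [commutatorElement_def, mul_assoc] using h1

/-- Coprime action with cyclic fixed points: if `v` of prime order acts fixed point freely on
`T / C_T(v)` and `T` centralises the order `p` part of `C_S(v)`, then `T` centralises `S`. -/
theorem le_centralizer_of_fixed_cyclic {p q s : ℕ} [hp : Fact p.Prime] [hq : Fact q.Prime]
    [hs : Fact s.Prime] (hp2 : p ≠ 2) (hq2 : q ≠ 2) (hqs : q ≠ s) (hqp : q ≠ p) (hsp : s ≠ p)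
    {S T P : Subgroup G} [IsMulCommutative T] {v : G} (hS : IsPGroup p S) (hT : IsPGroup q T)
    (hvs : v ^ s = 1) (hTS : T ≤ normalizer (S : Set G)) (hvS : v ∈ normalizer (S : Set G))
    (hvT : v ∈ normalizer (T : Set G)) (hTv : ⁅T, zpowers v⁆ = T)
    (hcyc : IsCyclic ↥(S ⊓ centralizer ({v} : Set G))) (hP : Nat.card P = p) (hPS : P ≤ S)
    (hPv : P ≤ centralizer ({v} : Set G)) (hPT : T ≤ centralizer (P : Set G)) :
    S ≤ centralizer (T : Set G) := by
  obtain ⟨D, hDc, hDs, hdet⟩ := Fusion.SmallFix.exists_small_characteristic hS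
  haveI := hDc
  set D' := D.map S.subtype with hD'
  have hD'S : D' ≤ S := map_subtype_le _
  have hND : normalizer (S : Set G) ≤ normalizer (D' : Set G) :=
    Solvable.PrimeAction.le_normalizer_map_char S D
  have hDp : IsPGroup p D' := hS.to_le hD'S
  have hfix : D' ⊓ centralizer ({v} : Set G) ≤ centralizer (T : Set G) := by
    rintro x ⟨⟨d, hd, rfl⟩, hxv⟩
    have hd1 : (d : G) ^ p = 1 := by
      rcases hDs d hd with h | ⟨h, -⟩
      · rw [← SubgroupClass.coe_pow, h, OneMemClass.coe_one]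
      · exact absurd h hp2
    by_cases hd0 : (d : G) = 1
    · show (d : G) ∈ _
      rw [hd0]
      exact one_mem _
    have he : zpowers (d : G) = P := eq_of_card_eq_of_le_cyclic hcyc
      (zpowers_le.2 ⟨d.2, hxv⟩) (le_inf hPS hPv)
      (by rw [Nat.card_zpowers, orderOf_eq_prime hd1 hd0, hP])
    exact le_centralizer_iff.1 hPT (he.le (mem_zpowers _))
  have hTD : T ≤ normalizer (D' : Set G) := hTS.trans hND
  obtain ⟨n, hn⟩ := hDp.exists_card_eq
  obtain ⟨m, hm⟩ := hT.exists_card_eq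
  have hcopTD : (Nat.card T).Coprime (Nat.card D') := by
    rw [hn, hm]
    exact Nat.coprime_pow_primes _ _ hq.out hp.out hqp
  have hsolD : Group.IsSolvable D' := by
    haveI := hDp.isNilpotent
    infer_instance
  have hTD' : D' ≤ centralizer (T : Set G) := by
    set D₁ := ⁅D', T⁆ with hD₁
    by_contra hcon
    have hD₁D : D₁ ≤ D' := Solvable.commutator_le_of_normalizes hTD
    have hD₁p : IsPGroup p D₁ := hDp.to_le hD₁D
    have hD₁T : ⁅D₁, T⁆ = D₁ := Solvable.commutator_commutator_eq hTD hcopTD (Or.inr hsolD)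
    have hD₁1 : D₁ ≠ ⊥ := fun h => hcon (commutator_eq_bot_iff_le_centralizer.1 h)
    haveI : Nontrivial D₁ := (Subgroup.nontrivial_iff_ne_bot _).2 hD₁1
    have hsolD₁ : Group.IsSolvable D₁ := by
      haveI := hD₁p.isNilpotent
      infer_instance
    set X := normalizer (D₁ : Set G) with hX
    have hvX : v ∈ X := by
      have h1 := hND hvS
      rw [mem_normalizer_iff_map_conj_eq] at h1 hvT ⊢
      show (⁅D', T⁆).map (MulAut.conj v).toMonoidHom = ⁅D', T⁆
      rw [map_commutator]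
      exact congrArg₂ (fun A B : Subgroup G => ⁅A, B⁆) h1 hvT
    have hTX : T ≤ X := Solvable.le_normalizer_commutator_right D' T
    have hD₁X : D₁ ≤ X := le_normalizer
    set Φ := (frattini D₁).map D₁.subtype with hΦ
    have hΦD : Φ ≤ D₁ := map_subtype_le _
    have hXΦ : X ≤ normalizer (Φ : Set G) :=
      Solvable.PrimeAction.le_normalizer_map_char D₁ (frattini D₁)
    haveI : (Φ.subgroupOf X).Normal := normal_subgroupOf_of_le_normalizer hXΦ
    set π := QuotientGroup.mk' (Φ.subgroupOf X) with hπ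
    set D₁X := D₁.subgroupOf X with hD₁Xd
    set Mb := D₁X.map π with hMb
    set Tb := (T.subgroupOf X).map π with hTb
    set vX : X := ⟨v, hvX⟩ with hvXd
    haveI : IsMulCommutative Mb := by
      refine ⟨⟨?_⟩⟩
      rintro ⟨_, a, ha, rfl⟩ ⟨_, b, hb, rfl⟩
      refine Subtype.ext (commutatorElement_eq_one_iff_mul_comm.1 ?_)
      show ⁅π a, π b⁆ = 1
      rw [← map_commutatorElement]
      refine (QuotientGroup.eq_one_iff _).2 (mem_subgroupOf.2 ?_)
      exact ⟨⁅(⟨a, mem_subgroupOf.1 ha⟩ : D₁), ⟨b, mem_subgroupOf.1 hb⟩⁆,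
        PGroup.commutator_le_frattini hD₁p (by
          rw [_root_.commutator_def]
          exact commutator_mem_commutator (mem_top _) (mem_top _)), rfl⟩
    haveI : IsMulCommutative Tb := map_isMulCommutative _ _
    have hMbp : IsPGroup p Mb := (hD₁p.of_equiv (subgroupOfEquivOfLe hD₁X).symm).map π
    have hTbq : IsPGroup q Tb := (hT.of_equiv (subgroupOfEquivOfLe hTX).symm).map π
    haveI : D₁X.Normal := normal_subgroupOf_of_le_normalizer le_rfl
    have hTMb : Tb ≤ normalizer (Mb : Set (X ⧸ Φ.subgroupOf X)) :=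
      (map_mono (le_top.trans (normalizer_eq_top D₁X).ge)).trans (le_normalizer_map π)
    have hTb0 : ⁅Mb, Tb⁆ = Mb := by
      rw [hMb, hTb, ← map_commutator]
      congr 1
      refine map_injective X.subtype_injective ?_
      rw [map_commutator, hD₁Xd, map_subgroupOf_eq_of_le hD₁X, map_subgroupOf_eq_of_le hTX, hD₁T]
    have hcopMT : (Nat.card Tb).Coprime (Nat.card Mb) := by
      obtain ⟨a, ha⟩ := hTbq.exists_card_eq
      obtain ⟨b, hb⟩ := hMbp.exists_card_eq
      rw [ha, hb]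
      exact Nat.coprime_pow_primes _ _ hq.out hp.out hqp
    have hMT1 : Mb ⊓ centralizer (Tb : Set (X ⧸ Φ.subgroupOf X)) = ⊥ := by
      have h1 := Solvable.centralizer_inf_commutator_eq_bot hTMb hcopMT
      rw [hTb0] at h1
      rw [← h1, inf_eq_left.2 inf_le_left]
    have hcopv : (Nat.card (zpowers v)).Coprime (Nat.card D₁) := by
      obtain ⟨a, ha⟩ := hD₁p.exists_card_eq
      rw [Nat.card_zpowers, ha]
      exact ((Nat.coprime_primes hs.out hp.out).2 hsp).pow_right a |>.coprime_dvd_left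
        (orderOf_dvd_of_pow_eq_one hvs)
    have hfix1 : Mb ⊓ centralizer ({π vX} : Set (X ⧸ Φ.subgroupOf X)) = ⊥ := by
      rw [eq_bot_iff]
      rintro _ ⟨⟨d, hd, rfl⟩, hdv⟩
      have hdv' : Commute (π vX) (π d) := (mem_centralizer_singleton_iff.1 hdv).symm
      obtain ⟨c, ⟨hc, hcv⟩, hdc⟩ := Solvable.exists_fixed_of_fixed_mod (A := zpowers v)
        (K := D₁) (N := Φ) (zpowers_le.2 hvX) hcopv (Or.inr hsolD₁)
        hΦD (hD₁X.trans hXΦ) ((zpowers_le.2 hvX).trans hXΦ) (mem_subgroupOf.1 hd) fun a ha => by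
          obtain ⟨i, rfl⟩ := mem_zpowers_iff.1 ha
          have h1 : π (vX ^ i * d * (vX ^ i)⁻¹ * d⁻¹) = 1 := by
            rw [map_mul, map_mul, map_mul, map_inv, map_inv, map_zpow, (hdv'.zpow_left i).eq]
            group
          simpa [vX] using mem_subgroupOf.1 ((QuotientGroup.eq_one_iff _).1 h1)
      have hcv' : c ∈ centralizer ({v} : Set G) :=
        mem_centralizer_singleton_iff.2 (hcv v (mem_zpowers v)).symm
      have hcT : c ∈ centralizer (T : Set G) := hfix ⟨hD₁D hc, hcv'⟩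
      have hπc : π d = π ⟨c, hD₁X hc⟩ := (QuotientGroup.eq).2 (mem_subgroupOf.2 hdc)
      rw [← hMT1]
      refine ⟨mem_map_of_mem π hd, ?_⟩
      rw [hπc]
      rintro _ ⟨t, ht, rfl⟩
      rw [← map_mul, ← map_mul]
      exact congrArg π (Subtype.ext (hcT t (mem_subgroupOf.1 ht)))
    have hvTX : vX ∈ normalizer ((T.subgroupOf X : Subgroup X) : Set X) := by
      refine mem_normalizer_iff.2 fun t => ?_
      simp only [mem_subgroupOf, Subgroup.coe_mul, InvMemClass.coe_inv]
      exact mem_normalizer_iff.1 hvT (t : G)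
    have hvMb : π vX ∈ normalizer (Mb : Set (X ⧸ Φ.subgroupOf X)) :=
      le_normalizer_map π (mem_map_of_mem π (by rw [normalizer_eq_top D₁X]; exact mem_top _))
    have hg := Solvable.PrimeAction.commute_of_fpf_pgroup (s := p) hq2 hqs hqp hsp hMbp hTbq
      (x := π vX) (fun g hg => (mem_normalizer_iff.1
        (le_normalizer_map π (mem_map_of_mem π hvTX)) g).1 hg)
      (by rw [← map_pow, show vX ^ s = 1 from Subtype.ext hvs, map_one]) hTMb hvMb hfix1
    have hTC : Tb ≤ centralizer (Mb : Set (X ⧸ Φ.subgroupOf X)) := by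
      refine le_trans (le_of_eq ?_) (commutator_zpowers_le
        (normalizer_le_normalizer_centralizer Mb hvMb) hg)
      rw [hTb, ← MonoidHom.map_zpowers, ← map_commutator]
      congr 1
      refine map_injective X.subtype_injective ?_
      rw [map_commutator, map_subgroupOf_eq_of_le hTX, MonoidHom.map_zpowers]
      exact hTv.symm
    have hMb1 : Mb = ⊥ :=
      hTb0.symm.trans (commutator_eq_bot_iff_le_centralizer.2 (le_centralizer_iff.1 hTC))
    rw [hMb, Subgroup.map_eq_bot_iff, QuotientGroup.ker_mk'] at hMb1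
    obtain ⟨W, hW⟩ : ∃ W : Subgroup D₁, IsCoatom W :=
      (IsCoatomic.eq_top_or_exists_le_coatom (⊥ : Subgroup D₁)).resolve_left bot_ne_top |>.imp
        fun _ h => h.1
    refine hW.1 (top_le_iff.1 fun d _ => frattini_le_coatom hW ?_)
    obtain ⟨e, he, hed⟩ := mem_subgroupOf.1
      (hMb1 (mem_subgroupOf.2 d.2 : (⟨(d : G), hD₁X d.2⟩ : X) ∈ D₁X))
    exact D₁.subtype_injective hed ▸ he
  refine le_centralizer_iff.1 fun t ht => ?_
  set a := S.normalizerMonoidHom ⟨t, hTS ht⟩ with ha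
  have h1 : a = 1 := by
    refine hdet a ?_ fun x hx => Subtype.ext ?_
    · refine Nat.Coprime.coprime_dvd_left ((orderOf_map_dvd _ _).trans ((dvd_of_eq
        (orderOf_mk t (hTS ht))).trans (orderOf_dvd_card_of_mem ht))) ?_
      rw [hm]
      exact ((Nat.coprime_primes hq.out hp.out).2 hqp).pow_left m
    · show t * (x : G) * t⁻¹ = x
      rw [mul_inv_eq_iff_eq_mul]
      exact hTD' (mem_map_of_mem S.subtype hx) t ht
  intro x hx
  have h4 : t * x * t⁻¹ = x := congrArg (fun u : MulAut S => ((u ⟨x, hx⟩ : S) : G)) h1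
  exact (mul_inv_eq_iff_eq_mul.1 h4).symm

end CfsgLib.OddOrder
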