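import Cfsg.Agent.Lib.OddOrder.Section12
import Cfsg.Agent.Lib.OddOrder.SemiPrimeTools

/-!
BG section 13, first part: 13.3 (a), and the facts on an element of order `p` outside `σ(M)` used
for 13.4.
-/

set_option autoImplicit false
set_option linter.style.haveILetI false

open scoped commutatorElement Pointwise

namespace CfsgLib.OddOrder

open Subgroup

variable {G : Type*} [Group G] [Finite G]

theorem isPGroup_of_prime_card {p : ℕ} {X : Subgroup G} (hX : Nat.card X = p) : IsPGroup p X :=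
  IsPGroup.of_card (n := 1) (by rw [hX, pow_one])

theorem ne_bot_of_prime_card {p : ℕ} [hp : Fact p.Prime] {X : Subgroup G} (hX : Nat.card X = p) :
    X ≠ ⊥ := fun h => hp.out.ne_one (by rw [← hX, h, card_bot])

/-- A nontrivial `p`-group has a subgroup of order `p`. -/
theorem exists_le_card_prime {p : ℕ} [Fact p.Prime] {Y : Subgroup G} (hY : IsPGroup p Y)
    (hY1 : Y ≠ ⊥) : ∃ X : Subgroup G, X ≤ Y ∧ Nat.card X = p := by
  obtain ⟨x, hx⟩ := exists_prime_orderOf_dvd_card' p (dvd_card_of_isPGroup hY hY1)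
  exact ⟨zpowers (x : G), zpowers_le.2 x.2, by rw [Nat.card_zpowers, orderOf_coe, hx]⟩

variable (hG : Cfsg.IsMinSimpleOddOrder G) {M : Subgroup G} (hM : IsCoatom M)
include hG

omit hG in
/-- `p`-groups of rank two are not cyclic: no subgroup of a cyclic group is `E_{p²}`. -/
theorem not_le_cyclic {p : ℕ} [hp : Fact p.Prime] {A S : Subgroup G}
    (hA : Cfsg.IsElementaryAbelian p A) (hA2 : Nat.card A = p ^ 2) (hAS : A ≤ S) :
    ¬ IsCyclic S := fun h => by
  haveI := h
  refine elementary_not_isCyclic hA (hA2 ▸ (pow_one p).symm.trans_lt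
    (Nat.pow_lt_pow_right hp.out.one_lt one_lt_two)) ?_
  exact isCyclic_of_injective (Subgroup.inclusion hAS) (Subgroup.inclusion_injective _)

include hM

/-- An elementary subgroup of order `p ^ 2`, `p ∉ σ(M)`, gives `p ∈ τ₂(M)`. -/
theorem mem_tau2_of_elementary {p : ℕ} [hp : Fact p.Prime] (hpσ : p ∉ Cfsg.sigma M) {A : Subgroup G}
    (hAM : A ≤ M) (hA : Cfsg.IsElementaryAbelian p A) (hA2 : Nat.card A = p ^ 2) :
    p ∈ Cfsg.tau2 M :=
  ⟨hp.out, hpσ, pRankLE_two_of_not_sigma hG hM hp.out hpσ, not_pRankLE_of_elementary hAM hA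
    (by rw [hA2]; exact Nat.pow_lt_pow_right hp.out.one_lt one_lt_two)⟩

/-- An elementary subgroup of order `p ^ 2` of `M`, `p ∉ σ(M)`, centralises no element of prime
order of `M_σ`. -/
theorem false_of_elementary_sigma {p q : ℕ} [hp : Fact p.Prime] [Fact q.Prime]
    (hpσ : p ∉ Cfsg.sigma M) {A X : Subgroup G} (hA : Cfsg.IsElementaryAbelian p A)
    (hA2 : Nat.card A = p ^ 2) (hAM : A ≤ M) (hqσ : q ∈ Cfsg.sigma M) (hX : Nat.card X = q)
    (hXM : X ≤ M) (hAX : A ≤ centralizer (X : Set G)) : False := by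
  obtain ⟨-, -, h⟩ :=
    tau2_facts hG hM (mem_tau2_of_elementary hG hM hpσ hAM hA hA2) hAM hA hA2
  refine ne_bot_of_prime_card hX (le_bot_iff.1 (h ▸ le_inf ?_ (le_centralizer_iff.1 hAX)))
  exact le_sigmaCore_of_pgroup hG hM hqσ (isPGroup_of_prime_card hX) hXM

/-- A `σ(M)`-element of prime order lies in no `(H_σ)'` for another maximal subgroup `H`. -/
theorem false_of_sigma_derived {H : Subgroup G} (hH : IsCoatom H) (hne : H ≠ M) {q : ℕ}
    [hq : Fact q.Prime] (hσ : q ∈ Cfsg.sigma M) {X : Subgroup G} (hX : Nat.card X = q)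
    (hXM : X ≤ M) (hXH : X ≤ ⁅Cfsg.sigmaCore H, Cfsg.sigmaCore H⁆) : False := by
  have hXHσ : X ≤ Cfsg.sigmaCore H := hXH.trans (commutator_le_self _)
  have hσH : q ∈ Cfsg.sigma H := sigma_of_dvd_sigmaCore hq.out (hX ▸ card_dvd_of_le hXHσ)
  have hXH' : X ≤ H := hXHσ.trans (piCoreOf_le _ _)
  have hXq := isPGroup_of_prime_card hX
  obtain ⟨P₀⟩ : Nonempty (Sylow q (Cfsg.sigmaCore H)) := inferInstance
  have hC := (sigma_centralizer_unique hG hH
    (fun _ hQ hna => nonabelian_inUniqueMaximal hG hQ hna) hσH hXH' hX P₀ (Or.inr hXH)).1.1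
  have hN := normalizer_le_of_centralizer_le hG hH hσH hXq (ne_bot_of_prime_card hX) hXH' hC
  obtain ⟨S, hS, hXS⟩ := exists_isMaxPIn_ge (le_inf hXM hXH') hXq
  obtain ⟨-, -, hSH⟩ := sigma_subgroup_embedding hG hM hσ
    (fun A hAM hA hA2 => centralizer_elementary_le hG hM hAM hA hA2) hXq (ne_bot_of_prime_card hX)
    hXM hne hN hS hXS
  have hSσ := le_sigmaCore_of_pgroup hG hH hσH hSH.pgroup hSH.le
  obtain ⟨P, hP⟩ := (hSH.of_le (piCoreOf_le _ _) hSσ :
    IsMaxPIn q (Cfsg.sigmaCore H) S).exists_sylow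
  have hU := (sigma_centralizer_unique hG hH
    (fun _ hQ hna => nonabelian_inUniqueMaximal hG hQ hna) hσH hXH' hX P (Or.inr hXH)).2.1
  rw [hP] at hU
  exact hne (ExistsUnique.unique hU ⟨hH, hSH.le⟩ ⟨hM, hS.le.trans inf_le_left⟩)

/-- An overgroup of `N(P)`, for `P ≤ M` of order `p ∉ σ(M)` and rank one, is not conjugate to `M`. -/
theorem overgroup_normalizer {p : ℕ} [hp : Fact p.Prime] (hpσ : p ∉ Cfsg.sigma M)
    (hr : Cfsg.PRankLE p 1 M) {P : Subgroup G} (hP : Nat.card P = p) {H : Subgroup G}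
    (hNP : normalizer (P : Set G) ≤ H) :
    H ≠ M ∧ (∀ g : G, H ≠ M.map (MulAut.conj g).toMonoidHom) ∧
      ∀ g : G, H.map (MulAut.conj g).toMonoidHom ≠ M := by
  have key : ∀ g : G, H ≠ M.map (MulAut.conj g).toMonoidHom := by
    intro g hg
    subst hg
    have h1 : normalizer ((P.map (MulAut.conj g⁻¹).toMonoidHom : Subgroup G) : Set G) ≤ M := by
      rw [← map_equiv_normalizer_eq]
      refine (map_mono hNP).trans (le_of_eq ?_)
      rw [map_conj_map_conj, inv_mul_cancel, map_conj_one]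
    exact (rank_two_of_normalizer_le hG hM hpσ
      (by rw [card_map_of_injective (MulAut.conj g⁻¹).injective, hP]) h1).1.2 hr
  refine ⟨fun h => key 1 (by rw [map_conj_one, h]), key, fun g hg => key g⁻¹ ?_⟩
  rw [← hg, map_conj_map_conj, inv_mul_cancel, map_conj_one]

/-- A `p`-element outside `σ(M)` and an elementary `p`-group centralising a `σ(M)`-element. -/
theorem false_of_elementary_centralizer {p q : ℕ} [hp : Fact p.Prime] [hq : Fact q.Prime]
    (hpσ : p ∉ Cfsg.sigma M) (hqσ : q ∈ Cfsg.sigma M) {X : Subgroup G} (hX : Nat.card X = q)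
    (hXM : X ≤ M) {x : G} (hx1 : x ≠ 1) (hxp : IsPGroup p (zpowers x)) (hxM : x ∈ M)
    (hxN : x ∈ normalizer (X : Set G)) {A : Subgroup G} (hA : Cfsg.IsElementaryAbelian p A)
    (hA2 : Nat.card A = p ^ 2) (hAX : A ≤ centralizer (X : Set G))
    (hid : ¬ Cfsg.IsIdealPrime p G) : False := by
  have hXq := isPGroup_of_prime_card hX
  have hX1 := ne_bot_of_prime_card hX
  have hAN : A ≤ normalizer (X : Set G) := hAX.trans (centralizer_le_normalizer _)
  by_cases hNM : normalizer (X : Set G) ≤ M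
  · exact false_of_elementary_sigma hG hM hpσ hA hA2 (hAN.trans hNM) hqσ hX hXM hAX
  obtain ⟨L, hL, hNL⟩ := exists_isCoatom_ge (normalizer_ne_top hG hX1 (isPGroup_ne_top hG hXq))
  have hLM : L ≠ M := fun h => hNM (h ▸ hNL)
  have hAC : ∀ B : Subgroup G, B ≤ M → Cfsg.IsElementaryAbelian q B → Nat.card B = q ^ 2 →
      centralizer (B : Set G) ≤ M := fun B hB hBe hB2 => centralizer_elementary_le hG hM hB hBe hB2
  obtain ⟨K, hLK, hKL, hKσ, hLle, hK⟩ := exists_sigma'_supplement hG hM hqσ hAC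
    (fun L hL hqL B hB hBe hB2 => ⟨(tau2_facts hG hL hqL hB hBe hB2).1,
      (tau2_facts hG hL hqL hB hBe hB2).2.1⟩) hXq hX1 hXM hL hLM hNL
  by_cases hpK : p ∣ Nat.card K
  · rcases hK with rfl | ⟨rfl, hqL, B, hBM, hBL, hBe, hB2⟩
    · exact hid (piCoreOf_isPiSubgroup _ L p hp.out hpK).2
    obtain ⟨hnil, -, hfix⟩ := tau2_facts hG hL hqL hBL hBe hB2
    have hpL : p ∈ Cfsg.sigma L := sigma_of_dvd_sigmaCore hp.out hpK
    obtain ⟨S, hS, hXS⟩ := exists_isMaxPIn_ge (le_inf hXM (le_normalizer.trans hNL)) hXq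
    obtain ⟨hconj, -, -⟩ := sigma_subgroup_embedding hG hM hqσ hAC hXq hX1 hXM hLM hNL hS hXS
    have hxL : x ∈ Cfsg.sigmaCore L :=
      le_sigmaCore_of_pgroup hG hL hpL hxp (zpowers_le.2 (hNL hxN)) (mem_zpowers x)
    have hdisj : Cfsg.sigmaCore L ⊓ Cfsg.sigmaCore M = ⊥ := by
      refine card_eq_one.1 (Nat.eq_one_iff_not_exists_prime_dvd.2 fun r hr hd => ?_)
      exact sigma_disjoint_of_nilpotent hG hL hM (fun g e => hconj g e.symm) hnil
        (sigma_of_dvd_sigmaCore hr (hd.trans (card_dvd_of_le inf_le_left)))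
        (sigma_of_dvd_sigmaCore hr (hd.trans (card_dvd_of_le inf_le_right)))
    have hxB : x ∈ centralizer (B : Set G) := by
      intro b hb
      have h1 : ⁅x, b⁆ ∈ Cfsg.sigmaCore L := by
        rw [commutatorElement_def, mul_assoc x, mul_assoc x]
        exact mul_mem hxL ((mem_normalizer_iff.1 (le_normalizer_piCoreOf _ _ (hBL hb)) x⁻¹).1
          (inv_mem hxL))
      have h2 : ⁅x, b⁆ ∈ Cfsg.sigmaCore M := by
        have hbS : b ∈ Cfsg.sigmaCore M :=
          le_sigmaCore_of_pgroup hG hM hqσ (isPGroup_of_exp hBe.2) hBM hb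
        rw [commutatorElement_def]
        exact mul_mem ((mem_normalizer_iff.1 (le_normalizer_piCoreOf _ _ hxM) b).1 hbS)
          (inv_mem hbS)
      have h3 : ⁅x, b⁆ ∈ Cfsg.sigmaCore L ⊓ Cfsg.sigmaCore M := ⟨h1, h2⟩
      rw [hdisj, mem_bot, commutatorElement_eq_one_iff_mul_comm] at h3
      exact h3.symm
    exact hx1 (mem_bot.1 (hfix ▸ (⟨hxL, hxB⟩ : x ∈ Cfsg.sigmaCore L ⊓ centralizer (B : Set G))))
  · obtain ⟨l, -, hlY⟩ := exists_conj_into (J := M ⊓ L) (Y := A ⊔ X) (isSolvable_of_ne_top hG hL.1)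
      hLK inf_le_right hLle (sup_le (hAN.trans hNL) (le_normalizer.trans hNL)) fun r hr hd hrK => by
        have h1 := hd.trans (sup_comm A X ▸ card_sup_dvd_mul_of_le_normalizer hAN)
        rcases hr.dvd_mul.1 h1 with h | h
        · rw [hX, Nat.prime_dvd_prime_iff_eq hr hq.out] at h
          exact hKσ r hr hrK (h ▸ hqσ)
        · rw [hA2] at h
          exact hpK ((Nat.prime_dvd_prime_iff_eq hr hp.out).1 (hr.dvd_of_dvd_pow h) ▸ hrK)
    set c := (MulAut.conj l).toMonoidHom with hc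
    have hinj : Function.Injective c := (MulAut.conj l).injective
    refine false_of_elementary_sigma hG hM hpσ (A := A.map c) (X := X.map c) ?_ ?_ ?_ hqσ ?_ ?_ ?_
    · haveI := hA.1
      refine ⟨map_isMulCommutative A c, ?_⟩
      rintro _ ⟨a, ha, rfl⟩
      rw [← map_pow, hA.2 a ha, map_one]
    · rw [card_map_of_injective hinj, hA2]
    · exact ((map_mono le_sup_left).trans hlY).trans inf_le_left
    · rw [card_map_of_injective hinj, hX]
    · exact ((map_mono le_sup_right).trans hlY).trans inf_le_left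
    · rintro _ ⟨a, ha, rfl⟩ _ ⟨y, hy, rfl⟩
      rw [← map_mul, ← map_mul, hAX ha y hy]

/-- An overgroup `H` of `N(P)` with `p ∈ τ₂(H)` moves no `σ(M)`-group centralised by `P`. -/
theorem tau2_pair {p q : ℕ} [hp : Fact p.Prime] [hq : Fact q.Prime] (hpσ : p ∉ Cfsg.sigma M)
    {P : Subgroup G} (hP : Nat.card P = p) (hPM : P ≤ M) {H : Subgroup G} (hH : IsCoatom H)
    (hconj : ∀ g : G, M.map (MulAut.conj g).toMonoidHom ≠ H) (hpH : p ∈ Cfsg.tau2 H)
    (hNP : normalizer (P : Set G) ≤ H) {Y : Subgroup G} (hY : IsPGroup q Y) (hY1 : Y ≠ ⊥)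
    (hYM : Y ≤ Cfsg.sigmaCore M ⊓ centralizer (P : Set G)) {v : G}
    (hvP : v ∈ centralizer (P : Set G)) (hYv : ⁅Y, zpowers v⁆ = Y) : False := by
  have hqσ : q ∈ Cfsg.sigma M := sigma_of_dvd_sigmaCore hq.out
    ((dvd_card_of_isPGroup hY hY1).trans (card_dvd_of_le (hYM.trans inf_le_left)))
  have hqp : q ≠ p := fun h => hpσ (h ▸ hqσ)
  obtain ⟨-, A, hA, hA2, hPA⟩ := rank_two_of_normalizer_le hG hH hpH.2.1 hP hNP
  haveI := hA.1
  have hCH : centralizer (P : Set G) ≤ H := (centralizer_le_normalizer _).trans hNP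
  have hAC : A ≤ centralizer (P : Set G) := fun a ha x hx => setLike_mul_comm (hPA hx) ha
  have hAH : A ≤ H := hAC.trans hCH
  obtain ⟨hnil, hW, -⟩ := tau2_facts hG hH hpH hAH hA hA2
  set K := Cfsg.sigmaCore H with hK
  have hKH : K ≤ H := piCoreOf_le _ _
  set W := K ⊔ A with hWdef
  have hWH : W ≤ H := sup_le hKH hAH
  have hYC : Y ≤ centralizer (P : Set G) := hYM.trans inf_le_right
  have hYH : Y ≤ H := hYC.trans hCH
  have hqH : q ∉ Cfsg.sigma H := fun h => sigma_disjoint_of_nilpotent hG hH hM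
    hconj hnil h hqσ
  have hAK : A ⊓ K = ⊥ := disjoint_iff.1 (disjoint_of_coprime_natCard (by
    rw [hA2]
    exact ((hp.out.coprime_iff_not_dvd).2 fun hd =>
      hpH.2.1 (sigma_of_dvd_sigmaCore hp.out hd)).pow_left 2))
  have hcW : Nat.card W = Nat.card K * p ^ 2 := by
    rw [hWdef, Solvable.card_sup_of_disjoint
      (show A ≤ normalizer (K : Set G) from hAH.trans (le_normalizer_piCoreOf _ _))
      (disjoint_iff.2 (inf_comm K A ▸ hAK)), hA2]
  have hcop : (Nat.card Y).Coprime (Nat.card W) := by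
    obtain ⟨n, hn⟩ := hY.exists_card_eq
    rw [hn, hcW]
    refine Nat.Coprime.pow_left n (hq.out.coprime_iff_not_dvd.2 fun hd => ?_)
    rcases hq.out.dvd_mul.1 hd with h | h
    · exact hqH (sigma_of_dvd_sigmaCore hq.out h)
    · exact hqp ((Nat.prime_dvd_prime_iff_eq hq.out hp.out).1 (hq.out.dvd_of_dvd_pow h))
  haveI := isSolvable_of_ne_top hG hH.1
  have hWs : Group.IsSolvable W :=
    Group.isSolvable_of_isSolvable_injective (Subgroup.inclusion_injective hWH)
  obtain ⟨S, hPS, hSY⟩ := Solvable.exists_invariant_sylow_ge (hYH.trans hW) hcop (Or.inr hWs) p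
    (hPA.trans le_sup_right) (isPGroup_of_prime_card hP)
    (hYC.trans (centralizer_le_normalizer _))
  set A' := (S : Subgroup W).map W.subtype with hA'
  have hA'W : A' ≤ W := map_subtype_le _
  have hA'c : Nat.card A' = p ^ 2 := by
    rw [hA', card_map_of_injective W.subtype_injective, S.card_eq_multiplicity, hcW,
      Nat.factorization_mul Nat.card_pos.ne' (pow_ne_zero _ hp.out.ne_zero), Finsupp.add_apply,
      Nat.factorization_eq_zero_of_not_dvd fun hd => hpH.2.1 (sigma_of_dvd_sigmaCore hp.out hd),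
      zero_add, hp.out.factorization_pow, Finsupp.single_eq_same]
  have hA'p : IsPGroup p A' := S.2.map _
  have hA'e : Cfsg.IsElementaryAbelian p A' := by
    obtain ⟨T, hT⟩ := (hA'p.of_equiv (subgroupOfEquivOfLe hA'W).symm).exists_le_sylow
    obtain ⟨T₀, hT₀⟩ := (((isPGroup_of_exp hA.2)).of_equiv
      (subgroupOfEquivOfLe (le_sup_right : A ≤ W)).symm).exists_le_sylow
    obtain ⟨w, hw⟩ := MulAction.exists_smul_eq W S T₀
    have h1 : A'.map (MulAut.conj (w : G)).toMonoidHom = A := by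
      have h2 : (T₀ : Subgroup W).map W.subtype = A := by
        refine (eq_of_le_of_card_ge ?_ (le_of_eq ?_)).symm
        · exact (map_subgroupOf_eq_of_le (le_sup_right : A ≤ W)).ge.trans (map_mono hT₀)
        · rw [card_map_of_injective W.subtype_injective, hA2, ← hA'c, hA',
            card_map_of_injective W.subtype_injective, T₀.card_eq_multiplicity,
            S.card_eq_multiplicity]
      rw [hA', ← h2, ← hw, map_map]
      change _ = ((S : Subgroup W).map (MulAut.conj w).toMonoidHom).map W.subtype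
      rw [map_map]
      rfl
    have hmem : ∀ a ∈ A', MulAut.conj (w : G) a ∈ A := fun a ha => h1.le (mem_map_of_mem _ ha)
    refine ⟨⟨⟨fun a b => Subtype.ext ((MulAut.conj (w : G)).injective ?_)⟩⟩, fun a ha => ?_⟩
    · show MulAut.conj (w : G) ((a : G) * b) = MulAut.conj (w : G) ((b : G) * a)
      rw [map_mul, map_mul]
      exact setLike_mul_comm (hmem _ a.2) (hmem _ b.2)
    · exact (MulAut.conj (w : G)).injective (by rw [map_pow, map_one]; exact hA.2 _ (hmem a ha))
  set N := K ⊔ P with hN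
  have hNW : N ≤ W := sup_le_sup_left hPA _
  have hWN : W ≤ normalizer (N : Set G) := by
    refine sup_le (le_sup_left.trans le_normalizer) (le_trans (le_inf
      (hAH.trans (le_normalizer_piCoreOf _ _)) ?_) (normalizer_inf_normalizer_le_normalizer_sup _ _))
    exact hAC.trans (centralizer_le_normalizer _)
  have hPK : P ⊓ K = ⊥ := le_bot_iff.1 (hAK ▸ inf_le_inf_right _ hPA)
  have hcN : Nat.card N = Nat.card K * p := by
    rw [hN, Solvable.card_sup_of_disjoint
      (show P ≤ normalizer (K : Set G) from (hPA.trans hAH).trans (le_normalizer_piCoreOf _ _))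
      (disjoint_iff.2 (inf_comm K P ▸ hPK)), hP]
  have hi : N.relIndex W = p := by
    have h1 := relIndex_mul_relIndex ⊥ N W bot_le hNW
    rw [relIndex_bot_left, relIndex_bot_left, hcN, hcW, pow_two, ← mul_assoc] at h1
    exact Nat.eq_of_mul_eq_mul_left (mul_pos Nat.card_pos hp.out.pos) h1
  have hT : Y ⊔ zpowers v ≤ centralizer (P : Set G) := sup_le hYC (zpowers_le.2 hvP)
  have hTN : Y ⊔ zpowers v ≤ normalizer (N : Set G) :=
    le_trans (le_inf ((hT.trans hCH).trans (le_normalizer_piCoreOf _ _))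
      (hT.trans (centralizer_le_normalizer _))) (normalizer_inf_normalizer_le_normalizer_sup _ _)
  have hYT : Y ≤ ⁅Y ⊔ zpowers v, Y ⊔ zpowers v⁆ :=
    hYv.ge.trans (commutator_mono le_sup_left le_sup_right)
  have hA'Y : A' ≤ centralizer (Y : Set G) := by
    have h1 : ⁅A', Y⁆ ≤ P := by
      rw [Subgroup.commutator_le]
      intro a ha y hy
      have h2 := mem_of_commutator_mod hp.out hWN hi ((hT.trans hCH).trans hW) hTN (hYT hy)
        (hA'W ha)
      have h3 : ⁅a, y⁆ ∈ A' :=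
        Solvable.commutator_le_of_normalizes hSY (commutator_mem_commutator ha hy)
      have h4 : ⁅a, y⁆ ∈ N := by
        have h5 := inv_mem h2
        rwa [show (y * a * y⁻¹ * a⁻¹)⁻¹ = ⁅a, y⁆ by rw [commutatorElement_def]; group] at h5
      obtain ⟨k, hk, x, hx, he⟩ := (Solvable.mem_sup_of_le_normalizer
        ((hPA.trans hAH).trans (le_normalizer_piCoreOf _ _))).1 h4
      have h6 : k ∈ A' ⊓ K := by
        refine ⟨?_, hk⟩
        rw [show k = ⁅a, y⁆ * x⁻¹ by rw [← he]; group]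
        exact A'.mul_mem h3 (A'.inv_mem (hPS hx))
      have h7 : A' ⊓ K = ⊥ := disjoint_iff.1 (disjoint_of_coprime_natCard (by
        rw [hA'c]
        exact ((hp.out.coprime_iff_not_dvd).2 fun hd =>
          hpH.2.1 (sigma_of_dvd_sigmaCore hp.out hd)).pow_left 2))
      rw [h7, mem_bot] at h6
      rw [← he, h6, one_mul]
      exact hx
    refine commutator_eq_bot_iff_le_centralizer.1 ?_
    have hsA : Group.IsSolvable A' := by
      haveI := hA'p.isNilpotent
      infer_instance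
    rw [← Solvable.commutator_commutator_eq hSY (hcop.coprime_dvd_right (card_dvd_of_le hA'W))
      (Or.inr hsA), eq_bot_iff]
    exact (commutator_mono h1 le_rfl).trans (le_of_eq
      (commutator_eq_bot_iff_le_centralizer.2 (le_centralizer_iff.1 hYC)))
  obtain ⟨X, hXY, hX⟩ := exists_le_card_prime hY hY1
  obtain ⟨⟨x, hxP⟩, hx⟩ := exists_prime_orderOf_dvd_card' (G := P) p (hP ▸ dvd_rfl)
  rw [orderOf_mk] at hx
  refine false_of_elementary_centralizer hG hM hpσ hqσ hX
    ((hXY.trans (hYM.trans inf_le_left)).trans (piCoreOf_le _ _)) (x := x)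
    (fun h => hp.out.ne_one (hx ▸ h ▸ orderOf_one))
    ((isPGroup_of_prime_card hP).to_le (zpowers_le.2 hxP)) (hPM hxP)
    (centralizer_le_normalizer _ ((le_centralizer_iff.1 (hXY.trans hYC)) hxP))
    hA'e hA'c (hA'Y.trans (centralizer_le hXY)) (not_idealPrime hG hH hpH.2.2.1 hpH.2.2.2)

/-- BG 13.3 (a), general form. -/
theorem semiprime {p : ℕ} [hp : Fact p.Prime] (hpσ : p ∉ Cfsg.sigma M)
    (hr : Cfsg.PRankLE p 1 M) {v : G} (hvM : v ∈ M) (hvp : IsPGroup p (zpowers v))
    {P : Subgroup G} (hP : Nat.card P = p) (hPv : P ≤ zpowers v) :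
    Cfsg.sigmaCore M ⊓ centralizer (P : Set G) ≤ centralizer ({v} : Set G) := by
  set C := Cfsg.sigmaCore M ⊓ centralizer (P : Set G) with hC
  have hvP : v ∈ centralizer (P : Set G) := by
    intro x hx
    obtain ⟨i, rfl⟩ := mem_zpowers_iff.1 (hPv hx)
    exact ((Commute.refl v).zpow_left i).eq
  have hPM : P ≤ M := hPv.trans (zpowers_le.2 hvM)
  by_contra hne
  have hvC : zpowers v ≤ normalizer (C : Set G) := zpowers_le.2 (inf_normalizer_le_normalizer_inf
    ⟨le_normalizer_piCoreOf _ _ hvM, le_normalizer hvP⟩)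
  have hcop : (Nat.card (zpowers v)).Coprime (Nat.card C) := by
    obtain ⟨n, hn⟩ := hvp.exists_card_eq
    rw [hn]
    exact ((hp.out.coprime_iff_not_dvd).2 fun hd => hpσ
      (sigma_of_dvd_sigmaCore hp.out (hd.trans (card_dvd_of_le inf_le_left)))).pow_left n
  haveI := sigmaCore_isSolvable hG hM
  obtain ⟨q, hq, Y, hY, hY1, hYC, -, hYv⟩ := exists_moved_pgroup hvC hcop
    (Group.isSolvable_of_isSolvable_injective (Subgroup.inclusion_injective inf_le_left))
    fun h => hne fun c hc => mem_centralizer_singleton_iff.2 (h hc v (mem_zpowers v)).symm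
  haveI := Fact.mk hq
  have hqσ : q ∈ Cfsg.sigma M := sigma_of_dvd_sigmaCore hq
    ((dvd_card_of_isPGroup hY hY1).trans (card_dvd_of_le (hYC.trans inf_le_left)))
  obtain ⟨H, hH, hNP⟩ := exists_isCoatom_ge (normalizer_ne_top hG (ne_bot_of_prime_card hP)
    (isPGroup_ne_top hG (isPGroup_of_prime_card hP)))
  obtain ⟨hne', hconj, -⟩ := overgroup_normalizer hG hM hpσ hr hP hNP
  by_cases hpH : p ∈ Cfsg.sigma H
  · have hvH : v ∈ Cfsg.sigmaCore H := le_sigmaCore_of_pgroup hG hH hpH hvp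
      (zpowers_le.2 (hNP (centralizer_le_normalizer _ hvP))) (mem_zpowers v)
    have hYH : Y ≤ normalizer (Cfsg.sigmaCore H : Set G) :=
      ((hYC.trans inf_le_right).trans ((centralizer_le_normalizer _).trans hNP)).trans
        (le_normalizer_piCoreOf _ _)
    have h1 : Y ≤ Cfsg.sigmaCore H := by
      refine hYv.ge.trans ((commutator_mono le_rfl (zpowers_le.2 hvH)).trans ?_)
      rw [commutator_comm]
      exact Solvable.commutator_le_of_normalizes hYH
    obtain ⟨X, hXY, hX⟩ := exists_le_card_prime hY hY1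
    exact false_of_sigma_derived hG hM hH hne' hqσ hX
      ((hXY.trans (hYC.trans inf_le_left)).trans (piCoreOf_le _ _))
      (hXY.trans (hYv.ge.trans (commutator_mono h1 (zpowers_le.2 hvH))))
  · obtain ⟨⟨h2, h1⟩, -⟩ := rank_two_of_normalizer_le hG hH hpH hP hNP
    exact tau2_pair hG hM hpσ hP hPM hH (fun g e => hconj g e.symm) ⟨hp.out, hpH, h2, h1⟩ hNP
      hY hY1 hYC hvP hYv

end CfsgLib.OddOrder
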