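import Cfsg.Agent.Lib.OddOrder.KappaBasic
import Cfsg.Agent.Lib.OddOrder.SemiPrime
import Cfsg.Agent.S1414

/-!
BG 13.1 (a) and tools on complements of `M_σ` used in section 13.
-/

set_option autoImplicit false
set_option linter.style.haveILetI false

open scoped commutatorElement Pointwise

namespace CfsgLib.OddOrder

open Subgroup

variable {G : Type*} [Group G] [Finite G] (hG : Cfsg.IsMinSimpleOddOrder G)
include hG

/-- The normal `r`-complement of `H'`, `r ∉ β(H)`, in the ambient group. -/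
theorem exists_derived_complement {H : Subgroup G} (hH : IsCoatom H) {r : ℕ} [hr : Fact r.Prime]
    (hrH : r ∣ Nat.card H) (hβ : r ∉ Cfsg.beta H) :
    ∃ N : Subgroup G, N ≤ ⁅H, H⁆ ∧ H ≤ normalizer (N : Set G) ∧ ¬ r ∣ Nat.card N ∧
      ∀ y ∈ ⁅H, H⁆, ¬ r ∣ orderOf y → y ∈ N := by
  have hcompl := ((Cfsg.Agent.S1414.result hG H hH).2.2.2.2 r hr.out hrH hβ).1
  set D := ⁅H, H⁆ with hD
  obtain ⟨P, N₁, hN₁n, hN₁⟩ := hcompl
  set C := Cfsg.pPrimeCore r D with hC
  haveI : C.Characteristic := Solvable.pPrimeCore_characteristic r D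
  refine ⟨C.map D.subtype, map_subtype_le _, ?_, ?_, fun y hy hyr => ?_⟩
  · refine le_trans ?_ (normalizer_le_normalizer_map_of_characteristic D C)
    rw [le_normalizer_iff]
    intro g hg x hx
    have h1 := mul_mem (commutator_mem_commutator hg (commutator_le_self H hx)) hx
    rwa [commutatorElement_def, inv_mul_cancel_right] at h1
  · rw [card_map_of_injective D.subtype_injective]
    exact fun hd => hr.out.coprime_iff_not_dvd.1 (Solvable.pPrimeCore_card_coprime r D).symm hd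
  · have hN₁C : N₁ ≤ C := by
      refine Solvable.le_pPrimeCore hN₁n (Nat.Coprime.symm (hr.out.coprime_iff_not_dvd.2 ?_))
      rw [← hN₁.index_eq_card]
      exact P.not_dvd_index
    have hidx : N₁.index = Nat.card (P : Subgroup D) := hN₁.symm.index_eq_card
    set y' : D := ⟨y, hy⟩
    obtain ⟨k, hk⟩ := P.2.exists_card_eq
    have hco : (Nat.card (P : Subgroup D)).Coprime (orderOf y') := by
      rw [hk, Subgroup.orderOf_mk]
      exact Nat.Coprime.pow_left k (hr.out.coprime_iff_not_dvd.2 hyr)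
    obtain ⟨j, hj⟩ := exists_pow_eq_self_of_coprime hco
    haveI := hN₁n
    exact ⟨y', hN₁C (hj ▸ N₁.pow_mem (hidx ▸ N₁.pow_index_mem y') j), rfl⟩

/-- An element of `H'` centralizes the subgroups of `H` it normalizes whose primes lie outside
`β(H)` and are prime to its order. -/
theorem mem_centralizer_of_derived {H : Subgroup G} (hH : IsCoatom H) {Y : Subgroup G}
    (hYH : Y ≤ H) {v : G} (hv : v ∈ ⁅H, H⁆) (hvY : v ∈ normalizer (Y : Set G))
    (hq : ∀ q : ℕ, q.Prime → q ∣ Nat.card Y → q ∉ Cfsg.beta H ∧ ¬ q ∣ orderOf v) :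
    v ∈ centralizer (Y : Set G) := by
  intro y hy
  refine commutatorElement_eq_one_iff_mul_comm.1 ?_
  have hcY : ⁅y, v⁆ ∈ Y := by
    rw [commutatorElement_def, mul_assoc y, mul_assoc y]
    exact mul_mem hy ((mem_normalizer_iff.1 hvY y⁻¹).1 (inv_mem hy))
  rw [← orderOf_eq_one_iff, Nat.eq_one_iff_not_exists_prime_dvd]
  intro q hqp hqd
  haveI := Fact.mk hqp
  have hqY : q ∣ Nat.card Y := hqd.trans (orderOf_dvd_card_of_mem hcY)
  obtain ⟨hβ, hnd⟩ := hq q hqp hqY
  obtain ⟨N, -, hHN, hNq, hN⟩ :=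
    exists_derived_complement hG hH (hqY.trans (card_dvd_of_le hYH)) hβ
  refine hNq (hqd.trans (orderOf_dvd_card_of_mem ?_))
  rw [commutatorElement_def]
  exact mul_mem ((mem_normalizer_iff.1 (hHN (hYH hy)) v).1 (hN v hv hnd))
    (inv_mem (hN v hv hnd))

variable {M : Subgroup G} (hM : IsCoatom M)
include hM

/-- BG 13.1 (a): `M_σ ∩ H` is centralized by the `σ(M)'`-elements of `M ∩ H'`. -/
theorem derived_centralizes {H : Subgroup G} (hH : IsCoatom H)
    (hconj : ∀ g : G, M.map (MulAut.conj g).toMonoidHom ≠ H) {v : G} (hvM : v ∈ M)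
    (hv : v ∈ ⁅H, H⁆) (hvσ : ∀ q : ℕ, q.Prime → q ∣ orderOf v → q ∉ Cfsg.sigma M) :
    v ∈ centralizer ((Cfsg.sigmaCore M ⊓ H : Subgroup G) : Set G) := by
  refine mem_centralizer_of_derived hG hH inf_le_right hv (inf_normalizer_le_normalizer_inf
    ⟨le_normalizer_piCoreOf _ _ hvM, le_normalizer (commutator_le_self H hv)⟩) fun q hq hd => ?_
  have hσ : q ∈ Cfsg.sigma M :=
    sigma_of_dvd_sigmaCore hq (hd.trans (card_dvd_of_le inf_le_left))
  exact ⟨fun hβ => not_mem_sigma_of_alpha hG hH hM hconj hβ.1 hσ, fun h => hvσ q hq h hσ⟩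

/-- A `σ(M)'`-subgroup normalizing a Sylow subgroup `S` of `M_σ` lies in a complement of `M_σ`
normalizing `S`. -/
theorem exists_complement_normalizer {r : ℕ} [Fact r.Prime] {S : Subgroup G}
    (hS : IsMaxPIn r (Cfsg.sigmaCore M) S) {P : Subgroup G} (hPM : P ≤ M)
    (hPS : P ≤ normalizer (S : Set G))
    (hPσ : ∀ q : ℕ, q.Prime → q ∣ Nat.card P → q ∉ Cfsg.sigma M) :
    ∃ E : Subgroup G, Cfsg.IsComplIn E (Cfsg.sigmaCore M) M ∧ P ≤ E ∧
      E ≤ normalizer (S : Set G) := by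
  set K := Cfsg.sigmaCore M with hK
  have hKM : K ≤ M := piCoreOf_le _ _
  set L := M ⊓ normalizer (S : Set G) with hL
  haveI := isSolvable_of_ne_top hG hM.1
  haveI : Group.IsSolvable L :=
    Group.isSolvable_of_isSolvable_injective (Subgroup.inclusion_injective (inf_le_left : L ≤ M))
  set π : Set ℕ := {q | q.Prime ∧ q ∉ Cfsg.sigma M}
  have hPL : P ≤ L := le_inf hPM hPS
  obtain ⟨E₀, hE₀, hPE₀⟩ := Solvable.exists_isPiHall_ge (G := L) (π := π) (K := P.subgroupOf L)
    fun q hq hd => ⟨hq, hPσ q hq (by rwa [Nat.card_congr (subgroupOfEquivOfLe hPL).toEquiv] at hd)⟩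
  set E := E₀.map L.subtype with hEdef
  have hEL : E ≤ L := map_subtype_le _
  have hEπ : ∀ q : ℕ, q.Prime → q ∣ Nat.card E → q ∉ Cfsg.sigma M := fun q hq hd =>
    (hE₀.1 q hq (by rwa [hEdef, card_map_of_injective L.subtype_injective] at hd)).2
  obtain ⟨hHall, -⟩ := hall_of_subset hG hM (π := Cfsg.sigma M) subset_rfl
    fun p _ S hp => sylow_le_sigmaCore hG hM hp S
  have hEK : E ⊓ K = ⊥ := inf_eq_bot_of_coprime (Nat.coprime_of_dvd fun q hq h1 h2 =>
    hEπ q hq h1 (sigma_of_dvd_sigmaCore hq h2))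
  have hLK : L ≤ normalizer (K : Set G) := inf_le_left.trans (le_normalizer_piCoreOf _ _)
  set KL := K ⊓ L with hKL
  have hLKL : L ≤ normalizer (KL : Set G) :=
    (le_inf hLK le_normalizer).trans inf_normalizer_le_normalizer_inf
  have hcard : Nat.card L ∣ Nat.card ↥(KL ⊔ E) := by
    rw [Solvable.card_sup_of_disjoint (hEL.trans hLKL) (disjoint_iff.2
      (le_bot_iff.1 ((inf_le_inf_right _ inf_le_left).trans (by rw [inf_comm, hEK])))),
      ← relIndex_bot_left KL, ← relIndex_bot_left L, ← relIndex_mul_relIndex ⊥ KL L bot_le inf_le_right]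
    refine Nat.mul_dvd_mul_left _ ?_
    have hi1 : KL.relIndex L ∣ Nat.card E * E.relIndex L := by
      rw [← relIndex_bot_left E, relIndex_mul_relIndex ⊥ E L bot_le hEL, relIndex_bot_left]
      exact relIndex_dvd_card KL L
    refine (Nat.Coprime.dvd_of_dvd_mul_right (Nat.coprime_of_dvd fun q hq h1 h2 => ?_) hi1)
    have hq2 : q ∈ Cfsg.sigma M := by
      by_contra hqσ
      rw [hEdef, relIndex, subgroupOf, comap_map_eq_self_of_injective L.subtype_injective] at h2
      exact hE₀.2 q hq ⟨hq, hqσ⟩ h2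
    refine hHall.2.2 q hq hq2 (h1.trans ?_)
    rw [hKL, inf_relIndex_right]
    haveI : (K.subgroupOf M).Normal :=
      normal_subgroupOf_of_le_normalizer (le_normalizer_piCoreOf _ _)
    rw [← relIndex_subgroupOf (show L ≤ M from inf_le_left)]
    exact relIndex_dvd_index_of_normal _ _
  have hsup : KL ⊔ E = L := eq_of_le_of_card_ge (sup_le inf_le_right hEL)
    (Nat.le_of_dvd Nat.card_pos hcard)
  have hM' : M ≤ K ⊔ E := by
    refine (frattini_le hS hKM (le_normalizer_piCoreOf _ _)).trans (sup_le le_sup_left ?_)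
    rw [show M ⊓ normalizer (S : Set G) = L from rfl, ← hsup]
    exact sup_le_sup_right inf_le_left _
  refine ⟨E, ⟨hEL.trans inf_le_left, hKM, hEK, fun m hm => ?_⟩, ?_, hEL.trans inf_le_right⟩
  · obtain ⟨k, hk, e, he, rfl⟩ :=
      (Solvable.mem_sup_of_le_normalizer (hEL.trans hLK)).mp (hM' hm)
    refine ⟨e, he, e⁻¹ * k * e, ?_, by group⟩
    have h := (mem_normalizer_iff.1 (hLK (hEL (inv_mem he))) k).1 hk
    rwa [inv_inv] at h
  · exact (map_subgroupOf_eq_of_le hPL).ge.trans (map_mono hPE₀)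

omit hG hM in
/-- A `π`-subgroup of a solvable group lies in a Hall `π`-subgroup. -/
theorem exists_isPiHallOf_ge {E P : Subgroup G} (hE : Group.IsSolvable E) (hPE : P ≤ E)
    {π : Set ℕ} (hπ : Cfsg.IsPiSubgroup π P) :
    ∃ H : Subgroup G, Cfsg.IsPiHallOf π H E ∧ P ≤ H := by
  haveI := hE
  obtain ⟨H₀, hH₀, hPH₀⟩ := Solvable.exists_isPiHall_ge (G := E) (π := π) (K := P.subgroupOf E)
    fun q hq hd => hπ q hq (by rwa [Nat.card_congr (subgroupOfEquivOfLe hPE).toEquiv] at hd)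
  exact ⟨_, Solvable.isPiHallOf_of_isPiHall hH₀,
    (map_subgroupOf_eq_of_le hPE).ge.trans (map_mono hPH₀)⟩

/-- A `τ₁(M)`-subgroup of a complement of `M_σ` is cyclic. -/
theorem exists_tau1_hall_ge {E P : Subgroup G} (hE : Cfsg.IsComplIn E (Cfsg.sigmaCore M) M)
    (hPE : P ≤ E) (hP : Cfsg.IsPiSubgroup (Cfsg.tau1 M) P) :
    ∃ E₁ : Subgroup G, Cfsg.IsPiHallOf (Cfsg.tau1 M) E₁ E ∧ P ≤ E₁ ∧ IsCyclic E₁ := by
  obtain ⟨E₁, hE₁, hPE₁⟩ := exists_isPiHallOf_ge
    (isSolvable_of_ne_top hG fun h => hM.1 (top_le_iff.1 (h ▸ hE.1))) hPE hP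
  exact ⟨E₁, hE₁, hPE₁, isCyclic_tau1_hall hG hM hE hE₁⟩

end CfsgLib.OddOrder
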