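import Cfsg.Agent.Lib.OddOrder.Fitting
import Cfsg.Agent.Lib.Solvable.InvariantHall
import Cfsg.Agent.Lib.Solvable.CoprimeAction
import Cfsg.Agent.Lib.Frobenius.Fpf
import Cfsg.Agent.Lib.OddOrder.Tau13Basic
import Cfsg.Agent.Lib.OddOrder.KappaBasic

/-!
General tools for BG sections 15 and 16: Hall subgroups of a group `S = Q ⋊ D` with `D` nilpotent,
commutators of a split extension, fixed-point-free actions of groups of order `p * q`.
-/

set_option autoImplicit false
set_option maxHeartbeats 400000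
set_option linter.style.haveILetI false

open scoped Pointwise

namespace CfsgLib.OddOrder

open Subgroup
open scoped commutatorElement

variable {G : Type*} [Group G]

/-- The commutator of a product `M = E N` lies in `N ⁅E, E⁆`. -/
theorem commutator_le_sup_commutator {M E N : Subgroup G} (hN : N ≤ M)
    (hMN : M ≤ normalizer (N : Set G)) (hE : E ≤ M)
    (hsup : ∀ m ∈ M, ∃ a ∈ E, ∃ b ∈ N, m = a * b) : ⁅M, M⁆ ≤ N ⊔ ⁅E, E⁆ := by
  haveI : (N.subgroupOf M).Normal := normal_subgroupOf_of_le_normalizer hMN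
  set f := QuotientGroup.mk' (N.subgroupOf M) with hf
  refine commutator_le.2 fun x hx y hy => ?_
  obtain ⟨a, ha, b, hb, rfl⟩ := hsup x hx
  obtain ⟨c, hc, d, hd, rfl⟩ := hsup y hy
  have key : ∀ {u v : G} (hu : u ∈ E) (hv : v ∈ N),
      f ⟨u * v, mul_mem (hE hu) (hN hv)⟩ = f ⟨u, hE hu⟩ := by
    intro u v hu hv
    symm
    rw [hf, QuotientGroup.mk'_apply, QuotientGroup.mk'_apply, QuotientGroup.eq, mem_subgroupOf]
    simpa using hv
  have h : f ⁅(⟨a * b, hx⟩ : M), (⟨c * d, hy⟩ : M)⁆ = f ⁅(⟨a, hE ha⟩ : M), (⟨c, hE hc⟩ : M)⁆ := by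
    rw [map_commutatorElement, map_commutatorElement, key ha hb, key hc hd]
  rw [hf, QuotientGroup.mk'_apply, QuotientGroup.mk'_apply, QuotientGroup.eq, mem_subgroupOf] at h
  simp only [Subgroup.coe_mul, Subgroup.coe_inv, commutatorElement_def] at h
  have h1 : a * c * a⁻¹ * c⁻¹ ∈ ⁅E, E⁆ := by
    rw [← commutatorElement_def]; exact commutator_mem_commutator ha hc
  have h2 := (N ⊔ ⁅E, E⁆).mul_mem (mem_sup_right h1 : a * c * a⁻¹ * c⁻¹ ∈ N ⊔ ⁅E, E⁆)
    (inv_mem (mem_sup_left h))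
  rw [commutatorElement_def]
  convert h2 using 1
  group

/-- A nilpotent image: if `⁅M, M⁆ ≤ N D` with `D` nilpotent then `M' N / N` is nilpotent. -/
theorem isNilpotent_commutator_map_of_le_sup {M D : Subgroup G} {N : Subgroup M} [N.Normal]
    (hD : D ≤ M) (hDn : Group.IsNilpotent D) (h : ⁅M, M⁆ ≤ N.map M.subtype ⊔ D) :
    Group.IsNilpotent ↥((commutator ↥M).map (QuotientGroup.mk' N)) := by
  set f := QuotientGroup.mk' N
  haveI : Group.IsNilpotent ↥(D.subgroupOf M) := by
    haveI := hDn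
    exact Group.nilpotent_of_mulEquiv (subgroupOfEquivOfLe hD).symm
  haveI : Group.IsNilpotent ↥((D.subgroupOf M).map f) :=
    Group.nilpotent_of_surjective (f.subgroupMap (D.subgroupOf M))
      (f.subgroupMap_surjective (D.subgroupOf M))
  have hle : (commutator ↥M).map f ≤ (D.subgroupOf M).map f := by
    have h1 : commutator ↥M ≤ N ⊔ D.subgroupOf M := by
      rw [← map_le_map_iff_of_injective M.subtype_injective, Subgroup.map_sup,
        map_subgroupOf_eq_of_le hD, _root_.commutator_def, map_commutator,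
        ← MonoidHom.range_eq_map, range_subtype]
      exact h
    refine (map_mono h1).trans ?_
    rw [Subgroup.map_sup, (Subgroup.map_eq_bot_iff _).2 (QuotientGroup.ker_mk' N).ge, bot_sup_eq]
  exact Group.nilpotent_of_mulEquiv (subgroupOfEquivOfLe hle)

section Hall

variable [Finite G]

/-- A normal `π`-subgroup lies in every Hall `π`-subgroup. -/
theorem le_of_isPiHallOf_of_normal {π : Set ℕ} {S H N : Subgroup G} (hS : Group.IsSolvable S)
    (hH : Cfsg.IsPiHallOf π H S) (hNS : N ≤ S) (hSN : S ≤ normalizer (N : Set G))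
    (hN : Cfsg.IsPiSubgroup π N) : N ≤ H := by
  obtain ⟨H', hH', hNH'⟩ := exists_isPiHallOf_ge hS hNS hN
  obtain ⟨k, hk, hkH⟩ := Solvable.exists_conj_of_isPiHallOf hS hH' hH
  have h1 : MulAut.conj k • N = N := Solvable.conj_smul_eq_self_iff.2 (hSN hk)
  rw [← hkH, ← h1]
  exact pointwise_smul_le_pointwise_smul_iff.2 hNH'

omit [Finite G] in
/-- A subgroup of order prime to its index in `S` is a Hall subgroup for its primes. -/
theorem isPiHallOf_of_coprime_relIndex {S H : Subgroup G} (hHS : H ≤ S)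
    (hco : (Nat.card H).Coprime (H.relIndex S)) :
    Cfsg.IsPiHallOf {q | q.Prime ∧ q ∣ Nat.card H} H S :=
  ⟨hHS, fun _ hq hd => ⟨hq, hd⟩, fun _ hq hd hi =>
    Nat.not_coprime_of_dvd_of_dvd hq.one_lt hd.2 hi hco⟩

/-- A Hall subgroup of a nilpotent group is its `π`-core. -/
theorem eq_piCoreOf_of_isPiHallOf_nilpotent {π : Set ℕ} {D H : Subgroup G}
    (hD : Group.IsNilpotent D) (hH : Cfsg.IsPiHallOf π H D) : H = Cfsg.piCoreOf π D := by
  have h1 : H ≤ Cfsg.piCoreOf π D := fun x hx =>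
    mem_piCoreOf_of_nilpotent hD (hH.1 hx) fun s hs hd =>
      hH.2.1 s hs (hd.trans (orderOf_dvd_card_of_mem hx))
  refine le_antisymm h1 (le_of_isPiHallOf_of_normal ?_ hH (piCoreOf_le _ _)
    (le_normalizer_piCoreOf _ _) (piCoreOf_isPiSubgroup _ _))
  haveI := hD
  infer_instance

/-- The `π`-core of a nilpotent group is a Hall subgroup. -/
theorem piCoreOf_isPiHallOf_of_nilpotent {D : Subgroup G} (hD : Group.IsNilpotent D) (π : Set ℕ) :
    Cfsg.IsPiHallOf π (Cfsg.piCoreOf π D) D := by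
  haveI := hD
  obtain ⟨H, hH⟩ := Solvable.exists_isPiHall (G := D) π
  have hH' := Solvable.isPiHallOf_of_isPiHall hH
  rwa [← eq_piCoreOf_of_isPiHallOf_nilpotent hD hH']

variable {M S Q D H : Subgroup G}

/-- Conjugation inside a Hall subgroup of `S = Q ⋊ D` (with `D` nilpotent, `Q` and `S` normal in
`M`) is controlled by its normalizer in `M`. -/
theorem exists_normalizer_conj_of_hall (hS : Group.IsSolvable S) (hSM : S ≤ M)
    (hMS : M ≤ normalizer (S : Set G)) (hMQ : M ≤ normalizer (Q : Set G))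
    (hQD : Cfsg.IsComplIn Q D S) (hD : Group.IsNilpotent D)
    (hco : (Nat.card Q).Coprime (Nat.card D)) {π : Set ℕ} (hH : Cfsg.IsPiHallOf π H S)
    (hQπ : (∀ q : ℕ, q.Prime → q ∣ Nat.card Q → q ∈ π) ∨
      ∀ q : ℕ, q.Prime → q ∣ Nat.card Q → q ∉ π)
    {x m : G} (hx : x ∈ H) (hm : m ∈ M) (hy : m * x * m⁻¹ ∈ H) :
    ∃ n ∈ M ⊓ normalizer (H : Set G), n * x * n⁻¹ = m * x * m⁻¹ := by
  obtain ⟨hQS, hDS, hdis, hfac⟩ := hQD
  set P := Cfsg.piCoreOf π D with hP
  have hPD : P ≤ D := piCoreOf_le _ _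
  have hDP : D ≤ normalizer (P : Set G) := le_normalizer_piCoreOf _ _
  have hDQ : D ≤ normalizer (Q : Set G) := (hDS.trans hSM).trans hMQ
  rcases hQπ with hq | hq
  · -- `H` is normal in `M`
    have hPQ : P ≤ normalizer (Q : Set G) := hPD.trans hDQ
    have hsup : Q ⊔ P ≤ S := sup_le hQS (hPD.trans hDS)
    have hπ : Cfsg.IsPiSubgroup π (Q ⊔ P) := by
      intro s hs hd
      rcases hs.dvd_mul.1 (hd.trans (Solvable.card_sup_dvd hPQ)) with h | h
      · exact hq s hs h
      · exact piCoreOf_isPiSubgroup π D s hs h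
    have hSn : S ≤ normalizer ((Q ⊔ P : Subgroup G) : Set G) := by
      intro s hs
      obtain ⟨a, ha, d, hd, rfl⟩ := hfac s hs
      refine mul_mem (le_normalizer (mem_sup_left ha)) ?_
      rw [← Solvable.conj_smul_eq_self_iff, smul_sup,
        Solvable.conj_smul_eq_self_iff.2 (hDQ hd), Solvable.conj_smul_eq_self_iff.2 (hDP hd)]
    have hle : Q ⊔ P ≤ H := le_of_isPiHallOf_of_normal hS hH hsup hSn hπ
    have hHeq : H = Q ⊔ P := by
      refine le_antisymm (fun h hh => ?_) hle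
      obtain ⟨a, ha, d, hd, rfl⟩ := hfac h (hH.1 hh)
      refine mul_mem (mem_sup_left ha) (mem_sup_right ?_)
      have hdH : d ∈ H := (H.mul_mem_cancel_left (hle (mem_sup_left ha))).1 hh
      exact mem_piCoreOf_of_nilpotent hD hd fun s hs hsd =>
        hH.2.1 s hs (hsd.trans (orderOf_dvd_card_of_mem hdH))
    have hMH : M ≤ normalizer (H : Set G) := by
      intro g hg
      obtain ⟨k, hk, hkH⟩ := Solvable.exists_conj_of_isPiHallOf hS
        (Solvable.isPiHallOf_conj_smul hH (hMS hg)) hH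
      rw [← Solvable.conj_smul_eq_self_iff]
      have hkn : MulAut.conj k • H = H := Solvable.conj_smul_eq_self_iff.2 (by rw [hHeq]; exact hSn hk)
      exact smul_left_cancel (MulAut.conj k) (hkH.trans hkn.symm)
    exact ⟨m, mem_inf.2 ⟨hm, hMH hm⟩, rfl⟩
  · -- `H` is conjugate to the `π`-core of `D`
    have hDidx : D.relIndex S = Nat.card Q :=
      (card_eq_relIndex_of_isComplIn ⟨hQS, hDS, hdis, hfac⟩).symm
    have hPS : Cfsg.IsPiHallOf π P S := Solvable.isPiHallOf_trans hDS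
      (fun s hs hsπ hd => hq s hs (hDidx ▸ hd) hsπ) (piCoreOf_isPiHallOf_of_nilpotent hD π)
    obtain ⟨k, hk, hkH⟩ := Solvable.exists_conj_of_isPiHallOf hS hH hPS
    have hkM : k ∈ M := hSM hk
    set x' := k * x * k⁻¹ with hx'
    set m' := k * m * k⁻¹ with hm'
    have hm'M : m' ∈ M := mul_mem (mul_mem hkM hm) (inv_mem hkM)
    have hmemP : ∀ {z : G}, z ∈ H → k * z * k⁻¹ ∈ P := by
      intro z hz
      rw [← hkH]
      exact ⟨z, hz, rfl⟩
    have hx'P : x' ∈ P := hmemP hx
    have hy'P : m' * x' * m'⁻¹ ∈ P := by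
      have := hmemP hy
      rw [hm', hx']
      convert this using 1
      group
    -- the Frattini argument
    have hDhall : Cfsg.IsPiHallOf {s | s.Prime ∧ s ∣ Nat.card D} D S :=
      isPiHallOf_of_coprime_relIndex hDS (by rw [hDidx]; exact hco.symm)
    obtain ⟨l, hl, hlD⟩ := Solvable.exists_conj_of_isPiHallOf hS
      (Solvable.isPiHallOf_conj_smul hDhall (hMS hm'M)) hDhall
    obtain ⟨a, ha, d, hd, hl'⟩ := hfac l⁻¹ (inv_mem hl)
    -- `m' = (a * d) * (l * m')` where `l * m'` normalizes `D`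
    have hn0 : d * (l * m') ∈ normalizer (D : Set G) := by
      refine mul_mem (le_normalizer hd) ?_
      rw [← Solvable.conj_smul_eq_self_iff, map_mul, mul_smul]
      exact hlD
    have hn0M : d * (l * m') ∈ M := mul_mem (hSM (hDS hd)) (mul_mem (hSM hl) hm'M)
    have hmeq : m' = a * (d * (l * m')) := by
      rw [show a * (d * (l * m')) = (a * d) * l * m' by group, ← hl']
      group
    set n0 := d * (l * m') with hn0def
    have hn0P : n0 ∈ normalizer (P : Set G) :=
      normalizer_le_normalizer_piCoreOf π D hn0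
    set z := n0 * x' * n0⁻¹ with hz
    have hzP : z ∈ P := (mem_normalizer_iff.1 hn0P x').1 hx'P
    have hyz : m' * x' * m'⁻¹ = a * z * a⁻¹ := by
      rw [hmeq, hz]
      group
    have hQa : z⁻¹ * a * z ∈ Q := by
      have := (mem_normalizer_iff.1 (hDQ (inv_mem (hPD hzP))) a).1 ha
      simpa using this
    have hcomm : z⁻¹ * (m' * x' * m'⁻¹) = 1 := by
      have h1 : z⁻¹ * (m' * x' * m'⁻¹) ∈ Q ⊓ D := by
        refine mem_inf.2 ⟨?_, mul_mem (inv_mem (hPD hzP)) (hPD hy'P)⟩
        rw [hyz, show z⁻¹ * (a * z * a⁻¹) = z⁻¹ * a * z * a⁻¹ by group]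
        exact mul_mem hQa (inv_mem ha)
      rwa [hdis, mem_bot] at h1
    have heq : n0 * x' * n0⁻¹ = m' * x' * m'⁻¹ := inv_mul_eq_one.1 hcomm
    refine ⟨k⁻¹ * n0 * k, mem_inf.2 ⟨mul_mem (mul_mem (inv_mem hkM) hn0M) hkM, ?_⟩, ?_⟩
    · have hn0P' : MulAut.conj n0 • P = P := Solvable.conj_smul_eq_self_iff.2 hn0P
      rw [← Solvable.conj_smul_eq_self_iff, map_mul, map_mul, mul_smul, mul_smul, hkH, hn0P', ← hkH,
        map_inv, inv_smul_smul]
    · rw [hx', hm'] at heq
      calc k⁻¹ * n0 * k * x * (k⁻¹ * n0 * k)⁻¹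
          = k⁻¹ * (n0 * (k * x * k⁻¹) * n0⁻¹) * k := by group
        _ = k⁻¹ * (k * m * k⁻¹ * (k * x * k⁻¹) * (k * m * k⁻¹)⁻¹) * k := by rw [heq]
        _ = m * x * m⁻¹ := by group

/-- A non-cyclic group of order `p * q` does not act fixed-point-freely. -/
theorem false_of_fpf_card_mul {A V : Subgroup G} (hV : V ≠ ⊥)
    (hAV : A ≤ normalizer (V : Set G))
    (hfpf : ∀ a ∈ A, a ≠ 1 → V ⊓ centralizer {a} = ⊥) {p q : ℕ} (hp : p.Prime) (hq : q.Prime)
    (hcard : Nat.card A = p * q) (hA : ¬ IsCyclic A) (hAs : Group.IsSolvable A) : False := by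
  have hco : (Nat.card A).Coprime (Nat.card V) := Frobenius.coprime_card_of_fpf hAV hfpf
  obtain ⟨r, hr, hrV⟩ := Nat.exists_prime_and_dvd (V.one_lt_card_iff_ne_bot.2 hV).ne'
  haveI := Fact.mk hr
  obtain ⟨R, hR⟩ := Solvable.exists_invariant_sylow hAV hco (Or.inl hAs) r
  set W := (R : Subgroup V).map V.subtype with hW
  have hWne : (R : Subgroup V) ≠ ⊥ := R.ne_bot_of_dvd_card hrV
  have hWp : IsPGroup r W := R.2.map _
  haveI : Nontrivial W := by
    rw [nontrivial_iff_ne_bot, Ne, Subgroup.map_eq_bot_iff_of_injective _ V.subtype_injective]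
    exact hWne
  haveI hc : Nontrivial (Subgroup.center W) := IsPGroup.center_nontrivial hWp
  set Z := (Subgroup.center W).map W.subtype with hZ
  haveI : IsMulCommutative Z := inferInstance
  have hZne : Z ≠ ⊥ := by
    rw [Ne, Subgroup.map_eq_bot_iff_of_injective _ W.subtype_injective]
    exact (nontrivial_iff_ne_bot _).1 hc
  have hAZ : A ≤ normalizer (Z : Set G) :=
    hR.trans (Solvable.normalizer_le_of_characteristic_map (Subgroup.center W))
  exact hA (Frobenius.isCyclic_of_card_mul_fpf (V := Z) hZne hAZ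
    (fun a ha ha1 => le_bot_iff.1 (hfpf a ha ha1 ▸ inf_le_inf_right _
      ((map_subtype_le _).trans (map_subtype_le _)))) hp hq hcard)

end Hall

end CfsgLib.OddOrder
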