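import Cfsg.Agent.Lib.OddOrder.FHall
import Cfsg.Agent.Lib.OddOrder.FHallTools
import Cfsg.Agent.Lib.OddOrder.CoprimeCompl
import Cfsg.Agent.Lib.OddOrder.ExceptionalTools
import Cfsg.Agent.S1351
import Cfsg.Agent.S1352
import Cfsg.Agent.S1437

/-!
The two cases `M_F = M_σ` and `M_F ≠ M_σ` (BG 15.2), packaged for sections 15 and 16.
-/

set_option autoImplicit false
set_option maxHeartbeats 400000
set_option linter.style.haveILetI false

open scoped Pointwise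

namespace CfsgLib.OddOrder

open Subgroup

variable {G : Type*} [Group G] [Finite G] (hG : Cfsg.IsMinSimpleOddOrder G) {M : Subgroup G}
  (hM : IsCoatom M)
include hG hM

/-- A standard factorisation exists. -/
theorem exists_sigmaDecomposition : ∃ K U : Subgroup G, Cfsg.IsSigmaDecomposition M K U := by
  obtain ⟨⟨K, hK⟩, hcyc⟩ := Cfsg.Agent.S1351.result hG M hM
  obtain ⟨⟨U, hU⟩, -⟩ := Cfsg.Agent.S1352.result hG M hM K (hcyc K hK) hK
  exact ⟨K, U, hU⟩

/-- `M_F` is nontrivial. -/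
theorem fittingHallOf_ne_bot : Cfsg.fittingHallOf M ≠ ⊥ := by
  by_cases hne : Cfsg.fittingHallOf M = Cfsg.sigmaCore M
  · rw [hne]
    exact sigmaCore_ne_bot hG hM
  obtain ⟨K, U, hKU⟩ := exists_sigmaDecomposition hG hM
  obtain ⟨-, -, -, hq, hqH, -⟩ := Cfsg.Agent.S1437.result hG M hM K U hKU hne
  intro h
  rw [h, card_bot] at hqH
  exact hq.not_dvd_one hqH

/-- `M_σ` is a split extension of a normal subgroup `Q` of `M` inside `M_F` by a nilpotent group,
where `Q` involves at most one prime. -/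
theorem exists_sigmaCore_split :
    ∃ Q D : Subgroup G, Q ≤ Cfsg.fittingHallOf M ∧ M ≤ normalizer (Q : Set G) ∧
      Cfsg.IsComplIn Q D (Cfsg.sigmaCore M) ∧ Group.IsNilpotent D ∧
      (Nat.card Q).Coprime (Nat.card D) ∧
      ∀ a b : ℕ, a.Prime → b.Prime → a ∣ Nat.card Q → b ∣ Nat.card Q → a = b := by
  by_cases hne : Cfsg.fittingHallOf M = Cfsg.sigmaCore M
  · refine ⟨⊥, Cfsg.sigmaCore M, bot_le, ?_, ⟨bot_le, le_rfl, bot_inf_eq _, fun m hm =>
      ⟨1, one_mem _, m, hm, (one_mul m).symm⟩⟩, hne ▸ fittingHallOf_isNilpotent M, by simp, ?_⟩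
    · rw [normalizer_eq_top]
      exact le_top
    · intro a b ha _ h _
      rw [card_bot, Nat.dvd_one] at h
      exact absurd h ha.ne_one
  obtain ⟨K, U, hKU⟩ := exists_sigmaDecomposition hG hM
  obtain ⟨-, -, -, hq, -, -, Q, hQH, hQn, hQp, hQi, hD⟩ :=
    Cfsg.Agent.S1437.result hG M hM K U hKU hne
  set q := Nat.card ↥(Cfsg.sigmaCore M ⊓ centralizer (K : Set G))
  haveI := Fact.mk hq
  have hpow : ∀ a : ℕ, a.Prime → a ∣ Nat.card Q → a = q := fun a ha hd => by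
    obtain ⟨n, hn⟩ := IsPGroup.iff_card.1 hQp
    rw [hn] at hd
    exact (Nat.prime_dvd_prime_iff_eq ha hq).1 (ha.dvd_of_dvd_pow hd)
  have hco : (Nat.card Q).Coprime (Q.relIndex (Cfsg.sigmaCore M)) :=
    Nat.coprime_of_dvd fun a ha h1 h2 => hQi (hpow a ha h1 ▸ h2)
  have hQS : Q ≤ Cfsg.sigmaCore M := hQH.trans (fittingHallOf_le_sigmaCore hG hM)
  obtain ⟨D, hQD⟩ := exists_isComplIn_of_coprime hQS ((piCoreOf_le _ M).trans hQn) hco
  refine ⟨Q, D, hQH, hQn, hQD, (hD D hQD).1, ?_, fun a b ha hb h1 h2 => ?_⟩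
  · refine hco.coprime_dvd_right (dvd_of_eq ?_)
    obtain ⟨h1, h2, h3, h4⟩ := hQD
    refine card_eq_relIndex_of_isComplIn ⟨h2, h1, by rw [inf_comm]; exact h3, fun m hm => ?_⟩
    obtain ⟨a, ha, d, hd, hm'⟩ := h4 m⁻¹ (inv_mem hm)
    exact ⟨d⁻¹, inv_mem hd, a⁻¹, inv_mem ha, by rw [← mul_inv_rev, ← hm', inv_inv]⟩
  · rw [hpow a ha h1, hpow b hb h2]

/-- `M'` lies in a product of `M_F` and a nilpotent subgroup of `M`. -/
theorem exists_nilpotent_supplement :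
    ∃ D : Subgroup G, D ≤ M ∧ Group.IsNilpotent D ∧
      ⁅M, M⁆ ≤ Cfsg.fittingHallOf M ⊔ D := by
  by_cases hne : Cfsg.fittingHallOf M = Cfsg.sigmaCore M
  · obtain ⟨E, -, hE⟩ := exists_complement_ge hG hM (K := ⊥) bot_le fun q hq h => by
      rw [card_bot, Nat.dvd_one] at h
      exact absurd h hq.ne_one
    refine ⟨⁅E, E⁆, (commutator_le_self E).trans hE.1, isNilpotent_complement_commutator hG hM hE, ?_⟩
    rw [hne]
    exact commutator_le_sup_commutator hE.2.1 (le_normalizer_piCoreOf _ M) hE.1 hE.2.2.2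
  obtain ⟨K, U, hKU⟩ := exists_sigmaDecomposition hG hM
  obtain ⟨-, hS, -⟩ := Cfsg.Agent.S1437.result hG M hM K U hKU hne
  obtain ⟨Q, D, hQH, -, hQD, hD, -⟩ := exists_sigmaCore_split hG hM
  refine ⟨D, hQD.2.1.trans (piCoreOf_le _ M), hD, ?_⟩
  rw [← hS]
  intro m hm
  obtain ⟨a, ha, d, hd, rfl⟩ := hQD.2.2.2 m hm
  exact mul_mem (mem_sup_left (hQH ha)) (mem_sup_right hd)

end CfsgLib.OddOrder
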