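import Cfsg.Agent.Lib.OddOrder.Sigma

/-!
`σ(M)`, `M_σ` and centralisers under conjugation.
-/

set_option autoImplicit false

namespace CfsgLib.OddOrder

open Subgroup

variable {G : Type*} [Group G] [Finite G]

theorem sigma_conj_subset (M : Subgroup G) (g : G) :
    Cfsg.sigma M ⊆ Cfsg.sigma (M.map (MulAut.conj g).toMonoidHom) := by
  rintro p ⟨hp, hpM, P, hP⟩
  haveI := Fact.mk hp
  set c := (MulAut.conj g).toMonoidHom with hc
  have hci : Function.Injective c := (MulAut.conj g).injective
  let e := M.equivMapOfInjective c hci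
  refine ⟨hp, by rwa [card_map_of_injective hci],
    P.mapSurjective (f := e.toMonoidHom) e.surjective, ?_⟩
  have h : ((P : Subgroup M).map e.toMonoidHom).map (M.map c).subtype =
      ((P : Subgroup M).map M.subtype).map c := by
    rw [Subgroup.map_map, Subgroup.map_map]
    exact congrArg (fun f => (P : Subgroup M).map f) (MonoidHom.ext fun _ => rfl)
  show normalizer ((((P : Subgroup M).map e.toMonoidHom).map (M.map c).subtype : Subgroup G) :
    Set G) ≤ M.map c
  rw [h, hc, ← map_equiv_normalizer_eq]
  exact Subgroup.map_mono hP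

/-- `σ` is invariant under conjugation. -/
theorem sigma_conj (M : Subgroup G) (g : G) :
    Cfsg.sigma (M.map (MulAut.conj g).toMonoidHom) = Cfsg.sigma M := by
  refine Set.Subset.antisymm ?_ (sigma_conj_subset M g)
  have h := sigma_conj_subset (M.map (MulAut.conj g).toMonoidHom) g⁻¹
  rwa [map_conj_map_conj, inv_mul_cancel, map_conj_one] at h

theorem sigmaCore_conj (M : Subgroup G) (g : G) :
    Cfsg.sigmaCore (M.map (MulAut.conj g).toMonoidHom) =
      (Cfsg.sigmaCore M).map (MulAut.conj g).toMonoidHom := by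
  show Cfsg.piCoreOf _ _ = (Cfsg.piCoreOf _ _).map _
  rw [map_piCoreOf_conj, sigma_conj]

omit [Finite G] in
theorem centralizer_singleton_conj (x g : G) :
    centralizer ({g * x * g⁻¹} : Set G) =
      (centralizer ({x} : Set G)).map (MulAut.conj g).toMonoidHom := by
  ext y
  rw [mem_map_conj_iff, mem_centralizer_singleton_iff, mem_centralizer_singleton_iff]
  constructor
  · intro h
    calc g⁻¹ * y * g * x = g⁻¹ * (y * (g * x * g⁻¹)) * g := by group
      _ = g⁻¹ * (g * x * g⁻¹ * y) * g := by rw [h]
      _ = x * (g⁻¹ * y * g) := by group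
  · intro h
    calc y * (g * x * g⁻¹) = g * (g⁻¹ * y * g * x) * g⁻¹ := by group
      _ = g * (x * (g⁻¹ * y * g)) * g⁻¹ := by rw [h]
      _ = g * x * g⁻¹ * y := by group

end CfsgLib.OddOrder
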