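import Cfsg.Agent.Lib.OddOrder.TauTwoCriterion

/-!
BG 12.11 for a `τ₂`-prime with nonabelian Sylow subgroups.
-/

set_option autoImplicit false
set_option linter.style.haveILetI false

namespace CfsgLib.OddOrder

open Subgroup

variable {G : Type*} [Group G] [Finite G] (hG : Cfsg.IsMinSimpleOddOrder G) {M : Subgroup G}
  (hM : IsCoatom M) {E : Subgroup G} (hE : Cfsg.IsComplIn E (Cfsg.sigmaCore M) M)
  {p : ℕ} [hp : Fact p.Prime] (hpt : p ∈ Cfsg.tau2 M)
  (hS : ∀ S : Sylow p G, ¬ IsMulCommutative (S : Subgroup G))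
include hG hM hE hpt hS

/-- The line of `A` centralizing `M_σ`, and the cyclic subgroup missing it. -/
theorem exists_fixed_line :
    ∃ A₁ : Subgroup G, A₁ ≤ E ∧ E ≤ normalizer (A₁ : Set G) ∧ Nat.card A₁ = p ∧
      Cfsg.tau2 M = {p} ∧
      (∀ x ∈ E, x ^ p = 1 → x ∉ A₁ → Cfsg.sigmaCore M ⊓ centralizer ({x} : Set G) = ⊥) ∧
      ∀ S : Sylow p E, ∃ C : Subgroup G, A₁ ⊓ C = ⊥ ∧
        IsMulCommutative ↥((S : Subgroup E).map E.subtype) ∧
        A₁ ≤ (S : Subgroup E).map E.subtype ∧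
        ∀ x ∈ (S : Subgroup E).map E.subtype, x ^ p ∈ C := by
  obtain ⟨A, hAE, hAe, hA2⟩ := exists_elementary_in_complement hG hM hE hpt
  obtain ⟨hτ, ⟨hA₁c, -⟩, hX⟩ :=
    Cfsg.Agent.S1419.result hG M hM E hE p hpt hS A ⟨hAE, hAe, hA2⟩
  obtain ⟨A₀, h, -⟩ :=
    Cfsg.Agent.S1417.exists_isExceptional hG hM hpt.2.1 (hAE.trans hE.1) hAe hA2
  obtain ⟨⟨hEA, -⟩, -, -⟩ := Cfsg.Agent.S1418.result hG M hM E hE p hpt A ⟨hAE, hAe, hA2⟩
  set S₁ := Cfsg.sigmaCore M with hS₁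
  have hMS : M ≤ normalizer (S₁ : Set G) := le_normalizer_piCoreOf _ _
  set A₁ := A ⊓ centralizer (S₁ : Set G) with hA₁
  have hA₁E : A₁ ≤ E := inf_le_left.trans hAE
  have hEA₁ : E ≤ normalizer (A₁ : Set G) := fun e he => inf_normalizer_le_normalizer_inf
    ⟨hEA he, normalizer_le_normalizer_centralizer _ (hMS (hE.1 he))⟩
  have hMA₁ : M ≤ normalizer (A₁ : Set G) := by
    intro m hm
    obtain ⟨e, he, s, hs, rfl⟩ := hE.2.2.2 m hm
    exact mul_mem (hEA₁ he) (centralizer_le_normalizer _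
      ((le_centralizer_iff.1 (inf_le_right : A₁ ≤ _)) hs))
  have hA₁1 : A₁ ≠ ⊥ := fun hb => hp.out.one_lt.ne (by rw [← hA₁c, hb, Subgroup.card_bot])
  refine ⟨A₁, hA₁E, hEA₁, hA₁c, hτ, fun x hx hxp hxA => ?_, fun S => ?_⟩
  · have hx1 : x ≠ 1 := fun h1 => hxA (h1 ▸ one_mem _)
    have h1 := (hX (zpowers x) (zpowers_le.2 hx)
      (by rw [Nat.card_zpowers, orderOf_eq_prime hxp hx1])
      (fun he => hxA (he.le (mem_zpowers x)))).1
    rwa [Cfsg.Agent.S1416.centralizer_zpowers_eq hG] at h1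
  set P := (S : Subgroup E).map E.subtype
  have hP : IsMaxPIn p M P := isMaxPIn_complement hG hM hE hpt.2.1 S
  have hPE : P ≤ E := map_subtype_le _
  have hAP : A ≤ P := by
    rw [← hP.max (P ⊔ A) (hP.pgroup.to_sup_of_normal_right' h.pgroup (hPE.trans hEA)) le_sup_left
      (sup_le hP.le h.le)]
    exact le_sup_right
  obtain ⟨T₀, hPT⟩ := hP.pgroup.exists_le_sylow
  set T := (T₀ : Subgroup G) with hT
  have hTtop : IsMaxPIn p ⊤ T := ⟨le_top, T₀.2, fun R hR hle _ => T₀.3 hR hle⟩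
  have hTM : ¬ T ≤ M := Cfsg.Agent.S1419.not_sylow_le hG hM h hS hTtop
  have hAZ : ¬ A ≤ centralizer (T : Set G) := fun hc =>
    hTM ((le_centralizer_iff.1 hc).trans h.centralizer_le)
  obtain ⟨C, hC, -, hCpow, hCN⟩ := exists_cyclic_pow hG (h.ne_two hG) T₀ (hAP.trans hPT) hAe hA2
    (fun B hB hAB => h.maximal hG hM hB hAB) hAZ
  refine ⟨C, ?_, h.isMulCommutative_sylow hG hM hP, inf_le_left.trans hAP, fun x hx =>
    hCpow x (hPT hx) (h.le_centralizer_of_isMaxPIn hG hM hP hAP hx)⟩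
  by_contra hne
  have hA₁C : A₁ ≤ C := by
    have h1 : A₁ ⊓ C = A₁ := by
      refine eq_of_le_of_card_ge inf_le_left ?_
      rw [hA₁c]
      rcases (Nat.dvd_prime hp.out).1 (hA₁c ▸ card_dvd_of_le (inf_le_left : A₁ ⊓ C ≤ A₁))
        with hd | hd
      · exact absurd (Subgroup.card_eq_one.1 hd) hne
      · exact hd.ge
    rw [← h1]
    exact inf_le_right
  -- an element of `T` outside `M` normalizing `P`
  obtain ⟨g, hgT, hgP, hgN⟩ : ∃ g ∈ T, g ∉ P ∧ g ∈ normalizer (P : Set G) := by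
    haveI : Group.IsNilpotent T := T₀.2.isNilpotent
    have hlt : P.subgroupOf T < ⊤ := lt_top_iff_ne_top.2 fun hc =>
      hTM ((subgroupOf_eq_top.1 hc).trans hP.le)
    obtain ⟨g, hg, hgP⟩ := SetLike.exists_of_lt (Group.normalizerCondition_of_isNilpotent _ hlt)
    refine ⟨g, g.2, fun hc => hgP (mem_subgroupOf.2 hc), ?_⟩
    rw [← map_subgroupOf_eq_of_le hPT]
    exact le_normalizer_map T.subtype ⟨g, hg, rfl⟩
  have hgA : g ∈ normalizer (A : Set G) := h.normalizer_le_normalizer hG hM hP hAP hgN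
  have hgM : g ∉ M := fun hgM => hgP (by
    rw [← hP.max (T ⊓ M) (T₀.2.to_le inf_le_left) (le_inf hPT hP.le) inf_le_right]
    exact ⟨hgT, hgM⟩)
  refine hgM ((normalizer_eq_of_isCoatom_of_le hG hM hA₁1 (hA₁E.trans hE.1) hMA₁).le ?_)
  exact le_normalizer_of_cyclic (zpowers_le.2 (hCN g hgT hgA)) hC hA₁C (mem_zpowers g)

variable (hfpf : ∀ e ∈ E, e ≠ 1 →
  (∀ r : ℕ, r.Prime → r ∣ orderOf e → r ∈ Cfsg.tau1 M ∪ Cfsg.tau3 M) →
  Cfsg.sigmaCore M ⊓ centralizer ({e} : Set G) = ⊥)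
include hfpf

/-- BG 12.11, nonabelian case. -/
theorem exists_fpf_subgroup_nonabelian :
    ∃ A₁ : Subgroup G, A₁ ≤ E ∧ E ≤ normalizer (A₁ : Set G) ∧ IsPGroup p A₁ ∧
      (∀ e ∈ E, Cfsg.sigmaCore M ⊓ centralizer ({e} : Set G) ≠ ⊥ → e ∈ A₁) ∧
      ∃ E₀ : Subgroup G, E₀ ≤ E ∧ Monoid.exponent E₀ = Monoid.exponent E ∧
        ∀ e ∈ E₀, e ≠ 1 → Cfsg.sigmaCore M ⊓ centralizer ({e} : Set G) = ⊥ := by
  obtain ⟨A₁, hA₁E, hEA₁, hA₁c, hτ, hline, hC⟩ := exists_fixed_line hG hM hE hpt hS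
  have hA₁p : IsPGroup p A₁ := IsPGroup.of_card (n := 1) (by rw [hA₁c, pow_one])
  -- no element of `A₁` other than `1` is a `p`th power in `E`
  have hroot : ∀ w ∈ E, ∀ i : ℕ, orderOf w = p ^ i → w ^ p ∈ A₁ → w ^ p = 1 := by
    intro w hw i hi hwA
    obtain ⟨S, hwS⟩ := exists_sylow_mem hw hi
    obtain ⟨C, hAC, -, -, hpow⟩ := hC S
    have h1 : w ^ p ∈ A₁ ⊓ C := ⟨hwA, hpow w hwS⟩
    rwa [hAC, mem_bot] at h1
  have hbad : ∀ e ∈ E, Cfsg.sigmaCore M ⊓ centralizer ({e} : Set G) ≠ ⊥ → e ∈ A₁ := by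
    refine fun e he hb => mem_of_fixed_point hG hM hE hfpf (fun z hz hzb r i hr hrt ho => ?_) he hb
    obtain rfl : r = p := by
      rw [hτ] at hrt
      exact hrt
    rcases Nat.lt_or_ge i 2 with hi2 | hi2
    · by_contra hzA
      refine hzb (hline z hz ?_ hzA)
      interval_cases i
      · rw [pow_zero, orderOf_eq_one_iff] at ho
        rw [ho, one_pow]
      · rw [← pow_one r, ← ho, pow_orderOf_eq_one]
    exfalso
    obtain ⟨i, rfl⟩ : ∃ j, i = j + 2 := ⟨i - 2, by omega⟩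
    set w := z ^ r ^ i
    have hwp : (w ^ r) ^ r = 1 := by
      rw [← pow_mul, ← pow_mul, show r ^ i * (r * r) = r ^ (i + 2) by ring, ← ho, pow_orderOf_eq_one]
    have hw1 : w ^ r ≠ 1 := fun h1 => by
      rw [← pow_mul, ← pow_succ] at h1
      have h2 := orderOf_dvd_of_pow_eq_one h1
      rw [ho, Nat.pow_dvd_pow_iff_le_right hr.one_lt] at h2
      omega
    refine hw1 ?_
    have hwE : w ∈ E := pow_mem hz _
    obtain ⟨j, -, hj⟩ := (Nat.dvd_prime_pow hr).1 (ho ▸ orderOf_pow_dvd (r ^ i) : orderOf w ∣ _)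
    refine hroot w hwE j hj (by_contra fun hn => ?_)
    exact fixed_point_pow_ne_bot (fixed_point_pow_ne_bot hzb (r ^ i)) r
      (hline _ (pow_mem hwE r) hwp hn)
  refine ⟨A₁, hA₁E, hEA₁, hA₁p, hbad, ?_⟩
  -- a complement to `A₁`
  obtain ⟨S⟩ : Nonempty (Sylow p E) := inferInstance
  obtain ⟨C, hAC, hPc, hA₁P, hpow⟩ := hC S
  haveI := hPc
  set K := A₁.subgroupOf E with hK
  haveI : K.Normal := normal_subgroupOf_of_le_normalizer hEA₁
  haveI : IsMulCommutative K := by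
    haveI : IsCyclic A₁ := isCyclic_of_prime_card (p := p) hA₁c
    exact ⟨⟨fun a b => (subgroupOfEquivOfLe hA₁E).injective (by
      rw [map_mul, map_mul]
      exact IsCyclic.commGroup.mul_comm _ _)⟩⟩
  have hKS : K ≤ (S : Subgroup E) := fun x hx => by
    obtain ⟨y, hy, hyx⟩ := hA₁P hx
    rwa [← Subtype.ext hyx]
  have hcomm : ∀ a ∈ (S : Subgroup E), ∀ b ∈ (S : Subgroup E), Commute a b := fun a ha b hb =>
    Subtype.ext (setLike_mul_comm (s := (S : Subgroup E).map E.subtype)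
      (mem_map_of_mem E.subtype ha) (mem_map_of_mem E.subtype hb))
  obtain ⟨D, -, hDmax⟩ := (Set.toFinite {D : Subgroup E |
    D ≤ (S : Subgroup E) ∧ C.subgroupOf E ⊓ (S : Subgroup E) ≤ D ∧ D ⊓ K = ⊥}).exists_le_maximal
    (a := C.subgroupOf E ⊓ (S : Subgroup E)) ⟨inf_le_right, le_rfl, eq_bot_iff.2 fun x hx => by
      have h1 : (x : G) ∈ A₁ ⊓ C := ⟨hx.2, hx.1.1⟩
      rw [hAC, mem_bot] at h1
      exact mem_bot.2 (Subtype.ext h1)⟩
  obtain ⟨hDS, hCD, hDK⟩ := hDmax.prop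
  have hKD : K ⊔ D = (S : Subgroup E) := by
    refine le_antisymm (sup_le hKS hDS) fun x hx => ?_
    by_contra hxn
    have hxp : x ^ p ∈ D := hCD ⟨hpow _ (mem_map_of_mem E.subtype hx), pow_mem hx p⟩
    have hle : D ⊔ zpowers x ≤ (S : Subgroup E) := sup_le hDS (zpowers_le.2 hx)
    have h1 : D ⊔ zpowers x ≤ D := hDmax.2 ⟨hle, hCD.trans le_sup_left, eq_bot_iff.2 ?_⟩ le_sup_left
    · exact hxn (mem_sup_right (h1 (mem_sup_right (mem_zpowers x))))
    rintro u ⟨hu, huK⟩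
    obtain ⟨d, hd, v, hv, rfl⟩ := (Solvable.mem_sup_of_le_normalizer (zpowers_le.2
      (centralizer_le_normalizer _ fun d hd => (hcomm d (hDS hd) x hx).eq) :
        zpowers x ≤ normalizer (D : Set E))).1 hu
    obtain ⟨j, rfl⟩ := hv
    by_cases hj : (p : ℤ) ∣ j
    · obtain ⟨k, rfl⟩ := hj
      have h2 : d * x ^ ((p : ℤ) * k) ∈ D := mul_mem hd (by
        rw [zpow_mul, zpow_natCast]
        exact zpow_mem hxp k)
      exact hDK.le ⟨h2, huK⟩
    exfalso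
    refine hxn ?_
    have h2 : x ^ j ∈ K ⊔ D := by
      have := mul_mem (mem_sup_right (S := K) (inv_mem hd)) (mem_sup_left (T := D) huK)
      simpa using this
    obtain ⟨a, b, hab⟩ := (Nat.prime_iff_prime_int.mp hp.out).coprime_iff_not_dvd.mpr hj
    have h3 : x ^ (a * (p : ℤ) + b * j) ∈ K ⊔ D := by
      rw [zpow_add, mul_comm a, mul_comm b, zpow_mul, zpow_mul, zpow_natCast]
      exact mul_mem (zpow_mem (mem_sup_right hxp) _) (zpow_mem h2 _)
    rwa [hab, zpow_one] at h3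
  obtain ⟨H, hH⟩ := Solvable.exists_isComplement'_of_le (K := K) (A := D) hKS (by
    rw [hK, Nat.card_congr (subgroupOfEquivOfLe hA₁E).toEquiv, hA₁c]
    exact hp.out.coprime_iff_not_dvd.2 S.not_dvd_index) hDK hKD
  refine ⟨H.map E.subtype, map_subtype_le _, Nat.dvd_antisymm
    (Monoid.exponent_dvd_of_monoidHom (inclusion (map_subtype_le _)) (inclusion_injective _)) ?_,
    fun e he he1 => by_contra fun hb => ?_⟩
  · rw [← Monoid.exponent_eq_of_mulEquiv (H.equivMapOfInjective _ E.subtype_injective)]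
    set n := Monoid.exponent H
    refine Monoid.exponent_dvd_iff_forall_pow_eq_one.2 fun y => ?_
    have hyK : y ^ n ∈ K := by
      obtain ⟨⟨k, h⟩, rfl⟩ := hH.2 y
      rw [← QuotientGroup.eq_one_iff (N := K), QuotientGroup.mk_pow, QuotientGroup.mk_mul,
        (QuotientGroup.eq_one_iff (k : E)).2 k.2, one_mul, ← QuotientGroup.mk_pow,
        show (h : E) ^ n = 1 from congrArg Subtype.val (Monoid.pow_exponent_eq_one h),
        QuotientGroup.mk_one]
    -- `p` divides the exponent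
    have hpn : p ∣ n := by
      obtain ⟨a, ha⟩ := exists_prime_orderOf_dvd_card' (G := H) p (by
        have h1 := hH.card_mul
        rw [hK, Nat.card_congr (subgroupOfEquivOfLe hA₁E).toEquiv, hA₁c] at h1
        obtain ⟨A, hAE, -, hA2⟩ := exists_elementary_in_complement hG hM hE hpt
        have h2 : p ^ 2 ∣ Nat.card E := hA2 ▸ card_dvd_of_le hAE
        rw [← h1, sq] at h2
        exact Nat.dvd_of_mul_dvd_mul_left hp.out.pos h2)
      exact ha ▸ Monoid.order_dvd_exponent a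
    obtain ⟨m, hm⟩ := hpn
    refine Subtype.ext ?_
    show (y : G) ^ n = 1
    have hyA : (y : G) ^ n ∈ A₁ := hyK
    rw [hm, mul_comm, pow_mul] at hyA ⊢
    have hp2 : ((y : G) ^ m) ^ (p * p) = 1 := by
      rw [pow_mul]
      exact congrArg Subtype.val (show (⟨_, hyA⟩ : A₁) ^ p = 1 by
        exact orderOf_dvd_iff_pow_eq_one.1 ((_root_.orderOf_dvd_natCard _).trans (dvd_of_eq hA₁c)))
    obtain ⟨i, -, hi⟩ := (Nat.dvd_prime_pow hp.out).1
      (show orderOf ((y : G) ^ m) ∣ p ^ 2 from orderOf_dvd_of_pow_eq_one (by rw [sq, hp2]))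
    exact hroot _ (pow_mem y.2 m) i hi hyA
  · obtain ⟨u, hu, rfl⟩ := he
    refine he1 (congrArg E.subtype (mem_bot.1 (hH.disjoint.le_bot ⟨?_, hu⟩)))
    exact hbad _ u.2 hb

end CfsgLib.OddOrder
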