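import Cfsg.Agent.Lib.OddOrder.KappaStructure
import Cfsg.Agent.Lib.OddOrder.SigmaDichotomy
import Cfsg.Agent.Lib.OddOrder.SigmaConj
import Cfsg.Agent.S1421

/-!
The factor `U` of a standard factorisation `M = K U M_σ`: its elements with fixed points on `M_σ`
(BG 15.1).
-/

set_option autoImplicit false
set_option linter.style.haveILetI false
set_option maxHeartbeats 400000

namespace CfsgLib.OddOrder

open Subgroup

variable {G : Type*} [Group G] [Finite G] (hG : Cfsg.IsMinSimpleOddOrder G) {M K U : Subgroup G}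
  (hM : IsCoatom M) (hKU : Cfsg.IsSigmaDecomposition M K U)
include hG hM hKU

/-- An element of `U` with a fixed point on `M_σ` is a `τ₂`-element and `M` is the only maximal
subgroup over its centralizer. -/
theorem decomposition_fixed {u : G} (hu : u ∈ U) (hu1 : u ≠ 1)
    (hfix : Cfsg.sigmaCore M ⊓ centralizer ({u} : Set G) ≠ ⊥) :
    (∀ p : ℕ, p.Prime → p ∣ orderOf u → p ∈ Cfsg.tau2 M) ∧
      centralizer ({u} : Set G) ≤ M ∧
      ∀ L : Subgroup G, IsCoatom L → centralizer ({u} : Set G) ≤ L → L = M := by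
  obtain ⟨x, ⟨hxσ, hxu⟩, hx1⟩ : ∃ x ∈ Cfsg.sigmaCore M ⊓ centralizer ({u} : Set G), x ≠ 1 :=
    (bot_or_exists_ne_one _).resolve_left hfix
  have hp : ∀ p : ℕ, p.Prime → p ∣ orderOf u → p ∉ Cfsg.sigma M ∧ p ∉ Cfsg.kappa M := fun p hp hd =>
    decomposition_U_primes hG hM hKU hp (hd.trans (orderOf_dvd_card_of_mem hu))
  rcases sigma_element_dichotomy hG hM hxσ hx1 (x' := u)
    ⟨hKU.compl.1 hu, mem_centralizer_singleton_iff.2 (mem_centralizer_singleton_iff.1 hxu).symm⟩ hu1
    (fun p hpp hd => (hp p hpp hd).1) with ⟨hκ, -⟩ | ⟨h2, -, h3⟩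
  · obtain ⟨p, hpp, hd⟩ := Nat.exists_prime_and_dvd fun h => hu1 (orderOf_eq_one_iff.1 h)
    exact absurd (hκ p hpp hd) (hp p hpp hd).2
  · exact ⟨h2, h3⟩

/-- Without `κ(M)`-part, BG 12.11 applies to `U`. -/
theorem decomposition_no_kappa (hK : K = ⊥) :
    (∃ A₀ : Subgroup G, A₀ ≤ U ∧ U ≤ normalizer (A₀ : Set G) ∧ IsMulCommutative A₀ ∧
        ∀ x ∈ Cfsg.sigmaCore M, x ≠ 1 → U ⊓ centralizer ({x} : Set G) ≤ A₀) ∧
      ∃ E₀ : Subgroup G, E₀ ≤ U ∧ Monoid.exponent E₀ = Monoid.exponent U ∧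
        ∀ e ∈ E₀, e ≠ 1 → Cfsg.sigmaCore M ⊓ centralizer ({e} : Set G) = ⊥ := by
  have hE : Cfsg.IsComplIn U (Cfsg.sigmaCore M) M := by
    have h := hKU.compl
    rwa [hK, bot_sup_eq] at h
  refine Cfsg.Agent.S1421.result hG M hM U hE fun e he he1 hp => ?_
  by_contra hfix
  obtain ⟨p, hpp, hd⟩ := Nat.exists_prime_and_dvd fun h => he1 (orderOf_eq_one_iff.1 h)
  have h2 := (decomposition_fixed hG hM hKU he he1 hfix).1 p hpp hd
  rcases hp p hpp hd with h | h
  · exact h2.2.2.2 h.2.2.2.2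
  · exact h2.2.2.2 h.2.2.2

/-- BG 15.1: the elements of `U` with fixed points on `M_σ` generate an abelian group. -/
theorem decomposition_sigmaHat_abelian :
    IsMulCommutative (closure ((U : Set G) ∩ Cfsg.sigmaHat M)) := by
  obtain ⟨W, hW, hle⟩ : ∃ W : Subgroup G, IsMulCommutative W ∧
      ∀ u ∈ (U : Set G) ∩ Cfsg.sigmaHat M, u ∈ W := by
    by_cases hK : K = ⊥
    · obtain ⟨⟨A₀, -, -, hA, hfix⟩, -⟩ := decomposition_no_kappa hG hM hKU hK
      refine ⟨A₀, hA, fun u hu => ?_⟩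
      obtain ⟨hu, -, y, hy, hy1, huy⟩ := hu
      exact hfix y hy hy1 ⟨hu, mem_centralizer_singleton_iff.2 huy⟩
    · exact ⟨U, decomposition_abelian hG hM hKU hK, fun u hu => hu.1⟩
  haveI := hW
  refine ⟨⟨fun a b => Subtype.ext ?_⟩⟩
  exact setLike_mul_comm (s := W) ((closure_le W).2 hle a.2) ((closure_le W).2 hle b.2)

/-- A Sylow subgroup of `U` is one of `M`. -/
theorem isMaxPIn_decomposition {q : ℕ} [hq : Fact q.Prime] (hqU : q ∣ Nat.card U) (S : Sylow q U) :
    IsMaxPIn q M ((S : Subgroup U).map U.subtype) := by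
  set P := (S : Subgroup U).map U.subtype
  have hPU : P ≤ U := map_subtype_le _
  have hKS : K ⊔ Cfsg.sigmaCore M ≤ M := sup_le hKU.hall.1 (piCoreOf_le _ _)
  obtain ⟨hqσ, hqκ⟩ := decomposition_U_primes hG hM hKU hq.out hqU
  have hidx : ¬ q ∣ P.relIndex M := by
    rw [← relIndex_mul_relIndex P U M hPU hKU.compl.1, hq.out.dvd_mul]
    rintro (hd | hd)
    · refine S.not_dvd_index ?_
      rwa [relIndex, subgroupOf, comap_map_eq_self_of_injective U.subtype_injective] at hd
    · have h1 : U.relIndex M = Nat.card ↥(K ⊔ Cfsg.sigmaCore M) := by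
        refine Nat.eq_of_mul_eq_mul_left (Nat.card_pos (α := U)) ?_
        rw [← relIndex_bot_left U, relIndex_mul_relIndex ⊥ U M bot_le hKU.compl.1, relIndex_bot_left U,
          relIndex_bot_left M, card_eq_relIndex_of_isComplIn hKU.compl, mul_comm,
          ← relIndex_bot_left (K ⊔ Cfsg.sigmaCore M), relIndex_mul_relIndex ⊥ _ M bot_le hKS,
          relIndex_bot_left M]
      rw [h1, sup_comm] at hd
      rcases hq.out.dvd_mul.1 (hd.trans (card_sup_dvd_mul_of_le_normalizer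
        (hKU.hall.1.trans (le_normalizer_piCoreOf _ _)))) with h | h
      · exact hqσ (sigma_of_dvd_sigmaCore hq.out h)
      · exact hqκ (hKU.hall.2.1 q hq.out h)
  refine ⟨hPU.trans hKU.compl.1, S.2.map _, fun R hR hle hRM => ?_⟩
  obtain ⟨n, hn⟩ := hR.exists_card_eq
  refine (eq_of_le_of_card_ge hle ?_).symm
  rw [hn]
  refine Nat.le_of_dvd Nat.card_pos (Nat.Coprime.dvd_of_dvd_mul_right (k := q ^ n)
    (n := P.relIndex M) ((hq.out.coprime_iff_not_dvd.2 hidx).pow_left n) ?_)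
  rw [← relIndex_bot_left P, relIndex_mul_relIndex ⊥ P M bot_le (hPU.trans hKU.compl.1),
    relIndex_bot_left, ← hn]
  exact card_dvd_of_le hRM

/-- For a prime `q` dividing `exp U`, `U` abelian, some element of maximal `q`-power order has its
part of order `q` free on `M_σ`. -/
theorem exists_fpf_max_order [IsMulCommutative U] {q : ℕ} [hq : Fact q.Prime] {e : ℕ}
    (he : q ^ (e + 1) ∣ Monoid.exponent U) (hmax : ¬ q ^ (e + 2) ∣ Monoid.exponent U) :
    ∃ x ∈ U, orderOf x = q ^ (e + 1) ∧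
      Cfsg.sigmaCore M ⊓ centralizer ({x ^ q ^ e} : Set G) = ⊥ := by
  letI : CommGroup U :=
    { (inferInstance : Group U) with
      mul_comm := fun a b => Subtype.ext (setLike_mul_comm a.2 b.2) }
  obtain ⟨y, hy⟩ := Monoid.exists_orderOf_eq_exponent (G := U) Monoid.ExponentExists.of_finite
  obtain ⟨c, hc⟩ := he
  have hco : ¬ q ∣ c := fun ⟨d, hd⟩ => hmax ⟨d, by rw [hc, hd]; ring⟩
  set x : G := ((y ^ c : U) : G) with hxdef
  have hxU : x ∈ U := (y ^ c).2
  have hc0 : c ≠ 0 := fun h => hco (h ▸ dvd_zero q)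
  have hyx : orderOf x = q ^ (e + 1) := by
    rw [hxdef, Subgroup.orderOf_coe, orderOf_pow' _ hc0, hy, hc, Nat.gcd_eq_right (dvd_mul_left c _),
      Nat.mul_div_cancel _ (Nat.pos_of_ne_zero hc0)]
  by_contra hcon
  push Not at hcon
  have hqU : q ∣ Nat.card U :=
    ((dvd_pow_self q e.succ_ne_zero).trans (dvd_of_eq hyx.symm)).trans (orderOf_dvd_card_of_mem hxU)
  obtain ⟨S, hS⟩ := (IsPGroup.of_card (n := e + 1) (by
    rw [Nat.card_zpowers, Subgroup.orderOf_mk, hyx]) :
    IsPGroup q (zpowers (⟨x, hxU⟩ : U))).exists_le_sylow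
  set P := (S : Subgroup U).map U.subtype with hPdef
  have hP := isMaxPIn_decomposition hG hM hKU hqU S
  obtain ⟨g, hg, hgM⟩ := exists_normalizer_not_mem hG hM
    (decomposition_U_primes hG hM hKU hq.out hqU).1 hP
    (hqU.trans (card_dvd_of_le hKU.compl.1))
  have hxP : x ∈ P := ⟨⟨x, hxU⟩, hS (mem_zpowers _), rfl⟩
  have hgx : g * x * g⁻¹ ∈ U := map_subtype_le _ ((mem_normalizer_iff.1 hg x).1 hxP)
  have hgo : orderOf (g * x * g⁻¹) = q ^ (e + 1) := by
    rw [← MulAut.conj_apply, MulEquiv.orderOf_eq, hyx]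
  have hne : ∀ z : G, orderOf z = q ^ (e + 1) → z ^ q ^ e ≠ 1 := fun z hz h1 => by
    have h2 := orderOf_dvd_of_pow_eq_one h1
    rw [hz, Nat.pow_dvd_pow_iff_le_right hq.out.one_lt] at h2
    omega
  have h₁ := decomposition_fixed hG hM hKU (pow_mem hxU _) (hne x hyx) (hcon x hxU hyx)
  have h₂ := decomposition_fixed hG hM hKU (pow_mem hgx _) (hne _ hgo) (hcon _ hgx hgo)
  refine hgM (mem_of_map_conj_eq hG hM (h₂.2.2 _ (isCoatom_conj hM g) ?_))
  rw [conj_pow, centralizer_singleton_conj]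
  exact map_mono h₁.2.1

/-- BG 15.1: a subgroup of the same exponent as `U` acting freely on `M_σ`. -/
theorem decomposition_fpf_exponent :
    ∃ U₀ : Subgroup G, U₀ ≤ U ∧ Monoid.exponent U₀ = Monoid.exponent U ∧
      ∀ u ∈ U₀, u ≠ 1 → Cfsg.sigmaCore M ⊓ centralizer ({u} : Set G) = ⊥ := by
  by_cases hK : K = ⊥
  · exact (decomposition_no_kappa hG hM hKU hK).2
  haveI := decomposition_abelian hG hM hKU hK
  have hUn : Group.IsNilpotent U := by
    letI : CommGroup U :=
      { (inferInstance : Group U) with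
        mul_comm := fun a b => Subtype.ext (setLike_mul_comm a.2 b.2) }
    exact CommGroup.isNilpotent
  set N := Monoid.exponent U with hN
  have hN0 : N ≠ 0 := Monoid.exponent_ne_zero_of_finite
  have key : ∀ q : ℕ, q ∈ N.primeFactors → ∃ x ∈ U, orderOf x = q ^ N.factorization q ∧
      Cfsg.sigmaCore M ⊓ centralizer ({x ^ q ^ (N.factorization q - 1)} : Set G) = ⊥ := by
    intro q hq
    obtain ⟨hqp, hqd, -⟩ := Nat.mem_primeFactors.1 hq
    haveI := Fact.mk hqp
    obtain ⟨e, he⟩ : ∃ e, N.factorization q = e + 1 :=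
      ⟨_, (Nat.sub_add_cancel (hqp.factorization_pos_of_dvd hN0 hqd)).symm⟩
    rw [he, Nat.add_sub_cancel]
    refine exists_fpf_max_order hG hM hKU ((hqp.pow_dvd_iff_le_factorization hN0).2 he.ge) ?_
    rw [hqp.pow_dvd_iff_le_factorization hN0]
    omega
  choose x hxU hxo hxf using key
  set W : Subgroup G := ⨆ (q : ℕ) (hq : q ∈ N.primeFactors), zpowers (x q hq) with hW
  have hxW : ∀ q hq, x q hq ∈ W := fun q hq =>
    (le_iSup₂_of_le q hq le_rfl : zpowers (x q hq) ≤ W) (mem_zpowers _)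
  have hWU : W ≤ U := iSup₂_le fun q hq => zpowers_le.2 (hxU q hq)
  refine ⟨W, hWU, ?_, fun u hu hu1 => by_contra fun hfix => ?_⟩
  · refine Nat.dvd_antisymm
      (Monoid.exponent_dvd_of_monoidHom (inclusion hWU) (inclusion_injective _)) ?_
    rw [← Nat.factorization_le_iff_dvd hN0 Monoid.exponent_ne_zero_of_finite, Finsupp.le_iff]
    intro q hq
    rw [Nat.support_factorization] at hq
    have hqp := (Nat.mem_primeFactors.1 hq).1
    rw [← hqp.pow_dvd_iff_le_factorization Monoid.exponent_ne_zero_of_finite, ← hxo q hq,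
      ← Subgroup.orderOf_mk (H := W) (x q hq) (hxW q hq)]
    exact Monoid.order_dvd_exponent _
  obtain ⟨q, hqp, hqd⟩ := Nat.exists_prime_and_dvd fun h => hu1 (orderOf_eq_one_iff.1 h)
  haveI := Fact.mk hqp
  set z := u ^ (orderOf u / q)
  have hzo : orderOf z = q := orderOf_pow_orderOf_div (orderOf_pos u).ne' hqd
  have hzW : z ∈ W := pow_mem hu _
  have hqN : q ∈ N.primeFactors := Nat.mem_primeFactors.2 ⟨hqp, (dvd_of_eq hzo.symm).trans (by
    rw [hN, ← Subgroup.orderOf_mk (H := U) z (hWU hzW)]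
    exact Monoid.order_dvd_exponent _), hN0⟩
  have hwU : zpowers (x q hqN) ≤ U := zpowers_le.2 (hxU q hqN)
  set V := Cfsg.piCoreOf {s | s ≠ q} U with hV
  have hWV : W ≤ zpowers (x q hqN) ⊔ V := iSup₂_le fun r hr => by
    by_cases hrq : r = q
    · subst hrq
      exact le_sup_left
    refine le_trans (zpowers_le.2 (mem_piCoreOf_of_nilpotent hUn (hxU r hr) fun s hs hsd => ?_))
      le_sup_right
    rw [hxo r hr] at hsd
    rw [Set.mem_ofPred_eq, (Nat.prime_dvd_prime_iff_eq hs (Nat.mem_primeFactors.1 hr).1).1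
      (hs.dvd_of_dvd_pow hsd)]
    exact hrq
  obtain ⟨a, ha, b, hb, hab⟩ := (Solvable.mem_sup_of_le_normalizer
    ((piCoreOf_le _ U).trans fun v hv => centralizer_le_normalizer _ fun y hy =>
      setLike_mul_comm (s := U) (hwU hy) hv : V ≤ normalizer (zpowers (x q hqN) : Set G))).1 (hWV hzW)
  have hb1 : b = 1 := by
    refine orderOf_eq_one_iff.1 (Nat.eq_one_of_dvd_coprimes
      (a := q ^ N.factorization q) (b := Nat.card V) ?_ ?_ (orderOf_dvd_card_of_mem hb))
    · exact (hqp.coprime_iff_not_dvd.2 fun hd =>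
        (piCoreOf_isPiSubgroup {s | s ≠ q} U q hqp hd : q ≠ q) rfl).pow_left _
    · have hab' : Commute a z := setLike_mul_comm (s := U) (hwU ha) (hWU hzW)
      have hbe : b = a⁻¹ * z := by rw [← hab, inv_mul_cancel_left]
      rw [hbe]
      refine orderOf_dvd_of_pow_eq_one ?_
      rw [hab'.inv_left.mul_pow, inv_pow]
      have h1 : a ^ q ^ N.factorization q = 1 := by
        rw [← hxo q hqN]
        obtain ⟨i, rfl⟩ := ha
        show (x q hqN ^ i) ^ orderOf (x q hqN) = 1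
        rw [← zpow_natCast, ← zpow_mul, mul_comm, zpow_mul, zpow_natCast, pow_orderOf_eq_one,
          one_zpow]
      have h2 : z ^ q ^ N.factorization q = 1 := orderOf_dvd_iff_pow_eq_one.1 (hzo ▸
        dvd_pow_self q (hqp.factorization_pos_of_dvd hN0 (Nat.mem_primeFactors.1 hqN).2.1).ne')
      rw [h1, h2, inv_one, one_mul]
  rw [hb1, mul_one] at hab
  subst hab
  set w := x q hqN ^ q ^ (N.factorization q - 1)
  have hwo : orderOf w = q := by
    have hpos := hqp.factorization_pos_of_dvd hN0 (Nat.mem_primeFactors.1 hqN).2.1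
    rw [orderOf_pow' _ (pow_ne_zero _ hqp.ne_zero), hxo q hqN,
      Nat.gcd_eq_right (pow_dvd_pow q (Nat.sub_le _ 1)), Nat.pow_div (Nat.sub_le _ 1) hqp.pos,
      show N.factorization q - (N.factorization q - 1) = 1 by omega, pow_one]
  have hwz : zpowers z = zpowers w := by
    have h := eq_of_card_eq_of_isCyclic (C := zpowers (x q hqN))
      (H := zpowers ⟨z, ha⟩) (K := zpowers ⟨w, pow_mem (mem_zpowers _) _⟩) (by
        rw [Nat.card_zpowers, Nat.card_zpowers, Subgroup.orderOf_mk, Subgroup.orderOf_mk, hzo, hwo])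
    simpa only [MonoidHom.map_zpowers, Subgroup.coe_subtype] using
      congrArg (Subgroup.map (zpowers (x q hqN)).subtype) h
  refine fixed_point_pow_ne_bot hfix (orderOf u / q) ?_
  show Cfsg.sigmaCore M ⊓ centralizer ({z} : Set G) = ⊥
  rw [← centralizer_closure ({z} : Set G), ← zpowers_eq_closure, hwz, zpowers_eq_closure,
    centralizer_closure]
  exact hxf q hqN

/-- BG 15.1: uniqueness over the centralizer of a subgroup of `U` with a fixed point. -/
theorem decomposition_centralizer_unique {X : Subgroup G} (hXU : X ≤ U) (hX : X ≠ ⊥)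
    (hXc : Cfsg.sigmaCore M ⊓ centralizer (X : Set G) ≠ ⊥) :
    centralizer (X : Set G) ≤ M ∧
      ∀ L : Subgroup G, IsCoatom L → centralizer (X : Set G) ≤ L → L = M := by
  have hfix : ∀ d ∈ X, Cfsg.sigmaCore M ⊓ centralizer ({d} : Set G) ≠ ⊥ := fun d hd hb =>
    hXc (le_bot_iff.1 (hb ▸ inf_le_inf_left _ (centralizer_le (Set.singleton_subset_iff.2 hd))))
  obtain ⟨z, ⟨hzσ, hzX⟩, hz1⟩ : ∃ z ∈ Cfsg.sigmaCore M ⊓ centralizer (X : Set G), z ≠ 1 :=
    (bot_or_exists_ne_one _).resolve_left hXc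
  haveI := decomposition_sigmaHat_abelian hG hM hKU
  have hXab : ∀ a ∈ X, ∀ b ∈ X, a * b = b * a := by
    have hXs : ∀ d ∈ X, d ∈ closure ((U : Set G) ∩ Cfsg.sigmaHat M) := fun d hd =>
      subset_closure ⟨hXU hd, hKU.compl.1 (hXU hd), z, hzσ, hz1, hzX d hd⟩
    exact fun a ha b hb => setLike_mul_comm (hXs a ha) (hXs b hb)
  obtain ⟨p, hp, hpd⟩ := Nat.exists_prime_and_dvd fun h => hX (card_eq_one.1 h)
  haveI := Fact.mk hp
  obtain ⟨y₀, hy₀⟩ := exists_prime_orderOf_dvd_card' p hpd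
  set y : G := (y₀ : G)
  have hyo : orderOf y = p := by rw [Subgroup.orderOf_coe, hy₀]
  have hy1 : y ≠ 1 := fun h => hp.ne_one (by rw [← hyo, h, orderOf_one])
  obtain ⟨hy2, hyM, hyu⟩ := decomposition_fixed hG hM hKU (hXU y₀.2) hy1 (hfix y y₀.2)
  have hpt : p ∈ Cfsg.tau2 M := hy2 p hp (dvd_of_eq hyo.symm)
  refine ⟨(centralizer_le (Set.singleton_subset_iff.2 y₀.2)).trans hyM, fun L hL hCL => ?_⟩
  by_contra hne
  have hE := decomposition_isComplIn hKU
  obtain ⟨A, hAE, hA, hA2⟩ := exists_elementary_in_complement hG hM hE hpt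
  obtain ⟨⟨hEA, hall⟩, -, -⟩ := Cfsg.Agent.S1418.result hG M hM _ hE p hpt A ⟨hAE, hA, hA2⟩
  have hyA : y ∈ A := hall (zpowers y) (zpowers_le.2 (mem_sup_left (hXU y₀.2)))
    (by rw [Nat.card_zpowers, hyo]) (mem_zpowers y)
  have hXA : X ≤ centralizer (A : Set G) := by
    intro d₀ hd₀
    refine mem_of_forall_exists_pow_mem (orderOf_pos d₀) fun s hs hsd => ?_
    obtain ⟨m, i, hm, hi⟩ := exists_prime_part d₀ hs
    refine ⟨m, hm, ?_⟩
    set d := d₀ ^ m
    have hdX : d ∈ X := pow_mem hd₀ m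
    have hdA : d ∈ normalizer (A : Set G) := hEA (mem_sup_left (hXU hdX))
    haveI := Fact.mk hs
    have hds : IsPGroup s (zpowers d) := IsPGroup.of_card (n := i) (by rw [Nat.card_zpowers, hi])
    by_cases hsp : s = p
    · subst hsp
      haveI := Cfsg.Agent.S1420.isMulCommutative_of_not_sigma hG hM hpt.2.1
        (hds.to_sup_of_normal_right' (isPGroup_of_exp hA.2) (zpowers_le.2 hdA))
        (sup_le (zpowers_le.2 (hKU.compl.1 (hXU hdX))) (hAE.trans hE.1))
      exact fun a ha => setLike_mul_comm (s := zpowers d ⊔ A) (mem_sup_right ha)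
        (mem_sup_left (mem_zpowers d))
    · by_contra hdC
      refine false_of_tau2_mover hG hM hpt hsp (hAE.trans hE.1) hA hA2 (R := zpowers y)
        (by rw [Nat.card_zpowers, hyo]) (zpowers_le.2 hyA) ?_ hds hdA ?_ hdC (hfix d hdX)
      · rw [zpowers_eq_closure, centralizer_closure]
        exact hyu
      · rw [zpowers_eq_closure, centralizer_closure]
        exact mem_centralizer_singleton_iff.2 (hXab d hdX y y₀.2)
  refine hXc (le_bot_iff.1 ((inf_le_inf_left _ hCL).trans ?_))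
  exact ((Cfsg.Agent.S1417.result hG M hM p hpt A ⟨hAE.trans hE.1, hA, hA2⟩).2.2.2.2.1 L hL hne
    ((le_centralizer_iff.1 hXA).trans hCL)).le

end CfsgLib.OddOrder
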