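import Cfsg.Agent.Lib.OddOrder.OperatorSteps
import Cfsg.Agent.Lib.OddOrder.OperatorCube
import Cfsg.Agent.S1453

/-!
Operators of odd order on narrow `p`-groups (BG 5.5).
-/

set_option autoImplicit false
set_option linter.style.haveILetI false

namespace CfsgLib.OddOrder.Operator

open Subgroup
open scoped commutatorElement

universe u v

variable {Γ : Type v} {Q : Type u} [Group Γ] [Group Q] [Finite Q] {φ : Γ →* MulAut Q}
  {p : ℕ} [hp : Fact p.Prime]

/-- A narrow group of rank at least three has a characteristic `T` of index `p` and an element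
outside it with few fixed points on subgroups of exponent `p` inside `T`. -/
theorem narrow_fixed_small (hp2 : p ≠ 2) (hQ : IsPGroup p Q) (hn : Cfsg.IsNarrow p Q)
    (hr : ¬ Cfsg.PRankLE p 2 Q) :
    ∃ (T : Subgroup Q) (x : Q), T.Characteristic ∧ T.index = p ∧
      ∀ V : Subgroup Q, V ≤ T → (∀ v ∈ V, v ^ p = 1) →
        Nat.card (V ⊓ Subgroup.centralizer {x} : Subgroup Q) ≤ p := by
  obtain ⟨R₀, R₁, h0, h1, -, hcomm, hsup⟩ := hn.resolve_left hr
  set C := Subgroup.centralizer (R₀ : Set Q) with hC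
  haveI : IsCyclic R₀ := isCyclic_of_prime_card (p := p) h0
  obtain ⟨x, hx⟩ := (Subgroup.isCyclic_iff_exists_zpowers_eq_top R₀).1 inferInstance
  have hxp : x ^ p = 1 := by
    rw [← h0, ← hx, Nat.card_zpowers, pow_orderOf_eq_one]
  have hxC : Subgroup.centralizer {x} = C := by
    rw [hC, ← hx, zpowers_eq_closure, centralizer_closure]
  have hC' : C ≤ Subgroup.centralizer (C : Set Q) := by
    rw [← hsup]
    have hcyc : ∀ (K : Subgroup Q) [IsCyclic K], ∀ a ∈ K, ∀ b ∈ K, a * b = b * a :=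
      fun K _ a ha b hb => setLike_mul_comm (s := K) ha hb
    refine sup_le (fun a ha => ?_) fun a ha => ?_
    · have : R₀ ⊔ R₁ ≤ Subgroup.centralizer {a} := sup_le
        (fun b hb => mem_centralizer_singleton_iff.2 (hcyc R₀ b hb a ha))
        (fun b hb => mem_centralizer_singleton_iff.2 (hcomm a ha b hb).symm)
      exact fun b hb => mem_centralizer_singleton_iff.1 (this hb)
    · have : R₀ ⊔ R₁ ≤ Subgroup.centralizer {a} := sup_le
        (fun b hb => mem_centralizer_singleton_iff.2 (hcomm b hb a ha))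
        (fun b hb => mem_centralizer_singleton_iff.2 (hcyc R₁ b hb a ha))
      exact fun b hb => mem_centralizer_singleton_iff.1 (this hb)
  have hCab : ∀ a ∈ C, ∀ b ∈ C, Commute a b := fun a ha b hb => hC' hb a ha
  let E : Subgroup Q :=
    { carrier := {y | y ∈ C ∧ y ^ p = 1}
      one_mem' := ⟨one_mem _, one_pow p⟩
      mul_mem' := fun {a b} ha hb =>
        ⟨mul_mem ha.1 hb.1, by rw [(hCab a ha.1 b hb.1).mul_pow, ha.2, hb.2, one_mul]⟩
      inv_mem' := fun {a} ha => ⟨inv_mem ha.1, by rw [inv_pow, ha.2, inv_one]⟩ }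
  have hEab : Cfsg.IsElementaryAbelian p E :=
    ⟨⟨⟨fun a b => Subtype.ext (hCab a a.2.1 b b.2.1).eq⟩⟩, fun a ha => ha.2⟩
  have hR0C : R₀ ≤ C := hsup ▸ le_sup_left
  have hR1C : R₁ ≤ C := hsup ▸ le_sup_right
  let Ω : Subgroup Q := R₁ ⊓ E
  have hΩ : Nat.card Ω ≤ p := by
    haveI : IsCyclic Ω := isCyclic_of_injective (inclusion (inf_le_left : Ω ≤ R₁))
      (inclusion_injective _)
    refine Nat.le_of_dvd hp.out.pos ?_
    rw [← IsCyclic.exponent_eq_card]
    exact Monoid.exponent_dvd_of_forall_pow_eq_one fun u => Subtype.ext (by simpa using u.2.2.2)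
  have hxR : x ∈ R₀ := hx ▸ mem_zpowers x
  have hR0p : ∀ u ∈ R₀, u ^ p = 1 := fun u hu => by
    obtain ⟨i, rfl⟩ : u ∈ zpowers x := hx.symm ▸ hu
    rw [← zpow_natCast, ← zpow_mul, mul_comm, zpow_mul, zpow_natCast, hxp, one_zpow]
  have hEc : Nat.card E ≤ p ^ 2 := by
    haveI hn1 : (R₀.subgroupOf C).Normal := ⟨fun a ha g => by
      rw [show g * a * g⁻¹ = a by
        rw [mul_inv_eq_iff_eq_mul]; exact Subtype.ext (hCab g g.2 a a.2).eq]
      exact ha⟩
    have hsurj : ∀ y : E, ∃ w : R₀ × Ω, ((w.1 : Q) * w.2) = y := by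
      rintro ⟨y, hyC, hyp⟩
      have htop : R₀.subgroupOf C ⊔ R₁.subgroupOf C = ⊤ := by
        rw [← Subgroup.subgroupOf_sup hR0C hR1C, hsup, subgroupOf_self]
      obtain ⟨a, ha, b, hb, hab⟩ :=
        Subgroup.mem_sup_of_normal_left.1 (htop ▸ mem_top (⟨y, hyC⟩ : C))
      have hab' : (a : Q) * b = y := congrArg Subtype.val hab
      have hbp : (b : Q) ^ p = 1 := by
        rw [← hab', (hCab a a.2 b b.2).mul_pow, hR0p (a : Q) (mem_subgroupOf.1 ha), one_mul] at hyp
        exact hyp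
      exact ⟨(⟨a, ha⟩, ⟨b, hb, b.2, hbp⟩), hab'⟩
    choose g hg using hsurj
    refine (Nat.card_le_card_of_injective g fun a b h => Subtype.ext (by rw [← hg a, ← hg b, h])).trans ?_
    rw [Nat.card_prod, h0, sq]
    exact Nat.mul_le_mul_left _ hΩ
  have hxE : x ∈ E := ⟨hR0C hxR, hxp⟩
  have hxcen : x ∉ center Q := by
    intro hxc
    refine hr fun A hA hexp => le_trans (card_le_of_le (show A ≤ E from fun a ha => ⟨?_, hexp a ha⟩)) hEc
    rw [← hxC]
    exact mem_centralizer_singleton_iff.2 (mem_center_iff.1 hxc a)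
  haveI : Nontrivial Q := ⟨⟨x, 1, fun h => hxcen (h ▸ one_mem _)⟩⟩
  obtain ⟨z, -, hzc, hzo⟩ := CfsgLib.PGroup.exists_central_orderOf_eq hQ (⊤ : Subgroup Q) top_ne_bot
  have hzCx : z ∈ C := by
    rw [← hxC]; exact mem_centralizer_singleton_iff.2 (mem_center_iff.1 hzc x).symm
  have hzE : z ∈ E := ⟨hzCx, hzo ▸ pow_orderOf_eq_one z⟩
  haveI hZn : (zpowers z).Normal := ⟨fun u hu g => by
    rw [mem_center_iff.1 (zpowers_le.2 hzc hu) g, mul_inv_cancel_right]; exact hu⟩
  have hxz : x ∉ zpowers z := fun h => hxcen (zpowers_le.2 hzc h)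
  have hEgen : zpowers z ⊔ zpowers x = E := eq_of_le_of_card_ge
    (sup_le (zpowers_le.2 hzE) (zpowers_le.2 hxE))
    (by rw [CfsgLib.PGroup.card_sup_zpowers hxz (by rw [hxp]; exact one_mem _), Nat.card_zpowers,
          hzo, ← sq]; exact hEc)
  have hE2 : Nat.card E = p ^ 2 := by
    rw [← hEgen, CfsgLib.PGroup.card_sup_zpowers hxz (by rw [hxp]; exact one_mem _),
      Nat.card_zpowers, hzo, sq]
  have hEmax : ∀ B : Subgroup Q, Cfsg.IsElementaryAbelian p B → E ≤ B → B = E := fun B hB hEB =>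
    le_antisymm (fun b hb => ⟨by
      rw [← hxC]; exact mem_centralizer_singleton_iff.2
        (haveI := hB.1; setLike_mul_comm hb (hEB hxE)), hB.2 b hb⟩) hEB
  obtain ⟨hET, -, -, hTc, hTi⟩ :=
    Cfsg.Agent.S1453.result p hp2 hQ hr E hEab hE2 hEmax
  refine ⟨_, x, hTc, hTi, fun V hV hVp => ?_⟩
  have hxT : x ∉ Subgroup.centralizer ((Subgroup.closure
      {x : Q | x ∈ Subgroup.upperCentralSeries Q 2 ∧ x ^ p = 1} : Subgroup Q) : Set Q) := by
    intro h
    apply hET
    rw [← hEgen]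
    exact sup_le (zpowers_le.2 fun u _ => mem_center_iff.1 hzc u) (zpowers_le.2 h)
  have hlt : V ⊓ Subgroup.centralizer {x} < E := by
    refine lt_of_le_of_ne (fun v hv => ⟨hxC ▸ hv.2, hVp v hv.1⟩) fun h => hxT (hV ?_)
    exact (h.symm ▸ hxE : x ∈ V ⊓ Subgroup.centralizer {x}).1
  obtain ⟨i, hi⟩ := (hQ.to_subgroup (V ⊓ Subgroup.centralizer {x})).exists_card_eq
  have hle : i ≤ 1 := by
    by_contra hi1
    exact hlt.ne (eq_of_le_of_card_ge hlt.le (by
      rw [hi, hE2]; exact Nat.pow_le_pow_right hp.out.pos (by omega)))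
  rw [hi]
  exact (Nat.pow_le_pow_right hp.out.pos hle).trans (le_of_eq (pow_one p))

/-- Commutators and `(p-1)`-st powers in the narrow case of rank at least three. -/
theorem trivial_of_narrow (hp2 : p ≠ 2) (hQ : IsPGroup p Q) (hn : Cfsg.IsNarrow p Q)
    (hr : ¬ Cfsg.PRankLE p 2 Q) (a : Γ) (hcop : (orderOf (φ a)).Coprime p)
    (ha : a ∈ commutator Γ ∨ ∃ a', a = a' ^ (p - 1)) : φ a = 1 := by
  obtain ⟨D, hDc, hDs, hD⟩ := CfsgLib.Fusion.SmallFix.exists_small_characteristic hQ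
  haveI := hDc
  obtain ⟨T, x, hTc, hTi, hx⟩ := narrow_fixed_small hp2 hQ hn hr
  haveI := hTc
  have hidx : Nat.card D ≤ p * Nat.card (D ⊓ T : Subgroup Q) := by
    rw [← ((D ⊓ T).subgroupOf D).card_mul_index,
      Nat.card_congr (subgroupOfEquivOfLe (inf_le_left : D ⊓ T ≤ D)).toEquiv, mul_comm p]
    refine Nat.mul_le_mul_left _ ?_
    show (D ⊓ T).relIndex D ≤ p
    rw [inf_relIndex_left, ← hTi]
    exact Nat.le_of_dvd (Nat.pos_of_ne_zero index_ne_zero_of_finite) (relIndex_dvd_index_of_normal T D)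
  exact trivial_of_few_fixed hQ D (D ⊓ T) (inv_of_characteristic φ D)
    ((inv_of_characteristic φ D).inf (inv_of_characteristic φ T)) inf_le_left hidx hD x
    (hx _ inf_le_right fun v hv => (hDs v hv.1).resolve_right fun h => hp2 h.1) a hcop ha

/-- An automorphism of prime order `q ∤ (p² - 1) p` fixes the small sections. -/
theorem fixed_of_card_le {q : ℕ} [Fact q.Prime] {b : MulAut Q} (hb : b ^ q = 1)
    (hQ : IsPGroup p Q) (hqp : q ≠ p) (hq : ¬ q ∣ p ^ 2 - 1) (S : Subgroup Q)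
    (hS : ∀ x ∈ S, b x ∈ S) (hc : Nat.card S ≤ p ^ 2) : ∀ x ∈ S, b x = x := by
  intro x hx
  by_contra hne
  set F := b.toMonoidHom.eqLocus (MonoidHom.id Q) with hF
  have hlt : S ⊓ F < S := lt_of_le_of_ne inf_le_left fun he => hne ((he.symm ▸ hx : x ∈ S ⊓ F).2)
  have h1 := card_inf_fixed_modEq b hb S hS
  rw [← hF] at h1
  obtain ⟨k, hk⟩ := (hQ.to_subgroup S).exists_card_eq
  obtain ⟨j, hj⟩ := (hQ.to_subgroup (S ⊓ F)).exists_card_eq
  have hjk : j < k := by
    have h2 : Nat.card (S ⊓ F : Subgroup Q) < Nat.card S :=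
      lt_of_le_of_ne (card_le_of_le hlt.le) fun he => hlt.ne (eq_of_le_of_card_ge hlt.le he.ge)
    rw [hk, hj] at h2
    exact (Nat.pow_lt_pow_iff_right hp.out.one_lt).1 h2
  rw [hk] at hc h1
  rw [hj] at h1
  have hk2 := (Nat.pow_le_pow_iff_right hp.out.one_lt).1 hc
  have hd := (Nat.modEq_iff_dvd' (Nat.pow_le_pow_right hp.out.pos hjk.le)).1 h1.symm
  have e : p ^ k - p ^ j = p ^ j * (p ^ (k - j) - 1) := by
    rw [Nat.mul_sub, ← pow_add, mul_one, Nat.add_sub_cancel' hjk.le]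
  rw [e] at hd
  have hqj : ¬ q ∣ p ^ j := fun h =>
    hqp ((Nat.prime_dvd_prime_iff_eq Fact.out hp.out).1 ((Fact.out : q.Prime).dvd_of_dvd_pow h))
  have h3 := ((Fact.out : q.Prime).dvd_mul.1 hd).resolve_left hqj
  rcases (by omega : k - j = 1 ∨ k - j = 2) with h | h <;> rw [h] at h3
  · rw [pow_one] at h3
    exact hq (h3.trans (by simpa using Nat.sub_dvd_pow_sub_pow p 1 2))
  · exact hq h3

end CfsgLib.OddOrder.Operator
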