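import Cfsg.Agent.Lib.OddOrder.RankTwoAction
import Cfsg.Agent.Lib.OddOrder.NarrowAction
import Cfsg.Agent.Lib.OddOrder.Beta

/-!
`[L, L] ≤ F(L)` when every `O_s(L)` is narrow (BG 4.20 with 5.5).
-/

set_option autoImplicit false
set_option linter.style.haveILetI false

open scoped commutatorElement

namespace CfsgLib.OddOrder

open Subgroup

/-- A `p`-group with an elementary subgroup whose centralizer has rank at most two is narrow. -/
theorem isNarrow_of_rank_centralizer {R : Type*} [Group R] [Finite R] {p : ℕ} [hp : Fact p.Prime]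
    (hp2 : p ≠ 2) (hR : IsPGroup p R) (E : Subgroup R) (hE : Cfsg.IsElementaryAbelian p E)
    (hr : Cfsg.PRankLE p 2 (centralizer (E : Set R))) : Cfsg.IsNarrow p R := by
  by_cases hr2 : Cfsg.PRankLE p 2 R
  · exact Or.inl hr2
  obtain ⟨B, ⟨hBe, hEB⟩, hBmax⟩ := (Set.toFinite
    {B : Subgroup R | Cfsg.IsElementaryAbelian p B ∧ E ≤ B}).exists_maximal ⟨E, hE, le_rfl⟩
  have hmax : ∀ C : Subgroup R, Cfsg.IsElementaryAbelian p C → B ≤ C → C = B := fun C hC hle =>
    le_antisymm (hBmax ⟨hC, hEB.trans hle⟩ hle) hle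
  have hext : ∀ y ∈ centralizer (B : Set R), y ^ p = 1 → y ∈ B := fun y hy hyp =>
    hmax _ (elementary_sup_zpowers hBe hy hyp) le_sup_left ▸ mem_sup_right (mem_zpowers y)
  haveI := hBe.1
  have hBC : B ≤ centralizer (E : Set R) := fun b hb e he => setLike_mul_comm (hEB he) hb
  obtain ⟨i, hi⟩ := (hR.to_subgroup B).exists_card_eq
  have hi2 : i ≤ 2 := by
    by_contra h
    exact not_pRankLE_of_elementary hBC hBe
      (hi ▸ Nat.pow_lt_pow_right hp.out.one_lt (not_le.1 h)) hr
  by_cases h2 : i = 2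
  · exact isNarrow_of_maximal_elementary hp2 hR hr2 B hBe (h2 ▸ hi) hmax
  exfalso
  have hi1 : Nat.card B ≤ p := by
    rw [hi]
    exact (Nat.pow_le_pow_right hp.out.pos (show i ≤ 1 by omega)).trans (pow_one p).le
  refine hr2 fun A hA hAp => ?_
  rcases eq_or_ne A ⊥ with rfl | hA1
  · rw [card_bot]; exact Nat.one_le_pow _ _ hp.out.pos
  obtain ⟨z, -, hz, hzo⟩ := PGroup.exists_central_orderOf_eq hR (⊤ : Subgroup R)
    fun h => hA1 (le_bot_iff.1 (h ▸ le_top))
  have hzB : z ∈ B := hext z (center_le_centralizer _ hz) (hzo ▸ pow_orderOf_eq_one z)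
  have hBz : zpowers z = B := eq_of_le_of_card_ge (zpowers_le.2 hzB)
    (hi1.trans (by rw [Nat.card_zpowers, hzo]))
  have hAB : A ≤ B := fun a ha => hext a (fun b hb => by
    obtain ⟨k, rfl⟩ := mem_zpowers_iff.1 (hBz.ge hb)
    exact ((show Commute z a from (mem_center_iff.1 hz a).symm).zpow_left k).eq) (hAp a ha)
  exact (card_le_of_le hAB).trans (hi1.trans (Nat.le_self_pow two_ne_zero p))

section

variable {G : Type*} [Group G] [Finite G]

/-- Elements of order prime to `s` of the derived group centralize a normal narrow `s`-subgroup. -/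
theorem mem_centralizer_of_narrow {s : ℕ} [Fact s.Prime] (hs2 : s ≠ 2) {L O : Subgroup G}
    [Group.IsSolvable L] (hodd : Odd (Nat.card L)) (hOL : O ≤ L) (hLO : L ≤ normalizer (O : Set G))
    (hO : IsPGroup s O) (hn : Cfsg.IsNarrow s O) {g : G} (hg : g ∈ ⁅L, L⁆)
    (hgo : (orderOf g).Coprime s) : g ∈ centralizer (O : Set G) := by
  have hg' : g ∈ (commutator L).map L.subtype := by
    rw [map_subtype_commutator]; exact hg
  obtain ⟨a, ha, rfl⟩ := hg'
  have hco : (orderOf a).Coprime s := by rwa [coe_subtype, Subgroup.orderOf_coe] at hgo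
  by_cases hr : Cfsg.PRankLE s 2 O
  · haveI : (O.subgroupOf L).Normal := normal_subgroupOf_of_le_normalizer hLO
    exact mem_centralizer_of_subgroupOf hOL (mem_centralizer_of_mem_commutator hodd hs2
      (hO.of_equiv (subgroupOfEquivOfLe hOL).symm) (pRankLE_subgroupOf hOL hr) ha hco)
  · let φ : L →* MulAut O := O.normalizerMonoidHom.comp (inclusion hLO)
    have h1 : φ a = 1 := Operator.trivial_of_narrow hs2 hO hn hr a
      (hco.coprime_dvd_left (orderOf_map_dvd φ a)) (Or.inl ha)
    intro x hx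
    have h2 : (a : G) * x * (a : G)⁻¹ = x :=
      congrArg (fun u : MulAut O => ((u ⟨x, hx⟩ : O) : G)) h1
    exact (mul_inv_eq_iff_eq_mul.1 h2).symm

/-- `[L, L] ≤ F(L)` from the triviality of the action of `[L, L]` on the `O_s(L)`. -/
theorem commutator_le_fittingOf_of_key {L : Subgroup G} [Group.IsSolvable L]
    (key : ∀ t : ℕ, t.Prime → ∀ g ∈ ⁅L, L⁆, (orderOf g).Coprime t →
      g ∈ centralizer (Cfsg.piCoreOf {t} L : Set G)) : ⁅L, L⁆ ≤ Cfsg.fittingOf L := by
  set F := Cfsg.fittingOf L with hF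
  have hFn := fittingOf_isNilpotent L
  intro x hx
  refine mem_of_forall_exists_pow_mem (orderOf_pos x) fun t ht htd => ?_
  haveI := Fact.mk ht
  set n := orderOf x
  refine ⟨n / t ^ n.factorization t, Nat.not_dvd_ordCompl ht (orderOf_pos x).ne', ?_⟩
  set y := x ^ (n / t ^ n.factorization t)
  have hyo : orderOf y = t ^ n.factorization t :=
    orderOf_pow_orderOf_div (orderOf_pos x).ne' (Nat.ordProj_dvd n t)
  set F' := Cfsg.piCoreOf {s | s.Prime ∧ s ∉ ({t} : Set ℕ)} F with hF'
  have hF'le : F' ≤ F := piCoreOf_le _ _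
  set N := ⁅L, L⁆ ⊓ centralizer (F' : Set G) with hN
  have hF'C : ∀ g ∈ ⁅L, L⁆, (∀ q : ℕ, q.Prime → q ∣ orderOf g → q = t) →
      g ∈ centralizer (F' : Set G) := by
    intro g hg hgt
    have h1 : F' ≤ centralizer ({g} : Set G) := by
      refine le_of_components (isNilpotent_of_subgroup_le hFn hF'le) fun q hq hqd => ?_
      haveI := Fact.mk hq
      have hqt : q ≠ t := fun h => ((piCoreOf_isPiSubgroup _ F q hq hqd).2) h
      refine (piCoreOf_le_piCoreOf_of_nilpotent hFn hF'le {q}).trans ?_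
      rw [piCoreOf_singleton_fittingOf]
      intro w hw
      exact mem_centralizer_singleton_iff.2 (key q hq g hg (Nat.coprime_of_dvd fun r hr' hrg hrq =>
        hqt (((Nat.prime_dvd_prime_iff_eq hr' hq).1 hrq).symm.trans (hgt r hr' hrg))) w hw)
    intro w hw
    exact mem_centralizer_singleton_iff.1 (h1 hw)
  have hyN : y ∈ N := ⟨pow_mem hx _, hF'C y (pow_mem hx _) fun q hq hqd => by
    rw [hyo] at hqd
    exact (Nat.prime_dvd_prime_iff_eq hq ht).1 (hq.dvd_of_dvd_pow hqd)⟩
  have hNL : N ≤ L := inf_le_left.trans (commutator_le_self L)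
  have hLN : L ≤ normalizer (N : Set G) :=
    le_normalizer_inf_of_le (Solvable.le_normalizer_commutator_left L L)
      (le_normalizer_centralizer_of_le ((le_normalizer_fittingOf L).trans
        (normalizer_le_normalizer_piCoreOf _ _)))
  -- the `t'`-part of `N` is central
  have hZ : ∀ w ∈ N, ¬ t ∣ orderOf w → w ∈ F' := by
    intro w hw hwt
    have hwF : w ∈ F := by
      refine inf_centralizer_fittingOf_le inferInstance ⟨hNL hw, ?_⟩
      have h1 : F ≤ centralizer ({w} : Set G) := by
        refine (le_sup_piCoreOf_of_nilpotent hFn {t}).trans (sup_le ?_ ?_)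
        · rw [piCoreOf_singleton_fittingOf]
          exact fun v hv => mem_centralizer_singleton_iff.2
            (key t ht w hw.1 (ht.coprime_iff_not_dvd.2 hwt).symm v hv)
        · exact fun v hv => mem_centralizer_singleton_iff.2 (hw.2 v hv)
      exact fun v hv => mem_centralizer_singleton_iff.1 (h1 hv)
    exact mem_piCoreOf_of_nilpotent hFn hwF fun q hq hqd => ⟨hq, fun h => hwt (h ▸ hqd)⟩
  have hNn : Group.IsNilpotent N := by
    haveI : (F'.subgroupOf N).Normal := normal_subgroupOf_of_le_normalizer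
      (hNL.trans ((le_normalizer_fittingOf L).trans (normalizer_le_normalizer_piCoreOf _ _)))
    haveI : Group.IsNilpotent (N ⧸ F'.subgroupOf N) := by
      refine IsPGroup.isNilpotent (p := t) fun q => ?_
      obtain ⟨w, rfl⟩ := QuotientGroup.mk'_surjective _ q
      set m := orderOf (w : G)
      refine ⟨m.factorization t, ?_⟩
      rw [← map_pow, QuotientGroup.mk'_apply, QuotientGroup.eq_one_iff]
      refine mem_subgroupOf.2 (hZ _ (w ^ t ^ m.factorization t).2 ?_)
      rw [SubgroupClass.coe_pow, orderOf_pow_of_dvd (pow_ne_zero _ ht.ne_zero)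
        (Nat.ordProj_dvd m t)]
      exact Nat.not_dvd_ordCompl ht (orderOf_pos _).ne'
    refine Subgroup.isNilpotent_of_ker_le_center (QuotientGroup.mk' (F'.subgroupOf N)) ?_
    rw [QuotientGroup.ker_mk']
    intro z hz
    exact mem_center_iff.2 fun w => Subtype.ext
      (mem_centralizer_iff.1 w.2.2 (z : G) (mem_subgroupOf.1 hz)).symm
  exact le_fittingOf hNL hLN hNn hyN

end

end CfsgLib.OddOrder
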