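import Cfsg.Agent.Lib.OddOrder.ExceptionalTools

/-!
`p`-th powers in the centralizer of a maximal elementary subgroup of order `p²`.
-/

set_option autoImplicit false
set_option linter.style.haveILetI false

open scoped commutatorElement Pointwise

namespace CfsgLib.OddOrder

open Subgroup

variable {G : Type*} [Group G] [Finite G] (hG : Cfsg.IsMinSimpleOddOrder G)
include hG

/-- If `A` is not central in the Sylow subgroup `S`, the `p`-th powers of `C_S(A)` lie in a cyclic
subgroup normalized by `N_S(A)`. -/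
theorem exists_cyclic_pow {p : ℕ} [hp : Fact p.Prime] (hp2 : p ≠ 2) (S : Sylow p G)
    {A : Subgroup G} (hAS : A ≤ (S : Subgroup G)) (hA : Cfsg.IsElementaryAbelian p A)
    (hA2 : Nat.card A = p ^ 2)
    (hmax : ∀ B : Subgroup G, Cfsg.IsElementaryAbelian p B → A ≤ B → B = A)
    (hAZ : ¬ A ≤ centralizer ((S : Subgroup G) : Set G)) :
    ∃ C : Subgroup G, IsCyclic C ∧ C ≤ (S : Subgroup G) ⊓ centralizer (A : Set G) ∧
      (∀ a ∈ (S : Subgroup G), a ∈ centralizer (A : Set G) → a ^ p ∈ C) ∧
      ∀ g ∈ (S : Subgroup G), g ∈ normalizer (A : Set G) → g ∈ normalizer (C : Set G) := by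
  have hSp : IsPGroup p (S : Subgroup G) := S.isPGroup'
  by_cases hr : Cfsg.PRankLE p 2 (S : Subgroup G)
  · rcases Cfsg.Agent.S1412.result hG p S hr with hc | ⟨P₁, P₂, hsup, hcomm, hna, hcard, -, hcyc, hcl⟩
    · exact absurd (fun u hu v hv => setLike_mul_comm (s := (S : Subgroup G)) hv (hAS hu)) hAZ
    haveI := hcyc
    set R := (S : Subgroup G) with hR
    have hP₁R : P₁ ≤ R := hsup ▸ le_sup_left
    have hP₂R : P₂ ≤ R := hsup ▸ le_sup_right
    have hP₂c : P₂.subgroupOf R ≤ center R := fun u hu => mem_center_iff.2 fun v => Subtype.ext (by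
      have : R ≤ centralizer {(u : G)} := hsup.symm.trans_le <| sup_le
        (fun e he => mem_centralizer_singleton_iff.2 (hcomm e he u hu))
        (fun e he => mem_centralizer_singleton_iff.2 (setLike_mul_comm (s := P₂) he hu))
      exact mem_centralizer_singleton_iff.1 (this v.2))
    set Z := P₁ ⊓ centralizer (P₁ : Set G) with hZ
    have hZP₂ : Z ≤ P₂ := hcl ▸ (closure_le _).2 fun u hu => hu.1
    have hZ1 : Z ≠ ⊥ := by
      haveI : Nontrivial P₁ := (nontrivial_iff_ne_bot _).2 fun hb => by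
        rw [hb, card_bot] at hcard
        exact (Nat.one_lt_pow (by norm_num) hp.out.one_lt).ne hcard
      haveI := (IsPGroup.of_card hcard).center_nontrivial
      obtain ⟨u, hu⟩ := exists_ne (1 : center P₁)
      intro hb
      have h1 : ((u : P₁) : G) ∈ Z := ⟨(u : P₁).2, fun v hv =>
        congrArg Subtype.val (mem_center_iff.1 u.2 ⟨v, hv⟩)⟩
      rw [hb, mem_bot] at h1
      exact hu (Subtype.ext (Subtype.ext h1))
    obtain ⟨x, hxA, hxc⟩ : ∃ x : R, (x : G) ∈ A ∧ x ∉ center R := by
      by_contra hcon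
      push Not at hcon
      have hAP₂ : A ≤ P₂ := by
        intro u hu
        have hu' : u ∈ P₁ ⊔ P₂ := hsup.symm ▸ hAS hu
        obtain ⟨e, he, c, hc, rfl⟩ := (Solvable.mem_sup_of_le_normalizer
          (show P₂ ≤ normalizer (P₁ : Set G) from fun v hv =>
            centralizer_le_normalizer _ fun w hw => hcomm w hw v hv)).1 hu'
        refine mul_mem (hZP₂ ⟨he, fun w hw => ?_⟩) hc
        have h1 := congrArg Subtype.val (mem_center_iff.1 (hcon ⟨_, hAS hu⟩ hu) ⟨w, hP₁R hw⟩)
        simp only [Subgroup.coe_mul] at h1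
        rw [← mul_assoc, mul_assoc e c w, ← hcomm w hw c hc, ← mul_assoc] at h1
        exact mul_right_cancel h1
      exact elementary_not_isCyclic hA
        (hA2 ▸ lt_self_pow₀ hp.out.one_lt (by norm_num : 1 < 2))
        (isCyclic_of_injective (inclusion hAP₂) (inclusion_injective hAP₂))
    set K := centralizer {x} with hK
    have hZK : center R ≤ K := fun u hu =>
      mem_centralizer_singleton_iff.2 (mem_center_iff.1 hu x).symm
    have hidx : (center R).index ≤ p ^ 2 := by
      refine le_trans (Nat.le_of_dvd (Nat.pos_of_ne_zero index_ne_zero_of_finite)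
        (index_dvd_of_le hP₂c)) ?_
      obtain ⟨i, hi⟩ := ((IsPGroup.of_card hcard).to_le (inf_le_left : Z ≤ P₁)).exists_card_eq
      have hi1 : p ≤ Nat.card Z := by
        rw [hi]
        exact Nat.le_self_pow (fun h0 => hZ1 (card_eq_one.1 (by rw [hi, h0, pow_zero]))) p
      have h1 : P₂.relIndex R * Nat.card Z ≤ p ^ 3 := by
        refine le_trans ?_ (le_of_eq hcard)
        rw [← (Z.subgroupOf P₁).card_mul_index, mul_comm,
          Nat.card_congr (subgroupOfEquivOfLe (inf_le_left : Z ≤ P₁)).toEquiv]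
        refine Nat.mul_le_mul_left _ ?_
        show P₂.relIndex R ≤ Z.relIndex P₁
        have h2 : P₂.relIndex R = P₂.relIndex P₁ := by
          rw [← hsup, sup_comm]
          refine Solvable.relIndex_sup_of_le_normalizer ?_
          exact fun v hv => centralizer_le_normalizer _ fun w hw => (hcomm v hv w hw).symm
        rw [h2]
        exact Nat.le_of_dvd (Nat.pos_of_ne_zero index_ne_zero_of_finite)
          (relIndex_dvd_of_le_left P₁ hZP₂)
      refine Nat.le_of_mul_le_mul_right ?_ hp.out.pos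
      calc P₂.relIndex R * p ≤ P₂.relIndex R * Nat.card Z := Nat.mul_le_mul_left _ hi1
        _ ≤ p ^ 2 * p := by rw [← pow_succ]; exact h1
    have hKi : ((center R).subgroupOf K).index ≤ p := by
      have h1 : (center R).relIndex K * K.index = (center R).index := relIndex_mul_index hZK
      have h2 : p ≤ K.index := by
        obtain ⟨j, hj⟩ := hSp.index K
        rw [hj]
        refine Nat.le_self_pow (fun h0 => hxc (mem_center_iff.2 fun v => ?_)) p
        have : K = ⊤ := index_eq_one.1 (by rw [hj, h0, pow_zero])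
        exact mem_centralizer_singleton_iff.1 (this.ge (mem_top v))
      show (center R).relIndex K ≤ p
      refine Nat.le_of_mul_le_mul_right ?_ hp.out.pos
      calc (center R).relIndex K * p ≤ (center R).relIndex K * K.index := Nat.mul_le_mul_left _ h2
        _ ≤ p * p := by rw [h1, ← sq]; exact hidx
    have hzc : IsCyclic (center R) := by
      by_contra hnc
      obtain ⟨F, hFZ, hF, hFc⟩ := exists_elementary_of_not_pRankLE
        (not_pRankLE_one_of_not_isCyclic hp2 (hSp.to_subgroup (center R)) hnc)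
      rw [pow_one] at hFc
      haveI := hF.1
      have hFA : F.map R.subtype ≤ A := by
        rintro _ ⟨u, hu, rfl⟩
        have h1 : (u : G) ∈ centralizer (A : Set G) := fun v hv =>
          congrArg Subtype.val (mem_center_iff.1 (hFZ hu) ⟨v, hAS hv⟩)
        rw [← hmax _ (elementary_sup_zpowers hA h1 (by
          rw [← SubgroupClass.coe_pow, hF.2 u hu]; rfl)) le_sup_left]
        exact mem_sup_right (mem_zpowers _)
      have hFe : F.map R.subtype = A := by
        refine eq_of_le_of_card_ge hFA ?_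
        obtain ⟨i, hi⟩ := (hSp.to_subgroup F).exists_card_eq
        rw [card_map_of_injective R.subtype_injective, hA2, hi]
        rw [hi] at hFc
        exact Nat.pow_le_pow_right hp.out.pos
          ((Nat.pow_lt_pow_iff_right hp.out.one_lt).1 ((pow_one p).symm ▸ hFc))
      refine hxc ?_
      obtain ⟨u, hu, hux⟩ := hFe.ge hxA
      exact R.subtype_injective hux ▸ hFZ hu
    refine ⟨(center R).map R.subtype, ?_, ?_, fun a ha haA => ?_, fun g hg _ => ?_⟩
    · haveI := hzc
      exact isCyclic_of_surjective ((center R).equivMapOfInjective _ R.subtype_injective).toMonoidHom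
        (MulEquiv.surjective _)
    · rintro _ ⟨u, hu, rfl⟩
      exact ⟨u.2, fun v hv => congrArg Subtype.val (mem_center_iff.1 hu ⟨v, hAS hv⟩)⟩
    · have hk : (⟨a, ha⟩ : R) ∈ K :=
        mem_centralizer_singleton_iff.2 (Subtype.ext (haA x hxA).symm)
      haveI : ((center R).subgroupOf K).Normal := inferInstance
      have h1 := Subgroup.pow_index_mem ((center R).subgroupOf K) (⟨⟨a, ha⟩, hk⟩ : K)
      obtain ⟨j, hj⟩ := (hSp.to_subgroup K).index ((center R).subgroupOf K)
      have hj1 : j ≤ 1 := by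
        by_contra hcon
        have := (Nat.pow_lt_pow_right hp.out.one_lt (not_le.1 hcon)).trans_le (hj ▸ hKi)
        rw [pow_one] at this
        exact lt_irrefl _ this
      refine ⟨(⟨a, ha⟩ : R) ^ p, ?_, rfl⟩
      obtain ⟨d, hd⟩ := pow_dvd_pow p hj1
      rw [pow_one] at hd
      rw [hd, pow_mul]
      rw [hj] at h1
      exact pow_mem (mem_subgroupOf.1 h1) d
    · refine mem_normalizer_of_map_le ?_
      rintro _ ⟨_, ⟨u, hu, rfl⟩, rfl⟩
      refine ⟨u, hu, ?_⟩
      have h1 := congrArg Subtype.val (mem_center_iff.1 hu ⟨g, hg⟩)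
      simp only [Subgroup.coe_mul] at h1
      simp only [Subgroup.coe_subtype, MulEquiv.coe_toMonoidHom, MulAut.conj_apply]
      rw [h1, mul_inv_cancel_right]
  · set R := (S : Subgroup G) with hR
    set E := A.subgroupOf R with hE
    have hEe : Cfsg.IsElementaryAbelian p E := by
      haveI := hA.1
      exact ⟨⟨⟨fun u v => Subtype.ext (Subtype.ext
        (setLike_mul_comm (s := A) (mem_subgroupOf.1 u.2) (mem_subgroupOf.1 v.2)))⟩⟩,
        fun u hu => Subtype.ext (by rw [SubgroupClass.coe_pow, hA.2 (u : G) hu]; rfl)⟩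
    have hEm : E.map R.subtype = A := map_subgroupOf_eq_of_le hAS
    have hEmax : ∀ B : Subgroup R, Cfsg.IsElementaryAbelian p B → E ≤ B → B = E := fun B hB hEB => by
      refine Subgroup.map_injective R.subtype_injective ?_
      rw [hEm]
      haveI := hB.1
      refine hmax _ ⟨inferInstance, ?_⟩ (hEm ▸ map_mono hEB)
      rintro _ ⟨u, hu, rfl⟩
      rw [← map_pow, hB.2 u hu, map_one]
    obtain ⟨hET, -, -, hTc, hTi⟩ := Cfsg.Agent.S1453.result p hp2 hSp hr E hEe
      (by rw [← card_map_of_injective R.subtype_injective, hEm, hA2]) hEmax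
    set T := centralizer ((closure {x : R | x ∈ Subgroup.upperCentralSeries R 2 ∧ x ^ p = 1} : Subgroup R) : Set R)
    haveI := hTc
    obtain ⟨x, hxE, hxT⟩ := SetLike.not_le_iff_exists.1 hET
    set K := T ⊓ centralizer (E : Set R) with hK
    haveI hKc : IsCyclic K := by
      by_contra hnc
      obtain ⟨F, hFK, hFe, hF⟩ := exists_elementary_of_not_pRankLE
        (not_pRankLE_one_of_not_isCyclic hp2 (hSp.to_subgroup K) hnc)
      rw [pow_one] at hF
      have hFE : F ≤ E := fun u hu => by
        rw [← hEmax _ (elementary_sup_zpowers hEe (hFK hu).2 (hFe.2 u hu)) le_sup_left]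
        exact mem_sup_right (mem_zpowers u)
      have hEF : F = E := by
        refine eq_of_le_of_card_ge hFE ?_
        obtain ⟨i, hi⟩ := (hSp.to_subgroup F).exists_card_eq
        rw [← card_map_of_injective R.subtype_injective, hEm, hA2, hi]
        rw [hi] at hF
        exact Nat.pow_le_pow_right hp.out.pos
          ((Nat.pow_lt_pow_iff_right hp.out.one_lt).1 ((pow_one p).symm ▸ hF))
      exact hxT (hFK (hEF.symm ▸ hxE)).1
    have hxp : x ^ p ∈ T := by rw [hEe.2 x hxE]; exact one_mem _
    have htop : T ⊔ zpowers x = ⊤ := eq_top_of_card_eq _ (by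
      rw [CfsgLib.PGroup.card_sup_zpowers hxT hxp, ← T.card_mul_index, hTi, mul_comm])
    have hdec : ∀ u : R, u ∈ centralizer (E : Set R) → ∃ k ∈ K, ∃ i : ℤ, u = k * x ^ i := by
      intro u hu
      obtain ⟨t, i, ht, rfl⟩ := Operator.exists_zpow_decomp (N := T) (x := x) (htop ▸ mem_top u)
      refine ⟨t, ⟨ht, ?_⟩, i, rfl⟩
      have hxi : x ^ i ∈ centralizer (E : Set R) :=
        zpow_mem (le_centralizer_iff_isMulCommutative.2 hEe.1 hxE) i
      simpa using mul_mem hu (inv_mem hxi)
    have hin : ∀ {u : G} (hu : u ∈ R), u ∈ centralizer (A : Set G) →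
        (⟨u, hu⟩ : R) ∈ centralizer (E : Set R) := fun hu huA v hv => Subtype.ext (huA v hv)
    refine ⟨K.map R.subtype, ?_, ?_, fun a ha haA => ?_, fun g hg hgA => ?_⟩
    · haveI := hKc
      exact isCyclic_of_surjective (K.equivMapOfInjective _ R.subtype_injective).toMonoidHom
        (MulEquiv.surjective _)
    · rintro _ ⟨u, hu, rfl⟩
      exact ⟨u.2, fun v hv => congrArg Subtype.val (hu.2 ⟨v, hAS hv⟩ hv)⟩
    · obtain ⟨k, hk, i, hki⟩ := hdec _ (hin ha haA)
      refine ⟨(⟨a, ha⟩ : R) ^ p, ?_, rfl⟩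
      have hkx : Commute k x := (hk.2 x hxE).symm
      rw [hki, (hkx.zpow_right i).mul_pow, ← zpow_natCast (x ^ i), ← zpow_mul, mul_comm i, zpow_mul,
        zpow_natCast, hEe.2 x hxE, one_zpow, mul_one]
      exact pow_mem hk p
    · refine mem_normalizer_of_map_le ?_
      rintro _ ⟨_, ⟨u, hu, rfl⟩, rfl⟩
      refine ⟨⟨g, hg⟩ * u * ⟨g, hg⟩⁻¹, ⟨?_, fun v hv => ?_⟩, rfl⟩
      · haveI : T.Normal := inferInstance
        exact this.conj_mem u hu.1 _
      · have h1 : (⟨g, hg⟩ : R)⁻¹ * v * ⟨g, hg⟩ ∈ E :=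
          (mem_normalizer_iff''.1 hgA _).1 hv
        have h2 := hu.2 _ h1
        calc v * (⟨g, hg⟩ * u * ⟨g, hg⟩⁻¹)
            = ⟨g, hg⟩ * ((⟨g, hg⟩ : R)⁻¹ * v * ⟨g, hg⟩ * u) * (⟨g, hg⟩ : R)⁻¹ := by group
          _ = ⟨g, hg⟩ * (u * ((⟨g, hg⟩ : R)⁻¹ * v * ⟨g, hg⟩)) * (⟨g, hg⟩ : R)⁻¹ := by rw [h2]
          _ = _ := by group

end CfsgLib.OddOrder
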