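import Cfsg.Agent.S1418
import Cfsg.Agent.Lib.OddOrder.ExceptionalSylow

/-!
Tools for BG 12.7-12.9: elementary subgroups in complements, `τ₂`-primes.
-/

set_option autoImplicit false
set_option linter.style.haveILetI false

open scoped commutatorElement

namespace CfsgLib.OddOrder

open Subgroup

variable {G : Type*} [Group G] [Finite G]

theorem zpowers_pow_eq {p : ℕ} [hp : Fact p.Prime] {a : G} (ha : a ^ p = 1) {j : ℤ}
    (hj : ¬ (p : ℤ) ∣ j) : zpowers (a ^ j) = zpowers a := by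
  refine le_antisymm (zpowers_le.2 (zpow_mem (mem_zpowers a) j)) (zpowers_le.2 ?_)
  obtain ⟨r, s, hrs⟩ := (Nat.prime_iff_prime_int.1 hp.out).coprime_iff_not_dvd.2 hj
  refine ⟨s, ?_⟩
  show (a ^ j) ^ s = a
  rw [← zpow_mul, show j * s = 1 + (p : ℤ) * (-r) by linear_combination hrs, zpow_add, zpow_one,
    zpow_mul, zpow_natCast, ha, one_zpow, mul_one]

theorem exists_pair_decomp {p : ℕ} [hp : Fact p.Prime] {A : Subgroup G}
    (hA : Cfsg.IsElementaryAbelian p A) (hA2 : Nat.card A = p ^ 2) {z a : G} (hz : z ∈ A)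
    (hz1 : z ≠ 1) (ha : a ∈ A) (haz : a ∉ zpowers z) :
    A = zpowers z ⊔ zpowers a ∧ ∀ x ∈ A, ∃ i j : ℤ, x = z ^ i * a ^ j := by
  haveI := hA.1
  have hc : a ∈ centralizer (zpowers z : Set G) := by
    rintro _ ⟨i, rfl⟩
    exact ((show Commute z a from setLike_mul_comm (s := A) hz ha).zpow_left i).eq
  have hsup : zpowers z ⊔ zpowers a = A := by
    refine eq_of_le_of_card_ge (sup_le (zpowers_le.2 hz) (zpowers_le.2 ha)) ?_
    rw [hA2, sq]
    refine le_trans ?_ (card_mul_le_card_sup (elementary_zpowers (q := p) (hA.2 z hz)) hc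
      (hA.2 a ha) haz)
    rw [Nat.card_zpowers, orderOf_eq_prime (hA.2 z hz) hz1]
  refine ⟨hsup.symm, fun x hx => ?_⟩
  obtain ⟨_, ⟨i, rfl⟩, _, ⟨j, rfl⟩, hij⟩ := (Solvable.mem_sup_of_le_normalizer
    (zpowers_le.2 (centralizer_le_normalizer _ hc))).1 (hsup.ge hx)
  exact ⟨i, j, hij.symm⟩

/-- A `p`-element fixing `z` and normalizing `A = ⟨z, a⟩` maps `a` into `z ^ u * a`. -/
theorem conj_eq_zpow_mul {p : ℕ} [hp : Fact p.Prime] {A : Subgroup G}
    (hA : Cfsg.IsElementaryAbelian p A) (hA2 : Nat.card A = p ^ 2) {z a g : G} (hz : z ∈ A)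
    (hz1 : z ≠ 1) (ha : a ∈ A) (haz : a ∉ zpowers z) (hgz : Commute g z)
    (hgA : g ∈ normalizer (A : Set G)) (hg : ∃ n, orderOf g = p ^ n) :
    ∃ u : ℤ, g * a * g⁻¹ = z ^ u * a := by
  haveI := hA.1
  obtain ⟨hsup, hdec⟩ := exists_pair_decomp hA hA2 hz hz1 ha haz
  obtain ⟨u, v, huv⟩ := hdec _ ((mem_normalizer_iff.1 hgA a).1 ha)
  have hza : Commute z a := setLike_mul_comm (s := A) hz ha
  have hit : ∀ t : ℕ, ∃ w : ℤ, g ^ t * a * (g ^ t)⁻¹ = z ^ w * a ^ (v ^ t) := by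
    intro t
    induction t with
    | zero => exact ⟨0, by simp⟩
    | succ t ih =>
      obtain ⟨w, hw⟩ := ih
      refine ⟨w + u * v ^ t, ?_⟩
      calc g ^ (t + 1) * a * (g ^ (t + 1))⁻¹ = g * (g ^ t * a * (g ^ t)⁻¹) * g⁻¹ := by
            rw [pow_succ']; group
        _ = (g * z ^ w * g⁻¹) * (g * a * g⁻¹) ^ (v ^ t) := by rw [hw, conj_zpow]; group
        _ = z ^ (w + u * v ^ t) * a ^ (v ^ (t + 1)) := by
          rw [(hgz.zpow_right w).eq, mul_inv_cancel_right, huv, (hza.zpow_zpow u v).mul_zpow,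
            ← zpow_mul, ← zpow_mul, ← mul_assoc, ← zpow_add, pow_succ' v t]
  obtain ⟨n, hn⟩ := hg
  obtain ⟨w, hw⟩ := hit (p ^ n)
  rw [← hn, pow_orderOf_eq_one, one_mul, inv_one, mul_one, hn] at hw
  have hd : (p : ℤ) ∣ v ^ (p ^ n) - 1 := by
    by_contra hd
    have h1 : a ^ (v ^ (p ^ n) - 1) = z ^ (-w) := by
      rw [zpow_sub_one, zpow_neg]
      refine eq_inv_of_mul_eq_one_right ?_
      rw [← mul_assoc, ← hw, mul_inv_cancel]
    refine haz ?_
    have h2 := (zpowers_pow_eq (hA.2 a ha) hd).ge (mem_zpowers a)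
    rw [h1] at h2
    exact zpowers_le.2 (zpow_mem (mem_zpowers z) _) h2
  have hv1 : (p : ℤ) ∣ v - 1 := by
    rw [← ZMod.intCast_zmod_eq_zero_iff_dvd] at hd ⊢
    push_cast at hd ⊢
    rwa [ZMod.pow_card_pow] at hd
  obtain ⟨c, hc⟩ := hv1
  refine ⟨u, ?_⟩
  rw [huv, show v = (p : ℤ) * c + 1 by linarith, zpow_add, zpow_one, zpow_mul, zpow_natCast,
    hA.2 a ha, one_zpow, one_mul]

variable (hG : Cfsg.IsMinSimpleOddOrder G) {M : Subgroup G} (hM : IsCoatom M)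
include hG hM

/-- A Sylow subgroup of a complement of `M_σ` is one of `M`. -/
theorem isMaxPIn_complement {E : Subgroup G} (hE : Cfsg.IsComplIn E (Cfsg.sigmaCore M) M) {q : ℕ}
    [hq : Fact q.Prime] (hqσ : q ∉ Cfsg.sigma M) (S : Sylow q E) :
    IsMaxPIn q M ((S : Subgroup E).map E.subtype) := by
  refine ⟨(map_subtype_le _).trans hE.1, S.2.map _, fun R hR hle hRM => ?_⟩
  obtain ⟨n, hn⟩ := hR.exists_card_eq
  refine (eq_of_le_of_card_ge hle ?_).symm
  rw [card_map_of_injective E.subtype_injective, hn]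
  refine Nat.le_of_dvd Nat.card_pos (S.pow_dvd_card_of_pow_dvd_card ?_)
  have hc : Nat.card (Cfsg.sigmaCore M) * Nat.card E = Nat.card M := by
    rw [card_complement hE, ← relIndex_bot_left (Cfsg.sigmaCore M),
      relIndex_mul_relIndex ⊥ _ M bot_le (show Cfsg.sigmaCore M ≤ M from piCoreOf_le _ _),
      relIndex_bot_left]
  refine (Nat.Coprime.dvd_mul_left ?_).1 (hn ▸ hc.symm ▸ card_dvd_of_le hRM)
  exact ((hq.out.coprime_iff_not_dvd).2 fun hd =>
    hqσ (sigma_of_dvd_sigmaCore hq.out hd)).pow_left n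

/-- A `τ₂`-prime gives an elementary subgroup of order `q²` in every complement. -/
theorem exists_elementary_in_complement {E : Subgroup G}
    (hE : Cfsg.IsComplIn E (Cfsg.sigmaCore M) M) {q : ℕ} [hq : Fact q.Prime]
    (hqt : q ∈ Cfsg.tau2 M) :
    ∃ B : Subgroup G, B ≤ E ∧ Cfsg.IsElementaryAbelian q B ∧ Nat.card B = q ^ 2 := by
  obtain ⟨-, hqσ, hr2, hr1⟩ := hqt
  obtain ⟨S⟩ : Nonempty (Sylow q E) := inferInstance
  have hT := isMaxPIn_complement hG hM hE hqσ S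
  obtain ⟨B, hBT, hB, hBc⟩ :=
    exists_elementary_of_not_pRankLE fun h => hr1 (pRankLE_of_isMaxPIn hT h)
  obtain ⟨i, hi⟩ := (isPGroup_of_exp hB.2).exists_card_eq
  refine ⟨B, hBT.trans (map_subtype_le _), hB, le_antisymm ?_ ?_⟩
  · by_contra hcon
    exact not_pRankLE_of_elementary (hBT.trans hT.le) hB (not_le.1 hcon) hr2
  · rw [hi] at hBc ⊢
    exact Nat.pow_le_pow_right hq.out.pos ((Nat.pow_lt_pow_iff_right hq.out.one_lt).1 hBc)

end CfsgLib.OddOrder
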