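import Cfsg.Agent.S1414
import Cfsg.Agent.S1416
import Cfsg.Agent.S1420
import Cfsg.Agent.S1422
import Cfsg.Agent.S1426
import Cfsg.Agent.S1437
import Cfsg.Agent.Lib.OddOrder.UniquenessTheorem
import Cfsg.Agent.Lib.OddOrder.FittingNarrow
import Cfsg.Agent.Lib.OddOrder.FittingHallSigma
import Cfsg.Agent.Lib.OddOrder.FHallTools
import Cfsg.Agent.Lib.OddOrder.FHall
import Cfsg.Agent.Lib.OddOrder.KappaStructure
import Cfsg.Agent.Lib.OddOrder.SigmaSignalizer
import Cfsg.Agent.S1439

/-!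
A maximal subgroup whose Fitting subgroup is not a TI-subset (BG 15.7): first consequences.
-/

set_option autoImplicit false
set_option linter.style.haveILetI false
set_option maxHeartbeats 400000

namespace CfsgLib.OddOrder

open Subgroup

variable {G : Type*} [Group G] [Finite G]

/-- An element normalizing a group of prime order `q` has `(q-1)`-st power centralizing it. -/
theorem pow_sub_one_mem_centralizer {w u : G} {q : ℕ} (hq : q.Prime) (hw : orderOf w = q)
    (hu : u ∈ normalizer (zpowers w : Set G)) : u ^ (q - 1) ∈ centralizer ({w} : Set G) := by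
  haveI := Fact.mk hq
  set W := zpowers w
  haveI : IsCyclic W := inferInstance
  have hc : Nat.card (MulAut W) = q - 1 := by
    rw [IsCyclic.card_mulAut, Nat.card_zpowers, hw, Nat.totient_prime hq]
  have h1 : W.normalizerMonoidHom (⟨u, hu⟩ ^ (q - 1)) = 1 := by
    rw [map_pow, ← hc, pow_card_eq_one']
  have h2 : u ^ (q - 1) * w * (u ^ (q - 1))⁻¹ = w :=
    congrArg (fun e : MulAut W => ((e ⟨w, mem_zpowers w⟩ : W) : G)) h1
  exact mem_centralizer_singleton_iff.2 (mul_inv_eq_iff_eq_mul.1 h2)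

variable (hG : Cfsg.IsMinSimpleOddOrder G) {M : Subgroup G} (hM : IsCoatom M)
include hG hM

/-- A prime-power subgroup in two maximal subgroups is abelian of rank at most two. -/
theorem small_of_two_maximal {L W : Subgroup G} {r : ℕ} [Fact r.Prime] (hL : IsCoatom L)
    (hne : L ≠ M) (hWM : W ≤ M) (hWL : W ≤ L) (hW : IsPGroup r W) :
    IsMulCommutative W ∧ Cfsg.PRankLE r 2 W := by
  have hnu : ∀ V : Subgroup G, V ≤ W → ¬ Cfsg.InUniqueMaximal V := fun V hV h =>
    hne (h.unique ⟨hL, hV.trans hWL⟩ ⟨hM, hV.trans hWM⟩)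
  refine ⟨by_contra fun h => hnu W le_rfl (Cfsg.Agent.S1422.result hG r W hW h), by_contra fun h => ?_⟩
  obtain ⟨E, hEW, hEe, hE⟩ := exists_elementary_of_not_pRankLE h
  exact hnu E hEW (inUniqueMaximal_of_elementary_three hG hEe hE)

section
variable {g : G} (hg : g ∉ M)
include hg

/-- The intersection of `F(M)` with a conjugate outside `M` lies in `M_σ`. -/
theorem mem_sigmaCore_of_fitting_conj {x : G} (hx : x ∈ Cfsg.fittingOf M)
    (hy : g⁻¹ * x * g ∈ Cfsg.fittingOf M) : x ∈ Cfsg.sigmaCore M := by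
  set F := Cfsg.fittingOf M with hF
  have hFn : Group.IsNilpotent F := fittingOf_isNilpotent M
  have hMF : M ≤ normalizer (F : Set G) := le_normalizer_fittingOf M
  refine le_piCoreOf ((piCoreOf_le _ _).trans (fittingOf_le M))
    (hMF.trans (normalizer_le_normalizer_piCoreOf _ _)) (piCoreOf_isPiSubgroup (Cfsg.sigma M) F)
    (mem_piCoreOf_of_nilpotent hFn hx fun r hr hrd => ?_)
  by_contra hrσ
  haveI := Fact.mk hr
  set π' : Set ℕ := {q | q.Prime ∧ q ∉ Cfsg.sigma M} with hπ'
  set Y := Cfsg.piCoreOf π' F with hY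
  have hYc : IsCyclic Y := (Cfsg.Agent.S1439.result hG M hM).1
  have hYM : Y ≤ M := (piCoreOf_le _ _).trans (fittingOf_le M)
  have hMY : M ≤ normalizer (Y : Set G) := hMF.trans (normalizer_le_normalizer_piCoreOf _ _)
  set z := x ^ (orderOf x / r) with hz
  have hzo : orderOf z = r := orderOf_pow_orderOf_div (orderOf_pos x).ne' hrd
  have hw : g⁻¹ * z * g ∈ F := by
    have h := pow_mem hy (orderOf x / r)
    rwa [show g⁻¹ * x * g = MulAut.conj g⁻¹ x by simp, ← map_pow, MulAut.conj_apply, inv_inv,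
      ← hz] at h
  have hmemY : ∀ w ∈ F, orderOf w = r → w ∈ Y := fun w hw ho =>
    mem_piCoreOf_of_nilpotent hFn hw fun s hs hsd => by
      rw [ho, Nat.prime_dvd_prime_iff_eq hs hr] at hsd
      exact hsd ▸ ⟨hr, hrσ⟩
  have hwo : orderOf (g⁻¹ * z * g) = r := by
    rw [show g⁻¹ * z * g = MulAut.conj g⁻¹ z by simp]
    exact (MulEquiv.orderOf_eq (MulAut.conj g⁻¹) z).trans hzo
  have hzY : zpowers z ≤ Y := zpowers_le.2 (hmemY z (pow_mem hx _) hzo)
  have heq : zpowers (g⁻¹ * z * g) = zpowers z := eq_of_card_eq_of_le_cyclic hYc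
    (zpowers_le.2 (hmemY _ hw hwo)) hzY (by rw [Nat.card_zpowers, Nat.card_zpowers, hzo, hwo])
  have hN : normalizer (zpowers z : Set G) = M := normalizer_eq_of_isCoatom_of_le hG hM
    (fun h => hr.ne_one (by rw [← hzo, ← Nat.card_zpowers, h, card_bot])) (hzY.trans hYM)
    (le_normalizer_of_cyclic hMY hYc hzY)
  refine hg (inv_mem_iff.1 (hN ▸ mem_normalizer_of_map_le ?_))
  rw [MonoidHom.map_zpowers, MulEquiv.coe_toMonoidHom, MulAut.conj_apply, inv_inv, heq]

/-- The centralizer of an element of `F(M) ∩ F(M)^g` is not inside `M`. -/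
theorem centralizer_not_le_of_fitting_conj {x : G} (hx : x ∈ Cfsg.fittingOf M) (hx1 : x ≠ 1)
    (hy : g⁻¹ * x * g ∈ Cfsg.fittingOf M) : ¬ centralizer ({x} : Set G) ≤ M := by
  intro hle
  have hxS := mem_sigmaCore_of_fitting_conj hG hM hg hx hy
  obtain ⟨m, hm, c, hc, he⟩ := exists_mul_centralizer_of_sigma hG hM hxS hx1 (g := g⁻¹)
    (by rw [inv_inv]; exact fittingOf_le M hy)
  exact hg (inv_mem_iff.1 (he ▸ mul_mem hm (hle hc)))

/-- A maximal subgroup other than `M` over the centralizer of an element of `F(M) ∩ F(M)^g`. -/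
theorem exists_other_maximal {x : G} (hx : x ∈ Cfsg.fittingOf M) (hx1 : x ≠ 1)
    (hy : g⁻¹ * x * g ∈ Cfsg.fittingOf M) :
    ∃ L : Subgroup G, IsCoatom L ∧ L ≠ M ∧ centralizer ({x} : Set G) ≤ L := by
  obtain ⟨L, hL, hCL⟩ := exists_isCoatom_ge (centralizer_singleton_ne_top hG hx1)
  exact ⟨L, hL, fun h => centralizer_not_le_of_fitting_conj hG hM hg hx hx1 hy (h ▸ hCL), hCL⟩

variable {p : ℕ} [hp : Fact p.Prime] {x : G} (hxF : x ∈ Cfsg.fittingOf M) (hxp : orderOf x = p)
  (hyF : g⁻¹ * x * g ∈ Cfsg.fittingOf M)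
include hxF hxp hyF

omit hG hM hg hyF in
theorem ne_one_of_prime_order : x ≠ 1 := fun h => hp.out.ne_one (by rw [← hxp, h, orderOf_one])

omit hG hM hg hyF in
theorem mem_component : x ∈ Cfsg.piCoreOf {p} M := by
  rw [← piCoreOf_singleton_fittingOf]
  refine mem_piCoreOf_of_nilpotent (fittingOf_isNilpotent M) hxF fun s hs hsd => ?_
  rw [hxp, Nat.prime_dvd_prime_iff_eq hs hp.out] at hsd
  exact hsd

omit hG hM hg hyF in
theorem component_le_centralizer {r : ℕ} [Fact r.Prime] (hrp : r ≠ p) :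
    Cfsg.piCoreOf {r} M ≤ centralizer ({x} : Set G) := fun a ha =>
  mem_centralizer_singleton_iff.2
    (mem_centralizer_iff.1 (piCoreOf_le_centralizer_piCoreOf M (fun s hs hs' _ => hrp (by
      rw [Set.mem_singleton_iff] at hs hs'; exact hs ▸ hs')) ha) x
        (mem_component hxF hxp)).symm

/-- The components for `r ≠ p` are abelian of rank at most two. -/
theorem component_small {r : ℕ} [Fact r.Prime] (hrp : r ≠ p) :
    IsMulCommutative (Cfsg.piCoreOf {r} M) ∧ Cfsg.PRankLE r 2 (Cfsg.piCoreOf {r} M) := by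
  obtain ⟨L, hL, hne, hCL⟩ :=
    exists_other_maximal hG hM hg hxF (ne_one_of_prime_order hxF hxp) hyF
  exact small_of_two_maximal hG hM hL hne (piCoreOf_le _ _)
    ((component_le_centralizer hxF hxp hrp).trans hCL) (piCoreOf_singleton_isPGroup r M)

/-- The part of `O_p(M)` centralizing `x` is abelian of rank at most two. -/
theorem component_centralizer_small :
    IsMulCommutative ↥(Cfsg.piCoreOf {p} M ⊓ centralizer ({x} : Set G)) ∧
      Cfsg.PRankLE p 2 ↥(Cfsg.piCoreOf {p} M ⊓ centralizer ({x} : Set G)) := by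
  obtain ⟨L, hL, hne, hCL⟩ :=
    exists_other_maximal hG hM hg hxF (ne_one_of_prime_order hxF hxp) hyF
  exact small_of_two_maximal hG hM hL hne (inf_le_left.trans (piCoreOf_le _ _))
    (inf_le_right.trans hCL) ((piCoreOf_singleton_isPGroup p M).to_le inf_le_left)

theorem component_narrow (hp2 : p ≠ 2) : Cfsg.IsNarrow p (Cfsg.piCoreOf {p} M) := by
  set P := Cfsg.piCoreOf {p} M with hP
  have hxP : x ∈ P := mem_component hxF hxp
  refine isNarrow_of_rank_centralizer hp2 (piCoreOf_singleton_isPGroup p M)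
    (zpowers (⟨x, hxP⟩ : P)) (elementary_zpowers (Subtype.ext (by
      rw [SubgroupClass.coe_pow, ← hxp, pow_orderOf_eq_one]; rfl))) ?_
  refine TwoFusion.PRank.pRankLE_of_injective
    ((P.subtype.comp (centralizer (zpowers (⟨x, hxP⟩ : P) : Set P)).subtype).codRestrict
      (P ⊓ centralizer ({x} : Set G)) fun c => ⟨c.1.2, mem_centralizer_singleton_iff.2 ?_⟩)
    (fun a b h => Subtype.ext (Subtype.ext ((congrArg Subtype.val h :) : ((a : P) : G) = ((b : P) : G))))
    (component_centralizer_small hG hM hg hxF hxp hyF).2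
  exact (congrArg Subtype.val (mem_centralizer_iff.1 c.2 ⟨x, hxP⟩ (mem_zpowers _))).symm

/-- `M' ≤ F(M)`. -/
theorem commutator_le_fittingOf_of_fitting_conj : ⁅M, M⁆ ≤ Cfsg.fittingOf M := by
  haveI := isSolvable_of_ne_top hG hM.1
  refine commutator_le_fittingOf_of_key fun t ht a ha hat => ?_
  haveI := Fact.mk ht
  by_cases ht2 : t = 2
  · subst ht2
    have h1 : Cfsg.piCoreOf {2} M = ⊥ := by
      by_contra h
      exact prime_ne_two_of_dvd_card hG
        (dvd_card_of_isPGroup (piCoreOf_singleton_isPGroup 2 M) h) rfl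
    rw [h1]
    exact mem_centralizer_iff.2 fun b hb => by rw [mem_bot.1 hb, one_mul, mul_one]
  refine mem_centralizer_of_narrow ht2 (odd_card_subgroup hG M) (piCoreOf_le _ _)
    (le_normalizer_piCoreOf _ _) (piCoreOf_singleton_isPGroup t M) ?_ ha hat
  rcases eq_or_ne t p with rfl | htp
  · exact component_narrow hG hM hg hxF hxp hyF ht2
  · exact Or.inl (component_small hG hM hg hxF hxp hyF htp).2

theorem not_beta_of_fitting_conj : p ∉ Cfsg.beta M := by
  obtain ⟨E, -, hE⟩ := exists_complement_ge hG hM (bot_le : ⊥ ≤ M) fun q hq hd => by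
    rw [card_bot] at hd; exact absurd hd hq.not_dvd_one
  refine ((Cfsg.Agent.S1426.result hG M hM E hE).2.2 g hg).2.1 p hp.out ?_
  rw [← hxp]
  refine orderOf_dvd_card_of_mem ⟨mem_sigmaCore_of_fitting_conj hG hM hg hxF hyF,
    g⁻¹ * x * g, fittingOf_le M hyF, ?_⟩
  rw [MulEquiv.coe_toMonoidHom, MulAut.conj_apply]
  group

/-- `M_F = M_σ`. -/
theorem fittingHallOf_eq_of_fitting_conj : Cfsg.fittingHallOf M = Cfsg.sigmaCore M := by
  by_contra hne
  obtain ⟨K, hK⟩ := exists_isPiHallOf hG hM (Cfsg.kappa M)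
  have hKc : IsCyclic K := (Cfsg.Agent.S1351.result hG M hM).2 K hK
  obtain ⟨U, hKU⟩ := exists_sigma_decomposition hG hM hKc hK
  obtain ⟨-, -, -, hq, -, hqβ, Q, hQF, hMQ, hQq, hQrel, -⟩ :=
    Cfsg.Agent.S1437.result hG M hM K U hKU hne
  set q := Nat.card ↥(Cfsg.sigmaCore M ⊓ centralizer (K : Set G)) with hqdef
  haveI := Fact.mk hq
  have hqp : q ≠ p := fun h => not_beta_of_fitting_conj hG hM hg hxF hxp hyF (h ▸ hqβ)
  have hQS : Q ≤ Cfsg.sigmaCore M := hQF.trans (fittingHallOf_le_sigmaCore hG hM)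
  have hSM : Cfsg.sigmaCore M ≤ M := piCoreOf_le _ _
  have hQle : Q ≤ Cfsg.piCoreOf {q} M :=
    le_piCoreOf (hQS.trans hSM) hMQ (isPiSubgroup_singleton.2 hQq)
  obtain ⟨A, hAM, hAe, hA⟩ := exists_elementary_of_not_pRankLE hqβ.1.2
  have hnd : ¬ q ∣ Q.relIndex M := by
    rw [← relIndex_mul_relIndex _ _ _ hQS hSM]
    intro h
    rcases hq.dvd_mul.1 h with h | h
    · exact hQrel h
    · exact (hall_of_subset hG hM (π := Cfsg.sigma M) subset_rfl
        fun p _ S hp => sylow_le_sigmaCore hG hM hp S).1.2.2 q hq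
        (alpha_subset_sigma hG hM hqβ.1) h
  have hAQ : A ≤ Q := fun a ha => mem_of_orderOf_coprime_relIndex hMQ (hAM ha)
    (Nat.Coprime.coprime_dvd_left (orderOf_dvd_of_pow_eq_one (hAe.2 a ha))
      (hq.coprime_iff_not_dvd.2 hnd))
  exact not_pRankLE_of_elementary (hAQ.trans hQle) hAe hA
    (component_small hG hM hg hxF hxp hyF hqp).2

end

end CfsgLib.OddOrder
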