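import Cfsg.Agent.Lib.OddOrder.SigmaDichotomy
import Cfsg.Agent.Lib.OddOrder.SigmaConj

/-!
Elements of prime order `q ∉ σ(M)`, `r_q(M) ≤ 1`, fixing a nontrivial element of `M_σ`: the maximal
subgroups over their centralizers and normalizers (BG 14.2 (b)).
-/

set_option autoImplicit false
set_option linter.style.haveILetI false

open scoped commutatorElement Pointwise

namespace CfsgLib.OddOrder

open Subgroup

variable {G : Type*} [Group G] [Finite G] (hG : Cfsg.IsMinSimpleOddOrder G) {M : Subgroup G}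
  (hM : IsCoatom M) {q : ℕ} [hq : Fact q.Prime] {a : G} (hao : orderOf a = q) (haM : a ∈ M)
  (hqσ : q ∉ Cfsg.sigma M) (hr1 : Cfsg.PRankLE q 1 M)
include hG hM hao haM hqσ hr1

/-- `C(x) ≤ M` for `x ∈ C_{M_σ}(a)`. -/
theorem centralizer_le_of_prime_fixed {x : G} (hx : x ∈ Cfsg.sigmaCore M) (hx1 : x ≠ 1)
    (hax : Commute a x) : centralizer ({x} : Set G) ≤ M := by
  rcases sigma_element_dichotomy hG hM hx hx1 (x' := a)
    ⟨haM, mem_centralizer_singleton_iff.2 hax.eq⟩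
    (fun h => hq.out.ne_one (by rw [← hao, h, orderOf_one]))
    (fun p hp hd => by
      rw [hao, Nat.prime_dvd_prime_iff_eq hp hq.out] at hd
      exact hd ▸ hqσ) with ⟨-, h⟩ | ⟨h, -⟩
  · exact h
  · exact absurd hr1 (h q hq.out (dvd_of_eq hao.symm)).2.2.2

/-- A maximal subgroup over `C(a)` has no `τ₂` prime `q`. -/
theorem not_tau2_of_fixed (hW : Cfsg.sigmaCore M ⊓ centralizer ({a} : Set G) ≠ ⊥)
    {H : Subgroup G} (hH : IsCoatom H) (hC : centralizer ({a} : Set G) ≤ H) :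
    q ∉ Cfsg.tau2 H := by
  intro hτ
  obtain ⟨r, hr, hrd⟩ := Nat.exists_prime_and_dvd fun h => hW (card_eq_one.1 h)
  haveI := Fact.mk hr
  obtain ⟨x', hx'o⟩ := exists_prime_orderOf_dvd_card' r hrd
  set x : G := (x' : G)
  have hxo : orderOf x = r := by rw [orderOf_coe, hx'o]
  have hx1 : x ≠ 1 := fun h => hr.ne_one (by rw [← hxo, h, orderOf_one])
  have hxσ : x ∈ Cfsg.sigmaCore M := x'.2.1
  have hax : Commute a x := (mem_centralizer_singleton_iff.1 x'.2.2).symm
  have hxM : x ∈ M := piCoreOf_le _ _ hxσ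
  have hCx := centralizer_le_of_prime_fixed hG hM hao haM hqσ hr1 hxσ hx1 hax
  have hrσ : r ∈ Cfsg.sigma M := sigma_of_dvd_sigmaCore hr (hxo ▸ orderOf_dvd_card_of_mem hxσ)
  have hxH : x ∈ H := hC x'.2.2
  have haH : a ∈ H := hC (mem_centralizer_singleton_iff.2 rfl)
  have hMH : ∀ g : G, M.map (MulAut.conj g).toMonoidHom ≠ H := fun g hg =>
    hτ.2.2.2 (hg ▸ pRankLE_map_equiv (MulAut.conj g) hr1)
  have hrH : r ∉ Cfsg.sigma H := sigma_disjoint hG hM hH hMH hrσ
  have hxp : IsPGroup r (zpowers x) :=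
    IsPGroup.of_card (n := 1) (by rw [Nat.card_zpowers, hxo, pow_one])
  obtain ⟨D, hle, hD⟩ := exists_complement_ge hG hH
    (sup_le (zpowers_le.2 haH) (zpowers_le.2 hxH) : zpowers a ⊔ zpowers x ≤ H) fun t ht hd => by
      rcases ht.dvd_mul.1 (hd.trans (card_sup_dvd_mul_of_le_normalizer (zpowers_le.2
        (centralizer_le_normalizer _ (mem_centralizer_iff.2 fun z hz => by
          obtain ⟨i, rfl⟩ := mem_zpowers_iff.1 hz
          exact (hax.zpow_left i).eq))))) with h | h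
      · rw [Nat.card_zpowers, hao, Nat.prime_dvd_prime_iff_eq ht hq.out] at h
        exact h ▸ hτ.2.1
      · rw [Nat.card_zpowers, hxo, Nat.prime_dvd_prime_iff_eq ht hr] at h
        exact h ▸ hrH
  obtain ⟨B, hBD, hB, hB2⟩ := exists_elementary_in_complement hG hH hD hτ
  obtain ⟨⟨hDB, hall⟩, ⟨-, -, hNH⟩, -⟩ :=
    Cfsg.Agent.S1418.result hG H hH D hD q hτ B ⟨hBD, hB, hB2⟩
  have haB : a ∈ B := hall _ (le_sup_left.trans hle) (by rw [Nat.card_zpowers, hao]) (mem_zpowers a)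
  have hxN : x ∈ normalizer (B : Set G) := hDB (hle (mem_sup_right (mem_zpowers x)))
  have hBH : B ≤ H := hBD.trans hD.1
  have hxB : x ∉ centralizer (B : Set G) := by
    intro h
    refine not_pRankLE_of_elementary (?_ : B ≤ M) hB
      (by rw [hB2]; exact Nat.pow_lt_pow_right hq.out.one_lt one_lt_two) hr1
    exact fun b hb => hCx (mem_centralizer_singleton_iff.2 (h b hb))
  obtain ⟨L, hL, hNL⟩ := exists_isCoatom_ge (normalizer_ne_top hG
    (fun h : B = ⊥ => hxB (by rw [h]; exact fun b hb => by rw [mem_bot.1 hb, one_mul, mul_one]))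
    (isPGroup_ne_top hG (isPGroup_of_exp hB.2)))
  have hBL : B ≤ L := le_normalizer.trans hNL
  have hxL : x ∈ L := hNL hxN
  have hqL : q ∈ Cfsg.sigma L := by
    by_contra hqL
    obtain ⟨E, hBE, hE⟩ := exists_complement_ge hG hL hBL fun t ht hd => by
      rw [hB2] at hd
      rw [(Nat.prime_dvd_prime_iff_eq ht hq.out).1 (ht.dvd_of_dvd_pow hd)]
      exact hqL
    exact (Cfsg.Agent.S1418.result hG L hL E hE q (mem_tau2_of_elementary hG hL hqL hBL hB hB2) B
      ⟨hBE, hB, hB2⟩).2.1.2.2 hNL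
  have hLH : L ≠ H := fun h => hNH (h ▸ hNL)
  have hrL : r ∉ Cfsg.sigma L := fun h => by
    obtain ⟨g, hg⟩ := (Cfsg.Agent.S1378.result hG).2 M L hM hL ⟨r, hrσ, h⟩
    exact hqσ (by rwa [hg, sigma_conj] at hqL)
  have haLσ : a ∈ Cfsg.sigmaCore L :=
    le_sigmaCore_of_pgroup hG hL hqL (isPGroup_of_exp hB.2) hBL haB
  rcases sigma_element_dichotomy hG hL haLσ
    (fun h => hq.out.ne_one (by rw [← hao, h, orderOf_one])) (x' := x)
    ⟨hxL, mem_centralizer_singleton_iff.2 hax.symm.eq⟩ hx1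
    (fun t ht hd => by
      rw [hxo, Nat.prime_dvd_prime_iff_eq ht hr] at hd
      exact hd ▸ hrL) with ⟨hκ, -⟩ | ⟨-, -, -, huniq⟩
  · rcases kappa_tau13 hG hL (hκ r hr (dvd_of_eq hxo.symm)) with h1 | h3
    · have hu := (tau1_centralizer_unique hG hL h1 (P := zpowers x)
        (by rw [Nat.card_zpowers, hxo]) (zpowers_le.2 hxL) (X := zpowers a)
        (by rw [Nat.card_zpowers, hao]) (zpowers_le.2 ⟨haLσ, mem_centralizer_iff.2 fun z hz => by
          obtain ⟨i, rfl⟩ := mem_zpowers_iff.1 hz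
          exact (hax.symm.zpow_left i).eq⟩)).2 H hH (by
        rw [zpowers_eq_closure, centralizer_closure]; exact hC)
      exact hLH hu.symm
    · refine hxB (mem_centralizer_of_derived hG hL hBL (mem_derived_of_tau3 hG hL h3 hxL hxp) hxN
        fun t ht hd => ?_)
      rw [hB2] at hd
      rw [(Nat.prime_dvd_prime_iff_eq ht hq.out).1 (ht.dvd_of_dvd_pow hd)]
      refine ⟨fun hβ => not_idealPrime hG hH hτ.2.2.1 hτ.2.2.2 hβ.2, fun hd' => hqσ ?_⟩
      rw [hxo, Nat.prime_dvd_prime_iff_eq hq.out hr] at hd'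
      exact hd' ▸ hrσ
  · exact hqσ (by rw [huniq M hM hCx]; exact hqL)

/-- A maximal subgroup over `N(⟨a⟩)` has `q` in its `σ`. -/
theorem mem_sigma_of_prime_fixed (hW : Cfsg.sigmaCore M ⊓ centralizer ({a} : Set G) ≠ ⊥)
    {H : Subgroup G} (hH : IsCoatom H) (hN : normalizer (zpowers a : Set G) ≤ H) :
    q ∈ Cfsg.sigma H := by
  by_contra hqH
  obtain ⟨⟨h2, h1⟩, -⟩ :=
    rank_two_of_normalizer_le hG hH hqH (by rw [Nat.card_zpowers, hao]) hN
  refine not_tau2_of_fixed hG hM hao haM hqσ hr1 hW hH ?_ ⟨hq.out, hqH, h2, h1⟩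
  rw [← centralizer_closure ({a} : Set G), ← zpowers_eq_closure]
  exact (centralizer_le_normalizer _).trans hN

/-- `C(a) ≤ H` when `a ∈ H_σ`. -/
theorem centralizer_le_of_sigma_fixed (hW : Cfsg.sigmaCore M ⊓ centralizer ({a} : Set G) ≠ ⊥)
    {H : Subgroup G} (hH : IsCoatom H) (haH : a ∈ Cfsg.sigmaCore H) :
    centralizer ({a} : Set G) ≤ H := by
  by_contra hC
  obtain ⟨L, hL, hCL, -, -, ⟨p, hp, hpd⟩, -, -⟩ := exists_supporting hG hH
    (Cfsg.Agent.S1378.result hG).2 haH (fun h => hq.out.ne_one (by rw [← hao, h, orderOf_one])) hC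
  rw [hao, Nat.prime_dvd_prime_iff_eq hp.1 hq.out] at hpd
  exact not_tau2_of_fixed hG hM hao haM hqσ hr1 hW hL hCL (hpd ▸ hp)

end CfsgLib.OddOrder
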