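import Cfsg.Agent.Lib.OddOrder.DecompositionFixed
import Cfsg.Agent.Lib.OddOrder.FixedPrime
import Cfsg.Agent.Lib.OddOrder.KappaPartner

/-!
BG 15.1: for `K ≠ 1` the normalizer of `U` does not lie in `M`.
-/

set_option autoImplicit false
set_option linter.style.haveILetI false
set_option maxHeartbeats 400000

namespace CfsgLib.OddOrder

open Subgroup

variable {G : Type*} [Group G] [Finite G]

/-- A self-normalizing subgroup of a nilpotent group is the whole group. -/
theorem eq_of_inf_normalizer_le {N C D : Subgroup G} (hN : Group.IsNilpotent N) (hCN : C ≤ N)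
    (hDC : D ≤ C) (h : C ⊓ normalizer (D : Set G) ≤ D) : C = D := by
  haveI := hN
  have hC : Group.IsNilpotent C := (Group.isNilpotent_congr (subgroupOfEquivOfLe hCN)).1 inferInstance
  haveI := hC
  refine le_antisymm ?_ hDC
  by_contra hnot
  have hlt : D.subgroupOf C < ⊤ := lt_top_iff_ne_top.2 fun e => hnot (subgroupOf_eq_top.1 e)
  obtain ⟨x, hxN, hxD⟩ :=
    SetLike.exists_of_lt (Group.normalizerCondition_of_isNilpotent (G := C) _ hlt)
  refine hxD (mem_subgroupOf.2 (h ⟨x.2, mem_normalizer_of_map_le ?_⟩))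
  rintro _ ⟨d, hd, rfl⟩
  exact mem_subgroupOf.1 ((mem_normalizer_iff.1 hxN ⟨d, hDC hd⟩).1 (mem_subgroupOf.2 hd))

variable (hG : Cfsg.IsMinSimpleOddOrder G) {M K U : Subgroup G} (hM : IsCoatom M)
  (hKU : Cfsg.IsSigmaDecomposition M K U)
include hG hM hKU

/-- `C_M` of a subgroup of `U` in the complement `U K` is `U`. -/
theorem mem_decomposition_of_commute (hK1 : K ≠ ⊥) {P : Subgroup G} (hPU : P ≤ U) (hP : P ≠ ⊥)
    {g : G} (hg : g ∈ U ⊔ K) (hgP : g ∈ centralizer (P : Set G)) : g ∈ U := by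
  haveI := decomposition_abelian hG hM hKU hK1
  obtain ⟨u, hu, k, hk, rfl⟩ := (Solvable.mem_sup_of_le_normalizer hKU.normal).1 hg
  by_cases hk1 : k = 1
  · rw [hk1, mul_one]; exact hu
  obtain ⟨v, hv, hv1⟩ := P.bot_or_exists_ne_one.resolve_left hP
  refine absurd (mem_bot.1 (?_ : v ∈ (⊥ : Subgroup G))) hv1
  rw [← decomposition_inf_centralizer hG hM hKU hk hk1]
  refine ⟨hPU hv, mem_centralizer_singleton_iff.2 ?_⟩
  have h1 : v * (u * k) = u * k * v := hgP v hv
  have h2 : v * u = u * v := setLike_mul_comm (s := U) (hPU hv) hu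
  refine mul_left_cancel (a := u) ?_
  calc u * (v * k) = u * v * k := (mul_assoc _ _ _).symm
    _ = v * u * k := by rw [h2]
    _ = v * (u * k) := mul_assoc _ _ _
    _ = u * k * v := h1
    _ = u * (k * v) := mul_assoc _ _ _

/-- BG 15.1: `N(U) ⊄ M` when `K ≠ 1`. -/
theorem decomposition_normalizer_not_le (hK1 : K ≠ ⊥) : ¬ normalizer (U : Set G) ≤ M := by
  intro hNM
  haveI := decomposition_abelian hG hM hKU hK1
  have hUn : Group.IsNilpotent U := by
    letI : CommGroup U :=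
      { (inferInstance : Group U) with
        mul_comm := fun a b => Subtype.ext (setLike_mul_comm a.2 b.2) }
    exact CommGroup.isNilpotent
  have hUU : U ≤ centralizer (U : Set G) := le_centralizer_iff_isMulCommutative.2 inferInstance
  by_cases hU1 : U = ⊥
  · refine hM.1 (top_le_iff.1 fun g _ => hNM ?_)
    rw [hU1]
    exact mem_normalizer_of_map_le (by rw [Subgroup.map_bot])
  have hE := decomposition_isComplIn hKU
  have hUM : U ≤ M := hKU.compl.1
  have hUp : ∀ q : ℕ, q.Prime → q ∣ Nat.card U → q ∉ Cfsg.sigma M ∧ q ∉ Cfsg.kappa M :=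
    fun q hq hd => decomposition_U_primes hG hM hKU hq hd
  by_cases ht : ∃ q, q ∣ Nat.card U ∧ q ∈ Cfsg.tau2 M
  · obtain ⟨q, hqU, hqt⟩ := ht
    haveI := Fact.mk hqt.1
    obtain ⟨S⟩ : Nonempty (Sylow q U) := inferInstance
    set P := (S : Subgroup U).map U.subtype with hPdef
    have hPU : P ≤ U := map_subtype_le _
    have hP : IsMaxPIn q M P := isMaxPIn_decomposition hG hM hKU hqU S
    obtain ⟨A, hAE, hA, hA2⟩ := exists_elementary_in_complement hG hM hE hqt
    obtain ⟨⟨hEA, -⟩, ⟨hCA, hNA, -⟩, -⟩ :=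
      Cfsg.Agent.S1418.result hG M hM _ hE q hqt A ⟨hAE, hA, hA2⟩
    have hAP : A ≤ P := by
      rw [← hP.max (P ⊔ A) (hP.pgroup.to_sup_of_normal_right' (isPGroup_of_exp hA.2)
        ((hPU.trans le_sup_left).trans hEA)) le_sup_left (sup_le hP.le (hAE.trans hE.1))]
      exact le_sup_right
    have hA1 : A ≠ ⊥ := fun h => by
      rw [h, Subgroup.card_bot] at hA2
      exact (Nat.one_lt_pow two_ne_zero hqt.1.one_lt).ne hA2
    have hCP : centralizer (P : Set G) = U := by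
      refine le_antisymm (fun g hg => ?_) (hUU.trans (centralizer_le hPU))
      refine mem_decomposition_of_commute hG hM hKU hK1 hPU
        (fun h => hA1 (le_bot_iff.1 (h ▸ hAP))) ?_ hg
      rw [← hNA]
      exact hCA (centralizer_le hAP hg)
    obtain ⟨g, hg, hgM⟩ :=
      exists_normalizer_not_mem hG hM hqt.2.1 hP (hqU.trans (card_dvd_of_le hUM))
    refine hgM (hNM ?_)
    rw [← hCP]
    exact normalizer_le_normalizer_centralizer _ hg
  push Not at ht
  have hr1 : ∀ q : ℕ, q.Prime → q ∣ Nat.card U → Cfsg.PRankLE q 1 M := fun q hq hd =>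
    by_contra fun h => ht q hd ⟨hq, (hUp q hq hd).1,
      pRankLE_two_of_not_sigma hG hM hq (hUp q hq hd).1, h⟩
  -- an element of prime order in `U` and a maximal subgroup over its normalizer
  obtain ⟨q, hq, hqU⟩ := Nat.exists_prime_and_dvd fun h => hU1 (card_eq_one.1 h)
  haveI := Fact.mk hq
  obtain ⟨t₀, ht₀⟩ := exists_prime_orderOf_dvd_card' q hqU
  set t : G := (t₀ : G)
  have htU : t ∈ U := t₀.2
  have hto : orderOf t = q := by rw [Subgroup.orderOf_coe, ht₀]
  have ht1 : t ≠ 1 := fun h => hq.ne_one (by rw [← hto, h, orderOf_one])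
  have hTc : Nat.card (zpowers t) = q := by rw [Nat.card_zpowers, hto]
  obtain ⟨H, hH, hNH⟩ := exists_isCoatom_ge (normalizer_ne_top hG (ne_bot_of_prime_card hTc)
    (isPGroup_ne_top hG (isPGroup_of_prime_card hTc)))
  have hqσ := (hUp q hq hqU).1
  have hqcases : q ∈ Cfsg.sigma H ∨ q ∈ Cfsg.tau2 H := by
    by_cases h : q ∈ Cfsg.sigma H
    · exact Or.inl h
    obtain ⟨⟨h2, h1⟩, -⟩ := rank_two_of_normalizer_le hG hH h hTc hNH
    exact Or.inr ⟨hq, h, h2, h1⟩
  have hMH : ∀ g : G, M.map (MulAut.conj g).toMonoidHom ≠ H := fun g hg => by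
    rcases hqcases with h | h
    · exact hqσ (by rwa [← hg, sigma_conj] at h)
    · exact h.2.2.2 (hg ▸ pRankLE_map_equiv (MulAut.conj g) (hr1 q hq hqU))
  have hUH : U ≤ H := fun u hu => hNH (mem_normalizer_zpowers_iff.2 (by
    rw [show u * t = t * u from setLike_mul_comm (s := U) hu htU, mul_inv_cancel_right]
    exact mem_zpowers t))
  have hKH : K ≤ H := by
    set P := Cfsg.piCoreOf {q} U
    haveI : IsCyclic P := isCyclic_pgroup_of_rank_one hG (hqU.trans (card_dvd_of_le hUM))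
      (hr1 q hq hqU) (piCoreOf_singleton_isPGroup q U) ((piCoreOf_le _ _).trans hUM)
    have hmem : ∀ x ∈ U, orderOf x = q → x ∈ P := fun x hx hxo =>
      mem_piCoreOf_of_nilpotent hUn hx fun s hs hsd => Set.mem_singleton_iff.2
        ((Nat.prime_dvd_prime_iff_eq hs hq).1 (hxo ▸ hsd))
    intro k hk
    refine hNH (mem_normalizer_zpowers_iff.2 ?_)
    have hkt : k * t * k⁻¹ ∈ U := (mem_normalizer_iff.1 (hKU.normal hk) t).1 htU
    have hkto : orderOf (k * t * k⁻¹) = q := by rw [← MulAut.conj_apply, MulEquiv.orderOf_eq, hto]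
    have h := eq_of_card_eq_of_isCyclic (C := P)
      (H := zpowers ⟨k * t * k⁻¹, hmem _ hkt hkto⟩) (K := zpowers ⟨t, hmem _ htU hto⟩) (by
        rw [Nat.card_zpowers, Nat.card_zpowers, Subgroup.orderOf_mk, Subgroup.orderOf_mk, hkto, hto])
    obtain ⟨i, hi⟩ := mem_zpowers_iff.1 (h.le (mem_zpowers _))
    exact mem_zpowers_iff.2 ⟨i, congrArg Subtype.val hi⟩
  have hEH : U ⊔ K ≤ H := sup_le hUH hKH
  -- `U ≤ H'`
  have hUd : U ≤ ⁅H, H⁆ := by
    have hcop : (Nat.card K).Coprime (Nat.card U) :=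
      Nat.coprime_of_dvd fun s hs h1 h2 => (hUp s hs h2).2 (hKU.hall.2.1 s hs h1)
    have h1 := Solvable.commutator_sup_centralizer hKU.normal hcop
      (Or.inl (isSolvable_of_ne_top hG fun hb => hM.1 (top_le_iff.1 (hb ▸ hKU.hall.1))))
    obtain ⟨k, hk, hk1⟩ := K.bot_or_exists_ne_one.resolve_left hK1
    have h2 : U ⊓ centralizer (K : Set G) = ⊥ := le_bot_iff.1 (le_trans
      (inf_le_inf_left _ (centralizer_le (Set.singleton_subset_iff.2 hk)))
      (decomposition_inf_centralizer hG hM hKU hk hk1).le)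
    rw [h2, sup_bot_eq] at h1
    exact h1.ge.trans (commutator_mono hUH hKH)
  -- `M_σ ∩ H = 1`
  have hσd : ∀ w, w ∈ Cfsg.sigma M → w ∉ Cfsg.sigma H := fun w hw => sigma_disjoint hG hM hH hMH hw
  have hY : Cfsg.sigmaCore M ⊓ H = ⊥ := by
    set Y := Cfsg.sigmaCore M ⊓ H with hYdef
    by_contra hY1
    obtain ⟨w, hw, hwY⟩ := Nat.exists_prime_and_dvd (n := Nat.card Y)
      fun h1 => hY1 (card_eq_one.1 h1)
    haveI := Fact.mk hw
    have hTY : zpowers t ≤ normalizer (Y : Set G) :=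
      le_normalizer_inf_of_le ((zpowers_le.2 (hUM htU)).trans (le_normalizer_piCoreOf _ _))
        ((zpowers_le.2 (hUH htU)).trans le_normalizer)
    have hwσ : w ∈ Cfsg.sigma M :=
      sigma_of_dvd_sigmaCore hw (hwY.trans (card_dvd_of_le inf_le_left))
    have hcop : (Nat.card (zpowers t)).Coprime (Nat.card Y) := by
      rw [hTc]
      exact hq.coprime_iff_not_dvd.2 fun hd =>
        hqσ (sigma_of_dvd_sigmaCore hq (hd.trans (card_dvd_of_le inf_le_left)))
    obtain ⟨S, hS⟩ := CfsgLib.Solvable.exists_invariant_sylow hTY hcop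
      (Or.inl (isSolvable_of_ne_top hG (isPGroup_ne_top hG (isPGroup_of_prime_card hTc)))) w
    set W := (S : Subgroup Y).map Y.subtype with hWdef
    have hWY : W ≤ Y := map_subtype_le _
    have htW : t ∈ centralizer (W : Set G) := mem_centralizer_of_derived hG hH
      (hWY.trans inf_le_right) (hUd htU) (hS (mem_zpowers t)) fun w' hw' hd => by
        obtain rfl := prime_eq_of_dvd_pgroup (S.2.map Y.subtype) hw' hd
        refine ⟨fun hβ => hσd w' hwσ (alpha_subset_sigma hG hH hβ.1), fun hd' => hqσ ?_⟩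
        rw [hto, Nat.prime_dvd_prime_iff_eq hw' hq] at hd'
        exact hd' ▸ hwσ
    obtain ⟨y, hy, hy1⟩ := W.bot_or_exists_ne_one.resolve_left fun h1 =>
      S.ne_bot_of_dvd_card hwY ((map_eq_bot_iff_of_injective _ Y.subtype_injective).1 h1)
    have hfix : Cfsg.sigmaCore M ⊓ centralizer ({t} : Set G) ≠ ⊥ := fun hb => hy1 (mem_bot.1
      (hb ▸ (⟨(hWY hy).1, mem_centralizer_singleton_iff.2 (htW y hy)⟩ :
        y ∈ Cfsg.sigmaCore M ⊓ centralizer ({t} : Set G))))
    exact ((decomposition_fixed hG hM hKU htU ht1 hfix).1 q hq (dvd_of_eq hto.symm)).2.2.2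
      (hr1 q hq hqU)
  -- elements of `K` have centralizers outside `H` and lie outside `H_σ`
  have hnle : ∀ a ∈ K, ∀ p : ℕ, p.Prime → orderOf a = p → ¬ centralizer ({a} : Set G) ≤ H := by
    intro a ha p hp hao hle
    haveI := Fact.mk hp
    refine kappa_centralizer_ne_bot (hKU.hall.2.1 p hp (hao ▸ orderOf_dvd_card_of_mem ha))
      (hKU.hall.1 ha) (hao ▸ pow_orderOf_eq_one a) (le_bot_iff.1 ?_)
    exact (inf_le_inf_left _ hle).trans hY.le
  have hKσ : ∀ k ∈ K, k ∈ Cfsg.sigmaCore H → k = 1 := by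
    intro k hk hkσ
    by_contra hk1
    obtain ⟨p, hp, hpd⟩ := Nat.exists_prime_and_dvd fun h => hk1 (orderOf_eq_one_iff.1 h)
    haveI := Fact.mk hp
    set a := k ^ (orderOf k / p)
    have hao : orderOf a = p := orderOf_pow_orderOf_div (orderOf_pos k).ne' hpd
    have haK : a ∈ K := pow_mem hk _
    have hκ : p ∈ Cfsg.kappa M := hKU.hall.2.1 p hp (hao ▸ orderOf_dvd_card_of_mem haK)
    exact hnle a haK p hp hao (centralizer_le_of_sigma_fixed hG hM hao (hKU.hall.1 haK)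
      (kappa_not_sigma hκ) (kappa_rank_one hκ)
      (kappa_centralizer_ne_bot hκ (hKU.hall.1 haK) (hao ▸ pow_orderOf_eq_one a)) hH
      (pow_mem hkσ _))
  obtain ⟨p, hp, hpd⟩ := Nat.exists_prime_and_dvd fun h => hK1 (card_eq_one.1 h)
  haveI := Fact.mk hp
  obtain ⟨a₀, ha₀⟩ := exists_prime_orderOf_dvd_card' p hpd
  set a : G := (a₀ : G)
  have haK : a ∈ K := a₀.2
  have hao : orderOf a = p := by rw [Subgroup.orderOf_coe, ha₀]
  have ha1 : a ≠ 1 := fun h => hp.ne_one (by rw [← hao, h, orderOf_one])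
  have hpH : p ∉ Cfsg.sigma H := fun h => ha1 (hKσ a haK (le_sigmaCore_of_pgroup hG hH h
    (isPGroup_of_prime_card (by rw [Nat.card_zpowers, hao])) (zpowers_le.2 (hKH haK))
    (mem_zpowers a)))
  -- `κ(H)` is empty
  have hκH : ∀ r, r ∉ Cfsg.kappa H := fun r hr => by
    have h : IsKappaPair M K := ⟨hM, hKU.hall, hK1⟩
    obtain ⟨L, h', he, -, -⟩ := h.exists_dual hG
    obtain ⟨g, hg | hg⟩ := h.conj_cases hG h' he hH ⟨r, hr⟩
    · exact hMH g hg.symm
    · refine hpH ?_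
      rw [hg, sigma_conj]
      have haL : a ∈ Cfsg.sigmaCore L := (he.symm ▸ haK : a ∈ kappaStar L (kappaStar M K)).1
      exact sigma_of_dvd_sigmaCore hp (hao ▸ orderOf_dvd_card_of_mem haL)
  -- `H_σ` is nilpotent
  have hfix : Cfsg.sigmaCore H ⊓ centralizer ({a} : Set G) = ⊥ := by
    by_contra hb
    obtain ⟨x, ⟨hxσ, hxa⟩, hx1⟩ := (bot_or_exists_ne_one _).resolve_left hb
    rcases sigma_element_dichotomy hG hH hxσ hx1 (x' := a)
      ⟨hKH haK, mem_centralizer_singleton_iff.2 (mem_centralizer_singleton_iff.1 hxa).symm⟩ ha1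
      (fun s hs hd => by
        rw [hao, Nat.prime_dvd_prime_iff_eq hs hp] at hd
        exact hd ▸ hpH) with ⟨hκ, -⟩ | ⟨-, -, hC, -⟩
    · exact hκH p (hκ p hp (dvd_of_eq hao.symm))
    · exact hnle a haK p hp hao hC
  have hHn : Group.IsNilpotent (Cfsg.sigmaCore H) := isNilpotent_of_prime_fpf hp
    (hao ▸ pow_orderOf_eq_one a) (le_normalizer_piCoreOf _ _ (hKH haK)) hfix
  -- the parts of `U`
  set U₁ := U ⊓ Cfsg.sigmaCore H with hU₁
  set U₂ := Cfsg.piCoreOf {s | s ∉ Cfsg.sigma H} U with hU₂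
  have hU₂U : U₂ ≤ U := piCoreOf_le _ _
  have hU₂p : ∀ s : ℕ, s.Prime → s ∣ Nat.card U₂ → s ∉ Cfsg.sigma H := fun s hs hd =>
    piCoreOf_isPiSubgroup {s | s ∉ Cfsg.sigma H} U s hs hd
  have hsplit : U ≤ U₁ ⊔ U₂ := fun u hu => mem_of_forall_exists_pow_mem (orderOf_pos u)
    fun s hs hsd => by
      obtain ⟨m, i, hm, hi⟩ := exists_prime_part u hs
      refine ⟨m, hm, ?_⟩
      haveI := Fact.mk hs
      by_cases hsH : s ∈ Cfsg.sigma H
      · refine mem_sup_left ⟨pow_mem hu m, le_sigmaCore_of_pgroup hG hH hsH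
          (IsPGroup.of_card (n := i) (by rw [Nat.card_zpowers, hi]) : IsPGroup s (zpowers (u ^ m)))
          (zpowers_le.2 (hUH (pow_mem hu m))) (mem_zpowers _)⟩
      · refine mem_sup_right (mem_piCoreOf_of_nilpotent hUn (pow_mem hu m) fun w hw hwd => ?_)
        rw [hi] at hwd
        rw [Set.mem_ofPred_eq, (Nat.prime_dvd_prime_iff_eq hw hs).1 (hw.dvd_of_dvd_pow hwd)]
        exact hsH
  set C := Cfsg.sigmaCore H ⊓ centralizer (U₂ : Set G) with hC
  have hU₁C : U₁ ≤ C := le_inf inf_le_right (inf_le_left.trans (hUU.trans (centralizer_le hU₂U)))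
  have hnorm : ∀ g, g ∈ centralizer (U₂ : Set G) → g ∈ normalizer (U₁ : Set G) → g ∈ M := by
    refine fun g hg2 hg1 => hNM (mem_normalizer_of_map_le ?_)
    refine (map_mono hsplit).trans ?_
    rw [Subgroup.map_sup]
    refine sup_le ((mem_normalizer_iff_map_conj_eq.1 hg1).le.trans inf_le_left) ?_
    rintro _ ⟨v, hv, rfl⟩
    show g * v * g⁻¹ ∈ U
    rw [← hg2 v hv, mul_inv_cancel_right]
    exact hU₂U hv
  have hCU : C = U₁ := by
    refine eq_of_inf_normalizer_le hHn inf_le_left hU₁C ?_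
    rintro g ⟨⟨hgσ, hg2⟩, hg1⟩
    obtain ⟨e, he, s, hs, rfl⟩ := hE.2.2.2 g (hnorm g hg2 hg1)
    have hsH : s ∈ H := by
      simpa using H.mul_mem (H.inv_mem (hEH he)) (piCoreOf_le _ _ hgσ)
    have hs1 : s = 1 := mem_bot.1 (hY ▸ (⟨hs, hsH⟩ : s ∈ Cfsg.sigmaCore M ⊓ H))
    rw [hs1, mul_one] at hgσ hg2 ⊢
    refine ⟨?_, hgσ⟩
    by_cases hU₂1 : U₂ = ⊥
    · obtain ⟨u, hu, k, hk, rfl⟩ := (Solvable.mem_sup_of_le_normalizer hKU.normal).1 he
      have huσ : u ∈ Cfsg.sigmaCore H := by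
        have h := hsplit hu
        rw [hU₂1, sup_bot_eq] at h
        exact h.2
      have hk1 : k = 1 := hKσ k hk (by simpa using mul_mem (inv_mem huσ) hgσ)
      rw [hk1, mul_one]
      exact hu
    · exact mem_decomposition_of_commute hG hM hKU hK1 hU₂U hU₂1 he hg2
  by_cases hU₂1 : U₂ = ⊥
  · -- `U = H_σ`
    have hUσ : U = Cfsg.sigmaCore H := by
      refine le_antisymm ((hsplit.trans (by rw [hU₂1, sup_bot_eq])).trans inf_le_right) ?_
      intro x hx
      refine (hCU.le ⟨hx, ?_⟩).1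
      rw [hU₂1]
      intro y hy
      rw [mem_bot.1 hy, one_mul, mul_one]
    have hHM : H ≤ M := by
      refine le_trans ?_ hNM
      rw [hUσ]
      exact le_normalizer_piCoreOf _ _
    rcases hHM.eq_or_lt with h | h
    · exact hMH 1 (by rw [map_conj_one, h])
    · exact hM.1 (hH.2 _ h)
  obtain ⟨r, hrU, hrt⟩ : ∃ r, r ∣ Nat.card U ∧ r ∈ Cfsg.tau2 H := by
    rcases hqcases with hqH | hqH
    · obtain ⟨r, hr, hrd⟩ := Nat.exists_prime_and_dvd fun h => hU₂1 (card_eq_one.1 h)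
      haveI := Fact.mk hr
      obtain ⟨u, hu⟩ := exists_prime_orderOf_dvd_card' r hrd
      have huo : orderOf (u : G) = r := by rw [Subgroup.orderOf_coe, hu]
      refine ⟨r, hrd.trans (card_dvd_of_le hU₂U), ?_⟩
      rcases sigma_element_dichotomy hG hH (le_sigmaCore_of_pgroup hG hH hqH
        (isPGroup_of_prime_card hTc) (zpowers_le.2 (hUH htU)) (mem_zpowers t)) ht1 (x' := (u : G))
        ⟨hUH (hU₂U u.2), mem_centralizer_singleton_iff.2
          (setLike_mul_comm (s := U) (hU₂U u.2) htU)⟩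
        (fun h => hr.ne_one (by rw [← huo, h, orderOf_one]))
        (fun s hs hd => hU₂p s hs (hd.trans (orderOf_dvd_card_of_mem u.2))) with ⟨hκ, -⟩ | ⟨h2, -⟩
      · exact absurd (hκ r hr (dvd_of_eq huo.symm)) (hκH r)
      · exact h2 r hr (dvd_of_eq huo.symm)
    · exact ⟨q, hqU, hqH⟩
  haveI := Fact.mk hrt.1
  obtain ⟨E', hU₂E, hE'⟩ := exists_complement_ge hG hH (hU₂U.trans hUH) hU₂p
  obtain ⟨B, hBE, hB, hB2⟩ := exists_elementary_in_complement hG hH hE' hrt
  obtain ⟨⟨hEB, -⟩, -, -⟩ := Cfsg.Agent.S1418.result hG H hH E' hE' r hrt B ⟨hBE, hB, hB2⟩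
  have hBH : B ≤ H := hBE.trans hE'.1
  have hU₂B : U₂ ≤ centralizer (B : Set G) := by
    intro d₀ hd₀
    refine mem_of_forall_exists_pow_mem (orderOf_pos d₀) fun s hs hsd => ?_
    obtain ⟨m, i, hm, hi⟩ := exists_prime_part d₀ hs
    refine ⟨m, hm, ?_⟩
    set d := d₀ ^ m
    have hd : d ∈ U₂ := pow_mem hd₀ m
    have hdB : d ∈ normalizer (B : Set G) := hEB (hU₂E hd)
    haveI := Fact.mk hs
    have hds : IsPGroup s (zpowers d) := IsPGroup.of_card (n := i) (by rw [Nat.card_zpowers, hi])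
    by_cases hsr : s = r
    · subst hsr
      haveI := Cfsg.Agent.S1420.isMulCommutative_of_not_sigma hG hH hrt.2.1
        (hds.to_sup_of_normal_right' (isPGroup_of_exp hB.2) (zpowers_le.2 hdB))
        (sup_le (zpowers_le.2 (hUH (hU₂U hd))) hBH)
      exact fun b hb => setLike_mul_comm (s := zpowers d ⊔ B) (mem_sup_right hb)
        (mem_sup_left (mem_zpowers d))
    · refine mem_centralizer_of_derived hG hH hBH (hUd (hU₂U hd)) hdB fun w hw hwd => ?_
      rw [hB2] at hwd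
      rw [(Nat.prime_dvd_prime_iff_eq hw hrt.1).1 (hw.dvd_of_dvd_pow hwd)]
      refine ⟨fun hβ => hrt.2.1 (alpha_subset_sigma hG hH hβ.1), fun hd' => hsr ?_⟩
      exact (prime_eq_of_dvd_pgroup hds hrt.1 (by rwa [Nat.card_zpowers])).symm
  have hBM : B ≤ M := fun b hb => by
    have hb2 : b ∈ centralizer (U₂ : Set G) := le_centralizer_iff.1 hU₂B hb
    refine hnorm b hb2 ?_
    rw [← hCU]
    exact inf_normalizer_le_normalizer_inf ⟨le_normalizer_piCoreOf _ _ (hBH hb),
      normalizer_le_normalizer_centralizer _ (centralizer_le_normalizer _ hb2)⟩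
  exact not_pRankLE_of_elementary hBM hB
    (by rw [hB2]; exact Nat.pow_lt_pow_right hrt.1.one_lt one_lt_two) (hr1 r hrt.1 hrU)

end CfsgLib.OddOrder
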