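import Cfsg.Agent.Lib.OddOrder.FittingTIStructure
import Cfsg.Agent.Lib.OddOrder.KappaStructure
import Cfsg.Agent.S1360
import Cfsg.Agent.S1373
import Cfsg.Agent.S1372

/-!
BG 15.7: a maximal subgroup whose Fitting subgroup is not a TI-subset.
-/

set_option autoImplicit false
set_option linter.style.haveILetI false
set_option maxHeartbeats 800000

namespace CfsgLib.OddOrder

open Subgroup
open scoped commutatorElement

variable {G : Type*} [Group G] [Finite G] (hG : Cfsg.IsMinSimpleOddOrder G) {M : Subgroup G}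
  (hM : IsCoatom M)
include hG hM

omit hM in
/-- A nilpotent group whose Sylow subgroups lie in cyclic groups is cyclic. -/
theorem isCyclic_of_cyclic_components {N : Subgroup G} (hN : Group.IsNilpotent N)
    (h : ∀ q : ℕ, q.Prime → q ∣ Nat.card N → ∃ C : Subgroup G, IsCyclic C ∧
      ∀ a ∈ N, (∀ s : ℕ, s.Prime → s ∣ orderOf a → s = q) → a ∈ C) : IsCyclic N := by
  haveI := hN
  haveI : IsZGroup N := by
    rw [isZGroup_iff]
    intro q hq Q
    haveI := Fact.mk hq
    by_cases hd : q ∣ Nat.card N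
    · obtain ⟨C, hC, hmem⟩ := h q hq hd
      haveI := hC
      refine isCyclic_of_injective ((N.subtype.comp (Q : Subgroup N).subtype).codRestrict C
        fun a => hmem _ a.1.2 fun s hs hsd => ?_)
        (fun a b e => Subtype.ext (Subtype.ext (congrArg Subtype.val e :)))
      obtain ⟨i, hi⟩ := Q.2.exists_card_eq
      refine (Nat.prime_dvd_prime_iff_eq hs hq).1 (hs.dvd_of_dvd_pow (n := i) (hsd.trans ?_))
      rw [← hi]
      simp only [MonoidHom.comp_apply, coe_subtype, orderOf_coe]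
      exact orderOf_dvd_natCard a
    · have : (Q : Subgroup N) = ⊥ := by
        by_contra hne
        exact hd ((Q.2.card_eq_or_dvd.resolve_left fun h1 => hne (card_eq_one.1 h1)).trans
          (card_subgroup_dvd_card _))
      rw [this]
      infer_instance
  infer_instance

variable {g : G} (hg : g ∉ M) {p : ℕ} [hp : Fact p.Prime] {x : G} (hxF : x ∈ Cfsg.fittingOf M)
  (hxp : orderOf x = p) (hyF : g⁻¹ * x * g ∈ Cfsg.fittingOf M)
  (hna : ¬ IsMulCommutative (Cfsg.piCoreOf {p} M))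
include hg hxF hxp hyF hna

/-- Subgroups of `M_σ` of order prime to `p` are cyclic. -/
theorem isCyclic_sigma_prime_part {N : Subgroup G} (hN : N ≤ Cfsg.sigmaCore M)
    (hco : ¬ p ∣ Nat.card N) : IsCyclic N := by
  have hnil := sigmaCore_nilpotent_of_fitting_conj hG hM hg hxF hxp hyF
  refine isCyclic_of_cyclic_components hG (isNilpotent_of_subgroup_le hnil hN) fun q hq hd => ?_
  haveI := Fact.mk hq
  obtain ⟨-, -, -, hmem⟩ := component_of_sigma hG hM hnil
    (sigma_of_dvd_sigmaCore hq (hd.trans (card_dvd_of_le hN)))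
  exact ⟨_, component_cyclic hG hM hg hxF hxp hyF hna (fun e => hco (e ▸ hd)),
    fun a ha hs => hmem a (piCoreOf_le _ _ (hN ha)) hs⟩

/-- Every prime of `M_σ` has a line normal in `M`. -/
theorem exists_normal_line {q : ℕ} [hq : Fact q.Prime] (hd : q ∣ Nat.card (Cfsg.sigmaCore M)) :
    ∃ w ∈ Cfsg.piCoreOf {q} M, orderOf w = q ∧ M ≤ normalizer (zpowers w : Set G) := by
  rcases eq_or_ne q p with rfl | hqp
  · obtain ⟨-, -, z, hz, hzo, hMz⟩ := exists_center_line hG hM hg hxF hxp hyF hna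
    exact ⟨z, hz.1, hzo, hMz⟩
  have hnil := sigmaCore_nilpotent_of_fitting_conj hG hM hg hxF hxp hyF
  obtain ⟨-, -, -, hmem⟩ := component_of_sigma hG hM hnil (sigma_of_dvd_sigmaCore hq.out hd)
  obtain ⟨a, ha⟩ := exists_prime_orderOf_dvd_card' q hd
  have haq : orderOf (a : G) = q := by rw [Subgroup.orderOf_coe, ha]
  have haR : (a : G) ∈ Cfsg.piCoreOf {q} M := hmem a (piCoreOf_le _ _ a.2) fun s hs hsd =>
    (Nat.prime_dvd_prime_iff_eq hs hq.out).1 (haq ▸ hsd)
  exact ⟨a, haR, haq, le_normalizer_of_cyclic (le_normalizer_piCoreOf _ _)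
    (component_cyclic hG hM hg hxF hxp hyF hna hqp) (zpowers_le.2 haR)⟩

/-- `M_σ' ≤ O_p(M)`. -/
theorem commutator_sigmaCore_le :
    ⁅Cfsg.sigmaCore M, Cfsg.sigmaCore M⁆ ≤ Cfsg.piCoreOf {p} M ∧
      ∃ T : Subgroup G, T ≤ Cfsg.sigmaCore M ∧ M ≤ normalizer (T : Set G) ∧
        Cfsg.sigmaCore M ≤ centralizer (T : Set G) ∧ Cfsg.piCoreOf {p} M ⊓ T = ⊥ ∧
        ∀ s ∈ Cfsg.sigmaCore M, ∃ a ∈ Cfsg.piCoreOf {p} M, ∃ t ∈ T, s = a * t := by
  set S := Cfsg.sigmaCore M with hS
  set P := Cfsg.piCoreOf {p} M with hP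
  have hnil := sigmaCore_nilpotent_of_fitting_conj hG hM hg hxF hxp hyF
  obtain ⟨hPS, hQP, -, -⟩ :=
    component_of_sigma hG hM hnil (sigma_of_fitting_conj hG hM hg hxF hxp hyF)
  set π' : Set ℕ := {s | s.Prime ∧ s ∉ ({p} : Set ℕ)} with hπ
  set T := Cfsg.piCoreOf π' S with hT
  have hTS : T ≤ S := piCoreOf_le _ _
  have hTp : ¬ p ∣ Nat.card T := fun h => (piCoreOf_isPiSubgroup π' S p hp.out h).2 rfl
  have hTc : IsCyclic T := isCyclic_sigma_prime_part hG hM hg hxF hxp hyF hna hTS hTp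
  have hMT : M ≤ normalizer (T : Set G) :=
    (le_normalizer_piCoreOf (Cfsg.sigma M) M).trans (normalizer_le_normalizer_piCoreOf _ _)
  have hPM : P ≤ M := piCoreOf_le _ _
  have hdis : Disjoint P T := Subgroup.disjoint_of_coprime_natCard (Nat.coprime_of_dvd
    fun s hs h1 h2 => (piCoreOf_isPiSubgroup π' S s hs h2).2 (piCoreOf_isPiSubgroup {p} M s hs h1))
  have hPT : P ≤ centralizer (T : Set G) := commute_of_normalize_disjoint
    (hPM.trans hMT)
    (hTS.trans ((piCoreOf_le _ _).trans (le_normalizer_piCoreOf _ _))) hdis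
  have hdec : ∀ s ∈ S, ∃ a ∈ P, ∃ t ∈ T, s = a * t := fun s hs => by
    obtain ⟨a, ha, t, ht, he⟩ := (Solvable.mem_sup_of_le_normalizer
      (hTS.trans ((piCoreOf_le _ _).trans (le_normalizer_piCoreOf _ _)))).1
      ((le_sup_piCoreOf_of_nilpotent hnil {p}).trans (sup_le_sup_right hQP T) hs)
    exact ⟨a, ha, t, ht, he.symm⟩
  have hTT : T ≤ centralizer (T : Set G) := by
    haveI := hTc
    letI : CommGroup T := IsCyclic.commGroup
    exact fun a ha b hb => congrArg Subtype.val (mul_comm (⟨b, hb⟩ : T) ⟨a, ha⟩)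
  have hST : S ≤ centralizer (T : Set G) := fun s hs => by
    obtain ⟨a, ha, t, ht, rfl⟩ := hdec s hs
    exact mul_mem (hPT ha) (hTT ht)
  refine ⟨commutator_le.2 fun u hu v hv => ?_, T, hTS, hMT, hST, hdis.eq_bot, hdec⟩
  obtain ⟨a, ha, t, ht, rfl⟩ := hdec u hu
  obtain ⟨b, hb, t', ht', rfl⟩ := hdec v hv
  have c1 : Commute t (b * t') := hST hv t ht
  have c2 : Commute t' a := hPT ha t' ht'
  have h1 : ⁅a * t, b * t'⁆ = ⁅a, b⁆ := by
    rw [commutatorElement_def, commutatorElement_def]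
    calc a * t * (b * t') * (a * t)⁻¹ * (b * t')⁻¹
        = a * (t * (b * t')) * t⁻¹ * a⁻¹ * (b * t')⁻¹ := by group
      _ = a * ((b * t') * t) * t⁻¹ * a⁻¹ * (b * t')⁻¹ := by rw [c1.eq]
      _ = a * b * (t' * a⁻¹) * t'⁻¹ * b⁻¹ := by group
      _ = a * b * (a⁻¹ * t') * t'⁻¹ * b⁻¹ := by rw [c2.inv_right.eq]
      _ = a * b * a⁻¹ * b⁻¹ := by group
  rw [h1, commutatorElement_def]
  exact mul_mem (mul_mem (mul_mem ha hb) (inv_mem ha)) (inv_mem hb)

/-- The cyclic complement `K` acting on a nonabelian `O_p(M)`. -/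
theorem kappa_dichotomy {K U : Subgroup G} (hKU : Cfsg.IsSigmaDecomposition M K U) (hK1 : K ≠ ⊥)
    (hU : U = ⊥) :
    (∀ q : ℕ, q.Prime → q ∣ Nat.card (Cfsg.sigmaCore M) → Nat.card K ∣ q - 1) ∨
      (Nat.card (Cfsg.piCoreOf {p} M) = p ^ 3 ∧ Nat.card K ∣ p + 1) := by
  haveI hKc := hKU.cyclic
  have hKM : K ≤ M := hKU.hall.1
  set S := Cfsg.sigmaCore M with hS
  set P := Cfsg.piCoreOf {p} M with hP
  have hE : Cfsg.IsComplIn K S M := by
    have := decomposition_isComplIn hKU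
    rwa [hU, bot_sup_eq] at this
  obtain ⟨hCS, hgen, -⟩ := Cfsg.Agent.S1426.result hG M hM K hE
  obtain ⟨hSP, T, hTS, hMT, hST, hPT, hdec⟩ := commutator_sigmaCore_le hG hM hg hxF hxp hyF hna
  have hnil := sigmaCore_nilpotent_of_fitting_conj hG hM hg hxF hxp hyF
  have hpσ := sigma_of_fitting_conj hG hM hg hxF hxp hyF
  obtain ⟨hPS, -, -, -⟩ := component_of_sigma hG hM hnil hpσ
  have hPp : IsPGroup p P := piCoreOf_singleton_isPGroup p M
  have hxP : x ∈ P := mem_component hxF hxp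
  have hp2 : p ≠ 2 := prime_ne_two_of_dvd_card hG (H := P) (hxp ▸ orderOf_dvd_card_of_mem hxP)
  have hKco : (Nat.card K).Coprime p := ((Nat.Prime.coprime_iff_not_dvd hp.out).2 fun h =>
    kappa_not_sigma (hKU.hall.2.1 p hp.out h) hpσ).symm
  obtain ⟨k, hk⟩ := IsCyclic.exists_ofOrder_eq_natCard (α := K)
  have hfixed : ∀ a ∈ K, a ≠ 1 → ∀ w ∈ S, Commute a w → w ∈ S ⊓ centralizer (K : Set G) :=
    fun a ha ha1 w hw hc => by
      rw [← kappa_prime_action hG hM hKU.cyclic hKU.hall ha ha1]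
      exact ⟨hw, mem_centralizer_singleton_iff.2 hc.symm.eq⟩
  have hline : ∀ {q : ℕ}, q.Prime → ∀ w ∈ S, orderOf w = q →
      M ≤ normalizer (zpowers w : Set G) → w ∉ S ⊓ centralizer (K : Set G) →
      Nat.card K ∣ q - 1 := by
    intro q hq w hw hwo hMw hnot
    rw [← hk]
    refine orderOf_dvd_of_pow_eq_one (by_contra fun hne => hnot ?_)
    refine hfixed _ (pow_mem k.2 (q - 1)) (fun e => hne (Subtype.ext e)) w hw ?_
    exact mem_centralizer_singleton_iff.1
      (pow_sub_one_mem_centralizer hq hwo (hMw (hKM k.2)))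
  obtain ⟨hZc, hxZ, z, hz, hzo, hMz⟩ := exists_center_line hG hM hg hxF hxp hyF hna
  by_cases hzK : z ∉ S ⊓ centralizer (K : Set G)
  · refine Or.inl fun q hq hd => ?_
    haveI := Fact.mk hq
    rcases eq_or_ne q p with rfl | hqp
    · exact hline hq z (hPS hz.1) hzo hMz hzK
    obtain ⟨w, hw, hwo, hMw⟩ := exists_normal_line hG hM hg hxF hxp hyF hna hd
    refine hline hq w ((component_of_sigma hG hM hnil (sigma_of_dvd_sigmaCore hq hd)).1 hw)
      hwo hMw fun h => hqp ?_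
    have := hwo ▸ (orderOf_dvd_card_of_mem (hSP (hCS h)))
    obtain ⟨i, hi⟩ := hPp.exists_card_eq
    rw [hi] at this
    exact (Nat.prime_dvd_prime_iff_eq hq hp.out).1 (hq.dvd_of_dvd_pow this)
  rw [not_not] at hzK
  -- `K` centralizes the center
  have hprime := Cfsg.Agent.S1373.result hG M hM K U hKU hK1 hU
  have hZK : S ⊓ centralizer (K : Set G) = zpowers z := by
    refine (eq_of_le_of_card_ge (zpowers_le.2 hzK) ?_).symm
    have h1 : p ∣ Nat.card ↥(S ⊓ centralizer (K : Set G)) := hzo ▸ orderOf_dvd_card_of_mem hzK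
    rw [Nat.card_zpowers, hzo, ← (Nat.prime_dvd_prime_iff_eq hp.out hprime).1 h1]
  set Zp := P ⊓ centralizer (P : Set G) with hZp
  have hPK : K ≤ normalizer (P : Set G) := hKM.trans (le_normalizer_piCoreOf _ _)
  have hZpK : Zp ≤ centralizer (K : Set G) := by
    refine le_centralizer_of_cyclic_pgroup hZc (hPp.to_le inf_le_left) (fun a ha => ?_) ?_ ?_
    · exact inf_normalizer_le_normalizer_inf
        ⟨hPK ha, normalizer_le_normalizer_centralizer _ (hPK ha)⟩
    · obtain ⟨i, hi⟩ := (hPp.to_le (inf_le_left : Zp ≤ P)).exists_card_eq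
      rw [hi]
      exact hKco.pow_right i
    · intro hb
      have : z ∈ Zp ⊓ centralizer (K : Set G) := ⟨hz, hzK.2⟩
      rw [hb, mem_bot] at this
      exact hp.out.ne_one (by rw [← hzo, this, orderOf_one])
  have hZpz : Zp ≤ zpowers z := hZK ▸ fun a ha => ⟨hPS ha.1, hZpK ha⟩
  let φ : K →* MulAut P := P.normalizerMonoidHom.comp (inclusion hPK)
  have hφ : ∀ (a : K) (u : P), ((φ a u : P) : G) = a * u * (a : G)⁻¹ := fun a u => rfl
  have hfaith : ∀ a : K, φ a = 1 → a = 1 := fun a ha => by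
    by_contra ha1
    refine hna ⟨⟨fun u v => Subtype.ext ?_⟩⟩
    have hfix : ∀ w : P, (w : G) ∈ zpowers z := fun w => hZK ▸ hfixed a a.2
      (fun e => ha1 (Subtype.ext e)) w (hPS w.2) (by
        have := hφ a w
        rw [ha, MulAut.one_apply] at this
        exact (mul_inv_eq_iff_eq_mul.1 this.symm))
    exact setLike_mul_comm (s := zpowers z) (hfix u) (hfix v)
  have hordφ : ∀ a : K, (orderOf (φ a)).Coprime p := fun a =>
    hKco.coprime_dvd_left ((orderOf_map_dvd φ a).trans (orderOf_dvd_natCard a))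
  have hodd : Odd (Nat.card K) := odd_card_subgroup hG K
  have hkdvd : ∀ n : ℕ, k ^ n = 1 → Nat.card K ∣ n := fun n h => hk ▸ orderOf_dvd_of_pow_eq_one h
  have hothers : ∀ {q : ℕ}, q.Prime → q ∣ Nat.card S → q ≠ p → Nat.card K ∣ q - 1 := by
    intro q hq hd hqp
    haveI := Fact.mk hq
    obtain ⟨w, hw, hwo, hMw⟩ := exists_normal_line hG hM hg hxF hxp hyF hna hd
    refine hline hq w ((component_of_sigma hG hM hnil (sigma_of_dvd_sigmaCore hq hd)).1 hw)
      hwo hMw fun h => hqp ?_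
    rw [hZK] at h
    have := hwo ▸ orderOf_dvd_card_of_mem h
    rw [Nat.card_zpowers, hzo] at this
    exact (Nat.prime_dvd_prime_iff_eq hq hp.out).1 this
  have hleft : k ^ (p - 1) = 1 →
      ∀ q : ℕ, q.Prime → q ∣ Nat.card S → Nat.card K ∣ q - 1 := fun h q hq hd => by
    rcases eq_or_ne q p with rfl | hqp
    · exact hkdvd _ h
    · exact hothers hq hd hqp
  by_cases hr : Cfsg.PRankLE p 2 P
  swap
  · refine Or.inl (hleft (hfaith _ ?_))
    exact Operator.trivial_of_narrow hp2 hPp (component_narrow hG hM hg hxF hxp hyF hp2) hr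
      (k ^ (p - 1)) (hordφ _) (Or.inr ⟨k, rfl⟩)
  -- rank two: `P` is extraspecial of order `p ^ 3`
  haveI : Nontrivial P := ⟨⟨x, hxP⟩, 1, fun e =>
    ne_one_of_prime_order hxF hxp (congrArg Subtype.val e)⟩
  have hnt : Operator.NoTrivialQuotient φ := by
    intro D hDn hDi hdisp
    have hD'P : D.map P.subtype ≤ P := map_subtype_le _
    have hsup : S ≤ D.map P.subtype ⊔ T := by
      refine hgen.symm.le.trans (commutator_le.2 ?_)
      intro s hs a ha
      obtain ⟨u, hu, t, ht, rfl⟩ := hdec s hs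
      have htT : ⁅t, a⁆ ∈ T := by
        rw [commutatorElement_def, mul_assoc, mul_assoc]
        refine mul_mem ht ?_
        rw [← mul_assoc]
        exact (mem_normalizer_iff.1 (hMT (hKM ha)) _).1 (inv_mem ht)
      have hcu : u * ⁅t, a⁆ * u⁻¹ = ⁅t, a⁆ := by
        rw [← (hST (hPS hu) _ htT), mul_inv_cancel_right]
      have hud : ⁅u, a⁆ ∈ D.map P.subtype := by
        have h1 := inv_mem (hdisp ⟨a, ha⟩ ⟨u, hu⟩)
        refine ⟨_, h1, ?_⟩
        rw [coe_subtype, InvMemClass.coe_inv, Subgroup.coe_mul, InvMemClass.coe_inv, hφ,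
          commutatorElement_def]
        group
      have : ⁅u * t, a⁆ = u * ⁅t, a⁆ * u⁻¹ * ⁅u, a⁆ := by
        simp only [commutatorElement_def]; group
      rw [this, hcu]
      exact mul_mem (mem_sup_right htT) (mem_sup_left hud)
    rw [eq_top_iff]
    rintro u -
    obtain ⟨d, hd, t, ht, he⟩ := (Solvable.mem_sup_of_le_normalizer
      (show T ≤ normalizer (D.map P.subtype : Set G) from
        fun t ht => centralizer_le_normalizer _ fun d hd => (hST (hPS (hD'P hd)) t ht).symm)).1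
      (hsup (hPS u.2))
    have ht' : t ∈ P ⊓ T := ⟨by
      rw [show t = d⁻¹ * u by rw [← he, inv_mul_cancel_left]]
      exact P.mul_mem (P.inv_mem (hD'P hd)) u.2, ht⟩
    rw [hPT, mem_bot] at ht'
    rw [ht', mul_one] at he
    obtain ⟨d', hd', rfl⟩ := hd
    exact (P.subtype_injective he) ▸ hd'
  obtain ⟨-, hcom | ⟨E, C, hsup, hcomm, hEna, hEcard, hEexp, hCc, hcl⟩⟩ :=
    Operator.structure_of_rankTwo hp2 hPp hr hodd hKco hnt
  · exact absurd hcom hna
  have hcentral : ∀ w : P, w ∈ center P → (w : G) ∈ zpowers z := fun w hw => hZpz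
    ⟨w.2, fun v hv => congrArg Subtype.val (mem_center_iff.1 hw ⟨v, hv⟩)⟩
  have hcenter : Nat.card (center P) ≤ p := by
    rw [← hzo, ← Nat.card_zpowers z, ← card_map_of_injective P.subtype_injective]
    exact card_le_of_le (by rintro _ ⟨w, hw, rfl⟩; exact hcentral w hw)
  haveI := hCc
  have hCcen : C ≤ center P := fun c hc => mem_center_iff.2 fun v => by
    have : P.subtype v = v := rfl
    have h1 : (⊤ : Subgroup P) ≤ centralizer ({c} : Set P) := hsup ▸ sup_le
      (fun a ha => mem_centralizer_singleton_iff.2 (hcomm a ha c hc))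
      (fun a ha => mem_centralizer_singleton_iff.2 (setLike_mul_comm (s := C) ha hc))
    exact mem_centralizer_singleton_iff.1 (h1 (mem_top v))
  have hEE : ⁅E, E⁆ = center P := by
    refine eq_of_le_of_card_ge (hcl ▸ (closure_le _).2 fun w hw => hCcen hw.1) ?_
    refine hcenter.trans ?_
    obtain ⟨i, hi⟩ := (hPp.to_subgroup ⁅E, E⁆).exists_card_eq
    rw [hi]
    refine Nat.le_self_pow (fun h0 => hEna ⟨⟨fun a b => Subtype.ext ?_⟩⟩) p
    rw [h0, pow_zero, card_eq_one] at hi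
    exact commutatorElement_eq_one_iff_mul_comm.1
      (mem_bot.1 (hi ▸ commutator_mem_commutator a.2 b.2))
  have hEtop : E = ⊤ := top_le_iff.1 (hsup ▸ sup_le le_rfl
    (hCcen.trans (hEE ▸ commutator_le_self E)))
  subst hEtop
  rw [card_top] at hEcard
  have hidx : (center P).index = p ^ 2 := by
    haveI := hPp.center_nontrivial
    have h1 : Nat.card (center P) = p := by
      obtain ⟨i, hi⟩ := (hPp.to_subgroup (center P)).exists_card_eq
      refine le_antisymm hcenter ?_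
      rw [hi]
      exact Nat.le_self_pow (fun h0 => by
        rw [h0, pow_zero] at hi; exact (Finite.one_lt_card (α := center P)).ne' hi) p
    have h2 := (center P).card_mul_index
    rw [h1, hEcard, show p ^ 3 = p * p ^ 2 by ring] at h2
    exact Nat.eq_of_mul_eq_mul_left hp.out.pos h2
  have hpow : ∀ u : P, u ^ p ∈ center P := fun u => by
    have h1 := Monoid.pow_exponent_eq_one (⟨u, mem_top u⟩ : (⊤ : Subgroup P))
    rw [hEexp] at h1
    rw [show u ^ p = 1 from congrArg Subtype.val h1]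
    exact one_mem _
  have hfix : ∀ a : K, ∀ w ∈ center P, φ a w = w := fun a w hw => Subtype.ext (by
    rw [hφ, (hZpK ⟨w.2, fun v hv => congrArg Subtype.val (mem_center_iff.1 hw ⟨v, hv⟩)⟩
      (a : G) a.2), mul_inv_cancel_right])
  rcases Operator.pow_eq_one_of_cube hp2 φ le_rfl hna hpow hidx (k := k) (hk ▸ hodd) (hk ▸ hKco)
    hfix (fun j hj => hfaith _ (MulEquiv.ext fun u => by
      refine Operator.fix_of_fix_quot hPp (hordφ _) (hfix _) ?_
      rw [show u⁻¹ * φ (k ^ j) u = u⁻¹ * (φ (k ^ j) u * u⁻¹) * u by group]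
      rw [mem_center_iff.1 (hj u) u⁻¹, inv_mul_cancel_right]
      exact hj u)) with h | h
  · exact Or.inl (hleft h)
  · exact Or.inr ⟨hEcard, hkdvd _ h⟩

omit hna in
/-- `O_p` and `O_{p'}` of `M_σ` as a group. -/
theorem cores_of_sigmaCore (hna : ¬ IsMulCommutative (Cfsg.piCoreOf {p} M)) :
    ¬ IsMulCommutative (Cfsg.pCore p ↥(Cfsg.sigmaCore M)) ∧
      IsCyclic (Cfsg.pPrimeCore p ↥(Cfsg.sigmaCore M)) ∧
      Nat.card (Cfsg.pCore p ↥(Cfsg.sigmaCore M)) = Nat.card (Cfsg.piCoreOf {p} M) := by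
  set S := Cfsg.sigmaCore M with hS
  set P := Cfsg.piCoreOf {p} M with hP
  have hnil := sigmaCore_nilpotent_of_fitting_conj hG hM hg hxF hxp hyF
  have hSM : S ≤ M := piCoreOf_le _ _
  obtain ⟨hPS, -, -, hmem⟩ :=
    component_of_sigma hG hM hnil (sigma_of_fitting_conj hG hM hg hxF hxp hyF)
  have hmap : (Cfsg.pCore p ↥S).map S.subtype = P := by
    refine le_antisymm ?_ ?_
    · rintro _ ⟨a, ha, rfl⟩
      refine hmem a (hSM a.2) fun s hs hsd => ?_
      obtain ⟨i, hi⟩ := (Solvable.pCore_isPGroup (p := p) ↥S).exists_card_eq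
      rw [Subgroup.orderOf_coe] at hsd
      refine (Nat.prime_dvd_prime_iff_eq hs hp.out).1 (hs.dvd_of_dvd_pow (n := i) (hi ▸ ?_))
      exact hsd.trans (orderOf_dvd_card_of_mem ha)
    · rw [← map_subgroupOf_eq_of_le (show P ≤ S from hPS)]
      refine map_mono (Solvable.le_pCore (normal_subgroupOf_of_le_normalizer
        (hSM.trans (le_normalizer_piCoreOf _ _))) ?_)
      exact (piCoreOf_singleton_isPGroup p M).of_equiv (subgroupOfEquivOfLe hPS).symm
  have hcard : Nat.card (Cfsg.pCore p ↥S) = Nat.card P := by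
    rw [← hmap, card_map_of_injective S.subtype_injective]
  refine ⟨fun hc => hna ?_, ?_, hcard⟩
  · rw [← hmap]
    infer_instance
  have hc : IsCyclic ↥((Cfsg.pPrimeCore p ↥S).map S.subtype) := by
    refine isCyclic_sigma_prime_part hG hM hg hxF hxp hyF hna (map_subtype_le _) fun h => ?_
    rw [card_map_of_injective S.subtype_injective] at h
    exact (hp.out.coprime_iff_not_dvd.1 (Solvable.pPrimeCore_card_coprime p ↥S).symm) h
  haveI := hc
  exact isCyclic_of_injective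
    (equivMapOfInjective _ S.subtype S.subtype_injective).toMonoidHom (MulEquiv.injective _)

end CfsgLib.OddOrder

namespace CfsgLib.OddOrder

open Subgroup

variable {G : Type*} [Group G] [Finite G] (hG : Cfsg.IsMinSimpleOddOrder G) {M : Subgroup G}
  (hM : IsCoatom M)
include hG hM

/-- BG 15.7 (with `M' ≤ F(M)`). -/
theorem fitting_not_ti_structure {K U : Subgroup G} (hKU : Cfsg.IsSigmaDecomposition M K U) (g : G)
    (hg : g ∉ M)
    (hX : Cfsg.fittingOf M ⊓ (Cfsg.fittingOf M).map (MulAut.conj g).toMonoidHom ≠ ⊥) :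
    (Cfsg.fittingOf M ⊓ (Cfsg.fittingOf M).map (MulAut.conj g).toMonoidHom ≤ Cfsg.fittingHallOf M ∧
      IsCyclic ↥(Cfsg.fittingOf M ⊓ (Cfsg.fittingOf M).map (MulAut.conj g).toMonoidHom)) ∧
      ⁅M, M⁆ ≤ Cfsg.fittingOf M ∧
      ((K = ⊥ ∧ IsMulCommutative (Cfsg.fittingHallOf M) ∧ Cfsg.RankLE 2 (Cfsg.fittingHallOf M) ∧
          ¬ Cfsg.RankLE 1 (Cfsg.fittingHallOf M)) ∨
       (∃ p : ℕ, p.Prime ∧
          Nat.card ↥(Cfsg.fittingOf M ⊓ (Cfsg.fittingOf M).map (MulAut.conj g).toMonoidHom) = p ∧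
          p ∈ Cfsg.sigma M ∧ p ∉ Cfsg.beta M ∧
          ¬ IsMulCommutative (Cfsg.pCore p ↥(Cfsg.fittingHallOf M)) ∧
          IsCyclic (Cfsg.pPrimeCore p ↥(Cfsg.fittingHallOf M)) ∧
          ∀ q : ℕ, q.Prime → q ∣ Nat.card (Cfsg.fittingHallOf M) →
            Monoid.exponent (↥M ⧸ Cfsg.fittingHall ↥M) ∣ q - 1) ∨
       (∃ p : ℕ, p.Prime ∧
          Nat.card ↥(Cfsg.fittingOf M ⊓ (Cfsg.fittingOf M).map (MulAut.conj g).toMonoidHom) = p ∧
          p ∈ Cfsg.sigma M ∧ p ∉ Cfsg.beta M ∧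
          IsCyclic (Cfsg.pPrimeCore p ↥(Cfsg.fittingHallOf M)) ∧
          Nat.card (Cfsg.pCore p ↥(Cfsg.fittingHallOf M)) = p ^ 3 ∧
          ¬ IsMulCommutative (Cfsg.pCore p ↥(Cfsg.fittingHallOf M)) ∧ K ≠ ⊥ ∧ U = ⊥ ∧
          (Cfsg.fittingHallOf M).relIndex M ∣ p + 1)) := by
  set F := Cfsg.fittingOf M with hF
  set X := F ⊓ F.map (MulAut.conj g).toMonoidHom with hXdef
  have hmemX : ∀ u ∈ X, u ∈ F ∧ g⁻¹ * u * g ∈ F := fun u hu => by
    refine ⟨hu.1, ?_⟩
    obtain ⟨v, hv, rfl⟩ := hu.2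
    rw [MulEquiv.coe_toMonoidHom, MulAut.conj_apply]
    rwa [show g⁻¹ * (g * v * g⁻¹) * g = v by group]
  obtain ⟨p, hp, hpd⟩ := Nat.exists_prime_and_dvd fun h => hX (card_eq_one.1 h)
  haveI := Fact.mk hp
  obtain ⟨⟨x, hxX⟩, hx⟩ := exists_prime_orderOf_dvd_card' p hpd
  rw [Subgroup.orderOf_mk] at hx
  obtain ⟨hxF, hyF⟩ := hmemX x hxX
  have hHS : Cfsg.fittingHallOf M = Cfsg.sigmaCore M :=
    fittingHallOf_eq_of_fitting_conj hG hM hg hxF hx hyF
  set S := Cfsg.sigmaCore M with hS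
  have hpσ := sigma_of_fitting_conj hG hM hg hxF hx hyF
  have hpβ := not_beta_of_fitting_conj hG hM hg hxF hx hyF
  have hnil := sigmaCore_nilpotent_of_fitting_conj hG hM hg hxF hx hyF
  set E := U ⊔ K with hEdef
  have hE : Cfsg.IsComplIn E S M := decomposition_isComplIn hKU
  obtain ⟨hCS, -, hcap⟩ := Cfsg.Agent.S1426.result hG M hM E hE
  have hXS : X ≤ S := fun u hu =>
    mem_sigmaCore_of_fitting_conj hG hM hg (hmemX u hu).1 (hmemX u hu).2
  have hXle : X ≤ S ⊓ M.map (MulAut.conj g).toMonoidHom :=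
    le_inf hXS (inf_le_right.trans (map_mono (fittingOf_le M)))
  have hXc : IsCyclic X := by
    haveI := (hcap g hg).1
    exact isCyclic_of_injective (inclusion hXle) (inclusion_injective hXle)
  refine ⟨⟨hHS.symm ▸ hXS, hXc⟩, commutator_le_fittingOf_of_fitting_conj hG hM hg hxF hx hyF, ?_⟩
  -- `U = 1` when `K ≠ 1`
  have hU : K ≠ ⊥ → U = ⊥ := fun hK1 => by_contra fun hU1 => by
    have hti := (Cfsg.Agent.S1372.result hG M hM K U hKU hK1 hU1).2.1
    have hN : normalizer (F : Set G) = M := normalizer_eq_of_isCoatom_of_le hG hM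
      (fun h => ne_one_of_prime_order hxF hx (mem_bot.1 (h ▸ hxF))) (fittingOf_le M)
      (le_normalizer_fittingOf M)
    have h := hti g⁻¹ (fun hm => hg (inv_mem_iff.1 (hN.le hm))) x hxF (by rwa [inv_inv])
    exact ne_one_of_prime_order hxF hx h
  set P := Cfsg.piCoreOf {p} M with hP
  -- every exponent bound passes to `M ⧸ M_F`
  have hexp : ∀ n : ℕ, (∀ e ∈ E, e ^ n = 1) → Monoid.exponent (↥M ⧸ Cfsg.fittingHall ↥M) ∣ n := by
    intro n hn
    refine Monoid.exponent_dvd_of_forall_pow_eq_one fun m => ?_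
    obtain ⟨⟨m, hm⟩, rfl⟩ := QuotientGroup.mk'_surjective _ m
    obtain ⟨e, he, s, hs, rfl⟩ := hE.2.2.2 m hm
    have hsM : s ∈ M := hE.2.1 hs
    have hsH : (⟨s, hsM⟩ : M) ∈ Cfsg.fittingHall ↥M := by
      obtain ⟨a, ha, hae⟩ := hHS.ge hs
      exact (show (⟨s, hsM⟩ : M) = a from Subtype.ext hae.symm) ▸ ha
    rw [show (⟨e * s, hm⟩ : M) = ⟨e, hE.1 he⟩ * ⟨s, hsM⟩ from rfl, map_mul,
      show QuotientGroup.mk' (Cfsg.fittingHall ↥M) ⟨s, hsM⟩ = 1 from
        (QuotientGroup.eq_one_iff _).2 hsH, mul_one, ← map_pow,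
      show (⟨e, hE.1 he⟩ : M) ^ n = 1 from Subtype.ext (hn e he), map_one]
  rw [hHS]
  by_cases hna : IsMulCommutative P
  · have hab : IsMulCommutative S := by
      have key : ∀ {r s : ℕ}, r.Prime → r ∣ Nat.card S → s.Prime → s ∣ Nat.card S →
          Cfsg.piCoreOf {r} S ≤ centralizer (Cfsg.piCoreOf {s} S : Set G) := by
        intro r s hr hrd hs hsd
        rcases eq_or_ne r s with rfl | hrs
        · haveI := Fact.mk hr
          obtain ⟨-, hle, -, -⟩ := component_of_sigma hG hM hnil (sigma_of_dvd_sigmaCore hr hrd)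
          have : IsMulCommutative (Cfsg.piCoreOf {r} M) := by
            rcases eq_or_ne r p with rfl | hrp
            · exact hna
            · exact (component_small hG hM hg hxF hx hyF hrp).1
          exact fun a ha b hb =>
            setLike_mul_comm (s := Cfsg.piCoreOf {r} M) (hle hb) (hle ha)
        · exact piCoreOf_le_centralizer_piCoreOf S fun t ht ht' _ => hrs (by
            rw [Set.mem_singleton_iff] at ht ht'; exact ht.symm.trans ht')
      refine le_centralizer_iff_isMulCommutative.1 (le_of_components hnil fun r hr hrd => ?_)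
      rw [le_centralizer_iff]
      refine le_of_components hnil fun s hs hsd => ?_
      rw [le_centralizer_iff]
      exact key hr hrd hs hsd
    refine Or.inl ⟨?_, hab, rank_of_abelian hG hM hg hxF hx hyF hab⟩
    by_contra hK1
    refine kappa_fixed_ne_bot hG hM hKU.cyclic hKU.hall (le_bot_iff.1 ?_)
    rw [← commutator_eq_bot_iff_le_centralizer.2 (le_centralizer_iff_isMulCommutative.2 hab),
      show K = E by rw [hEdef, hU hK1, bot_sup_eq]]
    exact hCS
  obtain ⟨hpc, hpp, hcard⟩ := cores_of_sigmaCore hG hM hg hxF hx hyF hna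
  have hXp : Nat.card X = p := card_fitting_inter hG hM hg hxF hx hyF hna
  have hMH : (Cfsg.fittingHallOf M).relIndex M = Nat.card E :=
    hHS.symm ▸ (card_eq_relIndex_of_isComplIn hE).symm
  by_cases hK1 : K = ⊥
  · -- `K = 1`
    obtain ⟨U₀, hU₀U, hU₀e, hU₀f⟩ := Cfsg.Agent.S1360.result hG M hM K U hKU
    have hEU : E = U := by rw [hEdef, hK1, sup_bot_eq]
    refine Or.inr (Or.inl ⟨p, hp, hXp, hpσ, hpβ, hpc, hpp, fun q hq hqd => hexp _ fun e he => ?_⟩)
    haveI := Fact.mk hq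
    obtain ⟨w, hw, hwo, hMw⟩ := exists_normal_line hG hM hg hxF hx hyF hna hqd
    have hwS := (component_of_sigma hG hM hnil (sigma_of_dvd_sigmaCore hq hqd)).1 hw
    have h0 : ∀ u : U₀, u ^ (q - 1) = 1 := fun u => Subtype.ext (by
      refine hU₀f _ (u ^ (q - 1)).2 ⟨(hKU.compl.1 (hU₀U (u ^ (q - 1)).2)), w, hwS, ?_, ?_⟩
      · exact fun h => hq.ne_one (by rw [← hwo, h, orderOf_one])
      · exact mem_centralizer_singleton_iff.1
          (pow_sub_one_mem_centralizer hq hwo (hMw (hKU.compl.1 (hU₀U u.2)))))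
    have hdvd : Monoid.exponent U ∣ q - 1 :=
      hU₀e ▸ Monoid.exponent_dvd_of_forall_pow_eq_one h0
    exact congrArg Subtype.val
      ((Monoid.exponent_dvd_iff_forall_pow_eq_one.1 hdvd) (⟨e, hEU ▸ he⟩ : U))
  have hEK : E = K := by rw [hEdef, hU hK1, bot_sup_eq]
  rcases kappa_dichotomy hG hM hg hxF hx hyF hna hKU hK1 (hU hK1) with h | ⟨h3, h4⟩
  · refine Or.inr (Or.inl ⟨p, hp, hXp, hpσ, hpβ, hpc, hpp, fun q hq hqd => hexp _ fun e he => ?_⟩)
    exact orderOf_dvd_iff_pow_eq_one.1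
      (((orderOf_dvd_card_of_mem he).trans (hEK ▸ dvd_rfl)).trans (h q hq hqd))
  · refine Or.inr (Or.inr ⟨p, hp, hXp, hpσ, hpβ, hpp, hcard.trans h3, hpc, hK1, hU hK1, ?_⟩)
    rw [← hHS, hMH, hEK]
    exact h4

end CfsgLib.OddOrder
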