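import Cfsg.Agent.Lib.OddOrder.SigmaSignalizer

/-!
BG 14.4 (d), (e): the maximal subgroup containing `C(x)` is unique, given BG 14.3.
-/

set_option autoImplicit false
set_option linter.style.haveILetI false

namespace CfsgLib.OddOrder

open Subgroup

universe u

variable {G : Type u} [Group G] [Finite G] (hG : Cfsg.IsMinSimpleOddOrder G) {M : Subgroup G}
  (hM : IsCoatom M)
  (hdisj : ∀ M N : Subgroup G, IsCoatom M → IsCoatom N →
    (Cfsg.sigma M ∩ Cfsg.sigma N).Nonempty → ∃ g : G, N = M.map (MulAut.conj g).toMonoidHom)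
  (hdich : ∀ (M : Subgroup G), IsCoatom M → ∀ x ∈ Cfsg.sigmaCore M, x ≠ 1 →
    ∀ x' ∈ M ⊓ Subgroup.centralizer ({x} : Set G), x' ≠ 1 →
    (∀ p : ℕ, p.Prime → p ∣ orderOf x' → p ∉ Cfsg.sigma M) →
    ((∀ p : ℕ, p.Prime → p ∣ orderOf x' → p ∈ Cfsg.kappa M) ∧
        Subgroup.centralizer ({x} : Set G) ≤ M) ∨
      ((∀ p : ℕ, p.Prime → p ∣ orderOf x' → p ∈ Cfsg.tau2 M) ∧
        (∃ L : Subgroup G, IsCoatom L ∧
          ∀ p : ℕ, p.Prime → p ∣ orderOf x' → p ∈ Cfsg.sigma L) ∧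
        (Subgroup.centralizer ({x'} : Set G) ≤ M ∧ ∀ L : Subgroup G, IsCoatom L →
          Subgroup.centralizer ({x'} : Set G) ≤ L → L = M)))
include hG hM hdisj hdich

/-- BG 14.4 when `C(x) ⊄ M`: the structure of the supporting subgroup. -/
theorem supporting_structure {x : G} (hx : x ∈ Cfsg.sigmaCore M) (hx1 : x ≠ 1)
    (hxM : ¬ centralizer ({x} : Set G) ≤ M) :
    ∃ L : Subgroup G, (IsCoatom L ∧ centralizer ({x} : Set G) ≤ L) ∧
      (∀ L' : Subgroup G, IsCoatom L' → centralizer ({x} : Set G) ≤ L' → L' = L) ∧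
      Cfsg.sigmaCore L = Cfsg.fittingHallOf L ∧
      (∀ g : G, L ≠ M.map (MulAut.conj g).toMonoidHom) ∧
      (∀ s : ℕ, s.Prime → s ∣ orderOf x → s ∈ Cfsg.tau2 L) ∧
      Cfsg.IsComplIn (M ⊓ L) (Cfsg.sigmaCore L) L ∧
      Cfsg.sigmaCore L ⊓ centralizer ({x} : Set G) ≠ ⊥ := by
  obtain ⟨L, hL, hCL, hconj, hnσ, ⟨p, hτ, hpd⟩, hnil, hE⟩ :=
    exists_supporting hG hM hdisj hx hx1 hxM
  obtain ⟨-, hR, -⟩ := centralizer_split hG hM (piCoreOf_le _ _ hx) hL hCL hE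
  have hRne : Cfsg.sigmaCore L ⊓ centralizer ({x} : Set G) ≠ ⊥ := by
    intro h
    refine hxM fun c hc => ?_
    obtain ⟨a, ha, b, hb, rfl⟩ := hR.2.2.2 c hc
    rw [h, mem_bot] at hb
    rw [hb, mul_one]
    exact ha.1
  obtain ⟨r, hr, hr1⟩ := (Subgroup.ne_bot_iff_exists_ne_one).1 hRne |>
    fun ⟨r, h⟩ => (⟨r.1, r.2, fun h' => h (Subtype.ext h')⟩ : ∃ r : G,
      r ∈ Cfsg.sigmaCore L ⊓ centralizer ({x} : Set G) ∧ r ≠ 1)
  haveI := Fact.mk hτ.1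
  rcases hdich L hL r hr.1 hr1 x ⟨hCL (mem_centralizer_singleton_iff.2 rfl),
    mem_centralizer_singleton_iff.2 (mem_centralizer_singleton_iff.1 hr.2).symm⟩ hx1 hnσ with
    ⟨hκ, -⟩ | ⟨hτ', -, -, huniq⟩
  · exact absurd (kappa_rank_one (hκ p hτ.1 hpd)) hτ.2.2.2
  · exact ⟨L, ⟨hL, hCL⟩, huniq, sigmaCore_eq_fittingHallOf hG hL hnil, hconj, hτ', hE, hRne⟩

end CfsgLib.OddOrder
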