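import Cfsg.Agent.Lib.OddOrder.TypeData
import Cfsg.Agent.Lib.OddOrder.Section15Cases
import Cfsg.Agent.S1359
import Cfsg.Agent.S1360

/-!
The Frobenius type structure on `U M_σ`.
-/

set_option autoImplicit false
set_option maxHeartbeats 400000
set_option linter.style.haveILetI false

open scoped Pointwise

namespace CfsgLib.OddOrder

open Subgroup

variable {G : Type*} [Group G] [Finite G] (hG : Cfsg.IsMinSimpleOddOrder G) {M : Subgroup G}
  (hM : IsCoatom M)
include hG hM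

/-- If `U ≠ 1` then `M_F = M_σ`. -/
theorem fittingHallOf_eq_of_U_ne {K U : Subgroup G} (hKU : Cfsg.IsSigmaDecomposition M K U)
    (hU : U ≠ ⊥) : Cfsg.fittingHallOf M = Cfsg.sigmaCore M :=
  by_contra fun h => hU (Cfsg.Agent.S1437.result hG M hM K U hKU h).1

omit hG hM in
theorem decomposition_U_inf_sigmaCore {K U : Subgroup G} (hKU : Cfsg.IsSigmaDecomposition M K U) :
    U ⊓ Cfsg.sigmaCore M = ⊥ :=
  le_bot_iff.1 (hKU.compl.2.2.1 ▸ inf_le_inf_left U le_sup_right)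

/-- A subgroup between `U M_σ` and itself is of Frobenius type. -/
theorem isOfTypeF_sigma {K U X : Subgroup G} (hKU : Cfsg.IsSigmaDecomposition M K U) (hU : U ≠ ⊥)
    (hXM : X ≤ M) (hX : Cfsg.fittingHallOf X = Cfsg.sigmaCore M)
    (hc : Cfsg.IsComplIn (Cfsg.sigmaCore M) U X) : Cfsg.IsOfTypeF X := by
  have hUM : U ≤ M := hKU.compl.1
  have hMne : X ≠ ⊤ := fun h => hM.1 (top_le_iff.1 (h ▸ hXM))
  obtain ⟨U₀, hU₀, hexp, hU₀f⟩ := Cfsg.Agent.S1360.result hG M hM K U hKU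
  refine isOfTypeF_of_data (U := U) (U₁ := closure ((U : Set G) ∩ Cfsg.sigmaHat M)) (U₀ := U₀)
    (isSolvable_of_ne_top hG hMne) (odd_card_subgroup hG X) hX (sigmaCore_ne_bot hG hM) hU hc
    ((closure_le U).2 Set.inter_subset_left) ?_ (Cfsg.Agent.S1359.result hG M hM K U hKU) ?_ hU₀ hexp ?_
  · rw [le_normalizer_closure_iff]
    rintro u hu a ⟨haU, haM, y, hy, hy1, hay⟩
    refine subset_closure ⟨mul_mem (mul_mem hu haU) (inv_mem hu),
      mul_mem (mul_mem (hUM hu) haM) (inv_mem (hUM hu)), u * y * u⁻¹,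
      (mem_normalizer_iff.1 (le_normalizer_piCoreOf _ M (hUM hu)) y).1 hy,
      fun h => hy1 (conj_eq_one_iff.1 h), ?_⟩
    calc u * a * u⁻¹ * (u * y * u⁻¹) = u * (a * y) * u⁻¹ := by group
      _ = u * (y * a) * u⁻¹ := by rw [hay]
      _ = u * y * u⁻¹ * (u * a * u⁻¹) := by group
  · rintro x hx hx1 u ⟨hu, huc⟩
    exact subset_closure ⟨hu, hUM hu, x, hx, hx1, mem_centralizer_singleton_iff.1 huc⟩
  · exact fun u hu hu1 x hx hux => by_contra fun hx1 =>
      hu1 (hU₀f u hu ⟨hUM (hU₀ hu), x, hx, hx1, hux⟩)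

end CfsgLib.OddOrder
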