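import Cfsg.Agent.Lib.OddOrder.SemiPrime
import Cfsg.Agent.Lib.OddOrder.CoprimeAbelianization

/-!
A coprime action on a cyclic `p`-group with a nontrivial fixed point is trivial.
-/

set_option autoImplicit false
set_option linter.style.haveILetI false

open scoped commutatorElement

namespace CfsgLib.OddOrder

open Subgroup

variable {G : Type*} [Group G] [Finite G]

theorem le_centralizer_of_cyclic_pgroup {p : ℕ} [Fact p.Prime] {S K : Subgroup G}
    (hSc : IsCyclic S) (hS : IsPGroup p S) (hKS : K ≤ normalizer (S : Set G))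
    (hcop : (Nat.card K).Coprime (Nat.card S)) (hfix : S ⊓ centralizer (K : Set G) ≠ ⊥) :
    S ≤ centralizer (K : Set G) := by
  haveI := hSc
  have hSab : ∀ a ∈ S, ∀ b ∈ S, a * b = b * a := fun a ha b hb => by
    letI : CommGroup S := IsCyclic.commGroup
    exact congrArg Subtype.val (mul_comm (⟨a, ha⟩ : S) ⟨b, hb⟩)
  have hSs : Group.IsSolvable S := by
    letI : CommGroup S := IsCyclic.commGroup
    infer_instance
  set T := ⁅S, K⁆ with hT
  have hTS : T ≤ S := Solvable.commutator_le_of_normalizes hKS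
  have hKT : K ≤ normalizer (T : Set G) := Solvable.le_normalizer_commutator_right S K
  have hTT : T ≤ ⁅T, K⁆ := (Solvable.commutator_commutator_eq hKS hcop (Or.inr hSs)).ge
  have hTC : T ⊓ centralizer (K : Set G) = ⊥ := by
    rw [← le_bot_iff]
    refine (inf_centralizer_le_commutator_of_coprime hKT
      (hcop.coprime_dvd_right (card_dvd_of_le hTS)) hTT).trans ?_
    rw [commutator_le]
    intro a ha b hb
    rw [mem_bot, commutatorElement_eq_one_iff_mul_comm]
    exact hSab a (hTS ha) b (hTS hb)
  by_cases hT0 : T = ⊥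
  · exact le_centralizer_iff.1 (commutator_eq_bot_iff_le_centralizer.1
      (by rw [commutator_comm, ← hT, hT0]))
  exfalso
  obtain ⟨X, hXT, hX⟩ := exists_le_card_prime (hS.to_le hTS) hT0
  obtain ⟨Y, hYC, hY⟩ := exists_le_card_prime
    (hS.to_le (inf_le_left : S ⊓ centralizer (K : Set G) ≤ S)) hfix
  have hXY := eq_of_card_eq_of_le_cyclic hSc (hXT.trans hTS) (hYC.trans inf_le_left) (hX.trans hY.symm)
  exact ne_bot_of_prime_card hX (le_bot_iff.1 (hTC ▸ le_inf hXT (hXY ▸ hYC.trans inf_le_right)))

end CfsgLib.OddOrder
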