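import Cfsg.Agent.Lib.OddOrder.SigmaPartition

/-!
BG 13.8: two nonconjugate maximal subgroups with a common `τ₁` element of prime order fixing points
in both cores.
-/

set_option autoImplicit false
set_option linter.style.haveILetI false

open scoped commutatorElement Pointwise

namespace CfsgLib.OddOrder

open Subgroup

variable {G : Type*} [Group G] [Finite G]

/-- BG 13.8. -/
theorem false_of_common_tau1 (hG : Cfsg.IsMinSimpleOddOrder G) {M H' : Subgroup G} (hM : IsCoatom M)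
    (hH' : IsCoatom H') (hconj' : ∀ g : G, M.map (MulAut.conj g).toMonoidHom ≠ H') {r : ℕ}
    [hrF : Fact r.Prime] (hrM : r ∈ Cfsg.tau1 M) (hrH : r ∈ Cfsg.tau1 H') {R : Subgroup G}
    (hR : Nat.card R = r) (hRM : R ≤ M) (hRH : R ≤ H')
    (hfixM : Cfsg.sigmaCore M ⊓ centralizer (R : Set G) ≠ ⊥)
    (hfixH : Cfsg.sigmaCore H' ⊓ centralizer (R : Set G) ≠ ⊥)
    (hτ2 : ∀ s, s ∉ Cfsg.tau2 M) (hτ2' : ∀ s, s ∉ Cfsg.tau2 H')
    (hnσ : ∀ s, s ∈ Cfsg.tau1 M → s ∉ Cfsg.sigma H') : False := by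
  have hr := hrF.out
  have hconjHM : ∀ g' : G, H'.map (MulAut.conj g').toMonoidHom ≠ M := fun g' hg' =>
    hconj' g'⁻¹ (by rw [← hg', map_conj_map_conj, inv_mul_cancel, map_conj_one])
  obtain ⟨b, hb, X, hXC, hX⟩ : ∃ b : ℕ, b.Prime ∧ ∃ X : Subgroup G,
      X ≤ Cfsg.sigmaCore M ⊓ centralizer (R : Set G) ∧ Nat.card X = b := by
    obtain ⟨b, hb, hd⟩ := Nat.exists_prime_and_dvd
      (fun h => hfixM (card_eq_one.1 h))
    haveI := Fact.mk hb
    obtain ⟨x, hx⟩ := exists_prime_orderOf_dvd_card' b hd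
    exact ⟨b, hb, zpowers (x : G), zpowers_le.2 x.2, by rw [Nat.card_zpowers, orderOf_coe, hx]⟩
  obtain ⟨c, hc, X₀, hX₀C, hX₀⟩ : ∃ c : ℕ, c.Prime ∧ ∃ X : Subgroup G,
      X ≤ Cfsg.sigmaCore H' ⊓ centralizer (R : Set G) ∧ Nat.card X = c := by
    obtain ⟨b, hb, hd⟩ := Nat.exists_prime_and_dvd
      (fun h => hfixH (card_eq_one.1 h))
    haveI := Fact.mk hb
    obtain ⟨x, hx⟩ := exists_prime_orderOf_dvd_card' b hd
    exact ⟨b, hb, zpowers (x : G), zpowers_le.2 x.2, by rw [Nat.card_zpowers, orderOf_coe, hx]⟩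
  haveI := Fact.mk hb
  haveI := Fact.mk hc
  have hbM : b ∈ Cfsg.sigma M :=
    sigma_of_dvd_sigmaCore hb (hX ▸ card_dvd_of_le (hXC.trans inf_le_left))
  have hcH : c ∈ Cfsg.sigma H' :=
    sigma_of_dvd_sigmaCore hc (hX₀ ▸ card_dvd_of_le (hX₀C.trans inf_le_left))
  have hcM : c ∉ Cfsg.sigma M := sigma_disjoint hG hH' hM hconjHM hcH
  have hc1 : c ∉ Cfsg.tau1 M := fun h => hnσ c h hcH
  -- a Hall `{b, c}`-subgroup of `C(R)` and a conjugate of `X₀` in it
  set C := centralizer (R : Set G) with hCdef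
  have hR1 : R ≠ ⊥ := ne_bot_of_prime_card hR
  haveI hCs : Group.IsSolvable C := isSolvable_of_ne_top hG fun h =>
    normalizer_ne_top hG hR1 (fun ht => hM.1 (top_le_iff.1 (ht ▸ hRM)))
      (top_le_iff.1 (h.ge.trans (centralizer_le_normalizer _)))
  obtain ⟨F, hF, hXF⟩ := exists_isPiHallOf_ge (π := {b, c}) hCs (hXC.trans inf_le_right)
    fun s hs hd => Or.inl ((Nat.prime_dvd_prime_iff_eq hs hb).1 (hX ▸ hd))
  obtain ⟨l, hl⟩ := Solvable.exists_conj_le_isPiHall (Solvable.isPiHall_of_isPiHallOf hF)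
    (K := X₀.subgroupOf C) fun s hs hd => Or.inr (by
      rw [Nat.card_congr (subgroupOfEquivOfLe (hX₀C.trans inf_le_right)).toEquiv, hX₀,
        Nat.prime_dvd_prime_iff_eq hs hc] at hd
      exact hd)
  set cl := (MulAut.conj (l : G)).toMonoidHom with hcl
  have hinj : Function.Injective cl := (MulAut.conj (l : G)).injective
  set H₂ := H'.map cl with hH₂def
  set X₂ := X₀.map cl with hX₂def
  have hX₂c : Nat.card X₂ = c := by rw [hX₂def, card_map_of_injective hinj, hX₀]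
  have hX₂F : X₂ ≤ F := by
    rintro _ ⟨x, hx, rfl⟩
    have h1 := hl (smul_mem_pointwise_smul _ (MulAut.conj l) _
      (mem_subgroupOf.2 hx : (⟨x, (hX₀C hx).2⟩ : C) ∈ X₀.subgroupOf C))
    exact mem_subgroupOf.1 h1
  have hFC : F ≤ C := hF.1
  have hlR : ∀ x ∈ R, MulAut.conj (l : G) x = x := fun x hx => by
    show (l : G) * x * (l : G)⁻¹ = x
    rw [← l.2 x hx, mul_inv_cancel_right]
  have hH₂ : IsCoatom H₂ := isCoatom_conj hH' l
  have hRH₂ : R ≤ H₂ := fun x hx => ⟨x, hRH hx, hlR x hx⟩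
  have hrH₂ : r ∈ Cfsg.tau1 H₂ := by
    refine mem_tau1_map _ (fun h => hrH.2.1 ?_) hrH
    have := mem_sigma_map (MulAut.conj (l : G)⁻¹) h
    rwa [map_conj_map_conj, inv_mul_cancel, map_conj_one] at this
  have hcH₂ : c ∈ Cfsg.sigma H₂ := mem_sigma_map _ hcH
  have hX₂H : X₂ ≤ H₂ := map_mono ((hX₀C.trans inf_le_left).trans (piCoreOf_le _ _))
  have hX₂C : X₂ ≤ Cfsg.sigmaCore H₂ ⊓ C :=
    le_inf (le_sigmaCore_of_pgroup hG hH₂ hcH₂ (isPGroup_of_prime_card hX₂c) hX₂H)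
      (hX₂F.trans hFC)
  have hconj₂ : ∀ g' : G, H₂.map (MulAut.conj g').toMonoidHom ≠ M := fun g' hg' =>
    hconjHM (g' * (l : G)) (by rw [← map_conj_map_conj]; exact hg')
  have hbH₂ : b ∉ Cfsg.sigma H₂ := sigma_disjoint hG hM hH₂
    (fun g' hg' => hconj₂ g'⁻¹ (by rw [← hg', map_conj_map_conj, inv_mul_cancel, map_conj_one]))
    hbM
  -- `X₂ ≤ M`
  have hX₂M : X₂ ≤ M := by
    haveI : Group.IsSolvable F :=
      Group.isSolvable_of_isSolvable_injective (Subgroup.inclusion_injective hFC)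
    haveI : Nontrivial F := (nontrivial_iff_ne_bot _).2 fun h =>
      ne_bot_of_prime_card hX (le_bot_iff.1 (h ▸ hXF))
    obtain ⟨t, N₀, ht, hN₀, hN₀p, hN₀1⟩ := Solvable.exists_normal_pgroup_ne_bot (G := F)
    haveI := Fact.mk ht
    set N := N₀.map F.subtype
    have hNp : IsPGroup t N := hN₀p.map _
    have hN1 : N ≠ ⊥ := fun h => hN₀1 ((map_eq_bot_iff_of_injective _ F.subtype_injective).1 h)
    have hFN : F ≤ normalizer (N : Set G) := by
      haveI := hN₀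
      have h1 := le_normalizer_map (H := N₀) F.subtype
      rwa [normalizer_eq_top, ← MonoidHom.range_eq_map, range_subtype] at h1
    have htbc : t = b ∨ t = c := hF.2.1 t ht
      ((dvd_card_of_isPGroup hNp hN1).trans (card_dvd_of_le (map_subtype_le _)))
    rcases htbc with rfl | rfl
    · exact hX₂F.trans (le_of_normal_pgroup hG hM hrM hR hRM hX hXC hXF hFC hNp hN1
        (map_subtype_le _) hFN)
    · have hFH₂ := le_of_normal_pgroup hG hH₂ hrH₂ hR hRH₂ hX₂c hX₂C hX₂F hFC hNp hN1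
        (map_subtype_le _) hFN
      have hXX₂ : X₂ ≤ centralizer (X : Set G) :=
        (hX₂C.trans (centralizer_le_of_commute hG hH₂ hrH₂.2.1 hrH₂.2.2.2.2 hrH₂.2.2.2.1 hR hRH₂
          hX (hXF.trans hFH₂) (hXC.trans inf_le_right) hbH₂)).trans inf_le_right
      exact hXX₂.trans (tau1_centralizer_unique hG hM hrM hR hRM hX hXC).1
  -- `c ∈ τ₃(M)`, and some `τ₁` element commuting with `R` moves `X₂`
  have hc3 : c ∈ Cfsg.tau3 M := by
    rcases tau_cases_of_not_sigma hG hM hc (hX₂c ▸ card_dvd_of_le hX₂M) hcM with h | h | h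
    · exact absurd h hc1
    · exact absurd h (hτ2 c)
    · exact h
  have hRX₂ : R ≤ normalizer (X₂ : Set G) :=
    (le_centralizer_iff.1 (hX₂F.trans hFC)).trans (centralizer_le_normalizer _)
  obtain ⟨D, hYD, hD⟩ := exists_complement_ge hG hM (sup_le hX₂M hRM : X₂ ⊔ R ≤ M)
    fun s hs hd => by
      rcases hs.dvd_mul.1 (hd.trans (card_sup_dvd_mul_of_le_normalizer hRX₂)) with h | h
      · rw [hX₂c, Nat.prime_dvd_prime_iff_eq hs hc] at h
        exact h ▸ hcM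
      · rw [hR, Nat.prime_dvd_prime_iff_eq hs hr] at h
        exact h ▸ hrM.2.1
  haveI hDs := isSolvable_of_ne_top hG (H := D) fun h => hM.1 (top_le_iff.1 (h ▸ hD.1))
  obtain ⟨D₁, hD₁, hRD₁, hD₁c⟩ := exists_tau1_hall_ge hG hM hD (le_sup_right.trans hYD)
    fun s hs hd => ((Nat.prime_dvd_prime_iff_eq hs hr).1 (hR ▸ hd)) ▸ hrM
  obtain ⟨D₃, hD₃, hX₂D₃⟩ := exists_isPiHallOf_ge (π := Cfsg.tau3 M) hDs (le_sup_left.trans hYD)
    fun s hs hd => ((Nat.prime_dvd_prime_iff_eq hs hc).1 (hX₂c ▸ hd)) ▸ hc3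
  obtain ⟨hD₃c, hD₃D, hD₃n⟩ := tau3_hall hG hM hD hD₃
  have hmove : ¬ D₁ ≤ centralizer (X₂ : Set G) := by
    intro h
    haveI := hD₃c
    have hDX : D ≤ centralizer (X₂ : Set G) := by
      refine le_of_sylows_le fun s hs hsD => ?_
      haveI := Fact.mk hs
      rcases tau_cases_of_not_sigma hG hM hs (hsD.trans (card_dvd_of_le hD.1))
        (complement_prime_not_sigma hG hM hD hs hsD) with h1 | h2 | h3
      · obtain ⟨S', hS'⟩ := exists_sylow_le_hall hD₁ h1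
        exact ⟨S', hS'.trans h⟩
      · exact absurd h2 (hτ2 s)
      · obtain ⟨S', hS'⟩ := exists_sylow_le_hall hD₃ h3
        exact ⟨S', fun y hy x hx => setLike_mul_comm (hX₂D₃ hx) (hS' hy)⟩
    obtain ⟨x, hx⟩ := exists_prime_orderOf_dvd_card' c (dvd_of_eq hX₂c.symm)
    have hxD : (x : G) ∈ D := hD₃.1 (hX₂D₃ x.2)
    obtain ⟨P, hP⟩ := exists_sylow_le_hall hD₃ hc3
    have hxP : (⟨x, hxD⟩ : D) ∈ (P : Subgroup D) :=
      SchurSylow.center_pElement_mem_sylow P (k := 1) (mem_center_iff.2 fun y => Subtype.ext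
        (hDX y.2 x x.2).symm) (Subtype.ext (by
          rw [pow_one, ← hx]
          show (x : G) ^ orderOf x = 1
          rw [← orderOf_coe, pow_orderOf_eq_one]))
    have hmem := SchurSylow.center_inf_commutator_inf_sylow_le P
      (mem_center_iff.2 fun y => Subtype.ext (hDX y.2 x x.2).symm) (by
        obtain ⟨y, hy, hyx⟩ := (map_subtype_commutator D).ge (hD₃D (hX₂D₃ x.2))
        rwa [show (⟨x, hxD⟩ : D) = y from Subtype.ext hyx.symm]) hxP
    have hbot : commutator (P : Subgroup D) = ⊥ := SchurSylow.commutator_eq_bot_of_comm fun y z =>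
      Subtype.ext (Subtype.ext (setLike_mul_comm (hP (mem_map_of_mem _ y.2))
        (hP (mem_map_of_mem _ z.2))))
    rw [hbot, Subgroup.map_bot, mem_bot] at hmem
    have hx1 : x = 1 := Subtype.ext (congrArg Subtype.val hmem :)
    rw [hx1, orderOf_one] at hx
    exact hc.ne_one hx.symm
  obtain ⟨s, hs, P, hP, hPD, hPC⟩ : ∃ (s : ℕ), s.Prime ∧ ∃ P : Subgroup G,
      IsPGroup s P ∧ P ≤ D₁ ∧ ¬ P ≤ centralizer (X₂ : Set G) := by
    by_contra hno
    push Not at hno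
    exact hmove (le_of_pgroups_le fun s hs P hP hPE => hno s hs P hP hPE)
  obtain ⟨w, hwP, hwC⟩ := SetLike.not_le_iff_exists.1 hPC
  haveI := Fact.mk hs
  haveI := hD₁c
  have hwp : IsPGroup s (zpowers w) := hP.to_le (zpowers_le.2 hwP)
  have hwD : w ∈ D := hD₁.1 (hPD hwP)
  have hX₂w : w ∈ normalizer (X₂ : Set G) := by
    haveI := hD₃c
    haveI : (X₂.subgroupOf D₃).Characteristic := by
      refine characteristic_iff_map_eq.2 fun e => ?_
      exact eq_of_card_eq_of_isCyclic (card_map_of_injective e.injective)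
    have h1 := normalizer_le_normalizer_map_of_characteristic D₃ (X₂.subgroupOf D₃)
    rw [map_subgroupOf_eq_of_le hX₂D₃] at h1
    exact h1 (hD₃n hwD)
  have hwH₂ : w ∈ H₂ := tau1_normalizer_le hG hH₂ hrH₂ hR hRH₂ hX₂c hX₂C hX₂w
  have hsM : s ∈ Cfsg.tau1 M := hD₁.2.1 s hs ((dvd_card_of_isPGroup hwp fun h =>
    hwC (zpowers_eq_bot.1 h ▸ one_mem _)).trans (card_dvd_of_le (zpowers_le.2 (hPD hwP))))
  have hsH : s ∉ Cfsg.sigma H' := hnσ s hsM
  have hsH₂ : s ∉ Cfsg.sigma H₂ := fun h => hsH (by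
    have h' := mem_sigma_map (MulAut.conj (l : G)⁻¹) h
    rwa [map_conj_map_conj, inv_mul_cancel, map_conj_one] at h')
  have hs1 : Cfsg.PRankLE s 1 H' := by
    by_contra h1
    exact hτ2' s ⟨hs, hsH, pRankLE_two_of_not_sigma hG hH' hs hsH, h1⟩
  refine hwC fun y hy => ?_
  exact mem_centralizer_singleton_iff.1 ((centralizer_le_of_tau1_commute hG hH₂ hrH₂ hR hRH₂
    hsH₂ (pRankLE_map_equiv _ hs1) hwp hwH₂ fun x hx => setLike_mul_comm (hRD₁ hx) (hPD hwP))
    (hX₂C hy))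

end CfsgLib.OddOrder
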