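import Cfsg.Agent.Lib.OddOrder.FixLineCore
import Cfsg.Agent.Lib.PLengthHH.Series
import Cfsg.Agent.Lib.Solvable.CoprimeAction
import Cfsg.Agent.Lib.Solvable.Core
import Mathlib.GroupTheory.SchurZassenhaus
import Mathlib.GroupTheory.SpecificGroups.ZGroup

/-!
BG 3.6: if `H` is a normal Hall subgroup with complement `R` in a solvable group of odd order and
some `x ∈ R` of prime order has a Z-group as centraliser in `H`, then `⁅H, R⁆` has `p`-length one.
-/

set_option autoImplicit false
set_option linter.style.haveILetI false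

open scoped commutatorElement Pointwise

namespace CfsgLib.OddOrder

open Subgroup

universe u

section Aux

variable {G : Type*} [Group G] [Finite G] {p : ℕ} [hp : Fact p.Prime]

theorem pLengthLE_one_of_normal_pSubgroup (S : Subgroup G) [hS : S.Normal] (hSp : IsPGroup p S)
    (hidx : S.index.Coprime p) : Cfsg.PLengthLE p 1 G := by
  refine top_le_iff.1 (PLengthHH.le_upper_odd (k := 1) inferInstance fun g _ hg => ?_)
  have hgS : g ∈ S := by
    rw [← QuotientGroup.eq_one_iff (N := S)]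
    exact PLengthHH.IsPEl.eq_one (hg.map (QuotientGroup.mk' S))
      (hidx.coprime_dvd_left (orderOf_dvd_natCard (QuotientGroup.mk' S g)))
  refine (PLengthHH.le_upper_even (k := 0) hS fun y hy hyc => ?_) hgS
  rw [(PLengthHH.IsPEl.of_isPGroup hSp hy).eq_one hyc]
  exact one_mem _

theorem le_pCore_of_plength_one (h : Cfsg.PLengthLE p 1 G) (hO : Cfsg.pPrimeCore p G = ⊥)
    {P : Subgroup G} (hP : IsPGroup p P) : P ≤ Cfsg.pCore p G := by
  have hle : P ≤ Cfsg.pPrimePCore p G := fun g hg => by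
    have h1 := PLengthHH.pel_mem_of_upper_odd (k := 1) (x := g)
      (by rw [show (Cfsg.upperPSeries p G (2 * 1 + 1)).1 = ⊤ from h]; trivial)
      (PLengthHH.IsPEl.of_isPGroup hP hg)
    rwa [FGS68.upperPSeries_two] at h1
  refine hle.trans (Solvable.le_pCore ?_ ?_)
  · rw [← FGS68.upperPSeries_two]
    exact (Cfsg.upperPSeries p G 2).2
  · intro g
    obtain ⟨k, m, hm, hx⟩ := Nat.exists_eq_pow_mul_and_not_dvd (orderOf_pos (g : G)).ne' p hp.out.ne_one
    refine ⟨k, Subtype.ext (mem_bot.1 ?_)⟩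
    rw [← hO]
    refine PLengthHH.pel_mem_pPrimeCore_quotient (pow_mem g.2 _) ?_
    refine Nat.Coprime.coprime_dvd_left ?_ ((hp.out.coprime_iff_not_dvd).2 hm).symm
    rw [orderOf_dvd_iff_pow_eq_one, SubmonoidClass.coe_pow, ← pow_mul, ← hx, pow_orderOf_eq_one]

theorem normalizer_le_normalizer_map_of_characteristic (X : Subgroup G) (K : Subgroup X)
    [hK : K.Characteristic] : normalizer (X : Set G) ≤ normalizer ((K.map X.subtype : Subgroup G) : Set G) := by
  intro g hg
  rw [mem_normalizer_iff_map_conj_eq]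
  have hc : K.map ((X.normalizerMonoidHom ⟨g, hg⟩ : X ≃* X).toMonoidHom) = K :=
    characteristic_iff_map_eq.1 hK _
  conv_rhs => rw [← hc]
  rw [map_map, map_map]
  rfl

theorem card_sup_dvd_mul_of_le_normalizer {A B : Subgroup G} (h : B ≤ normalizer (A : Set G)) :
    Nat.card ↥(A ⊔ B) ∣ Nat.card A * Nat.card B := by
  let N := normalizer (A : Set G)
  haveI : (A.subgroupOf N).Normal := normal_in_normalizer
  have hAN : A ≤ N := le_normalizer
  have h1 := Solvable.card_sup_dvd_mul (A.subgroupOf N) (B.subgroupOf N)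
  rwa [← subgroupOf_sup hAN h, Nat.card_congr (subgroupOfEquivOfLe (sup_le hAN h)).toEquiv,
    Nat.card_congr (subgroupOfEquivOfLe hAN).toEquiv, Nat.card_congr (subgroupOfEquivOfLe h).toEquiv] at h1

theorem eq_one_of_coprime_pgroup {g : G} {U P : Subgroup G} (hcop : (Nat.card U).Coprime (Nat.card P))
    (hU : g ∈ U) (hP : g ∈ P) : g = 1 := by
  rw [← mem_bot, ← inf_eq_bot_of_coprime hcop]
  exact ⟨hU, hP⟩

theorem inf_normalizer_le_normalizer_join (A B : Subgroup G) :
    normalizer (A : Set G) ⊓ normalizer (B : Set G) ≤ normalizer ((A ⊔ B : Subgroup G) : Set G) := by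
  rintro g ⟨ha, hb⟩
  replace ha : g ∈ normalizer (A : Set G) := ha
  replace hb : g ∈ normalizer (B : Set G) := hb
  rw [mem_normalizer_iff_map_conj_eq] at ha hb
  rw [mem_normalizer_iff_map_conj_eq, Subgroup.map_sup, ha, hb]

theorem isZGroup_of_le {A B : Subgroup G} (h : A ≤ B) (hB : IsZGroup B) : IsZGroup A :=
  IsZGroup.of_injective (Subgroup.inclusion_injective h)

theorem isCyclic_of_le_isZGroup {q : ℕ} [Fact q.Prime] {A B : Subgroup G} (h : A ≤ B)
    (hB : IsZGroup B) (hA : IsPGroup q A) : IsCyclic A := by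
  haveI := hB
  haveI := (hA.of_equiv (subgroupOfEquivOfLe h).symm).isCyclic_of_isZGroup
  exact isCyclic_of_surjective _ (subgroupOfEquivOfLe h).surjective

end Aux

/-- The hypothesis is proved by induction on the order of `H`. -/
def MainStatement (p : ℕ) (n : ℕ) : Prop :=
  ∀ (G : Type u) [Group G] [Finite G] [Group.IsSolvable G], Odd (Nat.card G) →
    ∀ (H R : Subgroup G) (x : G), R ≤ normalizer (H : Set G) →
      (Nat.card R).Coprime (Nat.card H) → x ∈ R → (orderOf x).Prime →
      IsZGroup ↥(H ⊓ centralizer ({x} : Set G)) → Nat.card H < n → Cfsg.PLengthLE p 1 ↥⁅H, R⁆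

variable {p : ℕ} [hp : Fact p.Prime]

/-- The inductive step when `G = H R` and `H = ⁅H, R⁆`. -/
theorem pLengthLE_step {n : ℕ} (IH : MainStatement.{u} p n) (G : Type u) [Group G] [Finite G]
    [Group.IsSolvable G] (hodd : Odd (Nat.card G)) (H R : Subgroup G) [hHn : H.Normal] (x : G)
    (hHR : H ⊔ R = ⊤) (hcomm : ⁅H, R⁆ = H) (hcop : (Nat.card R).Coprime (Nat.card H)) (hxR : x ∈ R)
    (hr : (orderOf x).Prime) (hZ : IsZGroup ↥(H ⊓ centralizer ({x} : Set G)))
    (hn : Nat.card H ≤ n) : Cfsg.PLengthLE p 1 H := by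
  classical
  have hxH : x ∉ H := fun h => hr.one_lt.ne'
    (Nat.eq_one_of_dvd_coprimes hcop (Subgroup.orderOf_dvd_natCard R hxR) (Subgroup.orderOf_dvd_natCard H h))
  have hRn : R ≤ normalizer (H : Set G) := by rw [normalizer_eq_top]; exact le_top
  have hsolR : Group.IsSolvable R := inferInstance
  -- proper invariant subgroups
  have hsub : ∀ H1 : Subgroup G, H1 ≤ H → H1 ≠ H → R ≤ normalizer (H1 : Set G) →
      Cfsg.PLengthLE p 1 ↥⁅H1, R⁆ := fun H1 hle hne hR1 =>
    IH G hodd H1 R x hR1 (hcop.coprime_dvd_right (card_dvd_of_le hle)) hxR hr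
      (isZGroup_of_le (inf_le_inf_right _ hle) hZ)
      (lt_of_lt_of_le (lt_of_le_of_ne (Nat.le_of_dvd Nat.card_pos (card_dvd_of_le hle))
        fun he => hne (eq_of_le_of_card_ge hle he.ge)) hn)
  -- quotients
  have hquot : ∀ N : Subgroup G, ∀ [N.Normal], N ≤ H → N ≠ ⊥ →
      Cfsg.PLengthLE p 1 ↥(H.map (QuotientGroup.mk' N)) ∧
        Cfsg.PLengthLE p 1 (H ⧸ N.subgroupOf H) := by
    intro N _ hNH hN
    let π := QuotientGroup.mk' N
    let f : H →* H.map π := π.subgroupMap H
    have hf : Function.Surjective f := π.subgroupMap_surjective H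
    have hker : f.ker = N.subgroupOf H := by
      ext h
      rw [MonoidHom.mem_ker, mem_subgroupOf, ← QuotientGroup.eq_one_iff (N := N)]
      exact Subtype.ext_iff
    have hxN : x ∉ N := fun h => hxH (hNH h)
    have hord : orderOf (π x) = orderOf x :=
      ((Nat.dvd_prime hr).1 (orderOf_map_dvd π x)).resolve_left fun h =>
        hxN ((QuotientGroup.eq_one_iff x).1 (orderOf_eq_one_iff.1 h))
    have hcard : Nat.card (H.map π) < n := by
      refine lt_of_lt_of_le ?_ hn
      have h1 := card_eq_card_quotient_mul_card_subgroup f.ker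
      rw [Nat.card_congr (QuotientGroup.quotientKerEquivOfSurjective f hf).toEquiv] at h1
      rw [h1]
      refine lt_mul_of_one_lt_right Nat.card_pos ?_
      rw [hker, Nat.card_congr (subgroupOfEquivOfLe hNH).toEquiv]
      exact one_lt_card_iff_ne_bot N |>.2 hN
    have hZq : IsZGroup ↥(H.map π ⊓ centralizer ({π x} : Set (G ⧸ N))) := by
      have hle : H.map π ⊓ centralizer ({π x} : Set (G ⧸ N)) ≤ (H ⊓ centralizer ({x} : Set G)).map π := by
        rintro _ ⟨⟨h, hh, rfl⟩, hc⟩
        have hxh : x * h * x⁻¹ * h⁻¹ ∈ N := by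
          rw [← QuotientGroup.eq_one_iff (N := N)]
          show π (x * h * x⁻¹ * h⁻¹) = 1
          rw [map_mul, map_mul, map_mul, map_inv, map_inv,
            ← mem_centralizer_singleton_iff.1 hc]
          group
        have hfix : ∀ a ∈ zpowers x, a * h * a⁻¹ * h⁻¹ ∈ N := by
          let T : Subgroup G :=
            { carrier := {a | a * h * a⁻¹ * h⁻¹ ∈ N}
              one_mem' := by simp
              mul_mem' := fun {a b} ha hb => by
                show a * b * h * (a * b)⁻¹ * h⁻¹ ∈ N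
                rw [show a * b * h * (a * b)⁻¹ * h⁻¹ =
                  a * (b * h * b⁻¹ * h⁻¹) * a⁻¹ * (a * h * a⁻¹ * h⁻¹) by group]
                exact N.mul_mem (Subgroup.Normal.conj_mem inferInstance _ hb a) ha
              inv_mem' := fun {a} ha => by
                show a⁻¹ * h * a⁻¹⁻¹ * h⁻¹ ∈ N
                rw [show a⁻¹ * h * a⁻¹⁻¹ * h⁻¹ = a⁻¹ * (a * h * a⁻¹ * h⁻¹)⁻¹ * a⁻¹⁻¹ by group]
                exact Subgroup.Normal.conj_mem inferInstance _ (N.inv_mem ha) _ }
          exact fun a ha => (zpowers_le (H := T)).2 hxh ha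
        obtain ⟨c, hc', hcN⟩ := Solvable.exists_fixed_of_fixed_mod (A := zpowers x) (K := H)
          ((zpowers_le.2 hxR).trans hRn)
          (hcop.coprime_dvd_left (card_dvd_of_le (zpowers_le.2 hxR)))
          (Or.inl inferInstance) hNH (by rw [normalizer_eq_top]; exact le_top)
          (by rw [normalizer_eq_top]; exact le_top) hh hfix
        refine ⟨c, ⟨hc'.1, mem_centralizer_singleton_iff.2
          (mem_centralizer_iff.1 hc'.2 x (mem_zpowers x)).symm⟩, ?_⟩
        exact (QuotientGroup.eq.2 hcN).symm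
      haveI := hZ
      haveI : IsZGroup ↥((H ⊓ centralizer ({x} : Set G)).map π) :=
        IsZGroup.of_surjective (π.subgroupMap_surjective _)
      exact IsZGroup.of_injective (Subgroup.inclusion_injective hle)
    haveI : Group.IsSolvable (G ⧸ N) := inferInstance
    have hIH := IH (G ⧸ N) (hodd.of_dvd_nat N.card_quotient_dvd_card) (H.map π) (R.map π) (π x)
      ((Subgroup.map_mono hRn).trans (le_normalizer_map π))
      ((hcop.coprime_dvd_left (card_map_dvd _ _)).coprime_dvd_right (card_map_dvd _ _))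
      (mem_map_of_mem π hxR) (hord.symm ▸ hr) hZq hcard
    rw [← map_commutator, hcomm] at hIH
    refine ⟨hIH, ?_⟩
    let e : H ⧸ N.subgroupOf H ≃* H.map π :=
      (QuotientGroup.quotientMulEquivOfEq hker.symm).trans (QuotientGroup.quotientKerEquivOfSurjective f hf)
    exact PLengthHH.pLengthLE_of_surjective (f := e.symm.toMonoidHom) e.symm.surjective hIH
  -- no normal `p'`-subgroups
  by_cases hO : ∃ N : Subgroup G, N.Normal ∧ N ≤ H ∧ N ≠ ⊥ ∧ (Nat.card N).Coprime p
  · obtain ⟨N, hNn, hNH, hN, hNc⟩ := hO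
    haveI := hNn
    refine PLengthHH.pLengthLE_of_family (fun _ : Unit => N.subgroupOf H) ?_ fun _ => (hquot N hNH hN).2
    rw [iInf_const, Nat.card_congr (subgroupOfEquivOfLe hNH).toEquiv]
    exact hNc
  push Not at hO
  replace hO : ∀ N : Subgroup G, N.Normal → N ≤ H → (Nat.card N).Coprime p → N = ⊥ :=
    fun N h1 h2 h3 => by_contra fun h => hO N h1 h2 h h3
  by_cases hHbot : H = ⊥
  · subst hHbot
    exact PLengthHH.pLengthLE_mono (Nat.zero_le 1) (PLengthHH.pLengthLE_zero_iff.2 (by simp))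
  obtain ⟨V, hVn, hVne, hVH, hVmin⟩ := Solvable.exists_minimal_normal_le H hHbot
  haveI := hVn
  obtain ⟨hVc, s, hs, hVexp⟩ := Solvable.minimal_normal_elementary_abelian V hVne hVmin
  haveI := hVc
  have hVab : ∀ a ∈ V, ∀ b ∈ V, Commute a b := fun a ha b hb => setLike_mul_comm ha hb
  have hsp : s = p := by
    by_contra hne
    refine hVne (hO V hVn hVH ?_)
    haveI := Fact.mk hs
    obtain ⟨k, hk⟩ := (show IsPGroup s V from fun v => ⟨1, Subtype.ext (by
      simpa using hVexp v v.2)⟩).exists_card_eq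
    rw [hk]
    exact ((Nat.coprime_primes hs hp.out).2 hne).pow_left k
  subst hsp
  have hVp : IsPGroup s V := fun v => ⟨1, Subtype.ext (by simpa using hVexp v v.2)⟩
  let π := QuotientGroup.mk' V
  let Hb := H.map π
  have hbar : Cfsg.PLengthLE s 1 Hb := (hquot V hVH hVne).1
  haveI hHbn : Hb.Normal := hHn.map π (QuotientGroup.mk'_surjective V)
  by_cases hOb : Cfsg.pPrimeCore s Hb = ⊥
  · -- normal Sylow subgroup
    let f : H →* Hb := π.subgroupMap H
    have hf : Function.Surjective f := π.subgroupMap_surjective H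
    haveI := Solvable.pCore_normal s Hb
    haveI : ((Cfsg.pCore s Hb).comap f).Normal := inferInstance
    refine pLengthLE_one_of_normal_pSubgroup ((Cfsg.pCore s Hb).comap f) ?_ ?_
    · refine IsPGroup.comap_of_ker_isPGroup (Solvable.pCore_isPGroup s Hb) f ?_
      refine hVp.of_injective (MonoidHom.mk' (fun h : f.ker => (⟨((h : H) : G), ?_⟩ : V))
        fun a b => rfl) ?_
      · have := MonoidHom.mem_ker.1 h.2
        exact (QuotientGroup.eq_one_iff _).1 (congrArg Subtype.val this)
      · intro a b hab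
        exact Subtype.ext (Subtype.ext (congrArg Subtype.val hab :))
    · rw [index_comap_of_surjective _ hf]
      obtain ⟨P⟩ : Nonempty (Sylow s Hb) := inferInstance
      have hle : (P : Subgroup Hb) ≤ Cfsg.pCore s Hb := le_pCore_of_plength_one hbar hOb P.isPGroup'
      have hnd : ¬ s ∣ (Cfsg.pCore s Hb).index := fun h =>
        P.not_dvd_index (h.trans (index_dvd_of_le hle))
      exact ((hp.out.coprime_iff_not_dvd).2 hnd).symm
  -- the preimage of `O_{p'}(H/V)` and an invariant complement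
  let Lb : Subgroup (G ⧸ V) := (Cfsg.pPrimeCore s Hb).map Hb.subtype
  haveI hLbn : Lb.Normal :=
    haveI := Solvable.pPrimeCore_characteristic s Hb
    inferInstanceAs ((Cfsg.pPrimeCore s Hb).map Hb.subtype).Normal
  have hLbne : Lb ≠ ⊥ := fun h => hOb ((map_eq_bot_iff_of_injective _ Hb.subtype_injective).1 h)
  have hLbc : (Nat.card Lb).Coprime s := by
    rw [Nat.card_congr (equivMapOfInjective _ _ Hb.subtype_injective).symm.toEquiv]
    exact Solvable.pPrimeCore_card_coprime s Hb
  let L : Subgroup G := Lb.comap π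
  haveI hLn : L.Normal := hLbn.comap π
  have hVL : V ≤ L := fun v hv => by
    show π v ∈ Lb
    rw [show π v = 1 from (QuotientGroup.eq_one_iff v).2 hv]; exact one_mem _
  have hLH : L ≤ H := by
    intro g hg
    obtain ⟨h, hh, he⟩ := (map_subtype_le _ (hg : π g ∈ Lb) : π g ∈ Hb)
    have := H.mul_mem hh (hVH (QuotientGroup.eq.1 he))
    rwa [mul_inv_cancel_left] at this
  have hLmap : L.map π = Lb := map_comap_eq_self_of_surjective (QuotientGroup.mk'_surjective V) _
  let S : Set (Subgroup G) := {U | U ≤ L ∧ V ⊓ U = ⊥ ∧ V ⊔ U = L}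
  have hScard : ∀ U ∈ S, Nat.card U = Nat.card Lb := by
    intro U hU
    have h1 : U.map π = Lb := by
      rw [← hLmap, ← hU.2.2, Subgroup.map_sup, (map_eq_bot_iff (H := V)).2 (QuotientGroup.ker_mk' V).ge, bot_sup_eq]
    rw [← h1]
    refine Nat.card_congr (Equiv.ofBijective (π.subgroupMap U) ⟨?_, π.subgroupMap_surjective U⟩)
    rw [← MonoidHom.ker_eq_bot_iff, eq_bot_iff]
    intro u hu
    have h2 : (u : G) ∈ V ⊓ U := ⟨(QuotientGroup.eq_one_iff _).1 (congrArg Subtype.val (MonoidHom.mem_ker.1 hu)), u.2⟩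
    rw [hU.2.1, mem_bot] at h2
    exact mem_bot.2 (Subtype.ext h2)
  have hcopV : (Nat.card V).Coprime (Nat.card Lb) := by
    obtain ⟨k, hk⟩ := hVp.exists_card_eq
    rw [hk]
    exact hLbc.symm.pow_left k
  have hSne : S.Nonempty := by
    have hidx : (V.subgroupOf L).index = Nat.card Lb := by
      have h1 : (V.subgroupOf L) = (π.comp L.subtype).ker := by
        rw [← MonoidHom.comap_ker, QuotientGroup.ker_mk']; rfl
      rw [h1, index_ker, MonoidHom.range_comp, range_subtype, hLmap]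
    obtain ⟨U, hU⟩ := exists_right_complement'_of_coprime (N := V.subgroupOf L) (by
      rw [hidx, Nat.card_congr (subgroupOfEquivOfLe hVL).toEquiv]; exact hcopV)
    refine ⟨U.map L.subtype, map_subtype_le _, eq_bot_iff.2 ?_, ?_⟩
    · rintro _ ⟨hv, u, hu, rfl⟩
      have h2 : u ∈ V.subgroupOf L ⊓ U := ⟨hv, hu⟩
      rw [hU.disjoint.eq_bot, mem_bot] at h2
      rw [h2]; exact one_mem _
    · have h2 := congrArg (Subgroup.map L.subtype) hU.sup_eq_top
      rw [Subgroup.map_sup, ← MonoidHom.range_eq_map, range_subtype, subgroupOf_map_subtype,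
        inf_eq_left.2 hVL] at h2
      exact h2
  have hVsolv : Group.IsSolvable V := inferInstance
  have hconjS : ∀ g : G, ∀ P ∈ S, MulAut.conj g • P ∈ S := by
    intro g P hP
    have hVc' : MulAut.conj g • V = V := Normal.conj_smul_eq_self g V
    have hLc' : MulAut.conj g • L = L := Normal.conj_smul_eq_self g L
    refine ⟨?_, ?_, ?_⟩
    · rw [← hLc']; exact Subgroup.pointwise_smul_le_pointwise_smul_iff.2 hP.1
    · conv_lhs => rw [← hVc']
      rw [← smul_inf, hP.2.1, smul_bot]
    · conv_lhs => rw [← hVc']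
      rw [← smul_sup, hP.2.2, hLc']
  have htransV : ∀ P ∈ S, ∀ Q ∈ S, ∃ v ∈ V, MulAut.conj v • P = Q := fun P hP Q hQ =>
    Solvable.exists_conj_eq_of_coprime (by rw [normalizer_eq_top]; exact le_top)
      (hQ.1.trans hP.2.2.ge) ((hScard Q hQ).trans (hScard P hP).symm)
      ((hScard P hP).symm ▸ hcopV) (Or.inl hVsolv)
  obtain ⟨U, hUS, hRU⟩ := Solvable.exists_invariant_subgroup_of_transitive (A := R) (K := L)
    (by rw [normalizer_eq_top]; exact le_top) (hcop.coprime_dvd_right (card_dvd_of_le hLH))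
    (Or.inl hsolR) hSne (fun a _ => hconjS a) (fun k _ => hconjS k)
    (fun P hP Q hQ => (htransV P hP Q hQ).imp fun v hv => ⟨hVL hv.1, hv.2⟩)
  have hUH : U ≤ H := hUS.1.trans hLH
  have hUcop : (Nat.card U).Coprime s := hScard U hUS ▸ hLbc
  have hUne : U ≠ ⊥ := fun h => hLbne (card_eq_one.1 (by rw [← hScard U hUS, h, card_bot]))
  have hfrat : ∀ g : G, ∃ v ∈ V, ∃ m ∈ normalizer (U : Set G), g = v * m := by
    intro g
    obtain ⟨v, hv, hve⟩ := htransV U hUS (MulAut.conj g • U) (hconjS g U hUS)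
    refine ⟨v, hv, v⁻¹ * g, Solvable.conj_smul_eq_self_iff.1 ?_, by group⟩
    rw [map_mul, mul_smul, ← hve, smul_smul, ← map_mul, inv_mul_cancel, map_one, one_smul]
  let NU := normalizer (U : Set G)
  -- subgroups normalised by `V` and `N(U)` are normal
  have hnormal : ∀ D : Subgroup G, V ≤ normalizer (D : Set G) → NU ≤ normalizer (D : Set G) → D.Normal := by
    intro D h1 h2
    rw [← normalizer_eq_top_iff, eq_top_iff]
    intro g _
    obtain ⟨v, hv, m, hm, rfl⟩ := hfrat g
    exact mul_mem (h1 hv) (h2 hm)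
  have hVNU : NU ≤ normalizer (V : Set G) := by rw [normalizer_eq_top]; exact le_top
  have hHNU : NU ≤ normalizer (H : Set G) := by rw [normalizer_eq_top]; exact le_top
  have hCVU : V ⊓ centralizer (U : Set G) = ⊥ := by
    have hn : (V ⊓ centralizer (U : Set G)).Normal := by
      refine hnormal _ (fun v hv => ?_) (fun m hm => inf_normalizer_le_normalizer_inf
        ⟨hVNU hm, FixLine.normalizer_le_normalizer_cent U hm⟩)
      refine mem_normalizer_iff.2 fun g => ?_
      constructor
      · intro hg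
        rwa [(hVab v hv g hg.1).eq, mul_inv_cancel_right]
      · intro hg
        have h1 := (hVab v hv _ hg.1).eq
        have h2 : v * g * v⁻¹ = g := by
          have h3 : v * (v * g * v⁻¹) * v⁻¹ = v * g * v⁻¹ := by rw [h1, mul_inv_cancel_right]
          have h4 := mul_left_cancel (mul_right_cancel h3)
          exact h4
        rwa [h2] at hg
    refine (hVmin _ hn inf_le_left).resolve_right fun he => hUne (hO U ?_ hUH hUcop)
    refine hnormal U (fun v hv => ?_) le_rfl
    refine centralizer_le_normalizer _ ?_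
    exact (he.symm ▸ hv : v ∈ V ⊓ centralizer (U : Set G)).2
  let X : Subgroup G := H ⊓ NU
  have hXH : X ≤ H := inf_le_left
  have hUX : U ≤ X := le_inf hUH le_normalizer
  have hNUX : NU ≤ normalizer (X : Set G) := fun m hm =>
    inf_normalizer_le_normalizer_inf ⟨hHNU hm, le_normalizer hm⟩
  have hRX : R ≤ normalizer (X : Set G) := hRU.trans hNUX
  have hVX : V ⊓ X = ⊥ := by
    rw [eq_bot_iff, ← hCVU]
    refine le_inf inf_le_left fun g hg => ?_
    exact Solvable.inf_normalizer_le_centralizer (A := U) (K := V)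
      (by rw [normalizer_eq_top]; exact le_top)
      (disjoint_iff.2 (by rw [inf_comm]; exact hUS.2.1)) ⟨hg.1, hg.2.2⟩
  have hHX : ∀ h ∈ H, ∃ v ∈ V, ∃ y ∈ X, h = v * y := by
    intro h hh
    obtain ⟨v, hv, m, hm, rfl⟩ := hfrat h
    refine ⟨v, hv, m, ⟨?_, hm⟩, rfl⟩
    have := H.mul_mem (H.inv_mem (hVH hv)) hh
    rwa [inv_mul_cancel_left] at this
  -- `X` acts faithfully
  by_cases hD : X ⊓ centralizer (V : Set G) ≠ ⊥
  · have hDn : (X ⊓ centralizer (V : Set G)).Normal := by
      refine hnormal _ (fun v hv => centralizer_le_normalizer _ (mem_centralizer_iff.2 fun d hd => ?_))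
        (fun m hm => inf_normalizer_le_normalizer_inf ⟨hNUX hm, ?_⟩)
      · exact (mem_centralizer_iff.1 hd.2 v hv).symm
      · exact FixLine.normalizer_le_normalizer_cent V (hVNU hm)
    haveI := hDn
    haveI : ∀ b : Bool, ((bif b then V else X ⊓ centralizer (V : Set G)).subgroupOf H).Normal := fun b => by
      cases b
      · exact (inferInstance : ((X ⊓ centralizer (V : Set G)).subgroupOf H).Normal)
      · exact (inferInstance : (V.subgroupOf H).Normal)
    refine PLengthHH.pLengthLE_of_family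
      (fun b : Bool => (bif b then V else X ⊓ centralizer (V : Set G)).subgroupOf H) ?_ fun b => ?_
    · have : (⨅ b : Bool, (bif b then V else X ⊓ centralizer (V : Set G)).subgroupOf H) = ⊥ := by
        rw [eq_bot_iff]
        intro g hg
        have h1 := mem_iInf.1 hg true
        have h2 := mem_iInf.1 hg false
        have h3 : (g : G) ∈ V ⊓ X := ⟨h1, h2.1⟩
        rw [hVX, mem_bot] at h3
        exact mem_bot.2 (Subtype.ext h3)
      rw [this, card_bot]
      exact Nat.coprime_one_left s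
    · cases b
      · exact (hquot _ (inf_le_left.trans hXH) hD).2
      · exact (hquot V hVH hVne).2
  push Not at hD
  have hfaith : ∀ g ∈ X, g ∈ centralizer (V : Set G) → g = 1 := fun g h1 h2 =>
    mem_bot.1 (hD ▸ ⟨h1, h2⟩)
  have hCHV : ∀ g ∈ H, g ∈ centralizer (V : Set G) → g ∈ V := by
    intro g hg hgc
    obtain ⟨v, hv, y, hy, rfl⟩ := hHX g hg
    have hvc : v ∈ centralizer (V : Set G) := mem_centralizer_iff.2 fun w hw => (hVab w hw v hv).eq
    have hyc : y ∈ centralizer (V : Set G) := by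
      have := mul_mem (inv_mem hvc) hgc
      rwa [inv_mul_cancel_left] at this
    rw [hfaith y hy hyc, mul_one]; exact hv
  -- `X` is a copy of `H / V`
  let fX : X →* Hb := (π.subgroupMap H).comp (Subgroup.inclusion hXH)
  have hfX : Function.Bijective fX := by
    constructor
    · rw [← MonoidHom.ker_eq_bot_iff, eq_bot_iff]
      intro y hy
      have h2 : (y : G) ∈ V ⊓ X := ⟨(QuotientGroup.eq_one_iff _).1 (congrArg Subtype.val (MonoidHom.mem_ker.1 hy)), y.2⟩
      rw [hVX, mem_bot] at h2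
      exact mem_bot.2 (Subtype.ext h2)
    · rintro ⟨_, h, hh, rfl⟩
      obtain ⟨v, hv, y, hy, rfl⟩ := hHX h hh
      refine ⟨⟨y, hy⟩, Subtype.ext ?_⟩
      show π y = π (v * y)
      rw [map_mul, show π v = 1 from (QuotientGroup.eq_one_iff v).2 hv, one_mul]
  let eX : X ≃* Hb := MulEquiv.ofBijective fX hfX
  have hXpl : Cfsg.PLengthLE s 1 X :=
    PLengthHH.pLengthLE_of_surjective (f := eX.symm.toMonoidHom) eX.symm.surjective hbar
  have hOX : Cfsg.pPrimeCore s X = U.subgroupOf X := by
    refine le_antisymm (fun y hy => ?_) (Solvable.le_pPrimeCore ?_ ?_)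
    · have h1 : eX y ∈ Cfsg.pPrimeCore s Hb := by
        rw [← Solvable.map_pPrimeCore_mulEquiv eX]
        exact mem_map_of_mem _ hy
      have h2 : π (y : G) ∈ Lb := ⟨eX y, h1, rfl⟩
      have h3 : (y : G) ∈ V ⊔ U := hUS.2.2.ge h2
      obtain ⟨v, hv, u, hu, he⟩ := mem_sup_of_normal_left.1 h3
      have hvX : v ∈ V ⊓ X := ⟨hv, by
        have := X.mul_mem y.2 (X.inv_mem (hUX hu))
        rw [← he, mul_inv_cancel_right] at this
        exact this⟩
      rw [hVX, mem_bot] at hvX
      rw [mem_subgroupOf, ← he, hvX, one_mul]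
      exact hu
    · exact ⟨fun u hu g => (mem_normalizer_iff.1 g.2.2 (u : G)).1 hu⟩
    · rw [Nat.card_congr (subgroupOfEquivOfLe hUX).toEquiv]
      exact hUcop
  have hXR : ⁅X, R⁆ = X := by
    refine le_antisymm (Solvable.commutator_le_of_normalizes hRX) fun y hy => ?_
    have hle : ⁅H, R⁆ ≤ V ⊔ ⁅X, R⁆ := by
      rw [commutator_le]
      intro h hh ρ hρ
      obtain ⟨v, hv, z, hz, rfl⟩ := hHX h hh
      rw [show ⁅v * z, ρ⁆ = v * ⁅z, ρ⁆ * v⁻¹ * ⁅v, ρ⁆ by simp [commutatorElement_def]; group]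
      refine mul_mem (mul_mem (mul_mem (mem_sup_left hv) (mem_sup_right (commutator_mem_commutator hz hρ)))
        (inv_mem (mem_sup_left hv))) (mem_sup_left ?_)
      rw [commutatorElement_def, mul_assoc v, mul_assoc v]
      exact V.mul_mem hv (hVn.conj_mem _ (V.inv_mem hv) ρ)
    rw [hcomm] at hle
    obtain ⟨v, hv, z, hz, rfl⟩ := mem_sup_of_normal_left.1 (hle (hXH hy))
    have hvX : v ∈ V ⊓ X := ⟨hv, by
      have := X.mul_mem hy (X.inv_mem (Solvable.commutator_le_of_normalizes hRX hz))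
      rwa [mul_inv_cancel_right] at this⟩
    rw [hVX, mem_bot] at hvX
    rw [hvX, one_mul]; exact hz
  by_cases hpX : s ∣ Nat.card X
  swap
  · -- `V` is a normal Sylow subgroup
    haveI : (V.subgroupOf H).Normal := inferInstance
    refine pLengthLE_one_of_normal_pSubgroup (V.subgroupOf H) (hVp.of_equiv (subgroupOfEquivOfLe hVH).symm) ?_
    rw [show (V.subgroupOf H).index = Nat.card X by
      have h1 : (V.subgroupOf H) = (π.subgroupMap H).ker := by
        ext h
        rw [MonoidHom.mem_ker, mem_subgroupOf, ← QuotientGroup.eq_one_iff (N := V)]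
        exact ⟨fun h' => Subtype.ext h', fun h' => congrArg Subtype.val h'⟩
      rw [h1, index_ker, MonoidHom.range_eq_top.2 (π.subgroupMap_surjective H),
        Nat.card_congr topEquiv.toEquiv, Nat.card_congr eX.toEquiv]]
    exact ((hp.out.coprime_iff_not_dvd).2 hpX).symm
  exfalso
  -- an invariant Sylow subgroup of `X`
  obtain ⟨P, hRP⟩ := Solvable.exists_invariant_sylow hRX (hcop.coprime_dvd_right (card_dvd_of_le hXH))
    (Or.inl hsolR) s
  let P0 : Subgroup G := (P : Subgroup X).map X.subtype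
  have hP0X : P0 ≤ X := map_subtype_le _
  have hP0 : IsPGroup s P0 := P.isPGroup'.map _
  have hP0ne : P0 ≠ ⊥ := by
    intro h
    have h1 : (P : Subgroup X) = ⊥ := (map_eq_bot_iff_of_injective _ X.subtype_injective).1 h
    have h2 := P.not_dvd_index
    rw [h1, index_bot] at h2
    exact h2 hpX
  have hP0U : P0 ≤ normalizer (U : Set G) := hP0X.trans inf_le_right
  have hcopUP : (Nat.card U).Coprime (Nat.card P0) := by
    obtain ⟨k, hk⟩ := hP0.exists_card_eq
    rw [hk]
    exact hUcop.pow_right k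
  -- `U ⊔ P0` is normal in `X`
  haveI hUXn : (U.subgroupOf X).Normal := hOX ▸ Solvable.pPrimeCore_normal s X
  let qX := QuotientGroup.mk' (U.subgroupOf X)
  have hWX : ((U ⊔ P0).subgroupOf X).Normal := by
    have hbot : Cfsg.pPrimeCore s (X ⧸ U.subgroupOf X) = ⊥ := Solvable.pPrimeCore_quotient_eq_bot _ hOX.symm
    have hpl : Cfsg.PLengthLE s 1 (X ⧸ U.subgroupOf X) :=
      PLengthHH.pLengthLE_of_surjective (QuotientGroup.mk'_surjective _) hXpl
    haveI := Solvable.pCore_normal s (X ⧸ U.subgroupOf X)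
    have hPb : (P.mapSurjective (QuotientGroup.mk'_surjective (U.subgroupOf X)) : Subgroup _) =
        Cfsg.pCore s (X ⧸ U.subgroupOf X) :=
      le_antisymm (le_pCore_of_plength_one hpl hbot (Sylow.isPGroup' _)) (Solvable.pCore_le_sylow _)
    have h1 : ((U ⊔ P0).subgroupOf X) = (Cfsg.pCore s (X ⧸ U.subgroupOf X)).comap qX := by
      rw [← hPb, Sylow.coe_mapSurjective, comap_map_eq, QuotientGroup.ker_mk',
        subgroupOf_sup hUX hP0X, sup_comm]
      congr 1
      exact comap_map_eq_self_of_injective X.subtype_injective _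
    rw [h1]
    exact inferInstance
  have hWconj : ∀ g ∈ X, ∀ w ∈ U ⊔ P0, g * w * g⁻¹ ∈ U ⊔ P0 := fun g hg w hw =>
    hWX.conj_mem ⟨w, sup_le hUX hP0X hw⟩ hw ⟨g, hg⟩
  -- `O_p(X) = 1`
  have hOpX : Cfsg.pCore s X = ⊥ := by
    haveI := Solvable.pCore_characteristic s X
    let O : Subgroup G := (Cfsg.pCore s X).map X.subtype
    have hOp : IsPGroup s O := (Solvable.pCore_isPGroup s X).map _
    have hOX' : O ≤ X := map_subtype_le _
    have hOn : NU ≤ normalizer (O : Set G) := hNUX.trans (normalizer_le_normalizer_map_of_characteristic X _)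
    let D1 := V ⊓ centralizer (O : Set G)
    have hD1 : D1.Normal := by
      refine hnormal _ (fun v hv => centralizer_le_normalizer _ (mem_centralizer_iff.2 fun d hd => ?_))
        (fun m hm => inf_normalizer_le_normalizer_inf
          ⟨hVNU hm, FixLine.normalizer_le_normalizer_cent O (hOn hm)⟩)
      exact (hVab d hd.1 v hv).eq
    have hD1ne : D1 ≠ ⊥ := by
      have hVO : IsPGroup s ↥(V ⊔ O) :=
        hVp.to_sup_of_normal_left' hOp (by rw [normalizer_eq_top]; exact le_top)
      haveI : (V.subgroupOf (V ⊔ O)).Normal := inferInstance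
      obtain ⟨z, ⟨hzV, hzc⟩, hz1⟩ := Solvable.exists_ne_one_mem_inf_center_of_normal hVO
        (N := V.subgroupOf (V ⊔ O)) (fun h => hVne (by
          have := congrArg (Subgroup.map (V ⊔ O).subtype) h
          rwa [Subgroup.map_bot, subgroupOf_map_subtype, inf_eq_left.2 le_sup_left] at this))
      refine (ne_bot_iff_exists_ne_one).2 ⟨⟨z, hzV, mem_centralizer_iff.2 fun o ho => ?_⟩, fun h => hz1 ?_⟩
      · exact congrArg Subtype.val (mem_center_iff.1 hzc ⟨o, mem_sup_right ho⟩)
      · exact Subtype.ext (congrArg Subtype.val h :)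
    have hD1V : D1 = V := (hVmin D1 hD1 inf_le_left).resolve_left hD1ne
    have : O = ⊥ := eq_bot_iff.2 fun o ho => mem_bot.2 (hfaith o (hOX' ho)
      (mem_centralizer_iff.2 fun v hv => by
        have h1 : v ∈ D1 := hD1V.symm ▸ hv
        exact (mem_centralizer_iff.1 h1.2 o ho).symm))
    exact (map_eq_bot_iff_of_injective _ X.subtype_injective).1 this
  -- `P0` acts faithfully on `U`
  have hPC : P0 ⊓ centralizer (U : Set G) = ⊥ := by
    let C := P0 ⊓ centralizer (U : Set G)
    have hn : (C.subgroupOf X).Normal := ⟨fun c hc g => by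
      rw [mem_subgroupOf] at hc ⊢
      obtain ⟨hcP, hcU⟩ := hc
      set t : G := (g : G) * c * (g : G)⁻¹ with ht
      have htC : t ∈ centralizer (U : Set G) := by
        refine mem_centralizer_iff.2 fun u hu => ?_
        have hgi : (g : G)⁻¹ ∈ normalizer (U : Set G) := inv_mem g.2.2
        have hu' : (g : G)⁻¹ * u * g ∈ U := by
          have := (mem_normalizer_iff.1 hgi u).1 hu
          rwa [inv_inv] at this
        calc u * t = (g : G) * (((g : G)⁻¹ * u * g) * c) * (g : G)⁻¹ := by rw [ht]; group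
          _ = (g : G) * ((c : G) * ((g : G)⁻¹ * u * g)) * (g : G)⁻¹ := by
            rw [mem_centralizer_iff.1 hcU _ hu']
          _ = t * u := by rw [ht]; group
      obtain ⟨u, hu, c', hc', he⟩ := (Solvable.mem_sup_of_le_normalizer hP0U).mp
        (hWconj g g.2 c (mem_sup_right hcP))
      obtain ⟨k, hk⟩ := hP0 ⟨c, hcP⟩
      have hk' : (c : G) ^ s ^ k = 1 := congrArg Subtype.val hk
      have htk : t ^ s ^ k = 1 := by rw [ht, conj_pow, hk', mul_one, mul_inv_cancel]
      have he' : t = u * c' := by rw [ht, ← he]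
      have huc : Commute u c' := by
        have h1 : u * t = t * u := mem_centralizer_iff.1 htC u hu
        rw [he', mul_assoc u c' u] at h1
        exact mul_left_cancel h1
      rw [he', huc.mul_pow] at htk
      have hu1 : u ^ s ^ k = 1 := eq_one_of_coprime_pgroup hcopUP (U.pow_mem hu _)
        (by rw [eq_inv_of_mul_eq_one_left htk]; exact P0.inv_mem (P0.pow_mem hc' _))
      have hu0 : u = 1 := orderOf_eq_one_iff.1 (Nat.eq_one_of_dvd_coprimes
        ((hUcop.coprime_dvd_left (Subgroup.orderOf_dvd_natCard U hu)).pow_right k) dvd_rfl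
        (orderOf_dvd_of_pow_eq_one hu1))
      refine ⟨?_, ?_⟩
      · show ((g * c * g⁻¹ : X) : G) ∈ P0
        push_cast
        rw [← ht, he', hu0, one_mul]; exact hc'
      · show ((g * c * g⁻¹ : X) : G) ∈ centralizer (U : Set G)
        push_cast
        exact htC⟩
    have h1 := Solvable.le_pCore hn ((hP0.to_le inf_le_left).of_equiv (subgroupOfEquivOfLe (inf_le_left.trans hP0X)).symm)
    rw [hOpX, le_bot_iff, subgroupOf_eq_bot] at h1
    exact eq_bot_iff.2 fun c hc => (disjoint_iff.1 h1).le ⟨hc, hP0X hc.1⟩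
  -- `⁅P0, R⁆` centralises small invariant subgroups of `U`
  have hcentral : ∀ Q : Subgroup G, Q ≤ U → P0 ≤ normalizer (Q : Set G) → R ≤ normalizer (Q : Set G) →
      V ⊔ (Q ⊔ P0) ≠ H → ∀ c ∈ ⁅P0, R⁆, ∀ g ∈ Q, Commute c g := by
    intro Q hQU hPQ hRQ hne c hc g hg
    let H1 := V ⊔ (Q ⊔ P0)
    have hH1 : H1 ≤ H := sup_le hVH (sup_le (hQU.trans hUH) (hP0X.trans hXH))
    have hRH1 : R ≤ normalizer (H1 : Set G) :=
      le_trans (le_inf (by rw [normalizer_eq_top]; exact le_top)
        (le_trans (le_inf hRQ hRP) (inf_normalizer_le_normalizer_join _ _))) (inf_normalizer_le_normalizer_join _ _)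
    have hKpl := hsub H1 hH1 hne hRH1
    let Kc : Subgroup G := ⁅H1, R⁆
    have hKH1 : Kc ≤ H1 := Solvable.commutator_le_of_normalizes hRH1
    have hH1K : H1 ≤ normalizer (Kc : Set G) := Solvable.le_normalizer_commutator_left H1 R
    haveI := Solvable.pPrimeCore_characteristic s Kc
    haveI := Solvable.pCore_characteristic s Kc
    have hOK : Cfsg.pPrimeCore s Kc = ⊥ := by
      let N : Subgroup G := (Cfsg.pPrimeCore s Kc).map Kc.subtype
      have hNn : H1 ≤ normalizer (N : Set G) := hH1K.trans (normalizer_le_normalizer_map_of_characteristic Kc _)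
      have hNc : (Nat.card N).Coprime s := by
        rw [Nat.card_congr (equivMapOfInjective _ _ Kc.subtype_injective).symm.toEquiv]
        exact Solvable.pPrimeCore_card_coprime s Kc
      have hcopNV : (Nat.card N).Coprime (Nat.card V) := by
        obtain ⟨k, hk⟩ := hVp.exists_card_eq
        rw [hk]; exact hNc.pow_right k
      have hNV : N ≤ centralizer (V : Set G) := by
        intro m hm
        refine mem_centralizer_iff.2 fun v hv => ?_
        have h1 : v * m * v⁻¹ * m⁻¹ ∈ N :=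
          N.mul_mem ((mem_normalizer_iff.1 (hNn (mem_sup_left hv)) m).1 hm) (N.inv_mem hm)
        have h2 : v * m * v⁻¹ * m⁻¹ ∈ V := by
          rw [mul_assoc v, mul_assoc v]
          exact V.mul_mem hv (hVn.conj_mem _ (V.inv_mem hv) m)
        exact commutatorElement_eq_one_iff_commute.1 (eq_one_of_coprime_pgroup hcopNV h1 h2)
      have : N = ⊥ := eq_bot_iff.2 fun m hm => mem_bot.2 (eq_one_of_coprime_pgroup hcopNV hm
        (hCHV m (hH1 (hKH1 (map_subtype_le _ hm))) (hNV hm)))
      exact (map_eq_bot_iff_of_injective _ Kc.subtype_injective).1 this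
    let O : Subgroup G := (Cfsg.pCore s Kc).map Kc.subtype
    have hOn : H1 ≤ normalizer (O : Set G) := hH1K.trans (normalizer_le_normalizer_map_of_characteristic Kc _)
    have hcK : ⁅P0, R⁆ ≤ Kc := commutator_mono ((le_sup_right (a := Q)).trans le_sup_right) le_rfl
    have hcP : ⁅P0, R⁆ ≤ P0 := Solvable.commutator_le_of_normalizes hRP
    have hcO : c ∈ O := by
      have h1 := le_pCore_of_plength_one hKpl hOK
        ((hP0.to_le hcP).of_equiv (subgroupOfEquivOfLe hcK).symm)
      exact ⟨⟨c, hcK hc⟩, h1 hc, rfl⟩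
    have hgH1 : g ∈ H1 := mem_sup_right (mem_sup_left hg)
    have h1 : c * g * c⁻¹ * g⁻¹ ∈ O := by
      rw [mul_assoc, mul_assoc, ← mul_assoc g]
      exact O.mul_mem hcO ((mem_normalizer_iff.1 (hOn hgH1) _).1 (O.inv_mem hcO))
    have h2 : c * g * c⁻¹ * g⁻¹ ∈ U := hQU
      (Q.mul_mem ((mem_normalizer_iff.1 (hPQ (hcP hc)) g).1 hg) (Q.inv_mem hg))
    have hOc : (Nat.card U).Coprime (Nat.card O) := by
      obtain ⟨k, hk⟩ := ((Solvable.pCore_isPGroup s Kc).map Kc.subtype).exists_card_eq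
      rw [show Nat.card O = s ^ k from hk]
      exact hUcop.pow_right k
    exact commutatorElement_eq_one_iff_commute.1 (eq_one_of_coprime_pgroup hOc h2 h1)
  by_cases hall : ∀ Q : Subgroup G, Q ≤ U → P0 ≤ normalizer (Q : Set G) → R ≤ normalizer (Q : Set G) →
      (∃ q, q.Prime ∧ IsPGroup q Q) → V ⊔ (Q ⊔ P0) ≠ H
  · -- `R` centralises `P0`
    have hA : (Nat.card ↥(P0 ⊔ R)).Coprime (Nat.card U) :=
      Nat.Coprime.coprime_dvd_left (card_sup_dvd_mul_of_le_normalizer hRP)
        (Nat.Coprime.mul_left hcopUP.symm (hcop.coprime_dvd_right (card_dvd_of_le hUH)))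
    have hUC : U ≤ centralizer ((⁅P0, R⁆ : Subgroup G) : Set G) := by
      have hdvd : Nat.card U ∣ Nat.card ↥(U ⊓ centralizer ((⁅P0, R⁆ : Subgroup G) : Set G)) := by
        rw [Nat.dvd_iff_prime_pow_dvd_dvd]
        intro q k hq hd
        haveI := Fact.mk hq
        obtain ⟨Pq, hAQ⟩ := Solvable.exists_invariant_sylow (A := P0 ⊔ R) (K := U) (sup_le hP0U hRU) hA
          (Or.inr inferInstance) q
        refine (Pq.pow_dvd_card_of_pow_dvd_card hd).trans ?_
        rw [Nat.card_congr (equivMapOfInjective _ U.subtype U.subtype_injective).toEquiv]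
        refine card_dvd_of_le (le_inf (map_subtype_le _) fun g hg => mem_centralizer_iff.2 fun c hc => ?_)
        exact (hcentral _ (map_subtype_le _) (le_sup_left.trans hAQ) (le_sup_right.trans hAQ)
          (hall _ (map_subtype_le _) (le_sup_left.trans hAQ) (le_sup_right.trans hAQ)
            ⟨q, hq, Pq.isPGroup'.map _⟩) c hc g hg).eq
      have := eq_of_le_of_card_ge (inf_le_left (b := centralizer ((⁅P0, R⁆ : Subgroup G) : Set G)) (a := U))
        (Nat.le_of_dvd Nat.card_pos hdvd)
      exact inf_eq_left.1 this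
    have hRc : ∀ ρ ∈ R, ∀ y ∈ P0, ρ * y * ρ⁻¹ = y := by
      intro ρ hρ y hy
      have h1 : ⁅y, ρ⁆ ∈ P0 ⊓ centralizer (U : Set G) := by
        have hm := commutator_mem_commutator hy hρ
        exact ⟨Solvable.commutator_le_of_normalizes hRP hm, mem_centralizer_iff.2 fun u hu =>
          (mem_centralizer_iff.1 (hUC hu) _ hm).symm⟩
      rw [hPC, mem_bot, commutatorElement_eq_one_iff_commute] at h1
      rw [← h1.eq, mul_inv_cancel_right]
    have hRUn : R ≤ normalizer (U : Set G) := hRU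
    let Kf : Subgroup G :=
      { carrier := {c | c ∈ X ∧ ∀ y ∈ P0, c * y * c⁻¹ * y⁻¹ ∈ U}
        one_mem' := ⟨X.one_mem, fun y _ => by simp⟩
        mul_mem' := fun {a b} ha hb => ⟨X.mul_mem ha.1 hb.1, fun y hy => by
          rw [show a * b * y * (a * b)⁻¹ * y⁻¹ = a * (b * y * b⁻¹ * y⁻¹) * a⁻¹ * (a * y * a⁻¹ * y⁻¹) by group]
          exact U.mul_mem ((mem_normalizer_iff.1 ha.1.2 _).1 (hb.2 y hy)) (ha.2 y hy)⟩
        inv_mem' := fun {a} ha => ⟨X.inv_mem ha.1, fun y hy => by
          rw [show a⁻¹ * y * a⁻¹⁻¹ * y⁻¹ = a⁻¹ * (a * y * a⁻¹ * y⁻¹)⁻¹ * a⁻¹⁻¹ by group]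
          exact (mem_normalizer_iff.1 (inv_mem ha.1.2) _).1 (U.inv_mem (ha.2 y hy))⟩ }
    have hXK : ⁅X, R⁆ ≤ Kf := by
      rw [commutator_le]
      intro z hz ρ hρ
      have hzm : ⁅z, ρ⁆ ∈ X := Solvable.commutator_le_of_normalizes hRX (commutator_mem_commutator hz hρ)
      refine ⟨hzm, fun y hy => ?_⟩
      obtain ⟨u, hu, y', hy', he⟩ := (Solvable.mem_sup_of_le_normalizer hP0U).mp
        (hWconj z⁻¹ (X.inv_mem hz) y (mem_sup_right hy))
      have hy0 : ρ⁻¹ * y * ρ = y := by
        have := hRc ρ⁻¹ (R.inv_mem hρ) y hy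
        rwa [inv_inv] at this
      rw [inv_inv] at he
      have hcalc : ⁅z, ρ⁆ * y * ⁅z, ρ⁆⁻¹ * y⁻¹ = z * (ρ * u * ρ⁻¹ * u⁻¹) * z⁻¹ := by
        calc ⁅z, ρ⁆ * y * ⁅z, ρ⁆⁻¹ * y⁻¹
            = z * (ρ * (z⁻¹ * (ρ⁻¹ * y * ρ) * z) * ρ⁻¹) * z⁻¹ * y⁻¹ := by
              rw [commutatorElement_def]; group
          _ = z * ((ρ * u * ρ⁻¹) * (ρ * y' * ρ⁻¹)) * z⁻¹ * y⁻¹ := by rw [hy0, ← he]; group
          _ = z * (ρ * u * ρ⁻¹ * u⁻¹) * z⁻¹ * (z * (u * y') * z⁻¹ * y⁻¹) := by
              rw [hRc ρ hρ y' hy']; group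
          _ = z * (ρ * u * ρ⁻¹ * u⁻¹) * z⁻¹ := by rw [he]; group
      rw [hcalc]
      exact (mem_normalizer_iff.1 hz.2 _).1
        (U.mul_mem ((mem_normalizer_iff.1 (hRU hρ) u).1 hu) (U.inv_mem hu))
    rw [hXR] at hXK
    -- a complement of the central Sylow subgroup of `X / U`
    let Pb := (P.mapSurjective (QuotientGroup.mk'_surjective (U.subgroupOf X)) : Sylow s (X ⧸ U.subgroupOf X))
    have hPbc : (Pb : Subgroup (X ⧸ U.subgroupOf X)) ≤ center _ := by
      rw [Sylow.coe_mapSurjective]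
      rintro _ ⟨y, hy, rfl⟩
      refine mem_center_iff.2 fun g => ?_
      induction g using QuotientGroup.induction_on with
      | _ g =>
        show QuotientGroup.mk' (U.subgroupOf X) g * _ = _ * QuotientGroup.mk' (U.subgroupOf X) g
        rw [← map_mul, ← map_mul, QuotientGroup.mk'_eq_mk']
        refine ⟨(g * y)⁻¹ * (y * g), ?_, by rw [mul_inv_cancel_left]⟩
        rw [mem_subgroupOf]
        have h1 := (hXK g.2).2 (y : G) ⟨y, hy, rfl⟩
        have h2 : ((g : G) * y * (g : G)⁻¹ * (y : G)⁻¹)⁻¹ ∈ U := U.inv_mem h1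
        have h3 := (mem_normalizer_iff.1 (inv_mem ((g * y : X)).2.2) _).1 h2
        push_cast
        simpa [mul_assoc] using h3
    haveI : (Pb : Subgroup (X ⧸ U.subgroupOf X)).Normal := ⟨fun a ha g => by
      rw [mem_center_iff.1 (hPbc ha) g, mul_inv_cancel_right]; exact ha⟩
    obtain ⟨B, hB⟩ := exists_right_complement'_of_coprime Pb.card_coprime_index
    haveI hBn : B.Normal := by
      rw [← normalizer_eq_top_iff, eq_top_iff, ← hB.sup_eq_top]
      exact sup_le (hPbc.trans (center_le_normalizer _)) le_normalizer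
    have hBc : (Nat.card B).Coprime s := by
      have h1 := hB.symm.index_eq_card
      rw [← h1]
      exact ((hp.out.coprime_iff_not_dvd).2 Pb.not_dvd_index).symm
    have hBbot : B = ⊥ := le_bot_iff.1
      ((Solvable.le_pPrimeCore hBn hBc).trans (Solvable.pPrimeCore_quotient_eq_bot _ hOX.symm).le)
    have htop : (Pb : Subgroup (X ⧸ U.subgroupOf X)) = ⊤ := by
      have := hB.sup_eq_top
      rwa [hBbot, sup_bot_eq] at this
    have hXW : X ≤ U ⊔ P0 := by
      intro z hz
      have h1 : QuotientGroup.mk' (U.subgroupOf X) ⟨z, hz⟩ ∈ (Pb : Subgroup _) := htop ▸ mem_top _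
      rw [Sylow.coe_mapSurjective, ← Subgroup.mem_comap, comap_map_eq, QuotientGroup.ker_mk'] at h1
      have h2 : (P : Subgroup X) ⊔ U.subgroupOf X ≤ (U ⊔ P0).subgroupOf X :=
        sup_le (fun w hw => mem_sup_right (⟨w, hw, rfl⟩ : (w : G) ∈ P0)) (fun w hw => mem_sup_left hw)
      exact h2 h1
    have hXU : X ≤ U := by
      rw [← hXR, commutator_le]
      intro z hz ρ hρ
      obtain ⟨u, hu, y, hy, rfl⟩ := (Solvable.mem_sup_of_le_normalizer hP0U).mp (hXW hz)
      have hyρ : Commute y ρ := by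
        show y * ρ = ρ * y
        conv_lhs => rw [← hRc ρ hρ y hy]
        group
      have h1 : ⁅u * y, ρ⁆ = ⁅u, ρ⁆ := by
        rw [show ⁅u * y, ρ⁆ = u * ⁅y, ρ⁆ * u⁻¹ * ⁅u, ρ⁆ by simp [commutatorElement_def]; group,
          commutatorElement_eq_one_iff_commute.2 hyρ, mul_one, mul_inv_cancel, one_mul]
      rw [h1, commutatorElement_def, mul_assoc u, mul_assoc u]
      exact U.mul_mem hu ((mem_normalizer_iff.1 (hRU hρ) _).1 (U.inv_mem hu))
    exact hP0ne (eq_bot_iff.2 fun y hy => mem_bot.2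
      (eq_one_of_coprime_pgroup hcopUP (hXU (hP0X hy)) hy))
  push Not at hall
  obtain ⟨Q, hQU, hPQ, hRQ, ⟨q, hq, hQq⟩, hQH⟩ := hall
  haveI := Fact.mk hq
  -- `U = Q` and `X = U P0`
  have hXUP : ∀ y ∈ X, y ∈ Q ⊔ P0 := by
    intro y hy
    obtain ⟨v, hv, w, hw, rfl⟩ := mem_sup_of_normal_left.1 (hQH.ge (hXH hy))
    have hvX : v ∈ V ⊓ X := ⟨hv, by
      have := X.mul_mem hy (X.inv_mem (sup_le (hQU.trans hUX) hP0X hw))
      rwa [mul_inv_cancel_right] at this⟩
    rw [hVX, mem_bot] at hvX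
    rwa [hvX, one_mul]
  have hUQ : U = Q := by
    refine le_antisymm (fun u hu => ?_) hQU
    obtain ⟨g, hg, y, hy, rfl⟩ := (Solvable.mem_sup_of_le_normalizer hPQ).mp (hXUP u (hUX hu))
    have hyU : y ∈ U := by
      have := U.mul_mem (U.inv_mem (hQU hg)) hu
      rwa [inv_mul_cancel_left] at this
    rw [eq_one_of_coprime_pgroup hcopUP hyU hy, mul_one]; exact hg
  subst hUQ
  have hsq : s ≠ q := by
    intro h
    subst h
    obtain ⟨k, hk⟩ := hQq.exists_card_eq
    have h1 := hUcop
    rw [hk] at h1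
    refine hUne (card_eq_one.1 ?_)
    rcases k.eq_zero_or_pos with h0 | h0
    · rw [hk, h0, pow_zero]
    · exact absurd ((Nat.coprime_pow_left_iff h0 _ _).1 h1) (by simp [hp.out.ne_one])
  have hP0R : ⁅P0, R⁆ = P0 := by
    have hcP : ⁅P0, R⁆ ≤ P0 := Solvable.commutator_le_of_normalizes hRP
    refine le_antisymm hcP fun y hy => ?_
    have hUn : U ⊔ ⁅P0, R⁆ ≤ normalizer (U : Set G) := sup_le le_normalizer (hcP.trans hP0U)
    have hle : ⁅X, R⁆ ≤ U ⊔ ⁅P0, R⁆ := by
      rw [commutator_le]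
      intro z hz ρ hρ
      obtain ⟨g, hg, w, hw, rfl⟩ := (Solvable.mem_sup_of_le_normalizer hP0U).mp (hXUP z hz)
      rw [show ⁅g * w, ρ⁆ = g * ⁅w, ρ⁆ * g⁻¹ * ⁅g, ρ⁆ by simp [commutatorElement_def]; group]
      refine mul_mem (mul_mem (mul_mem (mem_sup_left hg) (mem_sup_right (commutator_mem_commutator hw hρ)))
        (inv_mem (mem_sup_left hg))) (mem_sup_left ?_)
      rw [commutatorElement_def, mul_assoc g, mul_assoc g]
      exact U.mul_mem hg ((mem_normalizer_iff.1 (hRU hρ) _).1 (U.inv_mem hg))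
    rw [hXR] at hle
    obtain ⟨g, hg, c, hc, he⟩ := (Solvable.mem_sup_of_le_normalizer (hcP.trans hP0U)).mp (hle (hP0X hy))
    have hgP : g ∈ P0 := by
      have := P0.mul_mem hy (P0.inv_mem (hcP hc))
      rwa [← he, mul_inv_cancel_right] at this
    rw [← he, eq_one_of_coprime_pgroup hcopUP hg hgP, one_mul]; exact hc
  have hmin : ∀ Q1 : Subgroup G, Q1 ≤ U → Q1 ≠ U → P0 ≤ normalizer (Q1 : Set G) →
      R ≤ normalizer (Q1 : Set G) → ∀ y ∈ P0, ∀ g ∈ Q1, Commute y g := by
    intro Q1 h1 h2 h3 h4 y hy g hg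
    refine hcentral Q1 h1 h3 h4 (fun he => h2 (le_antisymm h1 fun u hu => ?_)) y (hP0R.symm ▸ hy) g hg
    obtain ⟨v, hv, w, hw, hvw⟩ := mem_sup_of_normal_left.1 (he.ge (hUH hu))
    have hvX : v ∈ V ⊓ X := ⟨hv, by
      have := X.mul_mem (hUX hu) (X.inv_mem (sup_le (h1.trans hUX) hP0X hw))
      rwa [← hvw, mul_inv_cancel_right] at this⟩
    rw [hVX, mem_bot] at hvX
    rw [hvX, one_mul] at hvw
    obtain ⟨g', hg', c, hc, hgc⟩ := (Solvable.mem_sup_of_le_normalizer h3).mp hw
    have hcU : c ∈ U := by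
      have := U.mul_mem (U.inv_mem (h1 hg')) hu
      rwa [← hvw, ← hgc, inv_mul_cancel_left] at this
    rw [← hvw, ← hgc, eq_one_of_coprime_pgroup hcopUP hcU hc, mul_one]
    exact hg'
  have hVfix : Nat.card ↥(V ⊓ centralizer ({x} : Set G)) ≤ s := by
    haveI := isCyclic_of_le_isZGroup (inf_le_inf_right _ hVH : V ⊓ centralizer ({x} : Set G) ≤ _) hZ
      (hVp.to_le (inf_le_left : V ⊓ centralizer ({x} : Set G) ≤ V))
    rw [← IsCyclic.exponent_eq_card]
    exact Nat.le_of_dvd hp.out.pos (Monoid.exponent_dvd_of_forall_pow_eq_one fun g =>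
      Subtype.ext (by simpa using hVexp _ g.2.1))
  have hrne : ∀ t, t.Prime → t ∣ Nat.card H → t ≠ orderOf x := by
    intro t ht hd he
    exact ht.one_lt.ne' (Nat.eq_one_of_dvd_coprimes hcop (he ▸ Subgroup.orderOf_dvd_natCard R hxR) hd)
  have hqd : q ∣ Nat.card H := by
    obtain ⟨k, hk⟩ := hQq.exists_card_eq
    have hk0 : k ≠ 0 := fun h0 => hUne (card_eq_one.1 (by rw [hk, h0, pow_zero]))
    exact ((dvd_pow_self q hk0).trans (hk ▸ dvd_rfl)).trans (card_dvd_of_le hUH)
  exact FixLine.core_false hodd V U P0 R hVab hVexp hVne hVfix hQq hP0 hsq hxR hr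
    (hrne s hp.out (hpX.trans (card_dvd_of_le hXH))) (hrne q hq hqd) hP0U hRU hRP
    (fun g hg h => hfaith g (hUX hg) h)
    (fun S hSU hSx => isCyclic_of_le_isZGroup (le_inf (hSU.trans hUH) fun g hg =>
        mem_centralizer_singleton_iff.2 (hSx g hg).symm.eq : S ≤ H ⊓ centralizer ({x} : Set G)) hZ
      (hQq.to_le hSU))
    hP0R hP0ne hPC hmin

/-- BG 3.6. -/
theorem mainStatement_all (p : ℕ) [Fact p.Prime] : ∀ n, MainStatement.{u} p n := by
  intro n
  induction n with
  | zero => intro G _ _ _ _ H R x _ _ _ _ _ h; exact absurd h (Nat.not_lt_zero _)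
  | succ n ih =>
    intro G _ _ _ hodd H R x hRH hcop hxR hr hZ hn
    have hle : ⁅H, R⁆ ≤ H := Solvable.commutator_le_of_normalizes hRH
    by_cases hH1 : ⁅H, R⁆ = H
    · let G2 : Subgroup G := H ⊔ R
      have hHG : H ≤ G2 := le_sup_left
      have hRG : R ≤ G2 := le_sup_right
      haveI : (H.subgroupOf G2).Normal := normal_subgroupOf_of_le_normalizer (sup_le le_normalizer hRH)
      haveI : Group.IsSolvable G2 := inferInstance
      have hc : ⁅H.subgroupOf G2, R.subgroupOf G2⁆ = H.subgroupOf G2 := by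
        refine map_injective G2.subtype_injective ?_
        rw [map_commutator, subgroupOf_map_subtype, subgroupOf_map_subtype, inf_eq_left.2 hHG,
          inf_eq_left.2 hRG, hH1]
      have hZ' : IsZGroup ↥(H.subgroupOf G2 ⊓ centralizer ({⟨x, hRG hxR⟩} : Set G2)) := by
        haveI := hZ
        refine IsZGroup.of_injective (f := MonoidHom.mk'
          (fun g => (⟨((g : G2) : G), g.2.1, ?_⟩ : ↥(H ⊓ centralizer ({x} : Set G)))) fun a b => rfl) ?_
        · exact mem_centralizer_singleton_iff.2 (congrArg Subtype.val (mem_centralizer_singleton_iff.1 g.2.2))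
        · intro a b hab
          exact Subtype.ext (Subtype.ext (congrArg Subtype.val hab :))
      have h2 := pLengthLE_step ih G2 (hodd.of_dvd_nat G2.card_subgroup_dvd_card) (H.subgroupOf G2)
        (R.subgroupOf G2) ⟨x, hRG hxR⟩
        (by rw [← subgroupOf_sup hHG hRG]; exact subgroupOf_self G2) hc
        (by rw [Nat.card_congr (subgroupOfEquivOfLe hHG).toEquiv,
          Nat.card_congr (subgroupOfEquivOfLe hRG).toEquiv]; exact hcop)
        hxR (by rw [orderOf_mk]; exact hr) hZ'
        (by rw [Nat.card_congr (subgroupOfEquivOfLe hHG).toEquiv]; omega)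
      rw [hH1]
      exact PLengthHH.pLengthLE_of_surjective (f := (subgroupOfEquivOfLe hHG).toMonoidHom)
        (subgroupOfEquivOfLe hHG).surjective h2
    · have hlt : Nat.card ↥⁅H, R⁆ < Nat.card H := lt_of_le_of_ne
        (Nat.le_of_dvd Nat.card_pos (card_dvd_of_le hle)) fun he => hH1 (eq_of_le_of_card_ge hle he.ge)
      have h2 := ih G hodd ⁅H, R⁆ R x (Solvable.le_normalizer_commutator_right H R)
        (hcop.coprime_dvd_right (card_dvd_of_le hle)) hxR hr
        (isZGroup_of_le (inf_le_inf_right _ hle) hZ) (by omega)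
      rwa [Solvable.commutator_commutator_eq hRH hcop (Or.inl inferInstance)] at h2

theorem pLengthLE_commutator {G : Type u} [Group G] [Finite G] [Group.IsSolvable G]
    (hodd : Odd (Nat.card G)) (H R : Subgroup G) (x : G) (hRH : R ≤ normalizer (H : Set G))
    (hcop : (Nat.card R).Coprime (Nat.card H)) (hxR : x ∈ R) (hr : (orderOf x).Prime)
    (hZ : IsZGroup ↥(H ⊓ centralizer ({x} : Set G))) (p : ℕ) [Fact p.Prime] :
    Cfsg.PLengthLE p 1 ↥⁅H, R⁆ :=
  mainStatement_all p (Nat.card H + 1) G hodd H R x hRH hcop hxR hr hZ (Nat.lt_succ_self _)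

end CfsgLib.OddOrder
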