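import Cfsg.Agent.Lib.OddOrder.SemiPrimeIdeal
import Cfsg.Agent.Lib.OddOrder.RankTwoAction

/-!
BG 13.4 in a general form: the centraliser in `M_σ` of a subgroup `P` of order `p ∉ σ(M)`, `p ∤ |M'|`,
lies in that of every commuting subgroup of prime order outside `σ(M)`.
-/

set_option autoImplicit false
set_option linter.style.haveILetI false

open scoped commutatorElement Pointwise

namespace CfsgLib.OddOrder

open Subgroup

variable {G : Type*} [Group G] [Finite G] (hG : Cfsg.IsMinSimpleOddOrder G) {M : Subgroup G}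
  (hM : IsCoatom M)
include hG hM

/-- The derived group of the normaliser of an abelian Sylow subgroup `Q` of rank at most two
centralises it. -/
theorem commutator_normalizer_le_centralizer {q : ℕ} [hq : Fact q.Prime] {Q : Subgroup G}
    [IsMulCommutative Q] (hQ : IsMaxPIn q ⊤ Q) (hQ1 : Q ≠ ⊥) (hq2 : q ≠ 2)
    (hr : Cfsg.PRankLE q 2 M) (hQM : Q ≤ M) :
    ⁅normalizer (Q : Set G), normalizer (Q : Set G)⁆ ≤ centralizer (Q : Set G) := by
  set N := normalizer (Q : Set G) with hN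
  have hQN : Q ≤ N := le_normalizer
  have hNt : N ≠ ⊤ := normalizer_ne_top hG hQ1 (isPGroup_ne_top hG hQ.pgroup)
  haveI : Group.IsSolvable N := isSolvable_of_ne_top hG hNt
  haveI : (Q.subgroupOf N).Normal := normal_subgroupOf_of_le_normalizer le_rfl
  intro g hg
  refine CN.mem_of_pElem_pow fun s m hs hgs => ?_
  haveI := Fact.mk hs
  have hgN : g ^ m ∈ N := pow_mem (commutator_le_self N hg) m
  have hgp : IsPGroup s (zpowers (g ^ m)) := by
    obtain ⟨k, hk⟩ := hgs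
    obtain ⟨i, -, hi⟩ := (Nat.dvd_prime_pow hs).1 (orderOf_dvd_of_pow_eq_one hk)
    exact IsPGroup.of_card (n := i) (by rw [Nat.card_zpowers, hi])
  by_cases hsq : s = q
  · subst hsq
    have h1 := hQ.max (zpowers (g ^ m) ⊔ Q) (hgp.to_sup_of_normal_right' hQ.pgroup
      (zpowers_le.2 hgN)) le_sup_right le_top
    exact le_centralizer_iff_isMulCommutative.2 inferInstance
      (h1.le (mem_sup_left (mem_zpowers _)))
  · refine mem_centralizer_of_subgroupOf hQN (a := ⟨g ^ m, hgN⟩)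
      (mem_centralizer_of_mem_commutator (odd_card_subgroup hG N) hq2
        (hQ.pgroup.of_equiv (subgroupOfEquivOfLe hQN).symm)
        (pRankLE_subgroupOf hQN (TwoFusion.PRank.pRankLE_mono hQM hr)) ?_ ?_)
    · rw [← map_subtype_commutator] at hg
      obtain ⟨d, hd, hdg⟩ := hg
      have e : (⟨g ^ m, hgN⟩ : N) = d ^ m := Subtype.ext (by
        rw [SubgroupClass.coe_pow]; exact congrArg (· ^ m) hdg.symm)
      rw [e]
      exact pow_mem hd m
    · rw [Subgroup.orderOf_mk]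
      exact Nat.coprime_of_dvd fun t ht h1 h2 => hsq
        ((hgs.orderOf_dvd ht h1).symm.trans ((Nat.prime_dvd_prime_iff_eq ht hq.out).1 h2))

/-- The elements of `M_σ` normalising an abelian Sylow `q`-subgroup centralise it, `q ∉ β(M)`. -/
theorem sigma_normalizer_le_centralizer {q : ℕ} [hq : Fact q.Prime] (hqσ : q ∈ Cfsg.sigma M)
    (hqβ : q ∉ Cfsg.beta M) {Q : Subgroup G} [IsMulCommutative Q] (hQ : IsMaxPIn q ⊤ Q)
    (hQM : Q ≤ M) :
    Cfsg.sigmaCore M ⊓ normalizer (Q : Set G) ≤ centralizer (Q : Set G) := by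
  obtain ⟨N, hN⟩ := NPC.hasNormalPComplement_iff.1
    ((Cfsg.Agent.S1414.result hG M hM).2.2.2.2 q hq.out hqσ.2.1 hqβ).2.1
  have hQσ : Q ≤ Cfsg.sigmaCore M := le_sigmaCore_of_pgroup hG hM hqσ hQ.pgroup hQM
  rintro g ⟨hgσ, hgN⟩
  refine CN.mem_of_pElem_pow fun s m hs hgs => ?_
  haveI := Fact.mk hs
  set u := g ^ m
  have huN : u ∈ normalizer (Q : Set G) := pow_mem hgN m
  have huσ : u ∈ Cfsg.sigmaCore M := pow_mem hgσ m
  by_cases hsq : s = q
  · subst hsq
    have hup : IsPGroup s (zpowers u) := by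
      obtain ⟨k, hk⟩ := hgs
      obtain ⟨i, -, hi⟩ := (Nat.dvd_prime_pow hs).1 (orderOf_dvd_of_pow_eq_one hk)
      exact IsPGroup.of_card (n := i) (by rw [Nat.card_zpowers, hi])
    have h1 := hQ.max (zpowers u ⊔ Q) (hup.to_sup_of_normal_right' hQ.pgroup
      (zpowers_le.2 huN)) le_sup_right le_top
    exact le_centralizer_iff_isMulCommutative.2 inferInstance
      (h1.le (mem_sup_left (mem_zpowers _)))
  · intro x hx
    haveI := hN.1
    set u' : Cfsg.sigmaCore M := ⟨u, huσ⟩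
    set x' : Cfsg.sigmaCore M := ⟨x, hQσ hx⟩
    have h1 : u' ∈ N := by
      refine (NPC.mem_iff_coprime hN).2 ?_
      rw [Subgroup.orderOf_mk]
      exact Nat.coprime_of_dvd fun t ht h1 h2 => hsq
        ((hgs.orderOf_dvd ht h1).symm.trans ((Nat.prime_dvd_prime_iff_eq ht hq.out).1 h2))
    have h2 : ⁅u', x'⁆ ∈ N := by
      rw [commutatorElement_def, mul_assoc u', mul_assoc u']
      exact N.mul_mem h1 (by simpa [mul_assoc] using hN.1.conj_mem _ (N.inv_mem h1) x')
    have h3 : ⁅u, x⁆ ∈ Q := by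
      rw [commutatorElement_def]
      exact Q.mul_mem ((mem_normalizer_iff.1 huN x).1 hx) (Q.inv_mem hx)
    have h4 : orderOf ⁅u', x'⁆ = 1 := by
      obtain ⟨k, hk⟩ := hQ.pgroup.exists_card_eq
      refine Nat.eq_one_of_dvd_coprimes ((hN.2.1).pow_right k)
        (Subgroup.orderOf_dvd_natCard _ h2) ?_
      rw [← hk, ← Subgroup.orderOf_coe]
      exact Subgroup.orderOf_dvd_natCard _ h3
    have h5 : ⁅u, x⁆ = 1 := congrArg Subtype.val (orderOf_eq_one_iff.1 h4)
    exact (commutatorElement_eq_one_iff_mul_comm.1 h5).symm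

/-- BG 13.4. -/
theorem centralizer_le_of_commute {p r : ℕ} [hp : Fact p.Prime] [hr' : Fact r.Prime]
    (hpσ : p ∉ Cfsg.sigma M) (hr : Cfsg.PRankLE p 1 M) (hpM' : ¬ p ∣ Nat.card ↥⁅M, M⁆)
    {P : Subgroup G} (hP : Nat.card P = p) (hPM : P ≤ M) {R : Subgroup G} (hR : Nat.card R = r)
    (hRM : R ≤ M) (hRP : R ≤ centralizer (P : Set G)) (hrσ : r ∉ Cfsg.sigma M) :
    Cfsg.sigmaCore M ⊓ centralizer (P : Set G) ≤
      Cfsg.sigmaCore M ⊓ centralizer (R : Set G) := by
  refine le_inf inf_le_left ?_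
  by_contra hne
  by_cases hrp : r = p
  · subst hrp
    have hRP' : R = P := eq_of_le_of_card_ge (fun y hy =>
      mem_of_rank_one hr hP hPM (hRM hy) (hRP hy) (orderOf_dvd_iff_pow_eq_one.1
        ((orderOf_dvd_card_of_mem hy).trans (dvd_of_eq hR)))) (by rw [hP, hR])
    exact hne (hRP' ▸ inf_le_right)
  set C := Cfsg.sigmaCore M ⊓ centralizer (P : Set G) with hC
  have hRσ : R ≤ normalizer (Cfsg.sigmaCore M : Set G) := hRM.trans (le_normalizer_piCoreOf _ _)
  have hcop : (Nat.card R).Coprime (Nat.card (Cfsg.sigmaCore M)) := by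
    rw [hR]
    exact hr'.out.coprime_iff_not_dvd.2 fun hd => hrσ (sigma_of_dvd_sigmaCore hr'.out hd)
  have hRC : R ≤ normalizer (C : Set G) :=
    (le_inf hRσ (hRP.trans le_normalizer)).trans fun x hx => inf_normalizer_le_normalizer_inf hx
  haveI := sigmaCore_isSolvable hG hM
  obtain ⟨q, hq, Y, hY, hY1, hYC, -, hYR⟩ := exists_moved_pgroup hRC
    (hcop.coprime_dvd_right (card_dvd_of_le inf_le_left))
    (Group.isSolvable_of_isSolvable_injective (Subgroup.inclusion_injective inf_le_left)) hne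
  haveI := Fact.mk hq
  obtain ⟨⟨v, hvR⟩, hv⟩ := exists_prime_orderOf_dvd_card' (G := R) r (hR ▸ dvd_rfl)
  rw [orderOf_mk] at hv
  have hzv : zpowers v = R := eq_of_le_of_card_ge (zpowers_le.2 hvR)
    (by rw [Nat.card_zpowers, hv, hR])
  have hqσ : q ∈ Cfsg.sigma M := sigma_of_dvd_sigmaCore hq
    ((dvd_card_of_isPGroup hY hY1).trans (card_dvd_of_le (hYC.trans inf_le_left)))
  have hrq : r ≠ q := fun h => hrσ (h ▸ hqσ)
  have hYv : ⁅Y, zpowers v⁆ = Y := by rw [hzv]; exact hYR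
  have hid := ideal_of_pair hG hM hpσ hr hpM' hP hPM hY hY1 hYC (hRP hvR) hYv
  obtain ⟨H, hH, hNP⟩ := exists_isCoatom_ge (normalizer_ne_top hG (ne_bot_of_prime_card hP)
    (isPGroup_ne_top hG (isPGroup_of_prime_card hP)))
  obtain ⟨hHM, hconj, hconj'⟩ := overgroup_normalizer hG hM hpσ hr hP hNP
  obtain ⟨hqH, -, hmax⟩ := ideal_pair hG hM hpσ hr hP hPM hid hH hNP hY hY1 hYC (hRM hvR)
    (hRP hvR) hv hrq hYv
  have hnn : ¬ Group.IsNilpotent (Cfsg.sigmaCore M) := fun h =>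
    sigma_disjoint_of_nilpotent hG hM hH hconj' h hqσ hqH
  have hrank : ∀ s : ℕ, s.Prime → s ∉ Cfsg.sigma M → Cfsg.PRankLE s 1 M := by
    intro s hs hsσ
    haveI := Fact.mk hs
    by_contra h
    obtain ⟨A, hAM, hA, hA2⟩ := exists_elementary_two h
    exact hnn (tau2_facts hG hM (mem_tau2_of_elementary hG hM hsσ hAM hA hA2) hAM hA hA2).1
  have hqα : q ∉ Cfsg.alpha M := fun h => not_mem_sigma_of_alpha hG hM hH hconj' h hqH
  have hq2 : q ≠ 2 := prime_ne_two_of_dvd_card hG hqσ.2.1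
  have hCH : centralizer (P : Set G) ≤ H := (centralizer_le_normalizer _).trans hNP
  have hYH : Y ≤ H := (hYC.trans inf_le_right).trans hCH
  set K := Cfsg.sigmaCore M ⊓ H with hK
  have hRK : R ≤ normalizer (K : Set G) :=
    (le_inf hRσ ((hRP.trans hCH).trans le_normalizer)).trans
      fun x hx => inf_normalizer_le_normalizer_inf hx
  obtain ⟨Q₀, hYQ, hQR⟩ := Solvable.exists_invariant_sylow_ge hRK
    (hcop.coprime_dvd_right (card_dvd_of_le inf_le_left))
    (Or.inr (Group.isSolvable_of_isSolvable_injective (Subgroup.inclusion_injective inf_le_left)))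
    q (le_inf (hYC.trans inf_le_left) hYH) hY (by
      rw [← hYR]; exact Solvable.le_normalizer_commutator_right Y R)
  set Q := (Q₀ : Subgroup K).map K.subtype with hQ
  have hQK : Q ≤ K := map_subtype_le _
  have hQmax : IsMaxPIn q (M ⊓ H) Q :=
    ⟨hQK.trans (inf_le_inf_right _ (piCoreOf_le _ _)), Q₀.2.map _, fun T hT hle hTMH =>
      (isMaxPIn_of_sylow Q₀).max T hT hle
        (le_inf (le_sigmaCore_of_pgroup hG hM hqσ hT (hTMH.trans inf_le_left))
          (hTMH.trans inf_le_right))⟩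
  obtain ⟨hQtop, hQP⟩ := hmax Q hQmax hYQ
  have hQσ : Q ≤ Cfsg.sigmaCore M := hQK.trans inf_le_left
  have hQM : Q ≤ M := hQσ.trans (piCoreOf_le _ _)
  haveI hQa : IsMulCommutative Q := by
    by_contra h
    exact hHM (ExistsUnique.unique (nonabelian_inUniqueMaximal hG hQmax.pgroup h)
      ⟨hH, hQmax.le.trans inf_le_right⟩ ⟨hM, hQM⟩)
  set Z := ⁅Q, R⁆ with hZ
  have hZQ : Z ≤ Q := Solvable.commutator_le_of_normalizes hQR
  have hYZ : Y ≤ Z := hYR.ge.trans (commutator_mono hYQ le_rfl)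
  have hZ1 : Z ≠ ⊥ := fun h => hY1 (le_bot_iff.1 (h ▸ hYZ))
  have hcopQ := hcop.coprime_dvd_right (card_dvd_of_le hQσ)
  have hQs : Group.IsSolvable Q :=
    Group.isSolvable_of_comm fun a b => Subtype.ext (setLike_mul_comm a.2 b.2)
  have hZR : ⁅Z, zpowers v⁆ = Z := by
    rw [hzv]; exact Solvable.commutator_commutator_eq hQR hcopQ (Or.inr hQs)
  obtain ⟨-, ⟨S, hS, hSc, hSZ⟩, -⟩ := ideal_pair hG hM hpσ hr hP hPM hid hH hNP
    (hQmax.pgroup.to_le hZQ) hZ1 (hZQ.trans (le_inf hQσ hQP)) (hRM hvR) (hRP hvR) hv hrq hZR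
  set N := normalizer (Q : Set G) with hN
  have hNM : N ≤ M := normalizer_le_of_sigma hqσ (hQtop.of_le le_top hQM)
  set T := Q ⊓ centralizer (R : Set G) with hT
  have hT1 : T ≠ ⊥ := by
    intro h
    have h1 := Solvable.commutator_sup_centralizer hQR hcopQ (Or.inr hQs)
    rw [← hT, h, sup_bot_eq] at h1
    have hSM : S ≤ M := by
      refine (hSZ.trans ?_).trans hNM
      rw [show Z = Q from h1]
      exact centralizer_le_normalizer _
    exact not_pRankLE_one_of_not_isCyclic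
      (prime_ne_two_of_dvd_card hG (dvd_of_eq hP.symm)) hS hSc (TwoFusion.PRank.pRankLE_mono hSM hr)
  have hQR' : ¬ R ≤ centralizer (Q : Set G) := fun h =>
    hZ1 (commutator_eq_bot_iff_le_centralizer.2 (le_centralizer_iff.1 h))
  have hq2r : Cfsg.PRankLE q 2 M := by
    by_contra h
    exact hqα ⟨hq, h⟩
  have hQ1 : Q ≠ ⊥ := fun h => hY1 (le_bot_iff.1 (h ▸ hYQ))
  have hcom := commutator_normalizer_le_centralizer hG hM hQtop hQ1 hq2 hq2r hQM
  set D := N ⊓ centralizer (Q : Set G) with hD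
  have hND : N ≤ normalizer (D : Set G) := fun n hn =>
    inf_normalizer_le_normalizer_inf ⟨le_normalizer hn, normalizer_le_normalizer_centralizer Q hn⟩
  have hRN : R ≤ N := hQR
  have hrrank := hrank r hr'.out hrσ
  have hrD : ¬ r ∣ Nat.card D := by
    intro hd
    obtain ⟨⟨y, hy⟩, hyo⟩ := exists_prime_orderOf_dvd_card' r hd
    rw [orderOf_mk] at hyo
    obtain ⟨U, hU, hRU⟩ := exists_isMaxPIn_ge hRN (isPGroup_of_prime_card hR)
    have hy' : Nat.card (zpowers y) = r := by rw [Nat.card_zpowers, hyo]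
    obtain ⟨x, hx, hxU⟩ := hU.exists_conj_mem (isPGroup_of_prime_card hy')
      (zpowers_le.2 hy.1)
    have hUc : IsCyclic U := by
      by_contra h
      exact not_pRankLE_one_of_not_isCyclic
        (prime_ne_two_of_dvd_card hG (dvd_of_eq hR.symm)) hU.pgroup h
        (TwoFusion.PRank.pRankLE_mono (hU.le.trans hNM) hrrank)
    have he : (zpowers y).map (MulAut.conj x).toMonoidHom = R :=
      eq_of_card_eq_of_le_cyclic hUc (by rintro _ ⟨z, hz, rfl⟩; exact hxU z hz) hRU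
        (by rw [card_map_of_injective (MulAut.conj x).injective, hy', hR])
    refine hQR' (he.ge.trans ?_)
    rintro _ ⟨z, hz, rfl⟩
    exact ((mem_normalizer_iff.1 (hND hx) z).1 (zpowers_le.2 hy hz)).2
  have hrM' : ¬ r ∣ Nat.card ↥⁅M, M⁆ := by
    intro hd
    have hQmaxσ : IsMaxPIn q (Cfsg.sigmaCore M) Q := hQtop.of_le le_top hQσ
    rcases dvd_commutator_supplement (piCoreOf_le _ _ : Cfsg.sigmaCore M ≤ M)
      (le_normalizer_piCoreOf _ _) (inf_le_left : M ⊓ N ≤ M)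
      (frattini_le hQmaxσ (piCoreOf_le _ _) (le_normalizer_piCoreOf _ _)) hr'.out hd with h | h
    · exact hrσ (sigma_of_dvd_sigmaCore hr'.out h)
    · exact hrD (h.trans (card_dvd_of_le (le_inf ((commutator_le_self _).trans inf_le_right)
        ((commutator_mono inf_le_right inf_le_right).trans hcom))))
  have hMR := inf_normalizer_le_centralizer_of_not_dvd hR hRM hrM'
  have hRmax : IsMaxPIn r (D ⊔ R) R := by
    refine ⟨le_sup_right, isPGroup_of_prime_card hR, fun U hU hle hUW =>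
      le_antisymm ?_ hle⟩
    obtain ⟨k, hk⟩ := hU.exists_card_eq
    refine (eq_of_le_of_card_ge hle ?_).ge
    have h1 : r ^ k ∣ Nat.card D * r := hk ▸ hR ▸
      (card_dvd_of_le hUW).trans (card_sup_dvd_mul_of_le_normalizer (hRN.trans hND))
    have h2 : r ^ k ∣ r := ((hr'.out.coprime_iff_not_dvd.2 hrD).pow_left k).dvd_mul_left.1 h1
    rw [hk, hR]
    exact Nat.le_of_dvd hr'.out.pos h2
  have hfactor : ∀ n ∈ N, ∃ x ∈ centralizer (T : Set G),
      x * n ∈ N ⊓ centralizer (R : Set G) := by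
    intro n hn
    have hRn : R.map (MulAut.conj n).toMonoidHom ≤ D ⊔ R := by
      rintro _ ⟨ρ, hρ, rfl⟩
      have h1 : ⁅n, ρ⁆ ∈ D := ⟨commutator_le_self N (commutator_mem_commutator hn (hRN hρ)),
        hcom (commutator_mem_commutator hn (hRN hρ))⟩
      have h2 : MulAut.conj n ρ = ⁅n, ρ⁆ * ρ := by
        rw [MulAut.conj_apply, commutatorElement_def]; group
      show MulAut.conj n ρ ∈ D ⊔ R
      rw [h2]
      exact (D ⊔ R).mul_mem (mem_sup_left h1) (mem_sup_right hρ)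
    obtain ⟨x, hx, hxR⟩ := hRmax.exists_conj_mem ((isPGroup_of_prime_card hR).map _) hRn
    obtain ⟨d, hd, ρ, hρ, he⟩ := (Solvable.mem_sup_of_le_normalizer (hRN.trans hND)).1 hx
    have hxN : x ∈ N := he ▸ mul_mem hd.1 (hRN hρ)
    refine ⟨x, ?_, mul_mem hxN hn, hMR ⟨hNM (mul_mem hxN hn), mem_normalizer_of_map_le ?_⟩⟩
    · rw [← he]
      exact mul_mem (centralizer_le inf_le_left hd.2)
        ((le_centralizer_iff.1 (inf_le_right : T ≤ centralizer (R : Set G))) hρ)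
    · rw [← map_conj_map_conj]
      rintro _ ⟨z, hz, rfl⟩
      exact hxR z hz
  obtain ⟨m, ⟨hmN, hmR⟩, hmT⟩ : ∃ m ∈ N ⊓ centralizer (R : Set G),
      m ∉ centralizer (T : Set G) := by
    by_contra hcon
    push Not at hcon
    let Qs : Sylow q G := ⟨Q, hQtop.pgroup, fun {W} hW hle => hQtop.max W hW hle le_top⟩
    haveI : IsMulCommutative (Qs : Subgroup G) := hQa
    refine not_le_centralizer_normalizer_sylow hG Qs (inf_le_left : T ≤ Q) hT1 fun n hn => ?_
    obtain ⟨x, hx, hxn⟩ := hfactor n hn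
    have h1 : n = x⁻¹ * (x * n) := by group
    rw [h1]
    exact mul_mem (inv_mem hx) (hcon _ hxn)
  refine hmT (CN.mem_of_pElem_pow fun s k hs hu => ?_)
  haveI := Fact.mk hs
  set u := m ^ k
  have huN : u ∈ N := pow_mem hmN k
  have huR : u ∈ centralizer (R : Set G) := pow_mem hmR k
  have hqβ : q ∉ Cfsg.beta M := fun h => hqα h.1
  have hup : IsPGroup s (zpowers u) := by
    obtain ⟨j, hj⟩ := hu
    obtain ⟨i, -, hi⟩ := (Nat.dvd_prime_pow hs).1 (orderOf_dvd_of_pow_eq_one hj)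
    exact IsPGroup.of_card (n := i) (by rw [Nat.card_zpowers, hi])
  by_cases hsσ : s ∈ Cfsg.sigma M
  · exact centralizer_le inf_le_left (sigma_normalizer_le_centralizer hG hM hqσ hqβ hQtop hQM
      ⟨le_sigmaCore_of_pgroup hG hM hsσ hup (zpowers_le.2 (hNM huN)) (mem_zpowers u), huN⟩)
  by_cases hu1 : u = 1
  · rw [hu1]; exact one_mem _
  obtain ⟨X, hXu, hX⟩ := exists_le_card_prime hup (fun h => hu1 (zpowers_eq_bot.1 h))
  obtain ⟨⟨w, hwX⟩, hw⟩ := exists_prime_orderOf_dvd_card' (G := X) s (hX ▸ dvd_rfl)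
  rw [orderOf_mk] at hw
  have hwz : zpowers w = X := eq_of_le_of_card_ge (zpowers_le.2 hwX)
    (by rw [Nat.card_zpowers, hw, hX])
  by_cases hwT : w ∈ centralizer (T : Set G)
  · have h1 := semiprime hG hM hsσ (hrank s hs hsσ) (hNM huN) hup hX hXu
    have h2 : T ≤ centralizer ({u} : Set G) := fun t ht => h1 ⟨hQσ ht.1, by
      have h3 := le_centralizer_iff.1 (zpowers_le.2 hwT) ht
      rwa [hwz] at h3⟩
    exact fun t ht => mem_centralizer_singleton_iff.1 (h2 ht)
  exfalso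
  have hwN : w ∈ N := zpowers_le.2 huN (hXu hwX)
  have hwR : w ∈ centralizer (R : Set G) := zpowers_le.2 huR (hXu hwX)
  have hwT' : zpowers w ≤ normalizer (T : Set G) := zpowers_le.2
    (inf_normalizer_le_normalizer_inf ⟨hwN, le_normalizer hwR⟩)
  have hsq : s ≠ q := fun h => hsσ (h ▸ hqσ)
  set T' := ⁅T, zpowers w⁆ with hT'
  have hTq : IsPGroup q T := hQmax.pgroup.to_le inf_le_left
  have hT'T : T' ≤ T := Solvable.commutator_le_of_normalizes hwT'
  have hT'1 : T' ≠ ⊥ := fun h => hwT (le_centralizer_iff.1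
    (commutator_eq_bot_iff_le_centralizer.1 h) (mem_zpowers w))
  have hTs : Group.IsSolvable T := by
    haveI := hTq.isNilpotent
    infer_instance
  have hT'w : ⁅T', zpowers w⁆ = T' := by
    refine Solvable.commutator_commutator_eq hwT' ?_ (Or.inr hTs)
    obtain ⟨j, hj⟩ := hTq.exists_card_eq
    rw [Nat.card_zpowers, hw, hj]
    exact ((Nat.coprime_primes hs hq).2 hsq).pow_right j
  have hT'C : T' ≤ Cfsg.sigmaCore M ⊓ centralizer (R : Set G) :=
    hT'T.trans (inf_le_inf_right _ hQσ)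
  have hidR := ideal_of_pair hG hM hrσ hrrank hrM' hR hRM (hTq.to_le hT'T) hT'1 hT'C hwR hT'w
  obtain ⟨H', hH', hNR⟩ := exists_isCoatom_ge (normalizer_ne_top hG (ne_bot_of_prime_card hR)
    (isPGroup_ne_top hG (isPGroup_of_prime_card hR)))
  obtain ⟨-, -, hmax'⟩ := ideal_pair hG hM hrσ hrrank hR hRM hidR hH' hNR (hTq.to_le hT'T) hT'1
    hT'C (hNM hwN) hwR hw hsq hT'w
  obtain ⟨Q₁, hQ₁, hTQ₁⟩ := exists_isMaxPIn_ge (le_inf ((hT'T.trans inf_le_left).trans hQM)
    ((hT'C.trans inf_le_right).trans ((centralizer_le_normalizer _).trans hNR)) : T' ≤ M ⊓ H')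
    (hTq.to_le hT'T)
  obtain ⟨hQ₁top, hQ₁R⟩ := hmax' Q₁ hQ₁ hTQ₁
  have hQ₁σ : Q₁ ≤ Cfsg.sigmaCore M :=
    le_sigmaCore_of_pgroup hG hM hqσ hQ₁.pgroup (hQ₁.le.trans inf_le_left)
  obtain ⟨S₁, hS₁⟩ := (hQtop.of_le le_top hQσ : IsMaxPIn q (Cfsg.sigmaCore M) Q).exists_sylow
  obtain ⟨S₂, hS₂⟩ :=
    (hQ₁top.of_le le_top hQ₁σ : IsMaxPIn q (Cfsg.sigmaCore M) Q₁).exists_sylow
  obtain ⟨c, hc, hcS⟩ := Solvable.exists_invariant_sylow_conj hRσ hcop
    (Or.inr (sigmaCore_isSolvable hG hM)) S₂ S₁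
    (hS₂.symm ▸ (le_centralizer_iff.1 hQ₁R).trans (centralizer_le_normalizer _))
    (hS₁.symm ▸ hRN)
  refine hQR' (le_centralizer_iff.1 fun y hy => ?_)
  obtain ⟨y', hy', rfl⟩ := hS₁.ge hy
  rw [← hcS] at hy'
  obtain ⟨z, hz, hzy⟩ := hy'
  rw [← hzy]
  exact mul_mem (mul_mem hc (hQ₁R (hS₂.le (mem_map_of_mem _ hz)))) (inv_mem hc)

end CfsgLib.OddOrder
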