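import Cfsg.Agent.Lib.OddOrder.Tau13Basic
import Cfsg.Agent.Lib.OddOrder.SemiPrimeMain
import Cfsg.Agent.Lib.OddOrder.TauTwo
import Cfsg.Agent.S1418
import Cfsg.Agent.S1423
import Cfsg.Agent.S1426

/-!
BG 13.6: centralizers of the subgroups of prime order of `C_{M_σ}(P)`, `P` of order `p ∈ τ₁(M)`.
-/

set_option autoImplicit false
set_option linter.style.haveILetI false

open scoped commutatorElement Pointwise

namespace CfsgLib.OddOrder

open Subgroup

variable {G : Type*} [Group G] [Finite G]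

/-- A subgroup is contained in `K` as soon as one Sylow subgroup for each prime is. -/
theorem le_of_sylows_le {X K : Subgroup G}
    (h : ∀ s : ℕ, s.Prime → s ∣ Nat.card X →
      ∃ S : Sylow s X, (S : Subgroup X).map X.subtype ≤ K) : X ≤ K := by
  refine subgroupOf_eq_top.1 (Subgroup.eq_top_of_le_card _ (Nat.le_of_dvd Nat.card_pos ?_))
  rw [Nat.dvd_iff_prime_pow_dvd_dvd]
  intro s k hs hk
  rcases k with _ | k
  · simp
  haveI := Fact.mk hs
  obtain ⟨S, hS⟩ := h s hs (dvd_trans (dvd_pow_self s k.succ_ne_zero) hk)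
  exact (S.pow_dvd_card_of_pow_dvd_card hk).trans (card_dvd_of_le fun x hx =>
    mem_subgroupOf.2 (hS (mem_map_of_mem X.subtype hx)))

variable (hG : Cfsg.IsMinSimpleOddOrder G) {M : Subgroup G} (hM : IsCoatom M)
include hG hM

/-- A prime power element of order prime to `σ(M)` which commutes with `P`, `|P| = p ∈ τ₁(M)`,
centralises `C_{M_σ}(P)` if its Sylow subgroups are cyclic. -/
theorem centralizer_le_of_tau1_commute {p s : ℕ} [Fact s.Prime] (hp : p ∈ Cfsg.tau1 M)
    {P : Subgroup G} (hP : Nat.card P = p) (hPM : P ≤ M) (hsσ : s ∉ Cfsg.sigma M)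
    (hs1 : Cfsg.PRankLE s 1 M) {v : G} (hvs : IsPGroup s (zpowers v)) (hvM : v ∈ M)
    (hvP : v ∈ centralizer (P : Set G)) :
    Cfsg.sigmaCore M ⊓ centralizer (P : Set G) ≤ centralizer ({v} : Set G) := by
  haveI := Fact.mk hp.1
  by_cases hv1 : v = 1
  · exact fun y _ => mem_centralizer_singleton_iff.2 (by simp [hv1])
  obtain ⟨R, hRv, hR⟩ := exists_le_card_prime hvs fun h => hv1 (zpowers_eq_bot.1 h)
  refine (centralizer_le_of_commute hG hM hp.2.1 hp.2.2.2.2 hp.2.2.2.1 hP hPM hR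
    (hRv.trans (zpowers_le.2 hvM)) (hRv.trans (zpowers_le.2 hvP)) hsσ).trans ?_
  exact semiprime hG hM hsσ hs1 hvM hvs hR hRv

/-- A complement in `N(T)` centralizes `X ≤ T`, `T` a `P`-invariant Sylow subgroup of `M_σ`. -/
theorem exists_complement_centralizing {p r : ℕ} [hr : Fact r.Prime] (hp : p ∈ Cfsg.tau1 M)
    {P : Subgroup G} (hP : Nat.card P = p) (hPM : P ≤ M) {X : Subgroup G} (hX : Nat.card X = r)
    (hXC : X ≤ Cfsg.sigmaCore M ⊓ centralizer (P : Set G)) (hrβ : r ∉ Cfsg.beta M)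
    {T : Subgroup G} (hT : IsMaxPIn r (Cfsg.sigmaCore M) T) (hXT : X ≤ T)
    (hPS : P ≤ normalizer (T : Set G)) :
    ∃ E : Subgroup G, Cfsg.IsComplIn E (Cfsg.sigmaCore M) M ∧ E ≤ normalizer (T : Set G) ∧
      E ≤ centralizer (X : Set G) := by
  haveI := Fact.mk hp.1
  have hKM : Cfsg.sigmaCore M ≤ M := piCoreOf_le _ _
  have hTK : T ≤ Cfsg.sigmaCore M := hT.le
  have hTr : IsPGroup r T := hT.pgroup
  have hXK : X ≤ Cfsg.sigmaCore M := hXC.trans inf_le_left
  have hrσ : r ∈ Cfsg.sigma M := sigma_of_dvd_sigmaCore hr.out (hX ▸ card_dvd_of_le hXK)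
  have hPσ : ∀ q : ℕ, q.Prime → q ∣ Nat.card P → q ∉ Cfsg.sigma M := fun q hq hd => by
    rw [hP, Nat.prime_dvd_prime_iff_eq hq hp.1] at hd
    exact hd ▸ hp.2.1
  obtain ⟨E, hE, hPE, hET⟩ := exists_complement_normalizer hG hM
    hT hPM hPS hPσ
  have hEM : E ≤ M := hE.1
  -- elements of `E ∩ M'` of prime power order centralise `T`
  have hder : ∀ (s : ℕ), s.Prime → s ∉ Cfsg.sigma M → ∀ W : Subgroup G, IsPGroup s W → W ≤ E →
      W ≤ ⁅M, M⁆ → W ≤ centralizer (X : Set G) := by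
    intro s hs hsσ W hW hWE hWD w hw
    haveI := Fact.mk hs
    refine centralizer_le hXT (mem_centralizer_of_derived hG hM (hTK.trans hKM) (hWD hw)
      (hET (hWE hw)) fun q hq hd => ?_)
    have hqr : q = r := by
      obtain ⟨n, hn⟩ := hTr.exists_card_eq
      exact (Nat.prime_dvd_prime_iff_eq hq hr.out).1 (hq.dvd_of_dvd_pow (hn ▸ hd))
    subst hqr
    refine ⟨hrβ, fun hd' => hsσ ?_⟩
    obtain ⟨n, hn⟩ := hW.exists_card_eq
    have := hq.dvd_of_dvd_pow (hn ▸ hd'.trans (orderOf_dvd_card_of_mem hw))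
    rwa [← (Nat.prime_dvd_prime_iff_eq hq hs).1 this]
  have hXC' : ∀ A : Subgroup G, Cfsg.sigmaCore M ⊓ centralizer (P : Set G) ≤
      centralizer (A : Set G) → A ≤ centralizer (X : Set G) := fun A h =>
    le_centralizer_iff.1 (hXC.trans h)
  haveI := isSolvable_of_ne_top hG (H := E) fun h => hM.1 (top_le_iff.1 (h ▸ hEM))
  have hEX : E ≤ centralizer (X : Set G) := by
    refine le_of_sylows_le fun s hs hsE => ?_
    haveI := Fact.mk hs
    have hsσ : s ∉ Cfsg.sigma M := complement_prime_not_sigma hG hM hE hs hsE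
    rcases tau_cases_of_not_sigma hG hM hs (hsE.trans (card_dvd_of_le hEM)) hsσ with h1 | h2 | h3
    · -- a Sylow subgroup inside a cyclic Hall subgroup containing `P`
      obtain ⟨E₁, hE₁, hPE₁, hE₁c⟩ := exists_tau1_hall_ge hG hM hE hPE
        (fun q hq hd => by
          rw [hP, Nat.prime_dvd_prime_iff_eq hq hp.1] at hd
          exact hd ▸ hp)
      obtain ⟨Q⟩ : Nonempty (Sylow s E₁) := inferInstance
      have hQE₁ : (Q : Subgroup E₁).map E₁.subtype ≤ E₁ := map_subtype_le _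
      obtain ⟨S', hS'⟩ := ((Q.2.map E₁.subtype).of_equiv
        (subgroupOfEquivOfLe (hQE₁.trans hE₁.1)).symm).exists_le_sylow
      have hS'eq : (S' : Subgroup E).map E.subtype = (Q : Subgroup E₁).map E₁.subtype := by
        refine (eq_of_le_of_card_ge ((map_subgroupOf_eq_of_le (hQE₁.trans hE₁.1)).ge.trans
          (map_mono hS')) ?_).symm
        rw [card_map_of_injective E.subtype_injective, card_map_of_injective E₁.subtype_injective,
          S'.card_eq_multiplicity, Q.card_eq_multiplicity]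
        refine Nat.pow_le_pow_right hs.pos (le_of_eq ?_)
        rw [← relIndex_bot_left E, ← relIndex_mul_relIndex ⊥ E₁ E bot_le hE₁.1,
          relIndex_bot_left, Nat.factorization_mul Nat.card_pos.ne' (fun h => hE₁.2.2 s hs h1
            (by rw [h]; exact dvd_zero s)), Finsupp.add_apply,
          Nat.factorization_eq_zero_of_not_dvd (hE₁.2.2 s hs h1), add_zero]
      refine ⟨S', hS'eq.le.trans fun v hv => ?_⟩
      haveI := hE₁c
      refine hXC' (zpowers v) ?_ (mem_zpowers v)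
      rw [zpowers_eq_closure, centralizer_closure]
      refine centralizer_le_of_tau1_commute hG hM hp hP hPM hsσ h1.2.2.2.2
        ((Q.2.map E₁.subtype).to_le (zpowers_le.2 hv)) (hEM (hE₁.1 (hQE₁ hv))) fun x hx => ?_
      exact setLike_mul_comm (hPE₁ hx) (hQE₁ hv)
    · -- impossible
      exfalso
      obtain ⟨A, hAE, hA, hA2⟩ := exists_elementary_in_complement hG hM hE h2
      have hEA : E ≤ normalizer (A : Set G) :=
        (Cfsg.Agent.S1418.result hG M hM E hE s h2 A ⟨hAE, hA, hA2⟩).1.1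
      haveI := hA.1
      have hps : s ≠ p := fun h => h2.2.2.2 (h.symm ▸ hp.2.2.2.2)
      have hAp : (Nat.card P).Coprime (Nat.card A) := by
        rw [hP, hA2]
        exact ((Nat.coprime_primes hp.1 hs).2 hps.symm).pow_right 2
      have hAX : A ≤ centralizer (X : Set G) := by
        rw [← Solvable.centralizer_sup_commutator_eq (hPE.trans hEA) hAp]
        refine sup_le (fun a ha => ?_) (hder s hs hsσ _
          ((isPGroup_of_exp hA.2).to_le (Solvable.commutator_le_of_normalizes (hPE.trans hEA)))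
          ((Solvable.commutator_le_of_normalizes (hPE.trans hEA)).trans hAE)
          (commutator_mono (hAE.trans hEM) hPM))
        by_cases ha1 : a = 1
        · rw [ha1]; exact one_mem _
        refine hXC' (zpowers a) ?_ (mem_zpowers a)
        refine (centralizer_le_of_commute (r := s) hG hM hp.2.1 hp.2.2.2.2 hp.2.2.2.1 hP hPM ?_
          (zpowers_le.2 (hEM (hAE ha.1))) (zpowers_le.2 ha.2) hsσ).trans inf_le_right
        rw [Nat.card_zpowers, orderOf_eq_prime (hA.2 a ha.1) ha1]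
      obtain ⟨-, -, h0⟩ := tau2_facts hG hM h2 (hAE.trans hEM) hA hA2
      exact ne_bot_of_prime_card hX (le_bot_iff.1 (h0 ▸ le_inf hXK (le_centralizer_iff.1 hAX)))
    · obtain ⟨E₃, hE₃, -⟩ := exists_isPiHallOf_ge (E := E) (π := Cfsg.tau3 M) inferInstance
        (bot_le : (⊥ : Subgroup G) ≤ E) fun q hq hd => absurd (Subgroup.card_bot (G := G) ▸ hd) hq.not_dvd_one
      obtain ⟨-, hE₃D, hE₃n⟩ := tau3_hall hG hM hE hE₃
      obtain ⟨S'⟩ : Nonempty (Sylow s E) := inferInstance
      refine ⟨S', hder s hs hsσ _ (S'.2.map _) (map_subtype_le _) ?_⟩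
      refine le_trans ?_ (hE₃D.trans (commutator_mono hEM hEM))
      intro w hw
      haveI : (E₃.subgroupOf E).Normal := normal_subgroupOf_of_le_normalizer hE₃n
      obtain ⟨w', hw', rfl⟩ := hw
      obtain ⟨n, hn⟩ := S'.2.exists_card_eq
      obtain ⟨j, hj⟩ := exists_pow_eq_self_of_coprime (n := (E₃.subgroupOf E).index) (x := w')
        ((((hs.coprime_iff_not_dvd).2 (hE₃.2.2 s hs h3)).pow_left n).coprime_dvd_left
          (hn ▸ orderOf_dvd_card_of_mem hw')).symm
      exact mem_subgroupOf.1 (hj ▸ pow_mem ((E₃.subgroupOf E).pow_index_mem w') j)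
  exact ⟨E, hE, hET, hEX⟩

/-- BG 13.6. -/
theorem tau1_centralizer_unique {p r : ℕ} [hr : Fact r.Prime] (hp : p ∈ Cfsg.tau1 M)
    {P : Subgroup G} (hP : Nat.card P = p) (hPM : P ≤ M) {X : Subgroup G} (hX : Nat.card X = r)
    (hXC : X ≤ Cfsg.sigmaCore M ⊓ centralizer (P : Set G)) :
    centralizer (X : Set G) ≤ M ∧
      ∀ L : Subgroup G, IsCoatom L → centralizer (X : Set G) ≤ L → L = M := by
  haveI := Fact.mk hp.1
  set K := Cfsg.sigmaCore M with hK
  have hKM : K ≤ M := piCoreOf_le _ _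
  have hXK : X ≤ K := hXC.trans inf_le_left
  have hrσ : r ∈ Cfsg.sigma M := sigma_of_dvd_sigmaCore hr.out (hX ▸ card_dvd_of_le hXK)
  obtain ⟨S₀⟩ : Nonempty (Sylow r K) := inferInstance
  by_cases hrβ : r ∈ Cfsg.beta M
  · exact (Cfsg.Agent.S1423.result hG M hM r hrσ X (hXK.trans hKM) hX S₀ (Or.inl hrβ)).1
  have hPσ : ∀ q : ℕ, q.Prime → q ∣ Nat.card P → q ∉ Cfsg.sigma M := fun q hq hd => by
    rw [hP, Nat.prime_dvd_prime_iff_eq hq hp.1] at hd
    exact hd ▸ hp.2.1
  have hcop : (Nat.card P).Coprime (Nat.card K) := Nat.coprime_of_dvd fun q hq h1 h2 =>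
    hPσ q hq h1 (sigma_of_dvd_sigmaCore hq h2)
  have hPK : P ≤ normalizer (K : Set G) := hPM.trans (le_normalizer_piCoreOf _ _)
  obtain ⟨S, hXS, hPS⟩ := Solvable.exists_invariant_sylow_ge hPK hcop
    (Or.inl (isSolvable_of_ne_top hG fun h => hM.1 (top_le_iff.1 (h ▸ hPM)))) r hXK
    (isPGroup_of_prime_card hX)
    ((le_centralizer_iff.1 (hXC.trans inf_le_right)).trans (centralizer_le_normalizer _))
  set T := (S : Subgroup K).map K.subtype with hT
  have hTK : T ≤ K := map_subtype_le _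
  have hTr : IsPGroup r T := S.2.map _
  obtain ⟨E, hE, -, hEX⟩ := exists_complement_centralizing hG hM hp hP hPM hX hXC hrβ
    (isMaxPIn_of_sylow S) hXS hPS
  refine (Cfsg.Agent.S1423.result hG M hM r hrσ X (hXK.trans hKM) hX S₀ (Or.inr ?_)).1
  exact (le_inf hXK (le_centralizer_iff.1 hEX)).trans
    (Cfsg.Agent.S1426.result hG M hM E hE).1

/-- BG 13.6, on normalizers. -/
theorem tau1_normalizer_le {p r : ℕ} [hr : Fact r.Prime] (hp : p ∈ Cfsg.tau1 M)
    {P : Subgroup G} (hP : Nat.card P = p) (hPM : P ≤ M) {X : Subgroup G} (hX : Nat.card X = r)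
    (hXC : X ≤ Cfsg.sigmaCore M ⊓ centralizer (P : Set G)) :
    normalizer (X : Set G) ≤ M := by
  have hXK : X ≤ Cfsg.sigmaCore M := hXC.trans inf_le_left
  exact normalizer_le_of_centralizer_le hG hM
    (sigma_of_dvd_sigmaCore hr.out (hX ▸ card_dvd_of_le hXK)) (isPGroup_of_prime_card hX)
    (ne_bot_of_prime_card hX) (hXK.trans (piCoreOf_le _ _))
    (tau1_centralizer_unique hG hM hp hP hPM hX hXC).1

end CfsgLib.OddOrder
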