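import Cfsg.Agent.Lib.OddOrder.FixedPrime
import Cfsg.Agent.Lib.OddOrder.Tau1Common
import Cfsg.Agent.Lib.Solvable.PrimeActionFix

/-!
A subgroup `⟨u⟩` of order `q ∈ τ₃(M)` with fixed points on `M_σ` is centralized by the
`τ₁(M)`-elements of prime order normalizing it (toward BG 14.2: `κ(M) ⊆ τ₁(M)`).
-/

set_option autoImplicit false
set_option linter.style.haveILetI false

open scoped commutatorElement Pointwise

namespace CfsgLib.OddOrder

open Subgroup

variable {G : Type*} [Group G] [Finite G]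

theorem centralizer_zpowers_singleton (u : G) :
    centralizer (zpowers u : Set G) = centralizer ({u} : Set G) := by
  rw [zpowers_eq_closure, centralizer_closure]

theorem eq_zpowers_of_mem_of_ne_one {q : ℕ} [hq : Fact q.Prime] {u t : G} (huo : orderOf u = q)
    (ht : t ∈ zpowers u) (ht1 : t ≠ 1) : zpowers t = zpowers u := by
  refine eq_of_le_of_card_ge (zpowers_le.2 ht) ?_
  rw [Nat.card_zpowers, Nat.card_zpowers, huo, orderOf_eq_prime (p := q) ?_ ht1]
  exact orderOf_dvd_iff_pow_eq_one.1 ((orderOf_dvd_card_of_mem ht).trans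
    (by rw [Nat.card_zpowers, huo]))

theorem commute_of_sigma_cores {M H : Subgroup G} (h : Cfsg.sigmaCore M ⊓ Cfsg.sigmaCore H = ⊥)
    {x y : G} (hxM : x ∈ Cfsg.sigmaCore M) (hxH : x ∈ H) (hyH : y ∈ Cfsg.sigmaCore H)
    (hyM : y ∈ M) : Commute x y := by
  have h1 : x * y * x⁻¹ * y⁻¹ ∈ Cfsg.sigmaCore M ⊓ Cfsg.sigmaCore H := by
    refine ⟨?_, mul_mem ((mem_normalizer_iff.1 (le_normalizer_piCoreOf _ _ hxH) y).1 hyH)
      ((Cfsg.sigmaCore H).inv_mem hyH)⟩
    rw [show x * y * x⁻¹ * y⁻¹ = x * (y * x⁻¹ * y⁻¹) by group]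
    exact mul_mem hxM ((mem_normalizer_iff.1 (le_normalizer_piCoreOf _ _ hyM) x⁻¹).1
      ((Cfsg.sigmaCore M).inv_mem hxM))
  rw [h, mem_bot, mul_inv_eq_one, mul_inv_eq_iff_eq_mul] at h1
  exact h1

variable (hG : Cfsg.IsMinSimpleOddOrder G) {M : Subgroup G} (hM : IsCoatom M)
include hG hM

theorem sigmaCore_inf_eq_bot {H : Subgroup G} (hH : IsCoatom H)
    (hMH : ∀ g : G, M.map (MulAut.conj g).toMonoidHom ≠ H) :
    Cfsg.sigmaCore M ⊓ Cfsg.sigmaCore H = ⊥ :=
  inf_eq_bot_of_coprime (Nat.coprime_of_dvd fun t ht h1 h2 =>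
    sigma_disjoint hG hM hH hMH (sigma_of_dvd_sigmaCore ht h1) (sigma_of_dvd_sigmaCore ht h2))

/-- An element of prime order moving `⟨u⟩` fixes a point of `M_σ` outside `C(u)`. -/
theorem fixed_not_le_of_moves {q p : ℕ} [hq : Fact q.Prime] [hp : Fact p.Prime] {u a : G}
    (huM : u ∈ M) (huo : orderOf u = q) (haM : a ∈ M) (hao : orderOf a = p)
    (hqσ : q ∉ Cfsg.sigma M) (hpσ : p ∉ Cfsg.sigma M) (haN : a ∈ normalizer (zpowers u : Set G))
    (hau : ¬ Commute a u) (hne : ¬ Cfsg.sigmaCore M ≤ centralizer ({u} : Set G)) :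
    ¬ Cfsg.sigmaCore M ⊓ centralizer ({a} : Set G) ≤ centralizer ({u} : Set G) := by
  intro hfix
  have hQ : Nat.card (zpowers u) = q := by rw [Nat.card_zpowers, huo]
  have hqp : q ≠ p := fun e => hau (by
    have h := mem_centralizer_of_card_prime hQ haN
      (IsPGroup.of_card (n := 1) (by rw [Nat.card_zpowers, hao, e, pow_one]))
    exact (h u (mem_zpowers u)).symm)
  have hcop : ∀ s : ℕ, s.Prime → s ∉ Cfsg.sigma M → (Nat.card (Cfsg.sigmaCore M)).Coprime s :=
    fun s hs hσ => Nat.Coprime.symm (hs.coprime_iff_not_dvd.2 fun h =>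
      hσ (sigma_of_dvd_sigmaCore hs h))
  have hq2 : q ≠ 2 := prime_ne_two_of_dvd_card hG (huo ▸ orderOf_dvd_card_of_mem huM)
  haveI := isSolvable_of_ne_top hG hM.1
  have hKs : Group.IsSolvable (Cfsg.sigmaCore M) :=
    Group.isSolvable_of_isSolvable_injective (Subgroup.inclusion_injective (piCoreOf_le _ M))
  have h := Solvable.PrimeAction.commute_of_fixed_le hq2 hqp hKs (hcop q hq.out hqσ)
    (hcop p hp.out hpσ) (x := a) (isPGroup_of_prime_card hQ)
    (fun g hg => (mem_normalizer_iff.1 haN g).1 hg) (hao ▸ pow_orderOf_eq_one a)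
    (zpowers_le.2 (le_normalizer_piCoreOf _ _ huM)) (le_normalizer_piCoreOf _ _ haM)
    (by rwa [centralizer_zpowers_singleton]) u (mem_zpowers u)
  set t := u⁻¹ * (a * u * a⁻¹)
  have ht : t ∈ zpowers u :=
    mul_mem (inv_mem (mem_zpowers u)) ((mem_normalizer_iff.1 haN u).1 (mem_zpowers u))
  have ht1 : t ≠ 1 := fun e => hau (mul_inv_eq_iff_eq_mul.1 (inv_mul_eq_one.1 e).symm)
  refine hne (le_trans (le_centralizer_iff.1 (zpowers_le.2 h)) (le_of_eq ?_))
  rw [eq_zpowers_of_mem_of_ne_one huo ht ht1, centralizer_zpowers_singleton]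

variable {q : ℕ} [hq : Fact q.Prime] (h3 : q ∈ Cfsg.tau3 M) {u : G} (huM : u ∈ M)
  (huo : orderOf u = q) (hW : Cfsg.sigmaCore M ⊓ centralizer ({u} : Set G) ≠ ⊥)
include h3 huM huo hW

theorem tau2_empty_of_pair (s : ℕ) : s ∉ Cfsg.tau2 M :=
  tau2_empty_of_tau3_fixed hG hM h3 (Q := zpowers u) (by rw [Nat.card_zpowers, huo])
    (zpowers_le.2 huM) (by rwa [centralizer_zpowers_singleton]) s

omit hW in
theorem complement_le_normalizer {E : Subgroup G}
    (hE : Cfsg.IsComplIn E (Cfsg.sigmaCore M) M) (huE : u ∈ E) :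
    E ≤ normalizer (zpowers u : Set G) := by
  haveI hEs := isSolvable_of_ne_top hG (H := E) fun h => hM.1 (top_le_iff.1 (h ▸ hE.1))
  obtain ⟨E₃, hE₃, hQE₃⟩ := exists_isPiHallOf_ge (π := Cfsg.tau3 M) hEs (zpowers_le.2 huE)
    fun s hs hd => by
      rw [Nat.card_zpowers, huo, Nat.prime_dvd_prime_iff_eq hs hq.out] at hd
      exact hd ▸ h3
  obtain ⟨hE₃c, -, hE₃n⟩ := tau3_hall hG hM hE hE₃
  haveI := hE₃c
  exact hE₃n.trans (le_normalizer_of_le_cyclic hG hQE₃)

variable {H : Subgroup G} (hH : IsCoatom H) (hN : normalizer (zpowers u : Set G) ≤ H)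
include hH hN

/-- The partner `H` of the pair `(M, u)`. -/
theorem pair_facts :
    H ≠ M ∧ (∀ g : G, M.map (MulAut.conj g).toMonoidHom ≠ H) ∧ q ∈ Cfsg.sigma H ∧
      u ∈ Cfsg.sigmaCore H ∧
      Cfsg.sigmaCore M ⊓ H = Cfsg.sigmaCore M ⊓ centralizer ({u} : Set G) ∧
      ¬ Cfsg.sigmaCore M ≤ centralizer ({u} : Set G) := by
  have hQ : Nat.card (zpowers u) = q := by rw [Nat.card_zpowers, huo]
  obtain ⟨hne, -, hHM⟩ := overgroup_normalizer hG hM h3.2.1 h3.2.2.2 hQ hN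
  have hMH : ∀ g : G, M.map (MulAut.conj g).toMonoidHom ≠ H := fun g hg => hHM g⁻¹ (by
    rw [← hg, map_conj_map_conj, inv_mul_cancel, map_conj_one])
  have hqH := mem_sigma_of_prime_fixed hG hM huo huM h3.2.1 h3.2.2.2 hW hH hN
  have huH : u ∈ Cfsg.sigmaCore H := le_sigmaCore_of_pgroup hG hH hqH (isPGroup_of_prime_card hQ)
    (le_normalizer.trans hN) (mem_zpowers u)
  have heq : Cfsg.sigmaCore M ⊓ H = Cfsg.sigmaCore M ⊓ centralizer ({u} : Set G) := by
    refine le_antisymm (fun x hx => ⟨hx.1, mem_centralizer_singleton_iff.2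
      (commute_of_sigma_cores (sigmaCore_inf_eq_bot hG hM hH hMH) hx.1 hx.2 huH huM).eq⟩)
      (inf_le_inf_left _ ?_)
    rw [← centralizer_zpowers_singleton]
    exact (centralizer_le_normalizer _).trans hN
  refine ⟨hne, hMH, hqH, huH, heq, fun h => ?_⟩
  obtain ⟨E, huE, hE⟩ := exists_complement_ge hG hM (zpowers_le.2 huM) fun s hs hd => by
    rw [hQ, Nat.prime_dvd_prime_iff_eq hs hq.out] at hd
    exact hd ▸ h3.2.1
  have hMle : M ≤ H := fun m hm => by
    obtain ⟨e, he, k, hk, rfl⟩ := hE.2.2.2 m hm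
    refine mul_mem (hN (complement_le_normalizer hG hM h3 huM huo hE (huE (mem_zpowers u)) he)) ?_
    exact (heq.ge.trans inf_le_right) ⟨hk, h hk⟩
  exact hne (((isCoatom_iff_ge_of_le.1 hM).2 H hH.1 hMle).antisymm hMle)

/-- The `τ₃` part of a complement centralizes `C_{M_σ}(u)`. -/
theorem tau3_part_centralizes {E E₃ : Subgroup G} (hE : Cfsg.IsComplIn E (Cfsg.sigmaCore M) M)
    (huE : u ∈ E) (hE₃ : Cfsg.IsPiHallOf (Cfsg.tau3 M) E₃ E) :
    E₃ ≤ centralizer ((Cfsg.sigmaCore M ⊓ centralizer ({u} : Set G) : Subgroup G) : Set G) := by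
  obtain ⟨-, hMH, -, -, heq, -⟩ := pair_facts hG hM h3 huM huo hW hH hN
  obtain ⟨-, hD, -⟩ := tau3_hall hG hM hE hE₃
  have hEH : E ≤ H := (complement_le_normalizer hG hM h3 huM huo hE huE).trans hN
  intro v hv
  rw [← heq]
  exact derived_centralizes hG hM hH hMH (hE.1 (hE₃.1 hv)) (commutator_mono hEH hEH (hD hv))
    fun t ht hd => (hE₃.2.1 t ht (hd.trans (orderOf_dvd_card_of_mem hv))).2.1

omit h3 huM huo hW hH hN in
/-- The primes of a fixed point, seen from the maximal subgroup of its partner. -/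
theorem mem_kappa_of_fixed {H : Subgroup G} (hH : IsCoatom H) (hne : M ≠ H) {y : G}
    (hy : y ∈ Cfsg.sigmaCore H) (hy1 : y ≠ 1) {r : ℕ} [hr : Fact r.Prime] {x : G} (hxH : x ∈ H)
    (hxo : orderOf x = r) (hxy : Commute x y) (hrH : r ∉ Cfsg.sigma H)
    (hCx : centralizer ({x} : Set G) ≤ M) : r ∈ Cfsg.kappa H := by
  rcases sigma_element_dichotomy hG hH hy hy1 (x' := x)
    ⟨hxH, mem_centralizer_singleton_iff.2 hxy.eq⟩
    (fun h => hr.out.ne_one (by rw [← hxo, h, orderOf_one]))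
    (fun t ht hd => by
      rw [hxo, Nat.prime_dvd_prime_iff_eq ht hr.out] at hd
      exact hd ▸ hrH) with ⟨hκ, -⟩ | ⟨-, -, -, huniq⟩
  · exact hκ r hr.out (dvd_of_eq hxo.symm)
  · exact absurd (huniq M hM hCx) hne

/-- An element moving `⟨u⟩`, of order prime to `σ(H)`, has no fixed point on `M_σ ∩ H`. -/
theorem fixed_inf_eq_bot {p : ℕ} [hp : Fact p.Prime] (hp1 : p ∈ Cfsg.tau1 M) {a : G} (haM : a ∈ M)
    (haH : a ∈ H) (hao : orderOf a = p) (hpH : p ∉ Cfsg.sigma H) (hau : ¬ Commute a u) :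
    Cfsg.sigmaCore M ⊓ H ⊓ centralizer ({a} : Set G) = ⊥ := by
  obtain ⟨hne, hMH, hqH, huH, heq, -⟩ := pair_facts hG hM h3 huM huo hW hH hN
  have hu1 : u ≠ 1 := fun h => hq.out.ne_one (by rw [← huo, h, orderOf_one])
  have hap : IsPGroup p (zpowers a) :=
    IsPGroup.of_card (n := 1) (by rw [Nat.card_zpowers, hao, pow_one])
  have hPc : Nat.card (zpowers a) = p := by rw [Nat.card_zpowers, hao]
  have hprop : ∀ {r : ℕ} {x : G}, Fact r.Prime → x ∈ Cfsg.sigmaCore M → x ∈ H → orderOf x = r →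
      Commute x u ∧ centralizer ({x} : Set G) ≤ M ∧ r ∈ Cfsg.sigma M ∧ r ∉ Cfsg.sigma H := by
    intro r x hr hx hxH hxo
    have hc : Commute x u :=
      mem_centralizer_singleton_iff.1 (heq.le (mem_inf.2 ⟨hx, hxH⟩)).2
    have hrσ : r ∈ Cfsg.sigma M :=
      sigma_of_dvd_sigmaCore hr.out (hxo ▸ orderOf_dvd_card_of_mem hx)
    exact ⟨hc, centralizer_le_of_prime_fixed hG hM huo huM h3.2.1 h3.2.2.2 hx
      (fun h => hr.out.ne_one (by rw [← hxo, h, orderOf_one])) hc.symm, hrσ,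
      sigma_disjoint hG hM hH hMH hrσ⟩
  -- a prime of `C(a)` in `τ₁(H)` forces `a` to centralize `u`
  have h1 : ∀ {r : ℕ} {x : G}, Fact r.Prime → x ∈ Cfsg.sigmaCore M → x ∈ H → orderOf x = r →
      Commute a x → r ∉ Cfsg.tau1 H := by
    intro r x hr hx hxH hxo hax hr1
    obtain ⟨hxu, hCx, -, hrH⟩ := hprop hr hx hxH hxo
    have hrκ : r ∈ Cfsg.kappa H :=
      mem_kappa_of_fixed hG hM hH hne.symm huH hu1 hxH hxo hxu hrH hCx
    by_cases hp1H : Cfsg.PRankLE p 1 H
    · refine hau (mem_centralizer_singleton_iff.1 (centralizer_le_of_tau1_commute hG hH hr1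
        (P := zpowers x) (by rw [Nat.card_zpowers, hxo]) (zpowers_le.2 hxH) hpH hp1H hap haH
        (mem_centralizer_iff.2 fun z hz => ?_) ⟨huH, mem_centralizer_iff.2 fun z hz => ?_⟩)).symm
      · obtain ⟨i, rfl⟩ := mem_zpowers_iff.1 hz
        exact (hax.symm.zpow_left i).eq
      · obtain ⟨i, rfl⟩ := mem_zpowers_iff.1 hz
        exact (hxu.zpow_left i).eq
    · exact false_of_tau1_commute hG hH hrκ hr1 hxH hxo haH hao hax.symm hpH
        fun h => hp1H (kappa_rank_one h)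
  by_contra hne0
  obtain ⟨r, hr, hrd⟩ := Nat.exists_prime_and_dvd fun h => hne0 (card_eq_one.1 h)
  haveI := Fact.mk hr
  obtain ⟨x', hx'o⟩ := exists_prime_orderOf_dvd_card' r hrd
  set x : G := (x' : G)
  have hxo : orderOf x = r := by rw [orderOf_coe, hx'o]
  have hxσ : x ∈ Cfsg.sigmaCore M := x'.2.1.1
  have hxH : x ∈ H := x'.2.1.2
  have hax : Commute a x := (mem_centralizer_singleton_iff.1 x'.2.2).symm
  have hxM : x ∈ M := piCoreOf_le _ _ hxσ
  obtain ⟨hxu, hCx, hrσ, hrH⟩ := hprop ‹Fact r.Prime› hxσ hxH hxo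
  have hrκ : r ∈ Cfsg.kappa H := mem_kappa_of_fixed hG hM hH hne.symm huH hu1 hxH hxo hxu hrH hCx
  have hr3 : r ∈ Cfsg.tau3 H :=
    (kappa_tau13 hG hH hrκ).resolve_left (h1 ‹Fact r.Prime› hxσ hxH hxo hax)
  -- the pair `(H, x)` with partner `M`
  have hxW : Cfsg.sigmaCore H ⊓ centralizer ({x} : Set G) ≠ ⊥ := fun h => hu1 (mem_bot.1 (h ▸
    (⟨huH, mem_centralizer_singleton_iff.2 hxu.symm.eq⟩ :
      u ∈ Cfsg.sigmaCore H ⊓ centralizer ({x} : Set G))))
  have hXc : Nat.card (zpowers x) = r := by rw [Nat.card_zpowers, hxo]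
  have hNx : normalizer (zpowers x : Set G) ≤ M :=
    normalizer_le_of_centralizer_le hG hM hrσ (isPGroup_of_prime_card hXc)
      (ne_bot_of_prime_card hXc) (zpowers_le.2 hxM) (by rwa [centralizer_zpowers_singleton])
  have hτ2H := tau2_empty_of_pair hG hH hr3 hxH hxo hxW
  obtain ⟨F, hle, hF⟩ := exists_complement_ge hG hH
    (sup_le (zpowers_le.2 hxH) (zpowers_le.2 haH) : zpowers x ⊔ zpowers a ≤ H) fun t ht hd => by
      rcases ht.dvd_mul.1 (hd.trans (card_sup_dvd_mul_of_le_normalizer (zpowers_le.2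
        (centralizer_le_normalizer _ (mem_centralizer_iff.2 fun z hz => by
          obtain ⟨i, rfl⟩ := mem_zpowers_iff.1 hz
          exact (hax.symm.zpow_left i).eq))))) with h | h
      · rw [hXc, Nat.prime_dvd_prime_iff_eq ht hr] at h
        exact h ▸ hrH
      · rw [hPc, Nat.prime_dvd_prime_iff_eq ht hp.out] at h
        exact h ▸ hpH
  have hxF : x ∈ F := hle (mem_sup_left (mem_zpowers x))
  have haF : a ∈ F := hle (mem_sup_right (mem_zpowers a))
  haveI hFs := isSolvable_of_ne_top hG (H := F) fun h => hH.1 (top_le_iff.1 (h ▸ hF.1))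
  rcases tau_cases_of_not_sigma hG hH hp.out (hao ▸ orderOf_dvd_card_of_mem haH) hpH with h | h | h
  · obtain ⟨F₁, hF₁, haF₁, hF₁c⟩ := exists_tau1_hall_ge hG hH hF (zpowers_le.2 haF)
      fun t ht hd => by
        rw [hPc, Nat.prime_dvd_prime_iff_eq ht hp.out] at hd
        exact hd ▸ h
    obtain ⟨F₃, hF₃, hxF₃⟩ := exists_isPiHallOf_ge (π := Cfsg.tau3 H) hFs (zpowers_le.2 hxF)
      fun t ht hd => by
        rw [hXc, Nat.prime_dvd_prime_iff_eq ht hr] at hd
        exact hd ▸ hr3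
    obtain ⟨s, w, hs, hwF₁, hwp, hwC, hs1⟩ :=
      exists_tau1_moving hG hH hr3 hτ2H hF hF₁ hF₃ hXc hxF₃
    haveI := Fact.mk hs
    haveI := hF₁c
    have hwF : w ∈ F := hF₁.1 hwF₁
    have hwM : w ∈ M := hNx (complement_le_normalizer hG hH hr3 hxH hxo hF hxF hwF)
    have haw : Commute a w := setLike_mul_comm (haF₁ (mem_zpowers a)) hwF₁
    by_cases hsσ : s ∈ Cfsg.sigma M
    · have hw : w ∈ Cfsg.sigmaCore M :=
        le_sigmaCore_of_pgroup hG hM hsσ hwp (zpowers_le.2 hwM) (mem_zpowers w)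
      have hw1 : w ≠ 1 := fun e => hwC (e ▸ one_mem _)
      have hsd : s ∣ orderOf w := by
        rw [← Nat.card_zpowers]
        exact dvd_card_of_isPGroup hwp fun e => hw1 (zpowers_eq_bot.1 e)
      exact h1 ‹Fact s.Prime› (pow_mem hw (orderOf w / s)) (pow_mem (hF.1 hwF) _)
        (orderOf_pow_orderOf_div (orderOf_pos w).ne' hsd) (haw.pow_right _) hs1
    · have hs1M : Cfsg.PRankLE s 1 M := by
        by_contra h'
        exact tau2_empty_of_pair hG hM h3 huM huo hW s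
          ⟨hs, hsσ, pRankLE_two_of_not_sigma hG hM hs hsσ, h'⟩
      have h2 := centralizer_le_of_tau1_commute hG hM hp1 hPc (zpowers_le.2 haM) hsσ hs1M hwp hwM
        (mem_centralizer_iff.2 fun z hz => by
          obtain ⟨i, rfl⟩ := mem_zpowers_iff.1 hz
          exact (haw.zpow_left i).eq)
        (⟨hxσ, mem_centralizer_iff.2 fun z hz => by
          obtain ⟨i, rfl⟩ := mem_zpowers_iff.1 hz
          exact (hax.zpow_left i).eq⟩ : x ∈ Cfsg.sigmaCore M ⊓ centralizer (zpowers a : Set G))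
      refine hwC (mem_centralizer_iff.2 fun z hz => ?_)
      obtain ⟨i, rfl⟩ := mem_zpowers_iff.1 hz
      exact ((show Commute x w from mem_centralizer_singleton_iff.1 h2).zpow_left i).eq
  · exact hτ2H p h
  · obtain ⟨F₃, hF₃, hle₃⟩ := exists_isPiHallOf_ge (π := Cfsg.tau3 H) hFs
      (sup_le (zpowers_le.2 hxF) (zpowers_le.2 haF) : zpowers x ⊔ zpowers a ≤ F) fun t ht hd => by
        rcases ht.dvd_mul.1 (hd.trans (card_sup_dvd_mul_of_le_normalizer (zpowers_le.2
          (centralizer_le_normalizer _ (mem_centralizer_iff.2 fun z hz => by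
            obtain ⟨i, rfl⟩ := mem_zpowers_iff.1 hz
            exact (hax.symm.zpow_left i).eq))))) with h' | h'
        · rw [hXc, Nat.prime_dvd_prime_iff_eq ht hr] at h'
          exact h' ▸ hr3
        · rw [hPc, Nat.prime_dvd_prime_iff_eq ht hp.out] at h'
          exact h' ▸ h
    exact hau (tau3_part_centralizes hG hH hr3 hxH hxo hxW hM hNx hF hxF hF₃
      (hle₃ (mem_sup_right (mem_zpowers a))) u
      ⟨huH, mem_centralizer_singleton_iff.2 hxu.symm.eq⟩).symm

/-- A `τ₁(M)`-element of prime order normalizing `⟨u⟩` centralizes it. -/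
theorem tau1_commute_of_pair {p : ℕ} [hp : Fact p.Prime] (hp1 : p ∈ Cfsg.tau1 M) {a : G}
    (haM : a ∈ M) (hao : orderOf a = p) (haN : a ∈ normalizer (zpowers u : Set G)) :
    Commute a u := by
  by_contra hau
  obtain ⟨hne, hMH, hqH, huH, heq, hnc⟩ := pair_facts hG hM h3 huM huo hW hH hN
  have haH : a ∈ H := hN haN
  have h0 := fixed_not_le_of_moves hG hM huM huo haM hao h3.2.1 hp1.2.1 haN hau hnc
  have hPc : Nat.card (zpowers a) = p := by rw [Nat.card_zpowers, hao]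
  have hap : IsPGroup p (zpowers a) := isPGroup_of_prime_card hPc
  by_cases hpH : p ∈ Cfsg.sigma H
  · have hCH := centralizer_le_of_sigma_fixed hG hM hao haM hp1.2.1 hp1.2.2.2.2
      (fun e => h0 (e ▸ bot_le)) hH
      (le_sigmaCore_of_pgroup hG hH hpH hap (zpowers_le.2 haH) (mem_zpowers a))
    exact h0 ((inf_le_inf_left _ hCH).trans (heq.le.trans inf_le_right))
  have hfix := fixed_inf_eq_bot hG hM h3 huM huo hW hH hN hp1 haM haH hao hpH hau
  set W := Cfsg.sigmaCore M ⊓ H with hWdef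
  have hW1 : W ≠ ⊥ := fun e => hW (by rw [← heq, e])
  have hWcomm : ∀ w ∈ W, Commute a w → w = 1 := fun w hw h =>
    mem_bot.1 (hfix ▸ (⟨hw, mem_centralizer_singleton_iff.2 h.symm.eq⟩ :
      w ∈ W ⊓ centralizer ({a} : Set G)))
  have hW1' : ∀ {w : G}, w ∈ W → a * w = w * a → w = 1 := fun hw h => hWcomm _ hw h
  obtain ⟨w₀, hw₀, hw₀1⟩ := W.bot_or_exists_ne_one.resolve_left hW1
  have haW : zpowers a ≤ normalizer (W : Set G) := zpowers_le.2
    (inf_normalizer_le_normalizer_inf ⟨le_normalizer_piCoreOf _ _ haM, le_normalizer haH⟩)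
  have hWσ : ∀ t : ℕ, t.Prime → t ∣ Nat.card W → t ∈ Cfsg.sigma M := fun t ht hd =>
    sigma_of_dvd_sigmaCore ht (hd.trans (card_dvd_of_le inf_le_left))
  have hWcop : (Nat.card (zpowers a)).Coprime (Nat.card W) := by
    rw [hPc]
    exact hp.out.coprime_iff_not_dvd.2 fun h => hp1.2.1 (hWσ p hp.out h)
  obtain ⟨F, hle, hF⟩ := exists_complement_ge hG hH
    (sup_le inf_le_right (zpowers_le.2 haH) : W ⊔ zpowers a ≤ H) fun t ht hd => by
      rcases ht.dvd_mul.1 (hd.trans (card_sup_dvd_mul_of_le_normalizer haW)) with h | h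
      · exact sigma_disjoint hG hM hH hMH (hWσ t ht h)
      · rw [hPc, Nat.prime_dvd_prime_iff_eq ht hp.out] at h
        exact h ▸ hpH
  have hpτ1 : p ∈ Cfsg.tau1 H := by
    rcases tau_cases_of_not_sigma hG hH hp.out (hao ▸ orderOf_dvd_card_of_mem haH) hpH with h | h | h
    · exact h
    · exfalso
      obtain ⟨A, hAF, hA, hA2⟩ := exists_elementary_in_complement hG hH hF h
      obtain ⟨⟨hFA, hall⟩, -, -⟩ := Cfsg.Agent.S1418.result hG H hH F hF p h A ⟨hAF, hA, hA2⟩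
      have haA : a ∈ A := hall _ (zpowers_le.2 (hle (mem_sup_right (mem_zpowers a)))) hPc
        (mem_zpowers a)
      refine hw₀1 (hW1' hw₀ ?_)
      have h1 : a * w₀ * a⁻¹ * w₀⁻¹ ∈ A ⊓ W := by
        refine ⟨?_, mul_mem ((mem_normalizer_iff.1 (haW (mem_zpowers a)) w₀).1 hw₀)
          (W.inv_mem hw₀)⟩
        rw [show a * w₀ * a⁻¹ * w₀⁻¹ = a * (w₀ * a⁻¹ * w₀⁻¹) by group]
        exact mul_mem haA ((mem_normalizer_iff.1 (hFA (hle (mem_sup_left hw₀))) a⁻¹).1 (inv_mem haA))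
      rw [inf_eq_bot_of_coprime (Nat.coprime_of_dvd fun t ht h2 h3 => hp1.2.1 (by
        rw [hA2] at h2
        rw [← (Nat.prime_dvd_prime_iff_eq ht hp.out).1 (ht.dvd_of_dvd_pow h2)]
        exact hWσ t ht h3)), mem_bot, mul_inv_eq_one, mul_inv_eq_iff_eq_mul] at h1
      exact h1
    · exfalso
      refine hw₀1 (hW1' hw₀ (derived_centralizes hG hM hH hMH haM
        (mem_derived_of_tau3 hG hH h haH hap) (fun t ht hd => ?_) w₀ hw₀).symm)
      rw [hao, Nat.prime_dvd_prime_iff_eq ht hp.out] at hd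
      exact hd ▸ hp1.2.1
  have hWD : W ≤ ⁅H, H⁆ := by
    haveI := isSolvable_of_ne_top hG hM.1
    have hWs : Group.IsSolvable W := Group.isSolvable_of_isSolvable_injective
      (Subgroup.inclusion_injective (inf_le_left.trans (piCoreOf_le _ _) : W ≤ M))
    have h := Solvable.commutator_sup_centralizer haW hWcop (Or.inr hWs)
    rw [centralizer_zpowers_singleton, hfix, sup_bot_eq] at h
    exact h.ge.trans (commutator_mono inf_le_right (zpowers_le.2 haH))
  obtain ⟨r, hr, hrd⟩ := Nat.exists_prime_and_dvd fun h => hW1 (card_eq_one.1 h)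
  haveI := Fact.mk hr
  obtain ⟨x', hx'o⟩ := exists_prime_orderOf_dvd_card' r hrd
  set x : G := (x' : G)
  have hxo : orderOf x = r := by rw [orderOf_coe, hx'o]
  have hx1 : x ≠ 1 := fun h => hr.ne_one (by rw [← hxo, h, orderOf_one])
  have hxσ : x ∈ Cfsg.sigmaCore M := x'.2.1
  have hxH : x ∈ H := x'.2.2
  have hxM : x ∈ M := piCoreOf_le _ _ hxσ
  have hrσ : r ∈ Cfsg.sigma M := hWσ r hr hrd
  have hxu : Commute x u := mem_centralizer_singleton_iff.1 (heq.le (mem_inf.2 ⟨hxσ, hxH⟩)).2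
  have hCx := centralizer_le_of_prime_fixed hG hM huo huM h3.2.1 h3.2.2.2 hxσ hx1 hxu.symm
  have hu1 : u ≠ 1 := fun h => hq.out.ne_one (by rw [← huo, h, orderOf_one])
  have hrκ : r ∈ Cfsg.kappa H := mem_kappa_of_fixed hG hM hH hne.symm huH hu1 hxH hxo hxu
    (sigma_disjoint hG hM hH hMH hrσ) hCx
  have hr3 : r ∈ Cfsg.tau3 H := (kappa_tau13 hG hH hrκ).resolve_left fun h =>
    h.2.2.2.1 (hrd.trans (card_dvd_of_le hWD))
  have hxW : Cfsg.sigmaCore H ⊓ centralizer ({x} : Set G) ≠ ⊥ := fun h => hu1 (mem_bot.1 (h ▸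
    (⟨huH, mem_centralizer_singleton_iff.2 hxu.symm.eq⟩ :
      u ∈ Cfsg.sigmaCore H ⊓ centralizer ({x} : Set G))))
  have hXc : Nat.card (zpowers x) = r := by rw [Nat.card_zpowers, hxo]
  have hNx : normalizer (zpowers x : Set G) ≤ M :=
    normalizer_le_of_centralizer_le hG hM hrσ (isPGroup_of_prime_card hXc)
      (ne_bot_of_prime_card hXc) (zpowers_le.2 hxM) (by rwa [centralizer_zpowers_singleton])
  obtain ⟨-, -, -, -, -, hncH⟩ := pair_facts hG hH hr3 hxH hxo hxW hM hNx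
  have hxN : a ∈ normalizer (zpowers x : Set G) := complement_le_normalizer hG hH hr3 hxH hxo hF
    (hle (mem_sup_left x'.2)) (hle (mem_sup_right (mem_zpowers a)))
  have hax : ¬ Commute a x := fun h => hx1 (hWcomm x x'.2 h)
  have h0H := fixed_not_le_of_moves hG hH hxH hxo haH hao hr3.2.1 hpH hxN hax hncH
  -- no prime of `τ₁(M)` lies in `σ(H)`
  have hnσ : ∀ c, c ∈ Cfsg.tau1 M → c ∉ Cfsg.sigma H := by
    intro c hc hcH
    haveI := Fact.mk hc.1
    obtain ⟨E, hle', hE⟩ := exists_complement_ge hG hM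
      (sup_le (zpowers_le.2 huM) (zpowers_le.2 haM) : zpowers u ⊔ zpowers a ≤ M) fun t ht hd => by
        rcases ht.dvd_mul.1 (hd.trans (card_sup_dvd_mul_of_le_normalizer (zpowers_le.2 haN)))
          with h | h
        · rw [Nat.card_zpowers, huo, Nat.prime_dvd_prime_iff_eq ht hq.out] at h
          exact h ▸ h3.2.1
        · rw [hPc, Nat.prime_dvd_prime_iff_eq ht hp.out] at h
          exact h ▸ hp1.2.1
    obtain ⟨E₁, hE₁, haE₁, hE₁c⟩ := exists_tau1_hall_ge hG hM hE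
      (zpowers_le.2 (hle' (mem_sup_right (mem_zpowers a)))) fun t ht hd => by
        rw [hPc, Nat.prime_dvd_prime_iff_eq ht hp.out] at hd
        exact hd ▸ hp1
    haveI := hE₁c
    have hcE : c ∣ Nat.card E := by
      have h1 := hc.2.2.1
      rw [← relIndex_bot_left M, ← relIndex_mul_relIndex ⊥ (Cfsg.sigmaCore M) M bot_le
        (piCoreOf_le _ _), relIndex_bot_left, ← card_complement hE] at h1
      exact (hc.1.dvd_mul.1 h1).resolve_left fun h => hc.2.1 (sigma_of_dvd_sigmaCore hc.1 h)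
    have hcE₁ : c ∣ Nat.card E₁ := by
      rw [← relIndex_bot_left E, ← relIndex_mul_relIndex ⊥ E₁ E bot_le hE₁.1,
        relIndex_bot_left] at hcE
      exact (hc.1.dvd_mul.1 hcE).resolve_right (hE₁.2.2 c hc.1 hc)
    obtain ⟨b, hb⟩ := exists_prime_orderOf_dvd_card' c hcE₁
    have hbo : orderOf (b : G) = c := by rw [orderOf_coe, hb]
    have hbc : Nat.card (zpowers (b : G)) = c := by rw [Nat.card_zpowers, hbo]
    have hbE : (b : G) ∈ E := hE₁.1 b.2
    have hbH : (b : G) ∈ H := hN (complement_le_normalizer hG hM h3 huM huo hE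
      (hle' (mem_sup_left (mem_zpowers u))) hbE)
    have hbHσ : (b : G) ∈ Cfsg.sigmaCore H := le_sigmaCore_of_pgroup hG hH hcH
      (isPGroup_of_prime_card hbc) (zpowers_le.2 hbH) (mem_zpowers _)
    have hbw : Commute w₀ (b : G) := commute_of_sigma_cores (sigmaCore_inf_eq_bot hG hM hH hMH)
      hw₀.1 hw₀.2 hbHσ (hE.1 hbE)
    have hba : Commute (b : G) a := setLike_mul_comm b.2 (haE₁ (mem_zpowers a))
    have h2 := centralizer_le_of_tau1_commute hG hM hc hbc (zpowers_le.2 (hE.1 hbE)) hp1.2.1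
      hp1.2.2.2.2 hap haM (mem_centralizer_iff.2 fun z hz => by
        obtain ⟨i, rfl⟩ := mem_zpowers_iff.1 hz
        exact (hba.zpow_left i).eq)
      (⟨hw₀.1, mem_centralizer_iff.2 fun z hz => by
        obtain ⟨i, rfl⟩ := mem_zpowers_iff.1 hz
        exact (hbw.symm.zpow_left i).eq⟩ :
        w₀ ∈ Cfsg.sigmaCore M ⊓ centralizer (zpowers (b : G) : Set G))
    exact hw₀1 (hW1' hw₀ (mem_centralizer_singleton_iff.1 h2).symm)
  exact false_of_common_tau1 hG hM hH hMH hp1 hpτ1 (R := zpowers a) hPc (zpowers_le.2 haM)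
    (zpowers_le.2 haH)
    (by rw [centralizer_zpowers_singleton]; exact fun e => h0 (e ▸ bot_le))
    (by rw [centralizer_zpowers_singleton]; exact fun e => h0H (e ▸ bot_le))
    (tau2_empty_of_pair hG hM h3 huM huo hW) (tau2_empty_of_pair hG hH hr3 hxH hxo hxW) hnσ

end CfsgLib.OddOrder
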