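import Cfsg.Agent.Lib.OddOrder.KappaHall
import Cfsg.Agent.Lib.OddOrder.Tau3Pair
import Cfsg.Agent.S1425

/-!
BG 14.2 (d), (e) for `K* = C_{M_σ}(K)`: it is cyclic, a TI set, and the Sylow subgroups of `M_σ` at its
primes are not contained in it.
-/

set_option autoImplicit false
set_option linter.style.haveILetI false

open scoped commutatorElement Pointwise

namespace CfsgLib.OddOrder

open Subgroup

variable {G : Type*} [Group G] [Finite G] (hG : Cfsg.IsMinSimpleOddOrder G) {M K : Subgroup G}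
  (hM : IsCoatom M) (hK : Cfsg.IsPiHallOf (Cfsg.kappa M) K M) (hK1 : K ≠ ⊥)
include hG hM hK hK1

theorem exists_kappa_prime_element :
    ∃ (t : ℕ) (k : G), t.Prime ∧ k ∈ K ∧ orderOf k = t ∧ t ∈ Cfsg.tau1 M ∧
      Cfsg.sigmaCore M ⊓ centralizer ({k} : Set G) =
        Cfsg.sigmaCore M ⊓ centralizer (K : Set G) ∧
      Cfsg.sigmaCore M ⊓ centralizer (K : Set G) ≠ ⊥ := by
  obtain ⟨t, ht, htd⟩ := Nat.exists_prime_and_dvd fun h => hK1 (card_eq_one.1 h)
  haveI := Fact.mk ht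
  obtain ⟨k, hk⟩ := exists_prime_orderOf_dvd_card' t htd
  have hko : orderOf (k : G) = t := by rw [orderOf_coe, hk]
  have hk1 : (k : G) ≠ 1 := fun h => ht.ne_one (by rw [← hko, h, orderOf_one])
  have hKc := isCyclic_kappa_hall hG hM hK
  exact ⟨t, k, ht, k.2, hko, kappa_tau1 hG hM (hK.2.1 t ht htd),
    kappa_prime_action hG hM hKc hK k.2 hk1, kappa_fixed_ne_bot hG hM hKc hK⟩

theorem kappa_fixed_centralizer_le {y : G}
    (hy : y ∈ Cfsg.sigmaCore M ⊓ centralizer (K : Set G)) (hy1 : y ≠ 1) :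
    centralizer ({y} : Set G) ≤ M := by
  obtain ⟨t, k, ht, hk, hko, ht1, -, -⟩ := exists_kappa_prime_element hG hM hK hK1
  haveI := Fact.mk ht
  exact centralizer_le_of_prime_fixed hG hM hko (hK.1 hk) ht1.2.1 ht1.2.2.2.2 hy.1 hy1
    (hy.2 k hk)

/-- `K*` is cyclic. -/
theorem isCyclic_kappa_fixed : IsCyclic ↥(Cfsg.sigmaCore M ⊓ centralizer (K : Set G)) := by
  obtain ⟨t, k, ht, hk, hko, ht1, heq, hne⟩ := exists_kappa_prime_element hG hM hK hK1
  haveI := Fact.mk ht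
  have hkc : Nat.card (zpowers k) = t := by rw [Nat.card_zpowers, hko]
  have hk1 : k ≠ 1 := fun h => ht.ne_one (by rw [← hko, h, orderOf_one])
  obtain ⟨L, hL, hNL⟩ := exists_isCoatom_ge (normalizer_ne_top hG (ne_bot_of_prime_card hkc)
    (isPGroup_ne_top hG (isPGroup_of_prime_card hkc)))
  have htL := mem_sigma_of_prime_fixed hG hM hko (hK.1 hk) ht1.2.1 ht1.2.2.2.2 (heq.symm ▸ hne)
    hL hNL
  have hkL : k ∈ Cfsg.sigmaCore L := le_sigmaCore_of_pgroup hG hL htL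
    (isPGroup_of_prime_card hkc) (le_normalizer.trans hNL) (mem_zpowers k)
  have hML : ∀ g : G, M.map (MulAut.conj g).toMonoidHom ≠ L := fun g hg =>
    ht1.2.1 (by rwa [← hg, sigma_conj] at htL)
  set Ks := Cfsg.sigmaCore M ⊓ centralizer (K : Set G) with hKs
  have hsL : Ks ≤ L := by
    refine le_trans ?_ hNL
    refine le_trans (le_trans inf_le_right ?_) (centralizer_le_normalizer _)
    exact centralizer_le (zpowers_le.2 hk)
  haveI := isSolvable_of_ne_top hG hL.1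
  obtain ⟨K', hK', hle⟩ := exists_isPiHallOf_ge (π := Cfsg.kappa L) ‹_› hsL fun r hr hrd => by
    haveI := Fact.mk hr
    obtain ⟨y, hy⟩ := exists_prime_orderOf_dvd_card' r hrd
    have hyo : orderOf (y : G) = r := by rw [orderOf_coe, hy]
    have hy1 : (y : G) ≠ 1 := fun h => hr.ne_one (by rw [← hyo, h, orderOf_one])
    exact mem_kappa_of_fixed hG hM hL (fun h => hML 1 (by rw [← h, map_conj_one])) hkL hk1
      (hsL y.2) hyo (show Commute (y : G) k from (y.2.2 k hk).symm)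
      (sigma_disjoint hG hM hL hML (sigma_of_dvd_sigmaCore hr (hrd.trans (card_dvd_of_le inf_le_left))))
      (kappa_fixed_centralizer_le hG hM hK hK1 y.2 hy1)
  haveI := isCyclic_kappa_hall hG hL hK'
  exact isCyclic_of_le hle

/-- `K* ∩ M^g = 1` for `g ∉ M`. -/
theorem kappa_fixed_inf_conj {g : G} (hg : g ∉ M) :
    (Cfsg.sigmaCore M ⊓ centralizer (K : Set G)) ⊓ M.map (MulAut.conj g).toMonoidHom = ⊥ := by
  rw [eq_bot_iff]
  rintro y ⟨hy, hyg⟩
  rw [mem_bot]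
  by_contra hy1
  have hgy : g⁻¹ * y * g⁻¹⁻¹ ∈ M := by
    rw [inv_inv]
    exact mem_map_conj_iff.1 hyg
  obtain ⟨m, hm, c, hc, hmc⟩ := exists_mul_centralizer_of_sigma hG hM hy.1 hy1 (g := g⁻¹) hgy
  exact hg (inv_mem_iff.1 (hmc ▸ mul_mem hm (kappa_fixed_centralizer_le hG hM hK hK1 hy hy1 hc)))

/-- `K ∩ K^g = 1` for `g ∈ M ∖ K K*`. -/
theorem kappa_inf_conj {g : G} (hgM : g ∈ M)
    (hg : g ∉ K ⊔ (Cfsg.sigmaCore M ⊓ centralizer (K : Set G))) :
    K ⊓ K.map (MulAut.conj g).toMonoidHom = ⊥ := by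
  by_contra hne
  obtain ⟨t, ht, htd⟩ := Nat.exists_prime_and_dvd fun h => hne (card_eq_one.1 h)
  haveI := Fact.mk ht
  obtain ⟨x, hx⟩ := exists_prime_orderOf_dvd_card' t htd
  set X := zpowers ((g⁻¹ * (x : G) * g)) with hXdef
  have hxo : orderOf (x : G) = t := by rw [orderOf_coe, hx]
  have hxg : g⁻¹ * (x : G) * g ∈ K := mem_map_conj_iff.1 x.2.2
  have hXc : Nat.card X = t := by
    rw [hXdef, Nat.card_zpowers, show g⁻¹ * (x : G) * g = MulAut.conj g⁻¹ (x : G) by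
      simp [MulAut.conj_apply], MulEquiv.orderOf_eq, hxo]
  have hKc := isCyclic_kappa_hall hG hM hK
  have hmap : X.map (MulAut.conj g).toMonoidHom = zpowers (x : G) := by
    rw [hXdef, MonoidHom.map_zpowers]
    congr 1
    show g * (g⁻¹ * (x : G) * g) * g⁻¹ = x
    group
  have hgX : g ∈ normalizer (X : Set G) := mem_normalizer_of_map_le (le_of_eq (by
    rw [hmap]
    exact eq_of_card_eq_of_le_cyclic hKc (zpowers_le.2 x.2.1) (zpowers_le.2 hxg)
      (by rw [hXc, Nat.card_zpowers, hxo])))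
  exact hg ((kappa_normalizer_eq hG hM hK hK1 (zpowers_le.2 hxg) (hXc ▸ ht)).1.le ⟨hgM, hgX⟩)

/-- Sylow subgroups of `M_σ` at the primes of `K*`. -/
theorem kappa_fixed_sylow {p : ℕ} (hp : p.Prime)
    (hpd : p ∣ Nat.card ↥(Cfsg.sigmaCore M ⊓ centralizer (K : Set G)))
    (S : Sylow p ↥(Cfsg.sigmaCore M)) :
    Cfsg.InUniqueMaximal ((S : Subgroup ↥(Cfsg.sigmaCore M)).map (Cfsg.sigmaCore M).subtype) ∧
      (S : Subgroup ↥(Cfsg.sigmaCore M)).map (Cfsg.sigmaCore M).subtype ≤ M ∧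
      ¬ (S : Subgroup ↥(Cfsg.sigmaCore M)).map (Cfsg.sigmaCore M).subtype ≤
        (Cfsg.sigmaCore M ⊓ centralizer (K : Set G)) := by
  haveI := Fact.mk hp
  obtain ⟨t, k, ht, hk, hko, ht1, -, -⟩ := exists_kappa_prime_element hG hM hK hK1
  haveI := Fact.mk ht
  set Ks := Cfsg.sigmaCore M ⊓ centralizer (K : Set G) with hKs
  set P := zpowers k with hPdef
  have hP : Nat.card P = t := by rw [hPdef, Nat.card_zpowers, hko]
  have hPM : P ≤ M := zpowers_le.2 (hK.1 hk)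
  have hKsP : Ks ≤ Cfsg.sigmaCore M ⊓ centralizer (P : Set G) :=
    inf_le_inf_left _ (centralizer_le (zpowers_le.2 hk))
  obtain ⟨x, hx⟩ := exists_prime_orderOf_dvd_card' p hpd
  set X := zpowers (x : G) with hXdef
  have hXc : Nat.card X = p := by rw [hXdef, Nat.card_zpowers, orderOf_coe, hx]
  have hXs : X ≤ Ks := zpowers_le.2 x.2
  have hXσ : X ≤ Cfsg.sigmaCore M := hXs.trans inf_le_left
  have hpσ : p ∈ Cfsg.sigma M := sigma_of_dvd_sigmaCore hp (hpd.trans (card_dvd_of_le inf_le_left))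
  have hPσ : ∀ q : ℕ, q.Prime → q ∣ Nat.card P → q ∉ Cfsg.sigma M := fun q hq hd => by
    rw [hP, Nat.prime_dvd_prime_iff_eq hq ht] at hd
    exact hd ▸ ht1.2.1
  have hor : p ∈ Cfsg.beta M ∨ X ≤ ⁅Cfsg.sigmaCore M, Cfsg.sigmaCore M⁆ := by
    by_cases hβ : p ∈ Cfsg.beta M
    · exact Or.inl hβ
    refine Or.inr ?_
    obtain ⟨S₁, hXS₁, hPS₁⟩ := Solvable.exists_invariant_sylow_ge
      (hPM.trans (le_normalizer_piCoreOf _ _) : P ≤ normalizer (Cfsg.sigmaCore M : Set G))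
      (Nat.coprime_of_dvd fun q hq h1 h2 => hPσ q hq h1 (sigma_of_dvd_sigmaCore hq h2))
      (Or.inl (isSolvable_of_ne_top hG fun h => hM.1 (top_le_iff.1 (h ▸ hPM)))) p hXσ
      (isPGroup_of_prime_card hXc)
      ((le_centralizer_iff.1 ((hXs.trans hKsP).trans inf_le_right)).trans
        (centralizer_le_normalizer _))
    obtain ⟨E, hE, -, hEX⟩ := exists_complement_centralizing hG hM ht1 hP hPM hXc
      (hXs.trans hKsP) hβ (isMaxPIn_of_sylow S₁) hXS₁ hPS₁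
    exact (le_inf hXσ (le_centralizer_iff.1 hEX)).trans
      (Cfsg.Agent.S1426.result hG M hM E hE).1
  obtain ⟨-, hu, hSM⟩ :=
    Cfsg.Agent.S1423.result hG M hM p hpσ X (hXσ.trans (piCoreOf_le _ _)) hXc S hor
  refine ⟨hu, hSM, fun hle => ?_⟩
  set T := (S : Subgroup ↥(Cfsg.sigmaCore M)).map (Cfsg.sigmaCore M).subtype with hT
  haveI := isCyclic_kappa_fixed hG hM hK hK1
  haveI hTc : IsCyclic T := isCyclic_of_le hle
  have hTM : IsMaxPIn p M T := isMaxPIn_of_sigmaCore_sylow hG hM hpσ S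
  have hTtop : IsMaxPIn p ⊤ T := isMaxPIn_top_of_sigma hpσ hTM
  have hT1 : T ≠ ⊥ := fun h => by
    have h2 := hTtop.max X (isPGroup_of_prime_card hXc) (h ▸ bot_le) le_top
    exact ne_bot_of_prime_card hXc (h2.trans h)
  obtain ⟨X', hX'T, hX'c⟩ := exists_le_card_prime hTtop.pgroup hT1
  have hβ : p ∉ Cfsg.beta M := by
    intro hβ
    obtain ⟨A, hAM, hA, hAc⟩ := exists_elementary_of_not_pRankLE hβ.1.2
    obtain ⟨m, hm, hmA⟩ := IsMaxPIn.exists_conj_mem hTM (isPGroup_of_exp hA.2) hAM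
    have hAp : p < Nat.card A := lt_trans (by
      simpa using Nat.pow_lt_pow_right hp.one_lt one_lt_two) hAc
    refine elementary_not_isCyclic hA hAp ?_
    have hA' : A.map (MulAut.conj m).toMonoidHom ≤ T := by
      rintro _ ⟨z, hz, rfl⟩
      exact hmA z hz
    haveI : IsCyclic ↥(A.map (MulAut.conj m).toMonoidHom) := isCyclic_of_le hA'
    exact (A.equivMapOfInjective (MulAut.conj m).toMonoidHom (MulAut.conj m).injective).isCyclic.2
      inferInstance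
  have hPT : P ≤ normalizer (T : Set G) :=
    (le_centralizer_iff.1 ((hle.trans hKsP).trans inf_le_right)).trans (centralizer_le_normalizer _)
  obtain ⟨E, hE, hET, hEX⟩ := exists_complement_centralizing hG hM ht1 hP hPM hX'c
    ((hX'T.trans hle).trans hKsP) hβ (isMaxPIn_of_sylow S) hX'T hPT
  obtain ⟨T', hT'⟩ : ∃ T' : Sylow p G, (T' : Subgroup G) = T :=
    ⟨⟨T, hTtop.pgroup, fun {R} hR hle' => hTtop.max R hR hle' le_top⟩, rfl⟩
  haveI : IsMulCommutative T := inferInstance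
  haveI : IsMulCommutative (T' : Subgroup G) := hT'.symm ▸ ‹IsMulCommutative T›
  refine not_le_centralizer_normalizer_sylow hG T' (T := X') (hT'.symm ▸ hX'T)
    (ne_bot_of_prime_card hX'c) fun n hn => ?_
  rw [hT'] at hn
  obtain ⟨e, he, s, hs, rfl⟩ := hE.2.2.2 n (normalizer_le_of_sigma hpσ hTM hn)
  exact mul_mem (hEX he) (centralizer_le hX'T (sigma_normalizer_le_centralizer hG hM hpσ hβ hTtop
    hSM ⟨hs, ((normalizer (T : Set G)).mul_mem_cancel_left (hET he)).1 hn⟩))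

/-- A `σ(M)`-subgroup meeting `K*` lies in `M_σ`. -/
theorem le_sigmaCore_of_meets_kappa_fixed {Y : Subgroup G}
    (hY : ∀ p : ℕ, p.Prime → p ∣ Nat.card Y → p ∈ Cfsg.sigma M)
    (hne : Y ⊓ (Cfsg.sigmaCore M ⊓ centralizer (K : Set G)) ≠ ⊥) : Y ≤ Cfsg.sigmaCore M := by
  have hY1 : Y ≠ ⊥ := fun h => hne (by rw [h, bot_inf_eq])
  obtain ⟨g, hg⟩ := Cfsg.Agent.S1425.result hG M hM Y hY1 hY
  obtain ⟨y, ⟨hyY, hy⟩, hy1⟩ := (Y ⊓ _).bot_or_exists_ne_one.resolve_left hne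
  have hgM : g⁻¹ ∈ M := by
    by_contra hgM
    refine hy1 (mem_bot.1 (kappa_fixed_inf_conj hG hM hK hK1 hgM ▸ (⟨hy, ?_⟩ :
      y ∈ (Cfsg.sigmaCore M ⊓ centralizer (K : Set G)) ⊓ M.map (MulAut.conj g⁻¹).toMonoidHom)))
    refine mem_map_conj_iff.2 ?_
    rw [inv_inv]
    exact piCoreOf_le _ _ (hg ⟨y, hyY, rfl⟩)
  intro z hz
  have h1 := (mem_normalizer_iff.1 (le_normalizer_piCoreOf (Cfsg.sigma M) M hgM)
    (g * z * g⁻¹)).1 (hg ⟨z, hz, rfl⟩)
  rwa [inv_inv, show g⁻¹ * (g * z * g⁻¹) * g = z by group] at h1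

end CfsgLib.OddOrder
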