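import Cfsg.Agent.Lib.OddOrder.Exceptional
import Cfsg.Agent.Lib.OddOrder.NonabelianUnique
import Cfsg.Agent.S0033

/-!
BG 14.1: a prime outside `σ(M) ∪ κ(M)`, given 12.5.
-/

set_option autoImplicit false
set_option linter.style.haveILetI false

namespace CfsgLib.OddOrder

open Subgroup

/-- An element of prime order normalizing `V` without nontrivial fixed points forces `V` nilpotent. -/
theorem isNilpotent_of_prime_fpf {G : Type*} [Group G] [Finite G] {p : ℕ} (hp : p.Prime)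
    {V : Subgroup G} {a : G} (hap : a ^ p = 1) (haV : a ∈ normalizer (V : Set G))
    (hfix : V ⊓ centralizer ({a} : Set G) = ⊥) : Group.IsNilpotent V := by
  by_cases hV : V = ⊥
  · subst hV
    infer_instance
  set φ := V.normalizerMonoidHom ⟨a, haV⟩ with hφ
  have hap' : φ ^ p = 1 := by
    have h : (⟨a, haV⟩ : normalizer (V : Set G)) ^ p = 1 := Subtype.ext hap
    rw [hφ, ← map_pow, h, map_one]
  have hfp : ∀ v : V, φ v = v → v = 1 := by
    intro v hv
    have h : a * v * a⁻¹ = v := congrArg Subtype.val hv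
    have hmem : (v : G) ∈ V ⊓ centralizer ({a} : Set G) :=
      ⟨v.2, mem_centralizer_singleton_iff.2 (mul_inv_eq_iff_eq_mul.1 h).symm⟩
    rw [hfix] at hmem
    exact Subtype.ext (mem_bot.1 hmem)
  have hne : φ ≠ 1 := fun h => hV ((eq_bot_iff_forall _).2 fun v hv =>
    congrArg Subtype.val (hfp ⟨v, hv⟩ (by rw [h]; rfl)))
  haveI := Fact.mk hp
  exact Cfsg.Agent.S0033.result φ hfp p hp (orderOf_eq_prime hap' hne)

variable {G : Type*} [Group G] [Finite G] (hG : Cfsg.IsMinSimpleOddOrder G) {M : Subgroup G}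
  (hM : IsCoatom M)
include hG hM

/-- For `p ∉ σ(M) ∪ κ(M)` with cyclic Sylow subgroups, elements of order `p` act on `M_σ` without
fixed points. -/
theorem sigmaCore_inf_centralizer_eq_bot_of_not_kappa {p : ℕ} [hp : Fact p.Prime]
    (hpM : p ∣ Nat.card M) (hps : p ∉ Cfsg.sigma M) (hpk : p ∉ Cfsg.kappa M)
    (hr1 : Cfsg.PRankLE p 1 M) {a : G} (haM : a ∈ M) (hap : a ^ p = 1) (ha1 : a ≠ 1) :
    Cfsg.sigmaCore M ⊓ centralizer ({a} : Set G) = ⊥ := by
  have hp2 : p ≠ 2 := prime_ne_two_of_dvd_card hG hpM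
  refine (eq_bot_iff_forall _).2 fun y hy => by_contra fun hy1 => hpk ⟨hp.out, hpM, hps, ?_⟩
  obtain ⟨hyM, hya⟩ := hy
  have hcyc : ∀ P : Sylow p M, IsCyclic (P : Subgroup M) := fun P => by
    by_contra h
    refine not_pRankLE_one_of_not_isCyclic hp2 P.2 h fun E hc he => ?_
    haveI := hc
    have h1 := hr1 (E.map (P : Subgroup M).subtype) inferInstance
      (by rintro _ ⟨e, he', rfl⟩; rw [← map_pow, he e he', map_one])
    rwa [card_map_of_injective (P : Subgroup M).subtype_injective] at h1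
  set a' : M := ⟨a, haM⟩ with ha'
  have hord : orderOf a' = p := orderOf_eq_prime (Subtype.ext hap) (fun h => ha1 (congrArg Subtype.val h))
  obtain ⟨S, hS⟩ := (IsPGroup.of_card (n := 1) (by rw [Nat.card_zpowers, hord, pow_one]) :
    IsPGroup p (zpowers a')).exists_le_sylow
  intro P
  obtain ⟨m, hm⟩ := MulAction.exists_smul_eq M S P
  refine ⟨hcyc P, MulAut.conj m a', ?_, ?_, (m : G) * y * (m : G)⁻¹, ?_, ?_, ?_⟩
  · rw [← hm, Sylow.coe_subgroup_smul]
    exact ⟨a', hS (mem_zpowers a'), rfl⟩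
  · intro h
    rw [MulAut.conj_apply, conj_eq_one_iff] at h
    exact ha1 (congrArg Subtype.val h)
  · exact (mem_normalizer_iff.1 (le_normalizer_piCoreOf _ M m.2) y).1 hyM
  · exact fun h => hy1 (conj_eq_one_iff.1 h)
  · have h : a * y = y * a := (mem_centralizer_singleton_iff.1 hya).symm
    show ((m * a' * m⁻¹ : M) : G) * _ = _ * ((m * a' * m⁻¹ : M) : G)
    simp only [ha', Subgroup.coe_mul, Subgroup.coe_inv]
    calc (m : G) * a * (m : G)⁻¹ * ((m : G) * y * (m : G)⁻¹) = (m : G) * (a * y) * (m : G)⁻¹ := by group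
      _ = (m : G) * (y * a) * (m : G)⁻¹ := by rw [h]
      _ = _ := by group

/-- BG 14.1, from 12.5. -/
theorem not_sigma_not_kappa {p : ℕ} [hp : Fact p.Prime]
    (h125 : p ∈ Cfsg.tau2 M → ∀ A : Subgroup G,
      (A ≤ M ∧ Cfsg.IsElementaryAbelian p A ∧ Nat.card A = p ^ 2) →
      Group.IsNilpotent (Cfsg.sigmaCore M) ∧
        (∀ P : Sylow p M, A ≤ (P : Subgroup M).map M.subtype →
          ∀ x ∈ (P : Subgroup M).map M.subtype, x ^ p = 1 ↔ x ∈ A) ∧
        Cfsg.sigmaCore M ⊓ centralizer (A : Set G) = ⊥)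
    (hpM : p ∣ Nat.card M) (hps : p ∉ Cfsg.sigma M ∪ Cfsg.kappa M) (S : Sylow p M) :
    Nat.card ↥(closure {x : G | x ∈ (S : Subgroup M).map M.subtype ∧ x ^ p = 1}) ≤ p ^ 2 ∧
      Cfsg.sigmaCore M ⊓ centralizer ((closure {x : G | x ∈ (S : Subgroup M).map M.subtype ∧
        x ^ p = 1} : Subgroup G) : Set G) = ⊥ ∧
      Group.IsNilpotent (Cfsg.sigmaCore M) := by
  have hp2 : p ≠ 2 := prime_ne_two_of_dvd_card hG hpM
  simp only [Set.mem_union, not_or] at hps
  obtain ⟨hps, hpk⟩ := hps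
  set T := (S : Subgroup M).map M.subtype with hT
  have hTM : T ≤ M := map_subtype_le _
  have hTp : IsPGroup p T := S.2.map _
  have hr2 : Cfsg.PRankLE p 2 M :=
    by_contra fun h => hps (alpha_subset_sigma hG hM ⟨hp.out, h⟩)
  set A := closure {x : G | x ∈ T ∧ x ^ p = 1} with hA
  by_cases hr1 : Cfsg.PRankLE p 1 M
  · haveI hTc : IsCyclic T := by
      by_contra h
      obtain ⟨E, hET, hEe, hE⟩ := exists_elementary_of_not_pRankLE
        (not_pRankLE_one_of_not_isCyclic hp2 hTp h)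
      exact not_pRankLE_of_elementary (hET.trans hTM) hEe hE hr1
    obtain ⟨z, hz⟩ := exists_prime_orderOf_dvd_card' p (G := S) (by
      obtain ⟨k, hk⟩ : ∃ k, k + 1 = (Nat.card M).factorization p :=
        ⟨_, Nat.sub_add_cancel (hp.out.factorization_pos_of_dvd Nat.card_pos.ne' hpM)⟩
      rw [S.card_eq_multiplicity, ← hk, pow_succ]
      exact dvd_mul_left _ _)
    set a : G := ((z : M) : G) with ha
    have haT : a ∈ T := mem_map_of_mem M.subtype z.2
    have hoa : orderOf a = p := by rw [ha, orderOf_coe, orderOf_coe, hz]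
    have hap : a ^ p = 1 := hoa ▸ pow_orderOf_eq_one a
    have ha1 : a ≠ 1 := fun h => hp.out.ne_one (by rw [← hoa, h, orderOf_one])
    have hAle : A ≤ zpowers a := by
      rw [hA, closure_le]
      rintro x ⟨hxT, hxp⟩
      by_cases hx1 : x = 1
      · rw [hx1]; exact one_mem _
      have he : (zpowers (⟨x, hxT⟩ : T)) = zpowers (⟨a, haT⟩ : T) := eq_of_card_eq_of_isCyclic (by
        rw [Nat.card_zpowers, Nat.card_zpowers, orderOf_mk, orderOf_mk, hoa, orderOf_eq_prime hxp hx1])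
      obtain ⟨k, hk⟩ := mem_zpowers_iff.1 (he ▸ mem_zpowers (⟨x, hxT⟩ : T))
      exact mem_zpowers_iff.2 ⟨k, congrArg Subtype.val hk⟩
    have haA : a ∈ A := subset_closure ⟨haT, hap⟩
    have hC := sigmaCore_inf_centralizer_eq_bot_of_not_kappa hG hM hpM hps hpk hr1 (hTM haT) hap ha1
    refine ⟨?_, ?_, isNilpotent_of_prime_fpf hp.out hap (le_normalizer_piCoreOf _ M (hTM haT)) hC⟩
    · refine (card_le_of_le hAle).trans ?_
      rw [Nat.card_zpowers, hoa]
      exact Nat.le_self_pow (by norm_num) p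
    · exact le_bot_iff.1 (hC ▸ inf_le_inf_left _ (centralizer_le (Set.singleton_subset_iff.2 haA)))
  · have hnc : ¬ IsCyclic T := by
      intro h
      obtain ⟨E, hEM, hEe, hE⟩ := exists_elementary_of_not_pRankLE hr1
      rw [pow_one] at hE
      obtain ⟨P, hP⟩ := ((isPGroup_of_exp hEe.2).of_equiv
        (subgroupOfEquivOfLe hEM).symm).exists_le_sylow
      haveI : IsCyclic S := isCyclic_of_surjective _
        ((S : Subgroup M).equivMapOfInjective _ M.subtype_injective).symm.surjective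
      haveI : IsCyclic P := isCyclic_of_surjective _ (S.equiv P).surjective
      exact elementary_not_isCyclic hEe hE ((subgroupOfEquivOfLe hEM).isCyclic.1
        (isCyclic_of_le hP))
    obtain ⟨A₀, hA₀T, hA₀e, hA₀⟩ := exists_elementary_sq hp2 hTp hnc
    obtain ⟨hn, hP, hC⟩ := h125 ⟨hp.out, hps, hr2, hr1⟩ A₀ ⟨hA₀T.trans hTM, hA₀e, hA₀⟩
    have hAeq : A = A₀ := le_antisymm ((closure_le _).2 fun x hx => (hP S hA₀T x hx.1).1 hx.2)
      fun x hx => subset_closure ⟨hA₀T hx, hA₀e.2 x hx⟩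
    rw [hAeq]
    exact ⟨hA₀.le, hC, hn⟩

end CfsgLib.OddOrder
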