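import Cfsg.Agent.S1353
import Cfsg.Agent.S1364
import Cfsg.Agent.S1417
import Cfsg.Agent.S1418
import Cfsg.Agent.S1425
import Cfsg.Agent.S1429
import Cfsg.Agent.S1432
import Cfsg.Agent.S1446
import Cfsg.Agent.Lib.OddOrder.KappaMain
import Cfsg.Agent.Lib.OddOrder.SigmaSupport
import Cfsg.Agent.Lib.OddOrder.TauTwo
import Cfsg.Agent.Lib.OddOrder.FHall
import Cfsg.Agent.Lib.OddOrder.PrimeActionChief
import Cfsg.Agent.Lib.OddOrder.Section16Frobenius
import Cfsg.Agent.Lib.Transfer.PGroup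

/-!
BG 14.12: maximal subgroups without `κ` primes over the `κ`-part `K` of a maximal subgroup of type
`P₂`.
-/

set_option autoImplicit false
set_option linter.style.haveILetI false

open scoped commutatorElement

namespace CfsgLib.OddOrder

open Subgroup

variable {G : Type*} [Group G] [Finite G]

omit [Finite G] in
/-- A commutator with an element `k` that commutes with `k` is killed by the order of `k`. -/
theorem pow_commutatorElement_eq_one {t k : G} {p : ℕ} (hk : k ^ p = 1)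
    (hc : Commute ⁅t, k⁆ k) : ⁅t, k⁆ ^ p = 1 := by
  have h1 : (⁅t, k⁆ * k) ^ p = 1 := by
    rw [show ⁅t, k⁆ * k = t * k * t⁻¹ by rw [commutatorElement_def]; group, conj_pow, hk]
    group
  rwa [hc.mul_pow, hk, mul_one] at h1

/-- For an abelian `s`-group `T` normalized by `k`, either `k` centralizes `T` or some commutator of
order `s` is moved by `k`. -/
theorem exists_commutator_moved {s p : ℕ} [hs : Fact s.Prime] (hp : p.Prime) (hsp : s ≠ p)
    {T : Subgroup G} (hT : IsPGroup s T) (hTc : IsMulCommutative T) {k : G} (hk : k ^ p = 1)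
    (hkT : k ∈ normalizer (T : Set G)) {t : G} (ht : t ∈ T) (htk : ¬ Commute t k) :
    ∃ u ∈ T, orderOf ⁅u, k⁆ = s ∧ ⁅u, k⁆ ∈ T ∧ ¬ Commute ⁅u, k⁆ k := by
  haveI := hTc
  have hmem : ∀ u ∈ T, ⁅u, k⁆ ∈ T := fun u hu => by
    have h := T.mul_mem hu ((mem_normalizer_iff.1 hkT u⁻¹).1 (inv_mem hu))
    rwa [commutatorElement_def, show u * k * u⁻¹ * k⁻¹ = u * (k * u⁻¹ * k⁻¹) by group]
  have hmul : ∀ u ∈ T, ∀ v ∈ T, ⁅u * v, k⁆ = ⁅u, k⁆ * ⁅v, k⁆ := fun u hu v hv => by
    have e : ⁅u * v, k⁆ = u * ⁅v, k⁆ * u⁻¹ * ⁅u, k⁆ := by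
      simp only [commutatorElement_def]; group
    rw [e, setLike_mul_comm hu (hmem v hv), mul_inv_cancel_right,
      setLike_mul_comm (hmem v hv) (hmem u hu)]
  have hpow : ∀ (n : ℕ), ∀ u ∈ T, ⁅u ^ n, k⁆ = ⁅u, k⁆ ^ n := by
    intro n u hu
    induction n with
    | zero => simp
    | succ n ih => rw [pow_succ, hmul _ (pow_mem hu n) _ hu, ih, pow_succ]
  have hne : ⁅t, k⁆ ≠ 1 := fun h => htk (commutatorElement_eq_one_iff_commute.1 h)
  have hd : s ∣ orderOf ⁅t, k⁆ := by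
    obtain ⟨n, hn⟩ := hT ⟨⁅t, k⁆, hmem t ht⟩
    obtain ⟨i, -, hi⟩ := (Nat.dvd_prime_pow hs.out).1
      (orderOf_dvd_of_pow_eq_one (congrArg Subtype.val hn : ⁅t, k⁆ ^ s ^ n = 1))
    rcases i with _ | i
    · exact absurd (orderOf_eq_one_iff.1 (hi.trans (pow_zero s))) hne
    · rw [hi]; exact dvd_pow_self s (Nat.succ_ne_zero i)
  refine ⟨t ^ (orderOf ⁅t, k⁆ / s), pow_mem ht _, ?_, hmem _ (pow_mem ht _), fun hc => ?_⟩
  · rw [hpow _ t ht, orderOf_pow_orderOf_div (orderOf_pos _).ne' hd]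
  · have h1 := pow_commutatorElement_eq_one hk hc
    rw [hpow _ t ht] at h1
    have h2 := orderOf_dvd_of_pow_eq_one h1
    rw [orderOf_pow_orderOf_div (orderOf_pos _).ne' hd,
      Nat.prime_dvd_prime_iff_eq hs.out hp] at h2
    exact hsp h2

variable (hG : Cfsg.IsMinSimpleOddOrder G)
include hG

section Decomposition

variable {M K U : Subgroup G} (hM : IsCoatom M) (hKU : Cfsg.IsSigmaDecomposition M K U)
include hM hKU

theorem decomposition_index_prime {r : ℕ} (hr : r.Prime) (hd : r ∣ Nat.card U) :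
    ¬ r ∣ U.relIndex M := by
  obtain ⟨hrσ, hrκ⟩ := decomposition_U_primes hG hM hKU hr hd
  intro h
  have h1 : Nat.card ↥(K ⊔ Cfsg.sigmaCore M) * (K ⊔ Cfsg.sigmaCore M).relIndex M =
      Nat.card U * U.relIndex M := by
    rw [← relIndex_bot_left, ← relIndex_bot_left (H := U),
      relIndex_mul_relIndex ⊥ (K ⊔ Cfsg.sigmaCore M) M bot_le
        (sup_le hKU.hall.1 (piCoreOf_le _ _)),
      relIndex_mul_relIndex ⊥ U M bot_le hKU.compl.1]
  rw [← card_eq_relIndex_of_isComplIn hKU.compl, mul_comm] at h1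
  have h2 := Nat.eq_of_mul_eq_mul_left Nat.card_pos h1
  rw [← h2, sup_comm] at h
  rcases hr.dvd_mul.1 (h.trans (card_sup_dvd_mul_of_le_normalizer
    (hKU.hall.1.trans (le_normalizer_piCoreOf _ _)))) with h3 | h3
  · exact hrσ (sigma_of_dvd_sigmaCore hr h3)
  · exact hrκ (hKU.hall.2.1 r hr h3)

/-- A Sylow subgroup of `U` is one of `M`. -/
theorem exists_sylow_of_decomposition {r : ℕ} [hr : Fact r.Prime] (hd : r ∣ Nat.card U)
    (R : Sylow r U) : ∃ S : Sylow r M,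
      (S : Subgroup M).map M.subtype = (R : Subgroup U).map U.subtype := by
  have hUM := (decomposition_le hKU).2
  set P := (R : Subgroup U).map U.subtype with hP
  have hPM : P ≤ M := (map_subtype_le _).trans hUM
  obtain ⟨S, hS⟩ := ((R.2.map U.subtype).of_equiv (subgroupOfEquivOfLe hPM).symm).exists_le_sylow
  refine ⟨S, (eq_of_le_of_card_ge ?_ ?_).symm⟩
  · rw [← map_subgroupOf_eq_of_le hPM]
    exact map_mono hS
  · have hPc : Nat.card P = Nat.card (R : Subgroup U) := card_map_of_injective U.subtype_injective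
    have hmul : Nat.card M = Nat.card U * U.relIndex M := by
      rw [← relIndex_bot_left (H := U), relIndex_mul_relIndex ⊥ U M bot_le hUM,
        relIndex_bot_left]
    rw [card_map_of_injective M.subtype_injective, S.card_eq_multiplicity, hPc,
      R.card_eq_multiplicity, hmul, Nat.factorization_mul Nat.card_pos.ne'
        (fun h => decomposition_index_prime hG hM hKU hr.out hd (by rw [h]; exact dvd_zero r)),
      Finsupp.add_apply, Nat.factorization_eq_zero_of_not_dvd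
        (decomposition_index_prime hG hM hKU hr.out hd), add_zero]

theorem typeP2_nilpotent (hU1 : U ≠ ⊥) : Group.IsNilpotent (Cfsg.sigmaCore M) := by
  obtain ⟨r, hr, hd⟩ := Nat.exists_prime_and_dvd fun h => hU1 (card_eq_one.1 h)
  haveI := Fact.mk hr
  obtain ⟨hrσ, hrκ⟩ := decomposition_U_primes hG hM hKU hr hd
  have hrM : r ∣ Nat.card M := hd.trans (card_dvd_of_le (decomposition_le hKU).2)
  obtain ⟨S⟩ : Nonempty (Sylow r M) := inferInstance
  exact (Cfsg.Agent.S1429.result hG M hM (fun h => hrκ (h r hr hrM hrσ)) r hrM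
    (by simp [hrσ, hrκ]) S).2.2

theorem sigmaCore_inf_centralizer_sylow {r : ℕ} [hr : Fact r.Prime] (hd : r ∣ Nat.card U)
    (R : Sylow r U) :
    Cfsg.sigmaCore M ⊓ centralizer (((R : Subgroup U).map U.subtype : Subgroup G) : Set G) =
      ⊥ := by
  obtain ⟨hrσ, hrκ⟩ := decomposition_U_primes hG hM hKU hr.out hd
  have hrM : r ∣ Nat.card M := hd.trans (card_dvd_of_le (decomposition_le hKU).2)
  obtain ⟨S, hS⟩ := exists_sylow_of_decomposition hG hM hKU hd R
  refine le_bot_iff.1 ?_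
  rw [← (Cfsg.Agent.S1429.result hG M hM (fun h => hrκ (h r hr.out hrM hrσ)) r hrM
    (by simp [hrσ, hrκ]) S).2.1]
  refine inf_le_inf_left _ (centralizer_le ?_)
  refine (Subgroup.closure_le _).2 fun x hx => ?_
  rw [SetLike.mem_coe, ← hS]
  exact hx.1

variable (hK1 : K ≠ ⊥) (hU1 : U ≠ ⊥)
include hK1 hU1

/-- The orders of the `U K`-invariant subgroups of `M_σ`. -/
theorem typeP2_invariant_card {V : Subgroup G} (hV : V ≤ Cfsg.sigmaCore M) (hV1 : V ≠ ⊥)
    (hUV : U ≤ normalizer (V : Set G)) (hKV : K ≤ normalizer (V : Set G)) :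
    (Nat.card K).Prime ∧
      Nat.card V = Nat.card ↥(V ⊓ centralizer (K : Set G)) ^ Nat.card K := by
  obtain ⟨hKM, hUM⟩ := decomposition_le hKU
  haveI := typeP2_nilpotent hG hM hKU hU1
  have hle : U ⊔ K ≤ M := sup_le hUM hKM
  obtain ⟨r, hr, hd⟩ := Nat.exists_prime_and_dvd fun h => hU1 (card_eq_one.1 h)
  haveI := Fact.mk hr
  obtain ⟨R⟩ : Nonempty (Sylow r U) := inferInstance
  have hdis : U ⊓ K = ⊥ := le_bot_iff.1 (hKU.compl.2.2.1 ▸ inf_le_inf_left U le_sup_left)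
  have hCU : V ⊓ centralizer (U : Set G) = ⊥ := le_bot_iff.1 <| by
    rw [← sigmaCore_inf_centralizer_sylow hG hM hKU hd R]
    exact inf_le_inf hV (centralizer_le (map_subtype_le _))
  have hpr : ∀ x ∈ K, x ≠ 1 →
      V ⊓ centralizer ({x} : Set G) = V ⊓ centralizer (K : Set G) := fun x hx hx1 => by
    rw [← inf_eq_left.2 hV, inf_assoc, inf_assoc,
      kappa_prime_action hG hM hKU.cyclic hKU.hall hx hx1]
  refine ⟨?_, ?_⟩ <;>
    [refine (Cfsg.Agent.S1446.result U K V hU1 hK1 hdis hKU.normal ?_ ?_ ?_ hV1 ?_ hUV hKV ?_ hCU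
      hpr).1;
     refine (Cfsg.Agent.S1446.result U K V hU1 hK1 hdis hKU.normal ?_ ?_ ?_ hV1 ?_ hUV hKV ?_ hCU
      hpr).2.1]
  all_goals first
    | exact Cfsg.Agent.S1353.result hG M hM K U hKU
    | exact isSolvable_of_ne_top hG fun h => hM.1 (top_le_iff.1 (h ▸ hle))
    | exact hG.1.of_dvd_nat (card_subgroup_dvd_card _)
    | exact isNilpotent_of_subgroup_le inferInstance hV
    | exact Nat.coprime_of_dvd fun q hq h1 h2 => complement_prime_not_sigma hG hM
        (decomposition_isComplIn hKU) hq h1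
        (sigma_of_dvd_sigmaCore hq (h2.trans (card_dvd_of_le hV)))

/-- `|K|` is a prime. -/
theorem typeP2_prime : (Nat.card K).Prime :=
  (typeP2_invariant_card hG hM hKU hK1 hU1 le_rfl (sigmaCore_ne_bot hG hM)
    ((decomposition_le hKU).2.trans (le_normalizer_piCoreOf _ _))
    ((decomposition_le hKU).1.trans (le_normalizer_piCoreOf _ _))).1

/-- No element of order `s ∈ σ(M)` has its centralizer in a maximal subgroup of `s`-rank two. -/
theorem false_of_sigma_rank_two {H : Subgroup G} {s : ℕ} [hs : Fact s.Prime]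
    (hsM : s ∈ Cfsg.sigma M) (hr2 : Cfsg.PRankLE s 2 H) {y : G} (hy : orderOf y = s)
    (hC : centralizer ({y} : Set G) ≤ H) : False := by
  have hy1 : y ≠ 1 := fun h => hs.out.ne_one (by rw [← hy, h, orderOf_one])
  obtain ⟨g, hg⟩ := Cfsg.Agent.S1425.result hG M hM (zpowers y)
    (fun h => hy1 (zpowers_eq_bot.1 h)) fun q hq hd => by
      rw [Nat.card_zpowers, hy, Nat.prime_dvd_prime_iff_eq hq hs.out] at hd
      exact hd ▸ hsM
  set N := Cfsg.sigmaCore M with hN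
  haveI hNn : Group.IsNilpotent N := typeP2_nilpotent hG hM hKU hU1
  set c := (MulAut.conj g).toMonoidHom with hc
  set y' := c y with hy'
  have hy'N : y' ∈ N := hg (mem_map_of_mem c (mem_zpowers y))
  have hy's : y' ^ s = 1 := by rw [hy', ← map_pow, ← hy, pow_orderOf_eq_one, map_one]
  have hy'1 : y' ≠ 1 := fun h => hy1 ((MulAut.conj g).injective (h.trans (map_one _).symm))
  let Z : Subgroup G :=
    { carrier := {z | z ∈ N ∧ z ^ s = 1 ∧ ∀ w ∈ N, Commute z w}
      one_mem' := ⟨one_mem _, one_pow _, fun w _ => Commute.one_left w⟩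
      mul_mem' := fun {a b} ha hb => ⟨mul_mem ha.1 hb.1,
        by rw [(ha.2.2 b hb.1).mul_pow, ha.2.1, hb.2.1, one_mul],
        fun w hw => (ha.2.2 w hw).mul_left (hb.2.2 w hw)⟩
      inv_mem' := fun {a} ha => ⟨inv_mem ha.1, by rw [inv_pow, ha.2.1, inv_one],
        fun w hw => (ha.2.2 w hw).inv_left⟩ }
  have hZN : Z ≤ N := fun z hz => hz.1
  have hZn : M ≤ normalizer (Z : Set G) := by
    suffices key : ∀ m ∈ M, ∀ z ∈ Z, m * z * m⁻¹ ∈ Z from fun m hm => mem_normalizer_iff.2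
      fun z => ⟨key m hm z, fun h => by simpa [mul_assoc] using key m⁻¹ (inv_mem hm) _ h⟩
    intro m hm z hz
    have hn := fun v => mem_normalizer_iff.1 (le_normalizer_piCoreOf (Cfsg.sigma M) M hm) v
    refine ⟨(hn z).1 hz.1, by rw [conj_pow, hz.2.1]; group, fun w hw => ?_⟩
    have hw' : m⁻¹ * w * m ∈ N := by
      refine (hn _).2 ?_
      rwa [show m * (m⁻¹ * w * m) * m⁻¹ = w by group]
    show m * z * m⁻¹ * w = w * (m * z * m⁻¹)
    calc m * z * m⁻¹ * w = m * (z * (m⁻¹ * w * m)) * m⁻¹ := by group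
      _ = m * (m⁻¹ * w * m * z) * m⁻¹ := by rw [(hz.2.2 _ hw').eq]
      _ = _ := by group
  have hZ1 : Z ≠ ⊥ := by
    set P : Subgroup N := Cfsg.piCore {s} N
    have hyP : (⟨y', hy'N⟩ : N) ∈ P := by
      have h := mem_piCoreOf_of_nilpotent (π := {s}) hNn hy'N fun q hq hd => by
        rw [orderOf_eq_prime hy's hy'1, Nat.prime_dvd_prime_iff_eq hq hs.out] at hd
        exact hd
      obtain ⟨z, hz, he⟩ := h
      rwa [show (⟨y', hy'N⟩ : N) = z from Subtype.ext he.symm]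
    have hP1 : P ≠ ⊥ := fun h => by
      rw [h, mem_bot] at hyP
      exact hy'1 (congrArg Subtype.val hyP)
    obtain ⟨z, ⟨hzP, hzc⟩, hz1⟩ : ∃ z : N, z ∈ P ⊓ Subgroup.center N ∧ z ≠ 1 := by
      haveI : P.Normal := Cfsg.piCore_normal _ _
      obtain ⟨⟨z, hz⟩, hz1⟩ := (Subgroup.ne_bot_iff_exists_ne_one).1
        (Transfer.inf_center_ne_bot (G := N) (N := P) hP1)
      exact ⟨z, hz, fun h => hz1 (Subtype.ext h)⟩
    have hd : s ∣ orderOf z := by
      obtain ⟨q, hq, hqd⟩ := Nat.exists_prime_and_dvd fun h => hz1 (orderOf_eq_one_iff.1 h)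
      obtain rfl : q = s := piCore_isPiSubgroup _ _ q hq
        (hqd.trans (by rw [← orderOf_mk z hzP]; exact orderOf_dvd_natCard _))
      exact hqd
    set i := orderOf z / s
    have ho : orderOf (z ^ i) = s := orderOf_pow_orderOf_div (orderOf_pos z).ne' hd
    refine fun hb => hs.out.ne_one ?_
    have hzZ : ((z ^ i : N) : G) ∈ Z :=
      ⟨(z ^ i).2, by rw [← coe_pow, ← ho, pow_orderOf_eq_one]; rfl, fun w hw =>
        congrArg Subtype.val ((mem_center_iff.1 (pow_mem hzc i)) ⟨w, hw⟩).symm⟩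
    rw [hb, mem_bot] at hzZ
    rw [← ho, ← orderOf_coe, hzZ, orderOf_one]
  obtain ⟨hKM, hUM⟩ := decomposition_le hKU
  obtain ⟨hp, hcard⟩ := typeP2_invariant_card hG hM hKU hK1 hU1 hZN hZ1 (hUM.trans hZn)
    (hKM.trans hZn)
  have hZp : IsPGroup s Z := fun z => ⟨1, Subtype.ext (by simpa using z.2.2.1)⟩
  set C := Z ⊓ centralizer (K : Set G) with hCdef
  have hC1 : C ≠ ⊥ := fun h => hZ1 (card_eq_one.1 (by rw [hcard, h, card_bot, one_pow]))
  have hs1 : s ≤ Nat.card C :=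
    Nat.le_of_dvd Nat.card_pos (dvd_card_of_isPGroup (hZp.to_le inf_le_left) hC1)
  have hp3 : 3 ≤ Nat.card K := by
    have := hp.two_le
    have := prime_ne_two_of_dvd_card hG (p := Nat.card K) (H := K) dvd_rfl
    omega
  have hle : Nat.card Z ≤ s ^ 2 := by
    have hZH : Z.map (MulAut.conj g⁻¹).toMonoidHom ≤ H := by
      rintro _ ⟨z, hz, rfl⟩
      refine hC (mem_centralizer_singleton_iff.2 ?_)
      show g⁻¹ * z * g⁻¹⁻¹ * y = y * (g⁻¹ * z * g⁻¹⁻¹)
      calc g⁻¹ * z * g⁻¹⁻¹ * y = g⁻¹ * (z * (g * y * g⁻¹)) * g := by group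
        _ = g⁻¹ * ((g * y * g⁻¹) * z) * g := by rw [(show Commute z (g * y * g⁻¹) from hz.2.2 _ hy'N).eq]
        _ = _ := by group
    set Z' := Z.map (MulAut.conj g⁻¹).toMonoidHom with hZ'
    have h := hr2 (Z'.subgroupOf H) ⟨⟨fun a b => by
      obtain ⟨a', ha', hae⟩ := mem_map.1 (mem_subgroupOf.1 a.2)
      obtain ⟨b', hb', hbe⟩ := mem_map.1 (mem_subgroupOf.1 b.2)
      refine Subtype.ext (Subtype.ext ?_)
      show ((a : H) : G) * (b : H) = (b : H) * (a : H)
      rw [← hae, ← hbe, ← map_mul, (ha'.2.2 b' hb'.1).eq, map_mul]⟩⟩ fun a ha => by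
        obtain ⟨a', ha', hae⟩ := mem_map.1 (mem_subgroupOf.1 ha)
        refine Subtype.ext ?_
        rw [coe_pow, ← hae, ← map_pow, ha'.2.1, map_one]; rfl
    rwa [Nat.card_congr (subgroupOfEquivOfLe hZH).toEquiv, hZ',
      card_map_of_injective (MulAut.conj g⁻¹).injective] at h
  have h3 : s ^ 3 ≤ Nat.card Z := by
    rw [hcard]
    exact (Nat.pow_le_pow_left hs1 3).trans (Nat.pow_le_pow_right Nat.card_pos hp3)
  exact absurd (h3.trans hle) (not_le.2 (Nat.pow_lt_pow_right hs.out.one_lt (by norm_num)))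

variable {Ms : Subgroup G} (h' : IsKappaPair Ms (kappaStar M K))
  (he : kappaStar Ms (kappaStar M K) = K)
include h' he

omit hG hM hKU hK1 hU1 h' in
theorem le_dual_sigmaCore : K ≤ Cfsg.sigmaCore Ms := he.symm.le.trans inf_le_left

theorem dual_mem {k : G} (hk : k ∈ K) (hk1 : k ≠ 1) :
    centralizer ({k} : Set G) ≤ Ms ∧
      ∀ L : Subgroup G, IsCoatom L → centralizer ({k} : Set G) ≤ L → L = Ms := by
  have ho : orderOf k = Nat.card K :=
    ((Nat.dvd_prime (typeP2_prime hG hM hKU hK1 hU1)).1 (orderOf_dvd_card_of_mem hk)).resolve_left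
      fun h => hk1 (orderOf_eq_one_iff.1 h)
  have h := h'.centralizer_unique hG (X := zpowers k) (zpowers_le.2 (he.symm ▸ hk))
    (by rw [Nat.card_zpowers, ho]; exact typeP2_prime hG hM hKU hK1 hU1)
  rwa [Cfsg.Agent.S1416.centralizer_zpowers_eq hG] at h

/-- `K` lies in the Sylow subgroup of the nilpotent Hall core of the partner. -/
theorem le_dual_piCore : K ≤ Cfsg.piCoreOf {Nat.card K} Ms := by
  have hp := typeP2_prime hG hM hKU hK1 hU1
  obtain ⟨U', hKU'⟩ := exists_sigma_decomposition hG h'.max (h'.cyclic hG) h'.hall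
  obtain ⟨-, -, hF, -⟩ := Cfsg.Agent.S1364.result hG Ms h'.max _ U' hKU' h'.ne_bot
  set F := Cfsg.fittingHallOf Ms
  refine le_trans (fun k hk => mem_piCoreOf_of_nilpotent (π := {Nat.card K})
    (fittingHallOf_isNilpotent Ms) (hF ((he.symm ▸ hk : k ∈ kappaStar Ms (kappaStar M K))))
    fun q hq hd => (Nat.prime_dvd_prime_iff_eq hq hp).1
      (hd.trans (orderOf_dvd_card_of_mem hk))) ?_
  exact le_piCoreOf ((piCoreOf_le _ _).trans (TypeP.fittingHallOf_le Ms))
    ((le_normalizer_fittingHallOf Ms).trans (normalizer_le_normalizer_piCoreOf _ _))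
    (piCoreOf_isPiSubgroup _ _)

variable {H : Subgroup G} (hH : IsCoatom H) (hκ : Cfsg.kappa H = ∅) (hKH : K ≤ H)
  (hpH : Nat.card K ∉ Cfsg.sigma H)
include hH hκ hKH hpH

omit hU1 he h' hM hKU hK1 in
theorem eq_dual_false (hU : H = Ms) (hh : (Cfsg.kappa Ms).Nonempty) : False := by
  rw [← hU, hκ] at hh
  exact Set.not_nonempty_empty hh

/-- `K` has no fixed points on `H_σ`. -/
theorem sigmaCore_inf_centralizer_kappa {k : G} (hk : k ∈ K) (hk1 : k ≠ 1) :
    Cfsg.sigmaCore H ⊓ centralizer ({k} : Set G) = ⊥ := by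
  have hp := typeP2_prime hG hM hKU hK1 hU1
  have ho : orderOf k = Nat.card K :=
    ((Nat.dvd_prime hp).1 (orderOf_dvd_card_of_mem hk)).resolve_left
      fun h => hk1 (orderOf_eq_one_iff.1 h)
  refine (eq_bot_iff_forall _).2 fun x hx => by_contra fun hx1 => ?_
  rcases sigma_element_dichotomy hG hH hx.1 hx1 (x' := k)
    ⟨hKH hk, mem_centralizer_singleton_iff.2 (mem_centralizer_singleton_iff.1 hx.2).symm⟩ hk1
    (fun q hq hd => by
      rw [ho, Nat.prime_dvd_prime_iff_eq hq hp] at hd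
      exact hd ▸ hpH) with ⟨h, -⟩ | ⟨-, -, hC, -⟩
  · exact Set.eq_empty_iff_forall_notMem.1 hκ _ (h _ (ho ▸ hp) dvd_rfl)
  · have he' := (dual_mem hG hM hKU hK1 hU1 h' he hk hk1).2 H hH hC
    obtain ⟨q, hq, hd⟩ := Nat.exists_prime_and_dvd fun h => h'.ne_bot (card_eq_one.1 h)
    exact eq_dual_false hG hH hκ hKH hpH he' ⟨q, h'.hall.2.1 q hq hd⟩

theorem sigmaCore_nilpotent_of_kappa : Group.IsNilpotent (Cfsg.sigmaCore H) := by
  have hp := typeP2_prime hG hM hKU hK1 hU1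
  obtain ⟨k, hk, hk1⟩ := K.bot_or_exists_ne_one.resolve_left hK1
  refine isNilpotent_of_prime_fpf hp (a := k) ?_ (le_normalizer_piCoreOf _ _ (hKH hk))
    (sigmaCore_inf_centralizer_kappa hG hM hKU hK1 hU1 h' he hH hκ hKH hpH hk hk1)
  exact orderOf_dvd_iff_pow_eq_one.1 (orderOf_dvd_card_of_mem hk)

/-- BG 14.12, the key step: `K` centralizes the invariant abelian `σ(H)'`-subgroups of `H`. -/
theorem commute_of_invariant {s : ℕ} [hs : Fact s.Prime] (hsp : s ≠ Nat.card K)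
    (hsH : s ∉ Cfsg.sigma H) {T : Subgroup G} (hTH : T ≤ H) (hT : IsPGroup s T)
    (hTc : IsMulCommutative T) {k : G} (hk : k ∈ K) (hk1 : k ≠ 1)
    (hkT : k ∈ normalizer (T : Set G)) : T ≤ centralizer ({k} : Set G) := by
  have hp := typeP2_prime hG hM hKU hK1 hU1
  haveI hpF := Fact.mk hp
  intro t ht
  rw [mem_centralizer_singleton_iff]
  by_contra htk
  have hkp : k ^ Nat.card K = 1 :=
    orderOf_dvd_iff_pow_eq_one.1 (orderOf_dvd_card_of_mem hk)
  have ho : orderOf k = Nat.card K :=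
    ((Nat.dvd_prime hp).1 (orderOf_dvd_card_of_mem hk)).resolve_left
      fun h => hk1 (orderOf_eq_one_iff.1 h)
  have hzk : zpowers k = K :=
    eq_of_le_of_card_ge (zpowers_le.2 hk) (by rw [Nat.card_zpowers, ho])
  obtain ⟨u, hu, hyo, hyT, hyk⟩ :=
    exists_commutator_moved hp hsp hT hTc hkp hkT ht (fun h => htk h.eq)
  set y := ⁅u, k⁆ with hy
  have hKT : K ≤ normalizer (T : Set G) := hzk ▸ zpowers_le.2 hkT
  obtain ⟨E, hTKE, hE⟩ := exists_complement_ge hG hH (sup_le hTH hKH) fun q hq hd => by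
    rcases hq.dvd_mul.1 (hd.trans (card_sup_dvd_mul_of_le_normalizer hKT)) with h | h
    · obtain ⟨n, hn⟩ := hT.exists_card_eq
      rw [hn] at h
      exact (Nat.prime_dvd_prime_iff_eq hq hs.out).1 (hq.dvd_of_dvd_pow h) ▸ hsH
    · exact (Nat.prime_dvd_prime_iff_eq hq hp).1 h ▸ hpH
  have hyE : y ∈ E := hTKE (mem_sup_left hyT)
  have huE : u ∈ E := hTKE (mem_sup_left hu)
  have hKE : K ≤ E := le_sup_right.trans hTKE
  have hy1 : y ≠ 1 := fun h => hyk (by rw [h]; exact Commute.one_left k)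
  have hps : ∀ N : Subgroup G, K ≤ N → u ∈ normalizer (N : Set G) →
      (Nat.card N).Coprime s → False := fun N hKN huN hco => by
    refine hy1 (orderOf_eq_one_iff.1 (Nat.eq_one_of_dvd_coprimes hco (orderOf_dvd_card_of_mem ?_)
      hyo.dvd))
    have h := N.mul_mem ((mem_normalizer_iff.1 huN k).1 (hKN hk)) (inv_mem (hKN hk))
    rwa [hy, commutatorElement_def]
  rcases tau_cases_of_not_sigma hG hH hp (card_dvd_of_le hKH) hpH with hp1 | hp2 | hp3
  rotate_left
  · -- `p ∈ τ₂(H)`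
    obtain ⟨A, hAE, hA, hA2⟩ := exists_elementary_in_complement hG hH hE hp2
    obtain ⟨⟨hEA, hAall⟩, -, -⟩ :=
      Cfsg.Agent.S1418.result hG H hH E hE _ hp2 A ⟨hAE, hA, hA2⟩
    refine hps A (hAall K hKE rfl) (hEA huE) ?_
    rw [hA2]
    exact Nat.Coprime.pow_left 2 ((Nat.coprime_primes hp hs.out).2 hsp.symm)
  · -- `p ∈ τ₃(H)`
    haveI := isSolvable_of_ne_top hG (H := E) fun h => hH.1 (top_le_iff.1 (h ▸ hE.1))
    obtain ⟨E₃, hE₃, hKE₃⟩ := exists_isPiHallOf_ge (π := Cfsg.tau3 H) inferInstance hKE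
      fun q hq hd => (Nat.prime_dvd_prime_iff_eq hq hp).1 hd ▸ hp3
    obtain ⟨hc, -, hn⟩ := tau3_hall hG hH hE hE₃
    haveI := hc
    exact hps K le_rfl (le_normalizer_of_le_cyclic hG hKE₃ (hn huE))
      ((Nat.coprime_primes hp hs.out).2 hsp.symm)
  -- `p ∈ τ₁(H)`: commutators with `k` centralize `H_σ`
  set S := Cfsg.sigmaCore H with hSdef
  haveI hSn := sigmaCore_nilpotent_of_kappa hG hM hKU hK1 hU1 h' he hH hκ hKH hpH
  have hfix := sigmaCore_inf_centralizer_kappa hG hM hKU hK1 hU1 h' he hH hκ hKH hpH hk hk1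
  have hcs : ∀ q, q.Prime → q ∉ Cfsg.sigma H → (Nat.card S).Coprime q := fun q hq hqH =>
    ((Nat.Prime.coprime_iff_not_dvd hq).2 fun h => hqH (sigma_of_dvd_sigmaCore hq h)).symm
  have hcomm : ∀ {T' : Subgroup G}, IsPGroup s T' → T' ≤ H → k ∈ normalizer (T' : Set G) →
      ∀ v ∈ T', ⁅v, k⁆ ∈ centralizer (S : Set G) := fun {T'} hT' hT'H hkT' v hv => by
    refine commutator_le_centralizer_of_fpf (V := S) (T := T') (x := k)
      (prime_ne_two_of_dvd_card hG (hyo ▸ orderOf_dvd_card_of_mem hyT)) (ho ▸ hp) (ho ▸ hsp) hSn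
      (hcs s hs.out hsH) (ho ▸ hcs _ hp hpH) hT' hkT'
      (hT'H.trans (le_normalizer_piCoreOf _ _)) (le_normalizer_piCoreOf _ _ (hKH hk)) hfix ?_
    exact commutator_mem_commutator hv (mem_zpowers k)
  have hyS : y ∈ centralizer (S : Set G) := hcomm hT hTH hkT u hu
  obtain ⟨x, hx, hx1⟩ := S.bot_or_exists_ne_one.resolve_left (sigmaCore_ne_bot hG hH)
  rcases sigma_element_dichotomy hG hH hx hx1 (x' := y)
    ⟨hE.1 hyE, mem_centralizer_singleton_iff.2 (hyS x hx).symm⟩ hy1 (fun q hq hd => by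
      rw [hyo, Nat.prime_dvd_prime_iff_eq hq hs.out] at hd
      exact hd ▸ hsH) with ⟨h, -⟩ | ⟨hτ, -, hCy, -⟩
  · exact Set.eq_empty_iff_forall_notMem.1 hκ _ (h s hs.out hyo.symm.dvd)
  have hs2 : s ∈ Cfsg.tau2 H := hτ s hs.out hyo.symm.dvd
  obtain ⟨A, hAE, hA, hA2⟩ := exists_elementary_in_complement hG hH hE hs2
  obtain ⟨⟨hEA, hAall⟩, -, -⟩ := Cfsg.Agent.S1418.result hG H hH E hE s hs2 A ⟨hAE, hA, hA2⟩
  obtain ⟨-, -, -, hSA, hHA, -⟩ :=
    Cfsg.Agent.S1417.result hG H hH s hs2 A ⟨hAE.trans hE.1, hA, hA2⟩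
  have hyA : y ∈ A := hAall (zpowers y) (zpowers_le.2 hyE) (by rw [Nat.card_zpowers, hyo])
    (mem_zpowers y)
  haveI hAc := hA.1
  have hkA : k ∈ normalizer (A : Set G) := hEA (hKE hk)
  have hmem : ∀ a ∈ A, ⁅a, k⁆ ∈ A := fun a ha => by
    have h := A.mul_mem ha ((mem_normalizer_iff.1 hkA a⁻¹).1 (inv_mem ha))
    rwa [commutatorElement_def, show a * k * a⁻¹ * k⁻¹ = a * (k * a⁻¹ * k⁻¹) by group]
  obtain ⟨y₁, hy₁A, hy₁k, hy₁1⟩ : ∃ a ∈ A, Commute a k ∧ a ≠ 1 := by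
    by_contra hno
    push Not at hno
    have hinj : Function.Injective fun a : A => (⟨⁅(a : G), k⁆, hmem a a.2⟩ : A) := by
      intro a b hab
      have hab' : (a : G) * k * (a : G)⁻¹ * k⁻¹ = (b : G) * k * (b : G)⁻¹ * k⁻¹ :=
        congrArg Subtype.val hab
      have h1 : Commute ((b : G)⁻¹ * a) k := by
        show (b : G)⁻¹ * a * k = k * ((b : G)⁻¹ * a)
        calc (b : G)⁻¹ * a * k
            = (b : G)⁻¹ * ((a : G) * k * (a : G)⁻¹ * k⁻¹) * k * a := by group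
          _ = _ := by rw [hab']; group
      have h2 := hno _ (mul_mem (inv_mem b.2) a.2) h1
      exact Subtype.ext (inv_mul_eq_one.1 h2).symm
    have hAS : A ≤ centralizer (S : Set G) := fun a ha => by
      obtain ⟨b, hb⟩ := Finite.surjective_of_injective hinj ⟨a, ha⟩
      rw [← show ⁅(b : G), k⁆ = a from congrArg Subtype.val hb]
      exact hcomm (IsPGroup.of_card (n := 2) hA2) (hAE.trans hE.1) hkA b b.2
    refine sigmaCore_ne_bot hG hH (le_bot_iff.1 ?_)
    rw [← hSA]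
    exact le_inf le_rfl (le_centralizer_iff.1 hAS)
  have hy₁o : orderOf y₁ = s := orderOf_eq_prime (hA.2 y₁ hy₁A) hy₁1
  have hAy₁ : A ≤ centralizer ({y₁} : Set G) := fun a ha =>
    mem_centralizer_singleton_iff.2 (setLike_mul_comm ha hy₁A)
  have hky₁ : k ∈ centralizer ({y₁} : Set G) := mem_centralizer_singleton_iff.2 hy₁k.symm.eq
  have hy₁Ms : y₁ ∈ Ms := (dual_mem hG hM hKU hK1 hU1 h' he hk hk1).1
    (mem_centralizer_singleton_iff.2 hy₁k.eq)
  have hkMs : k ∈ Cfsg.sigmaCore Ms := le_dual_sigmaCore he hk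
  by_cases hsMs : s ∈ Cfsg.sigma Ms
  · -- `s ∈ σ(M*)`
    set Q := Cfsg.piCoreOf {Nat.card K} Ms
    have hkQ : k ∈ Q := le_dual_piCore hG hM hKU hK1 hU1 h' he hk
    have hQs : (Nat.card Q).Coprime s := ((Nat.Prime.coprime_iff_not_dvd hs.out).2 fun h =>
      hsp (piCoreOf_isPiSubgroup {Nat.card K} Ms s hs.out h)).symm
    have hyzero : ∀ W : Subgroup G, (Nat.card W).Coprime s → ⁅y, k⁆ ∈ W → False := fun W hW hm =>
      hyk (commutatorElement_eq_one_iff_commute.1 (orderOf_eq_one_iff.1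
        (Nat.eq_one_of_dvd_coprimes hW (orderOf_dvd_card_of_mem hm)
          (orderOf_dvd_of_pow_eq_one (hA.2 _ (hmem y hyA))))))
    by_cases hy₁C : centralizer ({y₁} : Set G) ≤ Ms
    · refine hyzero Q hQs ?_
      have hyMs : y ∈ Ms := hy₁C (hAy₁ hyA)
      have h := Q.mul_mem ((mem_normalizer_iff.1 (le_normalizer_piCoreOf _ _ hyMs) k).1 hkQ)
        (inv_mem hkQ)
      rwa [commutatorElement_def]
    · have hy₁σ : y₁ ∈ Cfsg.sigmaCore Ms := le_sigmaCore_of_pgroup hG h'.max hsMs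
        (isPGroup_of_prime_card (by rw [Nat.card_zpowers, hy₁o])) (zpowers_le.2 hy₁Ms)
        (mem_zpowers y₁)
      obtain ⟨L, ⟨hL, hCL⟩, -, -, -, hτL, hEL, -⟩ := supporting_structure hG h'.max
        (Cfsg.Agent.S1378.result hG).2 (Cfsg.Agent.S1432.result hG) hy₁σ hy₁1 hy₁C
      have hkL : k ∈ L := hCL hky₁
      obtain ⟨e, he', l, hl, hyel⟩ := hEL.2.2.2 y (hCL (hAy₁ hyA))
      have hsL : s ∉ Cfsg.sigma L := (hτL s hs.out hy₁o.symm.dvd).2.1
      have hQn : Q ⊓ L ≤ normalizer (Cfsg.sigmaCore L : Set G) :=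
        inf_le_right.trans (le_normalizer_piCoreOf _ _)
      refine hyzero (Cfsg.sigmaCore L ⊔ Q ⊓ L) ?_ ?_
      · exact Nat.Coprime.coprime_dvd_left (card_sup_dvd_mul_of_le_normalizer hQn)
          (Nat.Coprime.mul_left ((Nat.Prime.coprime_iff_not_dvd hs.out).2 fun h =>
            hsL (sigma_of_dvd_sigmaCore hs.out h)).symm
            (Nat.Coprime.coprime_dvd_left (card_dvd_of_le inf_le_left) hQs))
      · have h1 : ⁅e, k⁆ ∈ Q ⊓ L := by
          refine ⟨?_, by rw [commutatorElement_def]; exact L.mul_mem (L.mul_mem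
            (L.mul_mem he'.2 hkL) (L.inv_mem he'.2)) (L.inv_mem hkL)⟩
          have h := Q.mul_mem ((mem_normalizer_iff.1 (le_normalizer_piCoreOf _ _ he'.1) k).1 hkQ)
            (inv_mem hkQ)
          rwa [commutatorElement_def]
        have h2 : e * ⁅l, k⁆ * e⁻¹ ∈ Cfsg.sigmaCore L := by
          refine (mem_normalizer_iff.1 (le_normalizer_piCoreOf _ _ he'.2) _).1 ?_
          rw [commutatorElement_def, show l * k * l⁻¹ * k⁻¹ = l * (k * l⁻¹ * k⁻¹) by group]
          exact mul_mem hl ((mem_normalizer_iff.1 (le_normalizer_piCoreOf _ _ hkL) _).1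
            (inv_mem hl))
        rw [hyel, show ⁅e * l, k⁆ = e * ⁅l, k⁆ * e⁻¹ * ⁅e, k⁆ by
          simp only [commutatorElement_def]; group]
        exact mul_mem (mem_sup_left h2) (mem_sup_right h1)
  rcases sigma_element_dichotomy hG h'.max hkMs hk1 (x' := y₁)
    ⟨hy₁Ms, mem_centralizer_singleton_iff.2 hy₁k.eq⟩ hy₁1 (fun q hq hd => by
      rw [hy₁o, Nat.prime_dvd_prime_iff_eq hq hs.out] at hd
      exact hd ▸ hsMs) with ⟨hκs, -⟩ | ⟨hτs, -, hCy₁, -⟩
  · -- `s ∈ κ(M*)`, hence `s ∈ σ(M)`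
    have hsκ := hκs s hs.out hy₁o.symm.dvd
    have hsd : s ∣ Nat.card ↥(kappaStar M K) := by
      have h := (relIndex_mul_relIndex ⊥ (kappaStar M K) Ms bot_le h'.hall.1).symm
      rw [relIndex_bot_left, relIndex_bot_left] at h
      exact (hs.out.dvd_mul.1 (h ▸ hsκ.2.1)).resolve_right (h'.hall.2.2 s hs.out hsκ)
    exact false_of_sigma_rank_two hG hM hKU hK1 hU1
      (sigma_of_dvd_sigmaCore hs.out (hsd.trans (card_dvd_of_le inf_le_left))) hs2.2.2.1 hyo hCy
  · -- `s ∈ τ₂(M*)`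
    have hAMs : A ≤ Ms := hAy₁.trans hCy₁
    have hne : H ≠ Ms := fun e => by
      obtain ⟨q, hq, hd⟩ := Nat.exists_prime_and_dvd fun h => h'.ne_bot (card_eq_one.1 h)
      exact eq_dual_false hG hH hκ hKH hpH e ⟨q, h'.hall.2.1 q hq hd⟩
    obtain ⟨-, -, -, -, hMsH, -⟩ := Cfsg.Agent.S1417.result hG Ms h'.max s
      (hτs s hs.out hy₁o.symm.dvd) A ⟨hAMs, hA, hA2⟩
    exact hk1 (mem_bot.1 (hMsH H hH hne (hAE.trans hE.1) ▸
      (⟨hkMs, hKH hk⟩ : k ∈ Cfsg.sigmaCore Ms ⊓ H)))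

end Decomposition

end CfsgLib.OddOrder
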