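import Cfsg.Agent.Lib.OddOrder.SupportR
import Cfsg.Agent.Lib.OddOrder.SigmaParts
import Cfsg.Agent.S1425
import Cfsg.Agent.S1378

/-!
BG 14.5: the sets `tildeOf M M_σ^#` cover every nontrivial element outside the mixed `κ`-elements,
and are disjoint for nonconjugate `M`.
-/

set_option autoImplicit false
set_option linter.style.haveILetI false

namespace CfsgLib.OddOrder

open Subgroup

universe u

variable {G : Type u} [Group G] [Finite G] (hG : Cfsg.IsMinSimpleOddOrder G)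
  (hdisj : ∀ M N : Subgroup G, IsCoatom M → IsCoatom N →
    (Cfsg.sigma M ∩ Cfsg.sigma N).Nonempty → ∃ g : G, N = M.map (MulAut.conj g).toMonoidHom)
  (hdich : ∀ (M : Subgroup G), IsCoatom M → ∀ x ∈ Cfsg.sigmaCore M, x ≠ 1 →
    ∀ x' ∈ M ⊓ Subgroup.centralizer ({x} : Set G), x' ≠ 1 →
    (∀ p : ℕ, p.Prime → p ∣ orderOf x' → p ∉ Cfsg.sigma M) →
    ((∀ p : ℕ, p.Prime → p ∣ orderOf x' → p ∈ Cfsg.kappa M) ∧
        Subgroup.centralizer ({x} : Set G) ≤ M) ∨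
      ((∀ p : ℕ, p.Prime → p ∣ orderOf x' → p ∈ Cfsg.tau2 M) ∧
        (∃ L : Subgroup G, IsCoatom L ∧
          ∀ p : ℕ, p.Prime → p ∣ orderOf x' → p ∈ Cfsg.sigma L) ∧
        (Subgroup.centralizer ({x'} : Set G) ≤ M ∧ ∀ L : Subgroup G, IsCoatom L →
          Subgroup.centralizer ({x'} : Set G) ≤ L → L = M)))
include hG hdisj hdich

omit hG hdisj hdich in
theorem mem_tildeOf {M : Subgroup G} {a r : G} (ha : a ∈ Cfsg.sigmaCore M) (ha1 : a ≠ 1)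
    (hr : r ∈ Cfsg.supportR M a) (y : G) :
    y * (a * r) * y⁻¹ ∈ Cfsg.tildeOf M ((Cfsg.sigmaCore M : Set G) \ {1}) :=
  ⟨a, ⟨ha, ha1⟩, r, hr, y, rfl⟩

/-- The product `u v` for `v ∈ C_M(u)` of order prime to `σ(M)`. -/
theorem cover_of_mem {M : Subgroup G} (hM : IsCoatom M) {u v : G} (hu : u ∈ Cfsg.sigmaCore M)
    (hu1 : u ≠ 1) (hv : v ∈ M ⊓ centralizer ({u} : Set G)) (hv1 : v ≠ 1)
    (hσ : ∀ p : ℕ, p.Prime → p ∣ orderOf v → p ∉ Cfsg.sigma M) :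
    (∀ p : ℕ, p.Prime → p ∣ orderOf v → p ∈ Cfsg.kappa M) ∨
      ∃ L : Subgroup G, IsCoatom L ∧
        u * v ∈ Cfsg.tildeOf L ((Cfsg.sigmaCore L : Set G) \ {1}) := by
  rcases hdich M hM u hu hu1 v hv hv1 hσ with ⟨hκ, -⟩ | ⟨-, ⟨L₀, hL₀, hLσ⟩, hCM, huniq⟩
  · exact Or.inl hκ
  refine Or.inr ?_
  have hv1' : zpowers v ≠ ⊥ := by rwa [Ne, zpowers_eq_bot]
  obtain ⟨h, hh⟩ := Cfsg.Agent.S1425.result hG L₀ hL₀ (zpowers v) hv1' fun p hp hd =>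
    hLσ p hp (by rwa [Nat.card_zpowers] at hd)
  set L := L₀.map (MulAut.conj h⁻¹).toMonoidHom with hL'
  have hL : IsCoatom L := isCoatom_conj hL₀ _
  have hvL : v ∈ Cfsg.sigmaCore L := by
    rw [hL', sigmaCore_conj, mem_map_conj_iff, inv_inv]
    exact hh ⟨v, mem_zpowers v, rfl⟩
  obtain ⟨p, hp, hpd⟩ := Nat.exists_prime_and_dvd (n := orderOf v)
    fun h => hv1 (orderOf_eq_one_iff.1 h)
  have hLM : L ≠ M := fun e => hσ p hp hpd (by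
    rw [← e, hL', sigma_conj]; exact hLσ p hp hpd)
  have hvCL : ¬ centralizer ({v} : Set G) ≤ L := fun h' => hLM (huniq L hL h')
  obtain ⟨N, ⟨hN, hCN⟩, hu', hF, -, -, -, -⟩ :=
    supporting_structure hG hL hdisj hdich hvL hv1 hvCL
  have hNM : N = M := huniq N hN hCN
  subst hNM
  have huR : u ∈ Cfsg.supportR L v := by
    rw [supportR_eq hvCL hN hCN hu' hF]
    exact ⟨hu, mem_centralizer_singleton_iff.2 (mem_centralizer_singleton_iff.1 hv.2).symm⟩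
  have e : u * v = 1 * (v * u) * 1⁻¹ := by
    rw [one_mul, inv_one, mul_one, mem_centralizer_singleton_iff.1 hv.2]
  exact ⟨L, hL, e ▸ mem_tildeOf hvL hv1 huR 1⟩

/-- BG 14.5 (covering). -/
theorem cover {g : G} (hg : g ≠ 1) :
    (∃ N : Subgroup G, IsCoatom N ∧ g ∈ Cfsg.tildeOf N ((Cfsg.sigmaCore N : Set G) \ {1})) ∨
      ∃ M : Subgroup G, IsCoatom M ∧ ∃ u v y : G, u ∈ Cfsg.sigmaCore M ∧ u ≠ 1 ∧
        v ∈ M ⊓ centralizer ({u} : Set G) ∧ v ≠ 1 ∧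
        (∀ p : ℕ, p.Prime → p ∣ orderOf v → p ∈ Cfsg.kappa M) ∧ g = y * (u * v) * y⁻¹ := by
  obtain ⟨p, hp, hpd⟩ := Nat.exists_prime_and_dvd (n := orderOf g)
    fun h => hg (orderOf_eq_one_iff.1 h)
  obtain ⟨M, hM, hpM⟩ := (Cfsg.Agent.S1378.result hG).1 p hp (hpd.trans (orderOf_dvd_natCard g))
  obtain ⟨u₀, v₀, -, -, hguv, hcomm, huπ, hvπ⟩ := exists_pi_parts (Cfsg.sigma M) g
  have hu₀1 : u₀ ≠ 1 := fun h => hvπ p hp (by rwa [hguv, h, one_mul] at hpd) hpM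
  obtain ⟨y, hy⟩ := Cfsg.Agent.S1425.result hG M hM (zpowers u₀) (by rwa [Ne, zpowers_eq_bot])
    fun q hq hd => huπ q hq (by rwa [Nat.card_zpowers] at hd)
  set u := y * u₀ * y⁻¹ with hu_def
  set v := y * v₀ * y⁻¹ with hv_def
  have hu : u ∈ Cfsg.sigmaCore M := hy ⟨u₀, mem_zpowers u₀, rfl⟩
  have hu1 : u ≠ 1 := fun h => hu₀1 (conj_eq_one_iff.1 h)
  have hvC : v ∈ centralizer ({u} : Set G) := by
    rw [mem_centralizer_singleton_iff, hu_def, hv_def]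
    calc y * v₀ * y⁻¹ * (y * u₀ * y⁻¹) = y * (v₀ * u₀) * y⁻¹ := by group
      _ = y * (u₀ * v₀) * y⁻¹ := by rw [hcomm.eq]
      _ = y * u₀ * y⁻¹ * (y * v₀ * y⁻¹) := by group
  have hvσ : ∀ q : ℕ, q.Prime → q ∣ orderOf v → q ∉ Cfsg.sigma M := fun q hq hd => hvπ q hq (by
    rwa [hv_def, show y * v₀ * y⁻¹ = MulAut.conj y v₀ from rfl, MulEquiv.orderOf_eq] at hd)
  have hgy : g = y⁻¹ * (u * v) * y⁻¹⁻¹ := by rw [hguv, hu_def, hv_def]; group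
  -- conjugating by a member of `C(u)` keeps the shape of the factorisation
  have done : ∀ d ∈ centralizer ({u} : Set G), d⁻¹ * v * d ∈ M →
      (∃ N : Subgroup G, IsCoatom N ∧ g ∈ Cfsg.tildeOf N ((Cfsg.sigmaCore N : Set G) \ {1})) ∨
      ∃ M : Subgroup G, IsCoatom M ∧ ∃ u v y : G, u ∈ Cfsg.sigmaCore M ∧ u ≠ 1 ∧
        v ∈ M ⊓ centralizer ({u} : Set G) ∧ v ≠ 1 ∧
        (∀ p : ℕ, p.Prime → p ∣ orderOf v → p ∈ Cfsg.kappa M) ∧ g = y * (u * v) * y⁻¹ := by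
    intro d hd hdM
    set v' := d⁻¹ * v * d with hv'
    have hv'C : v' ∈ centralizer ({u} : Set G) := mul_mem (mul_mem (inv_mem hd) hvC) hd
    have hgd : g = (y⁻¹ * d) * (u * v') * (y⁻¹ * d)⁻¹ := by
      have h := mem_centralizer_singleton_iff.1 hd
      calc g = y⁻¹ * (u * v) * y⁻¹⁻¹ := hgy
        _ = y⁻¹ * ((d * u) * d⁻¹ * v) * y := by rw [h]; group
        _ = (y⁻¹ * d) * (u * v') * (y⁻¹ * d)⁻¹ := by rw [hv']; group
    by_cases hv'1 : v' = 1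
    · refine Or.inl ⟨M, hM, hgd ▸ ?_⟩
      rw [hv'1]
      exact mem_tildeOf hu hu1 (one_mem _) _
    have hord : orderOf v' = orderOf v := by
      rw [hv', show d⁻¹ * v * d = MulAut.conj d⁻¹ v by simp [MulAut.conj_apply], MulEquiv.orderOf_eq]
    rcases cover_of_mem hG hdisj hdich hM hu hu1 ⟨hdM, hv'C⟩ hv'1
      (fun q hq hd' => hvσ q hq (hord ▸ hd')) with hκ | ⟨N, hN, a, ha, r, hr, z, hz⟩
    · exact Or.inr ⟨M, hM, u, v', y⁻¹ * d, hu, hu1, ⟨hdM, hv'C⟩, hv'1, hκ, hgd⟩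
    · refine Or.inl ⟨N, hN, a, ha, r, hr, y⁻¹ * d * z, ?_⟩
      rw [hgd, hz]; group
  by_cases hC : centralizer ({u} : Set G) ≤ M
  · exact done 1 (one_mem _) (by simpa using hC hvC)
  obtain ⟨N, ⟨hN, hCN⟩, hu', hF, -, -, hE, -⟩ := supporting_structure hG hM hdisj hdich hu hu1 hC
  obtain ⟨hn, hR, -⟩ := centralizer_split hG hM (piCoreOf_le _ _ hu) hN hCN hE
  obtain ⟨v₁, v₂, hv₁, hv₂, hv12, -, hv₁π, hv₂π⟩ := exists_pi_parts (Cfsg.sigma N) v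
  have hv₁R : v₁ ∈ Cfsg.sigmaCore N ⊓ centralizer ({u} : Set G) :=
    ⟨le_sigmaCore_of_piSubgroup hG hN (fun q hq hd => hv₁π q hq (by
        rwa [Nat.card_zpowers] at hd)) ((zpowers_le).2 (hCN ((zpowers_le).2 hvC hv₁)))
      (mem_zpowers v₁), (zpowers_le).2 hvC hv₁⟩
  by_cases hv₂1 : v₂ = 1
  · refine Or.inl ⟨M, hM, hgy ▸ mem_tildeOf hu hu1 ?_ _⟩
    rw [supportR_eq hC hN hCN hu' hF, hv12, hv₂1, mul_one]
    exact hv₁R
  obtain ⟨d, hd, hdY⟩ := exists_conj_into (L := centralizer ({u} : Set G))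
    (K := Cfsg.sigmaCore N ⊓ centralizer ({u} : Set G)) (J := M ⊓ centralizer ({u} : Set G))
    (Y := zpowers v₂) (isSolvable_of_ne_top hG fun h => hN.1 (top_le_iff.1 (h ▸ hCN)))
    hn inf_le_right (fun c hc => by
      obtain ⟨a, ha, b, hb, rfl⟩ := hR.2.2.2 c hc
      exact mul_mem (mem_sup_right ha) (mem_sup_left hb))
    ((zpowers_le).2 ((zpowers_le).2 hvC hv₂))
    (fun s hs h1 h2 => hv₂π s hs (by rwa [Nat.card_zpowers] at h1)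
      (piCoreOf_isPiSubgroup (Cfsg.sigma N) N s hs (h2.trans (card_dvd_of_le inf_le_left))))
  have hw : d * v₂ * d⁻¹ ∈ M ⊓ centralizer ({u} : Set G) := hdY ⟨v₂, mem_zpowers v₂, rfl⟩
  refine done d⁻¹ (inv_mem hd) ?_
  rw [inv_inv]
  have hord : orderOf (d * v₂ * d⁻¹) = orderOf v₂ := MulEquiv.orderOf_eq (MulAut.conj d) v₂
  rcases hdich M hM u hu hu1 _ hw (fun h => hv₂1 (conj_eq_one_iff.1 h)) (fun q hq hd' =>
    hvσ q hq ((hord ▸ hd').trans (orderOf_dvd_of_mem_zpowers hv₂))) with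
    ⟨-, hCu⟩ | ⟨-, -, hCw, -⟩
  · exact absurd hCu hC
  · refine hCw (mem_centralizer_singleton_iff.2 ?_)
    obtain ⟨i, rfl⟩ := mem_zpowers_iff.1 hv₂
    rw [← conj_zpow]
    exact (Commute.self_zpow (d * v * d⁻¹) i).eq

end CfsgLib.OddOrder
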