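import Cfsg.Agent.Lib.OddOrder.KappaTau1

/-!
BG 14.2 for a Hall `κ(M)`-subgroup `K ≠ 1`: the factorisation and the normalizers of the subgroups
of prime order of `K`.
-/

set_option autoImplicit false
set_option linter.style.haveILetI false

open scoped commutatorElement Pointwise

namespace CfsgLib.OddOrder

open Subgroup

variable {G : Type*} [Group G] [Finite G] (hG : Cfsg.IsMinSimpleOddOrder G) {M K : Subgroup G}
  (hM : IsCoatom M) (hK : Cfsg.IsPiHallOf (Cfsg.kappa M) K M)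
include hG hM hK

/-- The complement `U` of a factorisation is a Hall subgroup for the primes outside `σ ∪ κ`. -/
theorem decomposition_U_hall {U : Subgroup G} (hKU : Cfsg.IsSigmaDecomposition M K U) :
    Cfsg.IsPiHallOf {q | q.Prime ∧ q ∉ Cfsg.kappa M ∧ q ∉ Cfsg.sigma M} U M := by
  refine ⟨hKU.compl.1, fun q hq hd => ⟨hq, (decomposition_U_primes hG hM hKU hq hd).2,
    (decomposition_U_primes hG hM hKU hq hd).1⟩, fun q hq hqπ hd => ?_⟩
  have hKS : K ⊔ Cfsg.sigmaCore M ≤ M := sup_le hK.1 (piCoreOf_le _ _)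
  have hU : Nat.card U = (K ⊔ Cfsg.sigmaCore M).relIndex M :=
    card_eq_relIndex_of_isComplIn hKU.compl
  have h1 : Nat.card U * U.relIndex M = Nat.card M := by
    rw [← relIndex_bot_left U, relIndex_mul_relIndex ⊥ U M bot_le hKU.compl.1, relIndex_bot_left]
  have h2 : Nat.card ↥(K ⊔ Cfsg.sigmaCore M) * Nat.card U = Nat.card M := by
    rw [hU, ← relIndex_bot_left (K ⊔ Cfsg.sigmaCore M),
      relIndex_mul_relIndex ⊥ (K ⊔ Cfsg.sigmaCore M) M bot_le hKS, relIndex_bot_left]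
  have h3 : U.relIndex M = Nat.card ↥(K ⊔ Cfsg.sigmaCore M) := by
    rw [← h1, mul_comm] at h2
    exact (Nat.eq_of_mul_eq_mul_left Nat.card_pos h2).symm
  have h4 : Nat.card ↥(K ⊔ Cfsg.sigmaCore M) ∣ Nat.card (Cfsg.sigmaCore M) * Nat.card K := by
    rw [sup_comm]
    exact card_sup_dvd_mul_of_le_normalizer (hK.1.trans (le_normalizer_piCoreOf _ _))
  rw [h3] at hd
  rcases hq.dvd_mul.1 (hd.trans h4) with h | h
  · exact hqπ.2.2 (sigma_of_dvd_sigmaCore hq h)
  · exact hqπ.2.1 (hK.2.1 q hq h)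

/-- `N_M(X) = N_M(K) = K × K*` for `X ≤ K` of prime order. -/
theorem kappa_normalizer_eq (hK1 : K ≠ ⊥) {X : Subgroup G} (hXK : X ≤ K)
    (hX : (Nat.card X).Prime) :
    M ⊓ normalizer (X : Set G) = K ⊔ (Cfsg.sigmaCore M ⊓ centralizer (K : Set G)) ∧
      M ⊓ normalizer (K : Set G) = K ⊔ (Cfsg.sigmaCore M ⊓ centralizer (K : Set G)) := by
  have hKc := isCyclic_kappa_hall hG hM hK
  obtain ⟨U, hKU⟩ := exists_sigma_decomposition hG hM hKc hK
  set p := Nat.card X with hp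
  haveI := Fact.mk hX
  obtain ⟨x', hx'⟩ := exists_prime_orderOf_dvd_card' (G := X) p dvd_rfl
  set x : G := (x' : G)
  have hxo : orderOf x = p := by rw [orderOf_coe, hx']
  have hx1 : x ≠ 1 := fun h => hX.ne_one (by rw [← hxo, h, orderOf_one])
  have hxK : x ∈ K := hXK x'.2
  have hC := kappa_centralizer_eq hG hM hK hKU hxK hx1
  have hp1 := kappa_tau1 hG hM (hK.2.1 p hX (hxo ▸ orderOf_dvd_card_of_mem hxK))
  have hle1 : K ⊔ (Cfsg.sigmaCore M ⊓ centralizer (K : Set G)) ≤ M ⊓ normalizer (K : Set G) := by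
    refine sup_le (le_inf hK.1 le_normalizer) (le_inf (inf_le_left.trans (piCoreOf_le _ _)) ?_)
    exact inf_le_right.trans (centralizer_le_normalizer _)
  have hle2 : M ⊓ normalizer (K : Set G) ≤ M ⊓ normalizer (X : Set G) :=
    inf_le_inf_left _ (le_normalizer_of_cyclic le_rfl hKc hXK)
  have hle3 : M ⊓ normalizer (X : Set G) ≤
      K ⊔ (Cfsg.sigmaCore M ⊓ centralizer (K : Set G)) := by
    rw [← hC]
    rintro m ⟨hmM, hmX⟩
    refine ⟨hmM, mem_centralizer_singleton_iff.2 ?_⟩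
    have h1 : m * x * m⁻¹ * x⁻¹ ∈ X ⊓ ⁅M, M⁆ := by
      refine ⟨X.mul_mem ((mem_normalizer_iff.1 hmX x).1 x'.2) (X.inv_mem x'.2), ?_⟩
      rw [← commutatorElement_def]
      exact commutator_mem_commutator hmM (hK.1 hxK)
    rw [inf_eq_bot_of_coprime ((hp ▸ hX.coprime_iff_not_dvd.2 hp1.2.2.2.1)), mem_bot,
      mul_inv_eq_one, mul_inv_eq_iff_eq_mul] at h1
    exact h1
  exact ⟨le_antisymm hle3 (hle1.trans hle2), le_antisymm (hle2.trans hle3) hle1⟩

/-- `X ≤ M*_σ` for `X ≤ K` of prime order and `N(X) ≤ M*`. -/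
theorem kappa_prime_le_sigmaCore {X : Subgroup G} (hXK : X ≤ K) (hX : (Nat.card X).Prime)
    {L : Subgroup G} (hL : IsCoatom L) (hNL : normalizer (X : Set G) ≤ L) :
    X ≤ Cfsg.sigmaCore L := by
  set p := Nat.card X with hp
  haveI := Fact.mk hX
  obtain ⟨x', hx'⟩ := exists_prime_orderOf_dvd_card' (G := X) p dvd_rfl
  set x : G := (x' : G)
  have hxo : orderOf x = p := by rw [orderOf_coe, hx']
  have hXx : zpowers x = X := eq_of_le_of_card_ge (zpowers_le.2 x'.2)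
    (by rw [Nat.card_zpowers, hxo])
  have hpκ : p ∈ Cfsg.kappa M := hK.2.1 p hX (card_dvd_of_le hXK)
  have hp1 := kappa_tau1 hG hM hpκ
  have hxM : x ∈ M := hK.1 (hXK x'.2)
  have hpL := mem_sigma_of_prime_fixed hG hM hxo hxM hp1.2.1 hp1.2.2.2.2
    (kappa_centralizer_ne_bot hpκ hxM (hxo ▸ pow_orderOf_eq_one x)) hL (hXx ▸ hNL)
  exact le_sigmaCore_of_pgroup hG hL hpL (isPGroup_of_prime_card hp.symm)
    (le_normalizer.trans hNL)

end CfsgLib.OddOrder
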