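import Cfsg.Agent.Lib.OddOrder.FittingPGroup
import Cfsg.Agent.Lib.OddOrder.RankTwoAction

/-!
BG 9.5, preparations: the `q`-module of a maximal subgroup whose `O_q` has rank at least three, and
the data attached to an abelian `p`-group of rank three satisfying the transitivity hypothesis.
-/

set_option autoImplicit false
set_option linter.style.haveILetI false

open scoped commutatorElement

namespace CfsgLib.OddOrder

open Subgroup

variable {G : Type*} [Group G] [Finite G]

section Small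

variable {q : ℕ} [hq : Fact q.Prime]

omit [Finite G] hq in
theorem elementary_anti {X Y : Subgroup G} (hX : Cfsg.IsElementaryAbelian q X) (hYX : Y ≤ X) :
    Cfsg.IsElementaryAbelian q Y :=
  ⟨le_centralizer_iff_isMulCommutative.1 (hYX.trans
    ((le_centralizer_iff_isMulCommutative.2 hX.1).trans (centralizer_le hYX))),
    fun y hy => hX.2 y (hYX hy)⟩

omit [Finite G] hq in
theorem elementary_sup_zpowers {X : Subgroup G} (hX : Cfsg.IsElementaryAbelian q X) {y : G}
    (hy : y ∈ centralizer (X : Set G)) (hyq : y ^ q = 1) :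
    Cfsg.IsElementaryAbelian q (X ⊔ zpowers y) := by
  have hXy : X ≤ centralizer (zpowers y : Set G) := by
    rw [le_centralizer_iff, zpowers_le]; exact hy
  have hcomm : X ⊔ zpowers y ≤ centralizer ((X ⊔ zpowers y : Subgroup G) : Set G) := by
    rw [le_centralizer_iff]
    refine sup_le ?_ ?_ <;> rw [le_centralizer_iff] <;> refine sup_le ?_ ?_
    · exact le_centralizer_iff_isMulCommutative.2 hX.1
    · exact zpowers_le.2 hy
    · exact hXy
    · exact le_centralizer_iff_isMulCommutative.2 inferInstance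
  refine ⟨le_centralizer_iff_isMulCommutative.1 hcomm, fun a ha => ?_⟩
  rw [sup_eq_closure] at ha
  have hc : ∀ u ∈ closure ((X : Set G) ∪ (zpowers y : Set G)),
      ∀ v ∈ closure ((X : Set G) ∪ (zpowers y : Set G)), Commute u v := fun u hu v hv => by
    rw [← sup_eq_closure] at hu hv
    exact (mem_centralizer_iff.1 (hcomm hv) u hu)
  induction ha using closure_induction with
  | mem w hw =>
    rcases hw with hw | hw
    · exact hX.2 w hw
    · obtain ⟨i, rfl⟩ := mem_zpowers_iff.1 hw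
      rw [← zpow_natCast, ← zpow_mul, mul_comm, zpow_mul, zpow_natCast, hyq, one_zpow]
  | one => exact one_pow q
  | mul u v hu hv ihu ihv => rw [(hc u hu v hv).mul_pow, ihu, ihv, one_mul]
  | inv u _ ih => rw [inv_pow, ih, inv_one]

omit [Finite G] hq in
theorem isPGroup_of_exp {X : Subgroup G} (h : ∀ x ∈ X, x ^ q = 1) : IsPGroup q X :=
  fun x => ⟨1, Subtype.ext (by rw [pow_one, SubgroupClass.coe_pow, h x x.2]; rfl)⟩

/-- A cyclic group of exponent `q` has order at most `q`. -/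
theorem card_le_of_isCyclic {P : Subgroup G} (hexp : ∀ x ∈ P, x ^ q = 1) (hc : IsCyclic P) :
    Nat.card P ≤ q := by
  obtain ⟨g, hg⟩ := hc
  rw [← orderOf_eq_card_of_forall_mem_zpowers hg]
  exact Nat.le_of_dvd hq.out.pos
    (orderOf_dvd_of_pow_eq_one (Subtype.ext (hexp g g.2)))

theorem eq_of_le_of_isCyclic {P₁ P : Subgroup G} (hle : P₁ ≤ P) (hexp : ∀ x ∈ P, x ^ q = 1)
    (hc : IsCyclic P) (h1 : P₁ ≠ ⊥) : P₁ = P := by
  refine Subgroup.eq_of_le_of_card_ge hle ((card_le_of_isCyclic hexp hc).trans ?_)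
  obtain ⟨n, hn⟩ := (isPGroup_of_exp fun x hx => hexp x (hle hx)).exists_card_eq
  rcases n with _ | n
  · exact absurd (Subgroup.card_eq_one.1 (hn.trans (pow_zero q))) h1
  · rw [hn]; exact Nat.le_self_pow n.succ_ne_zero q

/-- A `q`-group normalising a subgroup of order `q` centralises it. -/
theorem le_centralizer_of_isCyclic {W S : Subgroup G} (hS : IsPGroup q S)
    (hSW : S ≤ normalizer (W : Set G)) (hexp : ∀ x ∈ W, x ^ q = 1) (hc : IsCyclic W) :
    S ≤ centralizer (W : Set G) := by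
  by_cases hW : W = ⊥
  · rw [hW]
    intro x _ y hy
    rw [Subgroup.coe_bot, Set.mem_singleton_iff] at hy
    rw [hy, one_mul, mul_one]
  have hT : IsPGroup q ↥(W ⊔ S) :=
    IsPGroup.to_sup_of_normal_left' (isPGroup_of_exp hexp) hS hSW
  haveI : (W.subgroupOf (W ⊔ S)).Normal :=
    normal_subgroupOf_of_le_normalizer (sup_le le_normalizer hSW)
  obtain ⟨z, hz, hz1⟩ := Solvable.exists_ne_one_mem_inf_center_of_normal hT
    (N := W.subgroupOf (W ⊔ S)) fun h => hW (by
      have h1 := congrArg (Subgroup.map (W ⊔ S).subtype) h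
      rwa [map_subgroupOf_eq_of_le le_sup_left, Subgroup.map_bot] at h1)
  have hzW : zpowers (z : G) = W := eq_of_le_of_isCyclic (zpowers_le.2 hz.1) hexp hc fun h =>
    hz1 (Subtype.ext (zpowers_eq_bot.1 h))
  rw [le_centralizer_iff, ← hzW, zpowers_le]
  exact fun x hx => congrArg Subtype.val (mem_center_iff.1 hz.2 ⟨x, mem_sup_right hx⟩)

end Small

/-- A normal `q`-subgroup of exponent `q` of a maximal subgroup, all whose noncyclic elementary
subgroups have a unique maximal overgroup. -/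
structure UModule (q : ℕ) (L U : Subgroup G) : Prop where
  coatom : IsCoatom L
  le : U ≤ L
  norm : L ≤ normalizer (U : Set G)
  exp : ∀ x ∈ U, x ^ q = 1
  noncyclic : ¬ IsCyclic U
  mem_of_rank : ∀ X : Subgroup G, IsPGroup q X → ¬ IsCyclic X →
    ¬ Cfsg.PRankLE q 2 ↥(centralizer (X : Set G)) → Cfsg.InUniqueMaximal X
  sub_unique : ∀ X ≤ U, Cfsg.IsElementaryAbelian q X → q < Nat.card X → Cfsg.InUniqueMaximal X

section MinSimple

variable (hG : Cfsg.IsMinSimpleOddOrder G)
include hG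

omit hG in
theorem le_of_inUniqueMaximal {X L K : Subgroup G} (hX : Cfsg.InUniqueMaximal X)
    (hL : IsCoatom L) (hXL : X ≤ L) (hK : K ≠ ⊤) (hXK : X ≤ K) : K ≤ L := by
  obtain ⟨M, -, huniq⟩ := hX
  obtain ⟨M', hM', hKM'⟩ := exists_isCoatom_ge hK
  rw [huniq L ⟨hL, hXL⟩, ← huniq M' ⟨hM', hXK.trans hKM'⟩]
  exact hKM'

theorem exists_uModule {L : Subgroup G} (hL : IsCoatom L) {q : ℕ} [hq : Fact q.Prime]
    (hr : ¬ Cfsg.PRankLE q 2 ↥(Cfsg.piCoreOf {q} L)) : ∃ U, UModule q L U := by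
  set R := Cfsg.piCoreOf {q} L with hR
  have hRp : IsPGroup q R := piCoreOf_singleton_isPGroup q L
  obtain ⟨E, hER, hEe, hE⟩ := exists_elementary_of_not_pRankLE hr
  have hq2 : q ≠ 2 := prime_ne_two_of_dvd_card hG (H := E) (by
    obtain ⟨n, hn⟩ := (hRp.to_le hER).exists_card_eq
    rcases n with _ | n
    · rw [hn, pow_zero] at hE
      have := Nat.one_le_pow 2 q hq.out.pos
      omega
    · exact hn ▸ dvd_pow_self q n.succ_ne_zero)
  have hF : ¬ Cfsg.PRankLE q 2 ↥(Cfsg.fittingOf L) := fun h => hr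
    (TwoFusion.PRank.pRankLE_mono
      (le_fittingOf (piCoreOf_le _ _) (le_normalizer_piCoreOf _ _) hRp.isNilpotent) h)
  have hEU : Cfsg.InUniqueMaximal E := inUniqueMaximal_of_fitting_rank hG hL hF
    (hRp.to_le hER) hEe.1 (not_pRankLE_of_elementary le_rfl hEe hE)
  have hmem : ∀ X : Subgroup G, IsPGroup q X → ¬ IsCyclic X →
      ¬ Cfsg.PRankLE q 2 ↥(centralizer (X : Set G)) → Cfsg.InUniqueMaximal X := fun X h1 h2 h3 =>
    inUniqueMaximal_of_rank_three hG hEe.1 (not_pRankLE_of_elementary le_rfl hEe hE) hEU h1 h2 h3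
  obtain ⟨H, hHc, hHf, hHR, hHC⟩ := CfsgLib.Transfer.exists_critical hRp
  haveI := hHc
  have hcl : ⁅H, H⁆ ≤ centralizer (H : Set R) :=
    (commutator_mono le_rfl le_top).trans (hHR.trans inf_le_right)
  obtain ⟨U₀, hU₀⟩ := exists_omega_subgroup (p := q) hq2 hcl
  set U := U₀.map R.subtype with hU
  have hUR : U ≤ R := map_subtype_le _
  have hU₀n : ∀ u ∈ U₀, ∀ r : R, r * u * r⁻¹ ∈ U₀ := fun u hu r => by
    haveI : H.Normal := inferInstance
    exact (hU₀ _).2 ⟨Normal.conj_mem inferInstance u ((hU₀ u).1 hu).1 r,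
      by rw [← MulAut.conj_apply, ← map_pow, ((hU₀ u).1 hu).2, map_one]⟩
  have hUexp : ∀ x ∈ U, x ^ q = 1 := by
    rintro _ ⟨u, hu, rfl⟩
    rw [← map_pow, ((hU₀ u).1 hu).2, map_one]
  refine ⟨U, hL, hUR.trans (piCoreOf_le _ _), ?_, hUexp, ?_, hmem, ?_⟩
  · rw [le_normalizer_iff]
    rintro g hg _ ⟨u, hu, rfl⟩
    have hgR : g ∈ normalizer (R : Set G) := le_normalizer_piCoreOf _ _ hg
    have h1 := hHc.fixed (R.normalizerMonoidHom ⟨g, hgR⟩)
    have h2 := ((hU₀ u).1 hu).1
    rw [← h1] at h2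
    exact ⟨R.normalizerMonoidHom ⟨g, hgR⟩ u,
      (hU₀ _).2 ⟨h2, by rw [← map_pow, ((hU₀ u).1 hu).2, map_one]⟩, rfl⟩
  · intro hc
    have hcard := card_le_of_isCyclic hUexp hc
    rw [hU, Subgroup.card_map_of_injective R.subtype_injective] at hcard
    have hH1 : Cfsg.PRankLE q 1 H := by
      intro B hB hBq
      rw [pow_one, ← Subgroup.card_map_of_injective (f := H.subtype) H.subtype_injective]
      refine le_trans (Subgroup.card_le_of_le ?_) hcard
      rintro _ ⟨b, hb, rfl⟩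
      exact (hU₀ _).2 ⟨b.2, by rw [← map_pow, hBq b hb, map_one]⟩
    haveI hHcyc : IsCyclic H := by
      by_contra h
      exact not_pRankLE_one_of_not_isCyclic hq2 (hRp.to_subgroup H) h hH1
    refine hr (pRankLE_two_of_cyclic_scn hq2 hRp (A := H) (le_antisymm hHC ?_))
    exact le_centralizer_iff_isMulCommutative.2 inferInstance
  · intro X hXU hXe hXc
    have hXp : IsPGroup q X := isPGroup_of_exp hXe.2
    refine hmem X hXp (elementary_not_isCyclic hXe hXc) ?_
    have hXX : X ≤ centralizer (X : Set G) := le_centralizer_iff_isMulCommutative.2 hXe.1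
    by_cases h3 : q ^ 2 < Nat.card X
    · exact not_pRankLE_of_elementary hXX hXe h3
    have hX2 : Nat.card X = q ^ 2 := by
      obtain ⟨i, hi⟩ := hXp.exists_card_eq
      rw [hi] at hXc h3 ⊢
      have h4 : 1 < i := (Nat.pow_lt_pow_iff_right hq.out.one_lt).1 (by rwa [pow_one])
      have h5 : i ≤ 2 := not_lt.1 fun h => h3 (Nat.pow_lt_pow_right hq.out.one_lt h)
      rw [show i = 2 by omega]
    set X₀ := X.subgroupOf R with hX₀
    have hX₀U : ∀ x ∈ X₀, x ∈ U₀ := fun x hx => by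
      obtain ⟨u, hu, hux⟩ := hXU (mem_subgroupOf.1 hx)
      exact (R.subtype_injective hux : u = x) ▸ hu
    by_cases hz : ∀ z ∈ U₀, z ∈ centralizer (H : Set R) → z ∈ X₀
    · haveI : X₀.Normal := ⟨fun x hx r => by
        have hxH : x ∈ H := ((hU₀ x).1 (hX₀U x hx)).1
        have h1 : ⁅r, x⁆ ∈ X₀ := by
          refine hz _ ?_ ?_
          · rw [commutatorElement_def]
            exact mul_mem (hU₀n x (hX₀U x hx) r) (inv_mem (hX₀U x hx))
          · have := commutator_mem_commutator (mem_top r) hxH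
            rw [Subgroup.commutator_comm] at this
            exact (hHR this).2
        have := mul_mem h1 hx
        rwa [commutatorElement_def, inv_mul_cancel_right] at this⟩
      have hX₀e : Cfsg.IsElementaryAbelian q X₀ := by
        haveI := hXe.1
        exact ⟨inferInstance, fun x hx => Subtype.ext (hXe.2 _ (mem_subgroupOf.1 hx))⟩
      obtain ⟨N, -, hXN, hNe, hNc⟩ := exists_normal_elementary_three hq2 hRp hr hX₀e
        ((Nat.card_congr (subgroupOfEquivOfLe (hXU.trans hUR)).toEquiv).trans hX2)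
      have hNe' : Cfsg.IsElementaryAbelian q (N.map R.subtype) := by
        haveI := hNe.1
        refine ⟨map_isMulCommutative N (f := R.subtype), ?_⟩
        rintro _ ⟨n, hn, rfl⟩
        rw [← map_pow, hNe.2 n hn, map_one]
      refine not_pRankLE_of_elementary ?_ hNe' ?_
      · rw [le_centralizer_iff, ← map_subgroupOf_eq_of_le (hXU.trans hUR)]
        exact (Subgroup.map_mono hXN).trans (le_centralizer_iff_isMulCommutative.2 hNe'.1)
      · rw [Subgroup.card_map_of_injective R.subtype_injective, hNc]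
        exact Nat.pow_lt_pow_right hq.out.one_lt (by norm_num)
    · push Not at hz
      obtain ⟨z, hzU, hzC, hzX⟩ := hz
      have hzC' : (z : G) ∈ centralizer (X : Set G) := fun x hx => by
        have hxR : x ∈ R := hUR (hXU hx)
        exact congrArg Subtype.val (mem_centralizer_iff.1 hzC ⟨x, hxR⟩
          ((hU₀ _).1 (hX₀U ⟨x, hxR⟩ (mem_subgroupOf.2 hx))).1)
      have he := elementary_sup_zpowers hXe hzC'
        (hUexp _ (mem_map_of_mem R.subtype hzU))
      refine not_pRankLE_of_elementary (sup_le hXX (zpowers_le.2 hzC')) he ?_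
      rw [← hX2]
      refine lt_of_le_of_ne (Subgroup.card_le_of_le le_sup_left) fun h => hzX (mem_subgroupOf.2 ?_)
      rw [Subgroup.eq_of_le_of_card_ge le_sup_left h.ge]
      exact mem_sup_right (mem_zpowers _)

namespace UModule

variable {q : ℕ} [hq : Fact q.Prime] {L U : Subgroup G} (hU : UModule q L U)
include hU

omit hG hq in
theorem pgroup : IsPGroup q U := isPGroup_of_exp hU.exp

theorem ne_two : q ≠ 2 := prime_ne_two_of_dvd_card hG (H := U) (by
  obtain ⟨n, hn⟩ := hU.pgroup.exists_card_eq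
  rcases n with _ | n
  · refine absurd ?_ hU.noncyclic
    rw [Subgroup.card_eq_one.1 (hn.trans (pow_zero q))]
    exact isCyclic_of_subsingleton
  · exact hn ▸ dvd_pow_self q n.succ_ne_zero)

theorem exists_elementary {P : Subgroup G} (hPU : P ≤ U) (hnc : ¬ IsCyclic P) :
    ∃ X ≤ P, Cfsg.IsElementaryAbelian q X ∧ q < Nat.card X := by
  obtain ⟨X, hX, hXe, hXc⟩ := exists_elementary_of_not_pRankLE
    (not_pRankLE_one_of_not_isCyclic (hU.ne_two hG) (hU.pgroup.to_le hPU) hnc)
  exact ⟨X, hX, hXe, by rwa [pow_one] at hXc⟩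

theorem le_of_noncyclic {P K : Subgroup G} (hPU : P ≤ U) (hnc : ¬ IsCyclic P) (hK : K ≠ ⊤)
    (hPK : P ≤ K) : K ≤ L := by
  obtain ⟨X, hXP, hXe, hXc⟩ := hU.exists_elementary hG hPU hnc
  exact le_of_inUniqueMaximal (hU.sub_unique X (hXP.trans hPU) hXe hXc) hU.coatom
    ((hXP.trans hPU).trans hU.le) hK (hXP.trans hPK)

/-- An elementary subgroup of order `> q` through a given element. -/
theorem exists_elementary_through {w : G} (hw : w ∈ U) (hw1 : w ≠ 1) :
    ∃ X ≤ U, w ∈ X ∧ Cfsg.IsElementaryAbelian q X ∧ q < Nat.card X := by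
  obtain ⟨y, hyU, hyc, hyw⟩ : ∃ y ∈ U, Commute w y ∧ y ∉ zpowers w := by
    obtain ⟨z, -, hzc, hzo⟩ := PGroup.exists_central_orderOf_eq hU.pgroup ⊤ (fun h => hw1 (by
      have h1 : (⟨w, hw⟩ : U) ∈ (⊥ : Subgroup U) := h ▸ mem_top _
      exact congrArg Subtype.val (mem_bot.1 h1)))
    have hz : ∀ u ∈ U, Commute u (z : G) := fun u hu =>
      congrArg Subtype.val (mem_center_iff.1 hzc ⟨u, hu⟩)
    by_cases hzw : (z : G) ∈ zpowers w
    · have heq : zpowers (z : G) = zpowers w := Subgroup.eq_of_le_of_card_ge (zpowers_le.2 hzw) (by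
        rw [Nat.card_zpowers, Nat.card_zpowers, Subgroup.orderOf_coe z, hzo]
        exact Nat.le_of_dvd hq.out.pos (orderOf_dvd_of_pow_eq_one (hU.exp w hw)))
      obtain ⟨y, hy, hyw⟩ : ∃ y ∈ U, y ∉ zpowers w := by
        by_contra h
        push Not at h
        refine hU.noncyclic ?_
        rw [le_antisymm h (zpowers_le.2 hw)]
        infer_instance
      refine ⟨y, hy, ?_, hyw⟩
      obtain ⟨i, hi⟩ := mem_zpowers_iff.1 (heq ▸ mem_zpowers w : w ∈ zpowers (z : G))
      exact hi ▸ ((hz y hy).symm.zpow_left i)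
    · exact ⟨z, z.2, hz w hw, hzw⟩
  have hwe : Cfsg.IsElementaryAbelian q (zpowers w) := ⟨inferInstance, by
    rintro _ ⟨i, rfl⟩
    show (w ^ i) ^ q = 1
    rw [← zpow_natCast, ← zpow_mul, mul_comm, zpow_mul, zpow_natCast, hU.exp w hw, one_zpow]⟩
  refine ⟨zpowers w ⊔ zpowers y, sup_le (zpowers_le.2 hw) (zpowers_le.2 hyU),
    mem_sup_left (mem_zpowers w), elementary_sup_zpowers hwe ?_ (hU.exp y hyU), ?_⟩
  · rintro _ ⟨i, rfl⟩
    exact (hyc.zpow_left i).eq
  · have h1 : Nat.card (zpowers w) = q := by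
      rw [Nat.card_zpowers, orderOf_eq_prime (hU.exp w hw) hw1]
    calc q = Nat.card (zpowers w) := h1.symm
      _ < _ := lt_of_le_of_ne (Subgroup.card_le_of_le le_sup_left) fun h => hyw (by
        rw [Subgroup.eq_of_le_of_card_ge le_sup_left h.ge]
        exact mem_sup_right (mem_zpowers y))

theorem centralizer_le {w : G} (hw : w ∈ U) (hw1 : w ≠ 1) : centralizer ({w} : Set G) ≤ L := by
  obtain ⟨X, hXU, hwX, hXe, hXc⟩ := hU.exists_elementary_through hG hw hw1
  refine le_of_inUniqueMaximal (hU.sub_unique X hXU hXe hXc) hU.coatom (hXU.trans hU.le)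
    (centralizer_singleton_ne_top hG hw1) fun x hx => ?_
  exact mem_centralizer_singleton_iff.2
    (mem_centralizer_iff.1 (le_centralizer_iff_isMulCommutative.2 hXe.1 hx) w hwX).symm

theorem isCyclic_of_not_le {b : G} (hb : b ≠ 1) (hbL : ¬ centralizer ({b} : Set G) ≤ L) :
    IsCyclic ↥(U ⊓ centralizer ({b} : Set G)) :=
  not_not.1 fun h => hbL (hU.le_of_noncyclic hG inf_le_left h
    (centralizer_singleton_ne_top hG hb) inf_le_right)

/-- The normalizer of a subgroup of `U` of prime order lies in `L`. -/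
theorem normalizer_le {W : Subgroup G} (hWU : W ≤ U) (hW1 : W ≠ ⊥) (hWc : IsCyclic W) :
    normalizer (W : Set G) ≤ L := by
  obtain ⟨w, hw, hw1⟩ := (bot_or_exists_ne_one W).resolve_left hW1
  obtain ⟨X, hXU, hwX, hXe, hXc⟩ := hU.exists_elementary_through hG (hWU hw) hw1
  refine le_of_inUniqueMaximal (hU.sub_unique X hXU hXe hXc) hU.coatom (hXU.trans hU.le)
    (normalizer_ne_top hG hW1 fun h => hU.coatom.1 (eq_top_iff.2 (h ▸ hWU.trans hU.le))) ?_
  have hwW : zpowers w = W := eq_of_le_of_isCyclic (zpowers_le.2 hw)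
    (fun x hx => hU.exp x (hWU hx)) hWc fun h => hw1 (zpowers_eq_bot.1 h)
  refine le_trans ?_ (centralizer_le_normalizer _)
  rw [le_centralizer_iff, ← hwW, zpowers_le]
  exact fun x hx => mem_centralizer_iff.1 (le_centralizer_iff_isMulCommutative.2 hXe.1 hwX) x hx

end UModule

end MinSimple

/-- An abelian `p`-group `A` of rank at least three, with `Ω ≤ A` elementary of order `p ^ 3`, such
that for `r ≠ p` the maximal `A`-invariant `r`-subgroups are conjugate under `C(A)` and invariant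
`p'`-subgroups of proper overgroups lie in the `p'`-core. -/
structure RankThreeData (p : ℕ) (A Ω : Subgroup G) : Prop where
  pgroup : IsPGroup p A
  comm : IsMulCommutative A
  ne_bot : A ≠ ⊥
  ne_top : A ≠ ⊤
  le : Ω ≤ A
  elem : Cfsg.IsElementaryAbelian p Ω
  card : Nat.card Ω = p ^ 3
  inv_le : ∀ H : Subgroup G, H ≠ ⊤ → A ≤ H → ∀ Y ≤ H, (Nat.card Y).Coprime p →
    A ≤ normalizer (Y : Set G) → Y ≤ Cfsg.piCoreOf (Cfsg.primesNotDvd p) H
  conj : ∀ r : ℕ, r.Prime → r ≠ p → ∀ Q₁ ∈ Cfsg.maxInvSubgroups ⊤ A {r},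
    ∀ Q₂ ∈ Cfsg.maxInvSubgroups ⊤ A {r}, ConjBy (centralizer (A : Set G)) Q₁ Q₂

/-- `H` is a subgroup of `Ω` with cyclic quotient. -/
def IsLine (Ω H : Subgroup G) : Prop := H ≤ Ω ∧ ∃ a ∈ Ω, Ω ≤ H ⊔ zpowers a

namespace RankThreeData

variable {p : ℕ} [hp : Fact p.Prime] {A Ω : Subgroup G} (D : RankThreeData p A Ω)
include D

omit [Finite G] hp in
theorem le_centralizer : A ≤ centralizer (A : Set G) :=
  le_centralizer_iff_isMulCommutative.2 D.comm

omit [Finite G] hp in
theorem le_centralizer_singleton {b : G} (hb : b ∈ Ω) : A ≤ centralizer ({b} : Set G) :=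
  fun _ hx => mem_centralizer_singleton_iff.2
    (mem_centralizer_iff.1 (D.le_centralizer hx) b (D.le hb)).symm

omit [Finite G] hp in
theorem cent_le_singleton {b : G} (hb : b ∈ Ω) :
    centralizer (A : Set G) ≤ centralizer ({b} : Set G) :=
  Subgroup.centralizer_le (Set.singleton_subset_iff.2 (D.le hb))

omit hp in
theorem le_normalizer_inf {K : Subgroup G} {S : Set G} (hS : S ⊆ A) (hK : A ≤ normalizer (K : Set G)) :
    A ≤ normalizer ((K ⊓ centralizer S : Subgroup G) : Set G) :=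
  le_normalizer_inf_of_le hK (le_trans
    (D.le_centralizer.trans (Subgroup.centralizer_le hS)) le_normalizer)

theorem coprime_of_isPGroup {r : ℕ} [Fact r.Prime] (hrp : r ≠ p) {X Y : Subgroup G}
    (hX : IsPGroup p X) (hY : IsPGroup r Y) : (Nat.card X).Coprime (Nat.card Y) := by
  obtain ⟨m, hm⟩ := hX.exists_card_eq
  obtain ⟨n, hn⟩ := hY.exists_card_eq
  rw [hm, hn]
  exact Nat.Coprime.pow _ _ ((Nat.coprime_primes hp.out Fact.out).2 (Ne.symm hrp))

theorem line_card {H : Subgroup G} (h : IsLine Ω H) : p ^ 2 ≤ Nat.card H := by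
  obtain ⟨hH, a, ha, hle⟩ := h
  have hn : zpowers a ≤ normalizer (H : Set G) :=
    (zpowers_le.2 (le_centralizer_iff_isMulCommutative.2 D.elem.1 ha)).trans
      ((Subgroup.centralizer_le hH).trans (centralizer_le_normalizer _))
  have h2 := (Subgroup.card_le_of_le hle).trans
    (Nat.le_of_dvd (Nat.mul_pos Nat.card_pos Nat.card_pos) (Solvable.card_sup_dvd hn))
  rw [D.card, Nat.card_zpowers] at h2
  have h4 := h2.trans (Nat.mul_le_mul_left _
    (Nat.le_of_dvd hp.out.pos (orderOf_dvd_of_pow_eq_one (D.elem.2 a ha))))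
  rw [pow_succ] at h4
  exact Nat.le_of_mul_le_mul_right h4 hp.out.pos

theorem line_inf {H H' : Subgroup G} (h : IsLine Ω H) (h' : IsLine Ω H') :
    ∃ z ∈ H ⊓ H', z ≠ 1 := by
  refine (bot_or_exists_ne_one (H ⊓ H')).resolve_left fun h0 => ?_
  have h1 := PLocal.card_mul_card_le_sup_inf H H'
  rw [h0, Subgroup.card_bot, mul_one] at h1
  have h2 := (Nat.mul_le_mul (D.line_card h) (D.line_card h')).trans
    (h1.trans (Subgroup.card_le_of_le (sup_le h.1 h'.1)))
  rw [D.card, ← pow_add] at h2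
  exact absurd ((Nat.pow_le_pow_iff_right hp.out.one_lt).1 h2) (by omega)

theorem line_ne_one {H : Subgroup G} (h : IsLine Ω H) : ∃ z ∈ H, z ≠ 1 := by
  obtain ⟨z, hz, hz1⟩ := D.line_inf h h
  exact ⟨z, hz.1, hz1⟩

/-- An `A`-invariant `r`-group is generated by the centralisers of the lines of `Ω`. -/
theorem exists_line_not_le {r : ℕ} [Fact r.Prime] (hrp : r ≠ p) {K W : Subgroup G}
    (hK : IsPGroup r K) (hAK : A ≤ normalizer (K : Set G)) (hKW : ¬ K ≤ W) :
    ∃ H, IsLine Ω H ∧ ¬ K ⊓ centralizer (H : Set G) ≤ W := by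
  by_contra h
  push Not at h
  haveI := D.elem.1
  exact hKW (Solvable.le_of_cyclic_quotient_centralizer_le (A := Ω) (D.le.trans hAK)
    (D.coprime_of_isPGroup hrp (D.pgroup.to_le D.le) hK) fun B hB hc => h B ⟨hB, hc⟩)

theorem exists_conj_ge {r : ℕ} [hr : Fact r.Prime] (hrp : r ≠ p) {Q : Subgroup G}
    (hQ : Q ∈ Cfsg.maxInvSubgroups ⊤ A {r}) {Y : Subgroup G} (hY : IsPGroup r Y)
    (hAY : A ≤ normalizer (Y : Set G)) :
    ∃ c ∈ centralizer (A : Set G), Y ≤ Q.map (MulAut.conj c).toMonoidHom := by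
  obtain ⟨Q', hQ', hYQ'⟩ := exists_maxInvSubgroup_ge (A := A) (π := ({r} : Set ℕ))
    (Y := Y) ⟨le_top, isPiSubgroup_singleton.2 hY, hAY⟩
  obtain ⟨c, hc, rfl⟩ := D.conj r hr.out hrp Q hQ Q' hQ'
  exact ⟨c, hc, hYQ'⟩

theorem inv_le_core {r : ℕ} [Fact r.Prime] (hrp : r ≠ p) {H Y : Subgroup G} (hH : H ≠ ⊤)
    (hAH : A ≤ H) (hYH : Y ≤ H) (hY : IsPGroup r Y) (hAY : A ≤ normalizer (Y : Set G)) :
    Y ≤ Cfsg.piCoreOf (Cfsg.primesNotDvd p) H := by
  refine D.inv_le H hH hAH Y hYH ?_ hAY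
  obtain ⟨n, hn⟩ := hY.exists_card_eq
  rw [hn]
  exact Nat.Coprime.pow_left _ ((Nat.coprime_primes Fact.out hp.out).2 hrp)

/-- `A` has a unique maximal overgroup if some maximal overgroup contains all invariant
`r`-subgroups. -/
theorem inUniqueMaximal_of_le (hG : Cfsg.IsMinSimpleOddOrder G) {M : Subgroup G} (hM : IsCoatom M)
    (hAM : A ≤ M)
    (h : ∀ r : ℕ, r.Prime → r ≠ p → ∀ Y : Subgroup G, IsPGroup r Y →
      A ≤ normalizer (Y : Set G) → Y ≤ M) : Cfsg.InUniqueMaximal A := by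
  refine inUniqueMaximal_of_inv_le hG hM hAM D.pgroup D.ne_bot fun Y hY hAY => ?_
  have hcop : (Nat.card A).Coprime (Nat.card Y) := by
    obtain ⟨n, hn⟩ := D.pgroup.exists_card_eq
    rw [hn]; exact (hY.symm).pow_left n
  refine inf_eq_left.1 (Subgroup.eq_of_le_of_card_ge inf_le_left
    (Nat.le_of_dvd Nat.card_pos ?_) : Y ⊓ M = Y)
  rw [← Nat.factorization_le_iff_dvd Nat.card_pos.ne' Nat.card_pos.ne', Finsupp.le_def]
  intro r
  by_cases hr : r.Prime
  swap
  · rw [Nat.factorization_eq_zero_of_not_prime _ hr]; exact Nat.zero_le _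
  haveI := Fact.mk hr
  by_cases hrY : r ∣ Nat.card Y
  swap
  · rw [Nat.factorization_eq_zero_of_not_dvd hrY]; exact Nat.zero_le _
  have hrp : r ≠ p := fun h => hr.ne_one (Nat.eq_one_of_dvd_coprimes hY hrY (h ▸ dvd_rfl))
  haveI := D.pgroup.isNilpotent
  obtain ⟨S, hS⟩ := Solvable.exists_invariant_sylow hAY hcop (Or.inl inferInstance) r
  have hdvd : r ^ (Nat.card Y).factorization r ∣ Nat.card ↥(Y ⊓ M) := by
    rw [← S.card_eq_multiplicity, ← Subgroup.card_map_of_injective Y.subtype_injective]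
    exact Subgroup.card_dvd_of_le (le_inf (map_subtype_le _) (h r hr hrp _ (S.2.map _) hS))
  exact (hr.pow_dvd_iff_le_factorization Nat.card_pos.ne').1 hdvd

end RankThreeData

end CfsgLib.OddOrder
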