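import Cfsg.Agent.Lib.OddOrder.OddSL2
import Mathlib.LinearAlgebra.Matrix.GeneralLinearGroup.Card
import Mathlib.Algebra.CharP.Lemmas
import Mathlib.Tactic.LinearCombination

/-!
Odd order subgroups of `GL₂`: the derived subgroup has exponent dividing the characteristic.
-/

set_option autoImplicit false
set_option linter.style.haveILetI false

namespace CfsgLib.OddOrder

open Matrix
open scoped MatrixGroups

variable {F : Type*} [Field F]

/-- The commutant of a non-scalar `2 × 2` matrix consists of its linear polynomials. -/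
theorem exists_eq_linear_of_commute {z g : Matrix (Fin 2) (Fin 2) F}
    (hz : z 0 1 ≠ 0 ∨ z 1 0 ≠ 0 ∨ z 0 0 ≠ z 1 1) (h : g * z = z * g) :
    ∃ a b : F, g = a • (1 : Matrix (Fin 2) (Fin 2) F) + b • z := by
  have e00 := congrFun (congrFun h 0) 0
  have e01 := congrFun (congrFun h 0) 1
  have e10 := congrFun (congrFun h 1) 0
  simp only [mul_apply, Fin.sum_univ_two] at e00 e01 e10
  have mk : ∀ b : F, g 0 1 = b * z 0 1 → g 1 0 = b * z 1 0 →
      g 1 1 - g 0 0 = b * (z 1 1 - z 0 0) →
      ∃ a b : F, g = a • (1 : Matrix (Fin 2) (Fin 2) F) + b • z := by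
    intro b h2 h3 h4
    refine ⟨g 0 0 - b * z 0 0, b, ?_⟩
    ext i j
    fin_cases i <;> fin_cases j <;> simp [h2, h3]
    linear_combination h4
  by_cases hb : z 0 1 = 0
  · by_cases hc : z 1 0 = 0
    · have hd : z 1 1 - z 0 0 ≠ 0 := sub_ne_zero.2 (fun he => by tauto)
      obtain ⟨b, hb'⟩ : ∃ b, g 1 1 - g 0 0 = b * (z 1 1 - z 0 0) :=
        ⟨_, (div_mul_cancel₀ _ hd).symm⟩
      refine mk b ?_ ?_ hb'
      · refine mul_left_cancel₀ hd ?_
        rw [hb] at e01 ⊢
        linear_combination e01
      · refine mul_left_cancel₀ hd ?_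
        rw [hc] at e10 ⊢
        linear_combination -e10
    · obtain ⟨b, hb'⟩ : ∃ b, g 1 0 = b * z 1 0 := ⟨_, (div_mul_cancel₀ _ hc).symm⟩
      refine mk b ?_ hb' ?_
      · refine mul_left_cancel₀ hc ?_
        linear_combination e00 + z 0 1 * hb'
      · refine mul_left_cancel₀ hc ?_
        linear_combination e10 + (z 1 1 - z 0 0) * hb'
  · obtain ⟨b, hb'⟩ : ∃ b, g 0 1 = b * z 0 1 := ⟨_, (div_mul_cancel₀ _ hb).symm⟩
    refine mk b hb' ?_ ?_
    · refine mul_left_cancel₀ hb ?_
      linear_combination -e00 + z 1 0 * hb'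
    · refine mul_left_cancel₀ hb ?_
      linear_combination -e01 + (z 1 1 - z 0 0) * hb'

/-- Trace `2` and determinant `1` give unipotence. -/
theorem pow_char_of_trace_two {p : ℕ} [Fact p.Prime] [CharP F p] (hp : p ≠ 2)
    {z : Matrix (Fin 2) (Fin 2) F} (hd : z.det = 1) (ht : z 0 0 + z 1 1 = 2) : z ^ p = 1 := by
  have hsq : (z - 1) * (z - 1) = 0 := by
    rw [det_fin_two] at hd
    ext i j
    fin_cases i <;> fin_cases j <;> simp [mul_apply, Fin.sum_univ_two, one_apply]
    · linear_combination -hd + z 0 0 * ht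
    · linear_combination z 0 1 * ht
    · linear_combination z 1 0 * ht
    · linear_combination -hd + z 1 1 * ht
  have h0 : (z - 1) ^ p = 0 := by
    obtain ⟨r, hr⟩ : ∃ r, p = 2 + r := Nat.exists_eq_add_of_le (Fact.out : p.Prime).two_le
    rw [hr, pow_add, pow_two, hsq, zero_mul]
  haveI : CharP (Matrix (Fin 2) (Fin 2) F) p := inferInstance
  rw [sub_pow_char_of_commute p (Commute.one_right z), one_pow] at h0
  exact sub_eq_zero.mp h0

theorem commute_linear {z g h : Matrix (Fin 2) (Fin 2) F}
    (hg : ∃ a b : F, g = a • (1 : Matrix (Fin 2) (Fin 2) F) + b • z)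
    (hh : ∃ a b : F, h = a • (1 : Matrix (Fin 2) (Fin 2) F) + b • z) : g * h = h * g := by
  obtain ⟨a, b, rfl⟩ := hg
  obtain ⟨c, d, rfl⟩ := hh
  simp only [add_mul, mul_add, smul_mul_assoc, mul_smul_comm, one_mul, mul_one, smul_smul]
  module

/-- A commuting element with the same trace and determinant as a semisimple `z` is `z` or `z⁻¹`. -/
theorem eq_or_eq_inv_of_commute {z y : Matrix (Fin 2) (Fin 2) F} (hzd : z.det = 1) (hyd : y.det = 1)
    (ht : y 0 0 + y 1 1 = z 0 0 + z 1 1) (hz : (z 0 0 + z 1 1) ^ 2 ≠ 4) (h : y * z = z * y)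
    (h2 : (2 : F) ≠ 0) : y = z ∨ y * z = 1 := by
  have hns : z 0 1 ≠ 0 ∨ z 1 0 ≠ 0 ∨ z 0 0 ≠ z 1 1 := by
    by_contra hs
    push Not at hs
    obtain ⟨h01, h10, h00⟩ := hs
    rw [det_fin_two, h01, h10, h00] at hzd
    apply hz
    rw [h00]
    linear_combination 4 * hzd
  obtain ⟨a, b, rfl⟩ := exists_eq_linear_of_commute hns h
  rw [det_fin_two] at hzd hyd
  simp only [Matrix.add_apply, Matrix.smul_apply, smul_eq_mul, one_apply_eq, Matrix.one_apply,
    Fin.reduceEq, ↓reduceIte, mul_one, mul_zero, zero_add] at ht hyd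
  have hkey : (1 - b ^ 2) * ((z 0 0 + z 1 1) ^ 2 - 4) = 0 := by
    linear_combination (-4 * b ^ 2) * hzd + 4 * hyd
      - (2 * a + b * (z 0 0 + z 1 1) + (z 0 0 + z 1 1)) * ht
  rcases mul_eq_zero.1 hkey with hb | hb
  swap
  · exact absurd (sub_eq_zero.1 hb) hz
  rcases mul_self_eq_one_iff.1 (show b * b = 1 by linear_combination -hb) with rfl | rfl
  · left
    have ha : a = 0 := by
      have : (2 : F) * a = 0 := by linear_combination ht
      simpa [h2] using this
    simp [ha]
  · right
    have ha : a = z 0 0 + z 1 1 := by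
      refine mul_left_cancel₀ h2 ?_
      linear_combination ht
    subst ha
    ext i j
    fin_cases i <;> fin_cases j <;>
      simp [mul_apply, Fin.sum_univ_two, one_apply] <;> first | linear_combination hzd | ring

variable {p : ℕ} [hp : Fact p.Prime] [CharP F p]

/-- In a solvable odd-order subgroup of `GL₂`, commutators have order dividing the characteristic. -/
theorem gl2_commutator_pow_eq_one (hp2 : p ≠ 2) (X : Subgroup (GL (Fin 2) F)) [Finite X]
    [Group.IsSolvable X] (hodd : Odd (Nat.card X)) : ∀ g ∈ commutator X, g ^ p = 1 := by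
  classical
  have h2 : (2 : F) ≠ 0 := by
    intro h
    rw [show (2 : F) = ((2 : ℕ) : F) by norm_num, CharP.cast_eq_zero_iff F p] at h
    exact hp2 ((Nat.prime_dvd_prime_iff_eq Fact.out Nat.prime_two).mp h)
  let det' : X →* Fˣ := Matrix.GeneralLinearGroup.det.comp X.subtype
  have hdet : ∀ g ∈ commutator X, ((g : GL (Fin 2) F) : Matrix (Fin 2) (Fin 2) F).det = 1 := by
    intro g hg
    have h1 : commutator X ≤ det'.ker := Abelianization.commutator_subset_ker det'
    exact congrArg Units.val (MonoidHom.mem_ker.1 (h1 hg))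
  by_cases hdvd : p ∣ Nat.card X
  · obtain ⟨v, hv0, hv⟩ := exists_invariant_line hp2 X hodd hdvd
    have hlam : ∀ g : X, ∃ l : F,
        ((g : GL (Fin 2) F) : Matrix (Fin 2) (Fin 2) F).mulVec v = l • v := fun g => by
      obtain ⟨l, hl⟩ := Submodule.mem_span_singleton.1 (hv g g.2)
      exact ⟨l, hl.symm⟩
    choose l hl using hlam
    have hinj : ∀ a b : F, a • v = b • v → a = b := fun a b hab =>
      smul_left_injective F hv0 hab
    let lam : X →* F :=
      { toFun := l
        map_one' := hinj _ _ (by rw [← hl]; simp)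
        map_mul' := fun g h => hinj _ _ (by
          rw [← hl, Subgroup.coe_mul, Units.val_mul, ← mulVec_mulVec, hl h, mulVec_smul, hl g,
            smul_smul, mul_comm]) }
    intro g hg
    have h1 : commutator X ≤ lam.toHomUnits.ker := Abelianization.commutator_subset_ker _
    have hl1 : l g = 1 := congrArg Units.val (MonoidHom.mem_ker.1 (h1 hg))
    set z := ((g : GL (Fin 2) F) : Matrix (Fin 2) (Fin 2) F) with hz
    have hzv : (z - 1).mulVec v = 0 := by
      rw [sub_mulVec, one_mulVec, hl g, hl1, one_smul, sub_self]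
    have hdet0 : (z - 1).det = 0 := Matrix.exists_mulVec_eq_zero_iff.1 ⟨v, hv0, hzv⟩
    have hd := hdet g hg
    rw [← hz] at hd
    have ht : z 0 0 + z 1 1 = 2 := by
      rw [det_fin_two] at hdet0 hd
      simp only [Matrix.sub_apply, one_apply_eq, Matrix.one_apply, Fin.reduceEq, ↓reduceIte,
        sub_zero] at hdet0
      linear_combination hd - hdet0
    refine Subtype.ext (Units.ext ?_)
    rw [Subgroup.coe_pow, Units.val_pow_eq_pow_val]
    exact pow_char_of_trace_two hp2 hd ht
  · suffices hc : commutator X = ⊥ by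
      intro g hg
      rw [hc, Subgroup.mem_bot] at hg
      rw [hg, one_pow]
    by_contra hc
    obtain ⟨n, hn, hn'⟩ : ∃ n, derivedSeries X (n + 1) ≠ ⊥ ∧ derivedSeries X (n + 2) = ⊥ := by
      obtain ⟨m, hm⟩ := (inferInstance : Group.IsSolvable X).solvable
      have hex : ∃ k, derivedSeries X (k + 1) = ⊥ :=
        ⟨m, le_bot_iff.1 ((derivedSeries_antitone X (Nat.le_succ m)).trans hm.le)⟩
      rcases hk : Nat.find hex with _ | k
      · have h := Nat.find_spec hex
        rw [hk, zero_add, derivedSeries_one] at h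
        exact absurd h hc
      · have h := Nat.find_spec hex
        rw [hk] at h
        exact ⟨k, Nat.find_min hex (by omega), h⟩
    set A := derivedSeries X (n + 1) with hA
    haveI : A.Normal := derivedSeries_normal X _
    have hAle : A ≤ commutator X := by
      rw [← derivedSeries_one]
      exact derivedSeries_antitone X (Nat.le_add_left 1 n)
    obtain ⟨x, hxA, hx1⟩ := (Subgroup.bot_or_exists_ne_one A).resolve_left hn
    have hAc : ∀ a ∈ A, ∀ b ∈ A, a * b = b * a := by
      rw [derivedSeries_succ, ← hA, Subgroup.commutator_eq_bot_iff_le_centralizer] at hn'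
      exact fun a ha b hb => (Subgroup.mem_centralizer_iff.1 (hn' hb) a ha)
    set z := ((x : GL (Fin 2) F) : Matrix (Fin 2) (Fin 2) F) with hz
    have hzd : z.det = 1 := hdet x (hAle hxA)
    have hord : Odd (orderOf x) := hodd.of_dvd_nat (orderOf_dvd_natCard x)
    have hss : (z 0 0 + z 1 1) ^ 2 ≠ 4 := by
      intro h4
      have hxp : x ^ (2 * p) = 1 := by
        refine Subtype.ext (Units.ext ?_)
        rw [Subgroup.coe_pow, Units.val_pow_eq_pow_val, ← hz]
        rcases mul_eq_zero.1 (show (z 0 0 + z 1 1 - 2) * (z 0 0 + z 1 1 + 2) = 0 by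
          linear_combination h4) with ht | ht
        · rw [mul_comm, pow_mul, pow_char_of_trace_two hp2 hzd (sub_eq_zero.1 ht), one_pow]
          rfl
        · have h1 : ((-1 : F) • z) ^ p = 1 := by
            refine pow_char_of_trace_two hp2 ?_ ?_
            · rw [det_smul, hzd]; simp
            · simp only [Matrix.smul_apply, smul_eq_mul]
              linear_combination -ht
          rw [pow_mul, show z ^ 2 = ((-1 : F) • z) ^ 2 by rw [smul_pow]; simp, ← pow_mul,
            mul_comm, pow_mul, h1, one_pow]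
          rfl
      have hd1 : orderOf x ∣ 2 * p := orderOf_dvd_of_pow_eq_one hxp
      have hd2 : orderOf x ∣ p :=
        ((Nat.coprime_two_right.2 hord)).dvd_of_dvd_mul_left hd1
      rcases (Nat.dvd_prime hp.out).1 hd2 with h | h
      · exact hx1 (orderOf_eq_one_iff.1 h)
      · exact hdvd (h ▸ orderOf_dvd_natCard x)
    -- every element of `X` centralises `x`
    have hcen : ∀ g : X, g * x = x * g := by
      intro g
      set y : X := g * x * g⁻¹ with hy
      have hyA : y ∈ A := (inferInstance : A.Normal).conj_mem x hxA g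
      have hyz : ((y : GL (Fin 2) F) : Matrix (Fin 2) (Fin 2) F) * z =
          z * ((y : GL (Fin 2) F) : Matrix (Fin 2) (Fin 2) F) := by
        have := congrArg (fun w : X => ((w : GL (Fin 2) F) : Matrix (Fin 2) (Fin 2) F))
          (hAc y hyA x hxA)
        simpa [hz] using this
      have htr : ((y : GL (Fin 2) F) : Matrix (Fin 2) (Fin 2) F) 0 0 +
          ((y : GL (Fin 2) F) : Matrix (Fin 2) (Fin 2) F) 1 1 = z 0 0 + z 1 1 := by
        rw [← trace_fin_two, ← trace_fin_two, hy]
        simp only [Subgroup.coe_mul, Subgroup.coe_inv, Units.val_mul]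
        rw [trace_mul_cycle, ← Units.val_mul, inv_mul_cancel, Units.val_one, one_mul]
      rcases eq_or_eq_inv_of_commute hzd (hdet y (hAle hyA)) htr hss hyz h2 with h | h
      · have : y = x := Subtype.ext (Units.ext h)
        exact mul_inv_eq_iff_eq_mul.1 this
      · have h' : y * x = 1 := Subtype.ext (Units.ext (by simpa [hz] using h))
        have hyx : g * x * g⁻¹ = x⁻¹ := eq_inv_of_mul_eq_one_left h'
        have hg2 : Commute (g ^ 2) x := by
          refine mul_inv_eq_iff_eq_mul.1 ?_
          calc g ^ 2 * x * (g ^ 2)⁻¹ = g * (g * x * g⁻¹) * g⁻¹ := by rw [pow_two]; group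
            _ = (g * x * g⁻¹)⁻¹ := by
              rw [show g * (g * x * g⁻¹) * g⁻¹ = g * x⁻¹ * g⁻¹ by rw [hyx]]; group
            _ = x := by rw [hyx, inv_inv]
        obtain ⟨k, hk⟩ := hodd.of_dvd_nat (orderOf_dvd_natCard g)
        have hgk : g = (g ^ 2) ^ (k + 1) := by
          rw [← pow_mul, show 2 * (k + 1) = orderOf g + 1 by omega, pow_succ, pow_orderOf_eq_one,
            one_mul]
        rw [hgk]
        exact (hg2.pow_left _).eq
    have hns : z 0 1 ≠ 0 ∨ z 1 0 ≠ 0 ∨ z 0 0 ≠ z 1 1 := by
      by_contra hs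
      push Not at hs
      obtain ⟨h01, h10, h00⟩ := hs
      rw [det_fin_two, h01, h10, h00] at hzd
      apply hss
      rw [h00]
      linear_combination 4 * hzd
    refine hc (le_bot_iff.1 ?_)
    rw [_root_.commutator_def, Subgroup.commutator_le]
    intro a _ b _
    rw [Subgroup.mem_bot, commutatorElement_eq_one_iff_mul_comm]
    have hlin : ∀ w : X, ∃ s t : F, ((w : GL (Fin 2) F) : Matrix (Fin 2) (Fin 2) F) =
        s • (1 : Matrix (Fin 2) (Fin 2) F) + t • z := fun w =>
      exists_eq_linear_of_commute hns (by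
        have := congrArg (fun u : X => ((u : GL (Fin 2) F) : Matrix (Fin 2) (Fin 2) F)) (hcen w)
        simpa [hz] using this)
    exact Subtype.ext (Units.ext (by simpa using commute_linear (hlin a) (hlin b)))

/-- Odd prime divisors of `|GL₂(F_p)|` are at most `p`. -/
theorem gl2_zmod_prime_le (hp2 : p ≠ 2) {q : ℕ} (hq : q.Prime) (hq2 : q ≠ 2)
    (h : q ∣ Nat.card (GL (Fin 2) (ZMod p))) : q ≤ p := by
  by_contra hlt
  push Not at hlt
  rw [Matrix.card_GL_field, Fin.prod_univ_two, ZMod.card] at h
  have h3 : 2 ≤ p := hp.out.two_le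
  rcases (Nat.Prime.dvd_mul hq).1 h with h | h
  · simp only [Fin.val_zero, pow_zero] at h
    rw [show p ^ 2 - 1 = (p + 1) * (p - 1) by
      simpa using Nat.sq_sub_sq p 1] at h
    rcases (Nat.Prime.dvd_mul hq).1 h with h | h
    · have := Nat.le_of_dvd (by omega) h
      have hqp : q = p + 1 := by omega
      have : Even q := by
        rw [hqp, Nat.even_add_one, Nat.not_even_iff_odd]
        exact hp.out.odd_of_ne_two hp2
      exact hq2 ((Nat.Prime.even_iff hq).1 this)
    · have := Nat.le_of_dvd (by omega) h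
      omega
  · simp only [Fin.val_one, pow_one] at h
    rw [show p ^ 2 - p = p * (p - 1) by rw [Nat.mul_sub, mul_one, sq]] at h
    rcases (Nat.Prime.dvd_mul hq).1 h with h | h
    · have := Nat.le_of_dvd (by omega) h
      omega
    · have := Nat.le_of_dvd (by omega) h
      omega

end CfsgLib.OddOrder
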