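import Cfsg.Agent.Lib.OddOrder.TauTwo

/-!
Lines of a plane fixed by commuting elements of odd order.
-/

set_option autoImplicit false
set_option linter.style.haveILetI false

open scoped commutatorElement

namespace CfsgLib.OddOrder

open Subgroup

variable {G : Type*} [Group G] [Finite G] {p : ℕ} [hp : Fact p.Prime]

theorem mem_zpowers_symm {x y : G} (hx : x ^ p = 1) (hx1 : x ≠ 1) (hy : y ^ p = 1)
    (h : x ∈ zpowers y) : y ∈ zpowers x := by
  have hy1 : y ≠ 1 := fun hy1 => hx1 (by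
    rw [hy1, zpowers_one_eq_bot, mem_bot] at h
    exact h)
  have h1 : zpowers x = zpowers y := eq_of_le_of_card_ge (zpowers_le.2 h)
    (by rw [Nat.card_zpowers, Nat.card_zpowers, orderOf_eq_prime hy hy1, orderOf_eq_prime hx hx1])
  exact h1.ge (mem_zpowers y)

omit hp in
theorem mem_normalizer_zpowers_iff {k y : G} :
    k ∈ normalizer (zpowers y : Set G) ↔ k * y * k⁻¹ ∈ zpowers y := by
  refine ⟨fun h => (mem_normalizer_iff.1 h y).1 (mem_zpowers y), fun h => ?_⟩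
  refine mem_normalizer_of_map_le ?_
  rw [MonoidHom.map_zpowers, zpowers_le]
  exact h

omit hp in
theorem conj_mul_conj (g h x : G) : g * (h * x * h⁻¹) * g⁻¹ = g * h * x * (g * h)⁻¹ := by group

omit [Finite G] in
theorem eq_zpow_of_dvd_sub {x : G} (hx : x ^ p = 1) {a c : ℤ} (h : (p : ℤ) ∣ a - c) :
    x ^ a = x ^ c := by
  obtain ⟨t, ht⟩ := h
  rw [show a = (p : ℤ) * t + c by linarith, zpow_add, zpow_mul, zpow_natCast, hx, one_zpow, one_mul]

variable {A : Subgroup G} (hA : Cfsg.IsElementaryAbelian p A) (hA2 : Nat.card A = p ^ 2)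
include hA hA2

/-- An element fixing three lines of a plane acts as a scalar. -/
theorem scalar_of_three {k y₁ y₂ y₃ : G} (h₁ : y₁ ∈ A) (h₂ : y₂ ∈ A) (h₃ : y₃ ∈ A)
    (hn1 : y₁ ≠ 1) (h21 : y₂ ∉ zpowers y₁) (h31 : y₃ ∉ zpowers y₁) (h32 : y₃ ∉ zpowers y₂)
    (k₁ : k ∈ normalizer (zpowers y₁ : Set G)) (k₂ : k ∈ normalizer (zpowers y₂ : Set G))
    (k₃ : k ∈ normalizer (zpowers y₃ : Set G)) :
    ∀ x ∈ A, k ∈ normalizer (zpowers x : Set G) := by
  haveI := hA.1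
  obtain ⟨-, hdec⟩ := exists_pair_decomp hA hA2 h₁ hn1 h₂ h21
  obtain ⟨a, ha⟩ := mem_zpowers_iff.1 (mem_normalizer_zpowers_iff.1 k₁)
  obtain ⟨b, hb⟩ := mem_zpowers_iff.1 (mem_normalizer_zpowers_iff.1 k₂)
  obtain ⟨c, hc⟩ := mem_zpowers_iff.1 (mem_normalizer_zpowers_iff.1 k₃)
  obtain ⟨i, j, hij⟩ := hdec y₃ h₃
  have hcom : Commute y₁ y₂ := setLike_mul_comm (s := A) h₁ h₂
  have himg : ∀ u v : ℤ, k * (y₁ ^ u * y₂ ^ v) * k⁻¹ = y₁ ^ (a * u) * y₂ ^ (b * v) := fun u v => by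
    rw [show k * (y₁ ^ u * y₂ ^ v) * k⁻¹ = (k * y₁ ^ u * k⁻¹) * (k * y₂ ^ v * k⁻¹) by group,
      ← conj_zpow, ← conj_zpow, ← ha, ← hb, ← zpow_mul, ← zpow_mul]
  have he : y₁ ^ (a * i) * y₂ ^ (b * j) = y₁ ^ (c * i) * y₂ ^ (c * j) := by
    rw [← himg, ← hij, ← hc, hij, (hcom.zpow_zpow i j).mul_zpow, ← zpow_mul, ← zpow_mul,
      mul_comm i c, mul_comm j c]
  have h1 : y₂ ^ (b * j - c * j) = y₁ ^ (c * i - a * i) := by
    rw [zpow_sub, zpow_sub, eq_mul_inv_iff_mul_eq]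
    have h := (hcom.zpow_zpow (a * i) (b * j - c * j)).symm
    rw [← zpow_sub, h.eq, zpow_sub, ← mul_assoc, he, mul_inv_cancel_right]
  have hprime := Nat.prime_iff_prime_int.1 hp.out
  have hbc : (p : ℤ) ∣ b * j - c * j := by
    by_contra hd
    refine h21 ?_
    have h2 := (zpowers_pow_eq (hA.2 y₂ h₂) hd).ge (mem_zpowers y₂)
    rw [h1] at h2
    exact zpowers_le.2 (zpow_mem (mem_zpowers y₁) _) h2
  have hac : (p : ℤ) ∣ c * i - a * i := by
    rw [eq_zpow_of_dvd_sub (c := 0) (hA.2 y₂ h₂) (by simpa using hbc), zpow_zero] at h1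
    by_contra hd
    refine hn1 ?_
    have h2 := (zpowers_pow_eq (hA.2 y₁ h₁) hd).ge (mem_zpowers y₁)
    rw [← h1, zpowers_one_eq_bot, mem_bot] at h2
    exact h2
  have hi : ¬ (p : ℤ) ∣ i := fun hd => h32 (by
    rw [hij, eq_zpow_of_dvd_sub (c := 0) (hA.2 y₁ h₁) (by simpa using hd), zpow_zero, one_mul]
    exact zpow_mem (mem_zpowers _) _)
  have hj : ¬ (p : ℤ) ∣ j := fun hd => h31 (by
    rw [hij, eq_zpow_of_dvd_sub (c := 0) (hA.2 y₂ h₂) (by simpa using hd), zpow_zero, mul_one]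
    exact zpow_mem (mem_zpowers _) _)
  have hbc' : (p : ℤ) ∣ b - c := (hprime.dvd_or_dvd (by rw [sub_mul]; exact hbc)).resolve_right hj
  have hac' : (p : ℤ) ∣ c - a := (hprime.dvd_or_dvd (by rw [sub_mul]; exact hac)).resolve_right hi
  intro x hx
  obtain ⟨u, v, rfl⟩ := hdec x hx
  refine mem_normalizer_zpowers_iff.2 ⟨c, ?_⟩
  show (y₁ ^ u * y₂ ^ v) ^ c = _
  rw [himg, (hcom.zpow_zpow u v).mul_zpow, ← zpow_mul, ← zpow_mul,
    eq_zpow_of_dvd_sub (hA.2 y₁ h₁) (show (p : ℤ) ∣ u * c - a * u by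
      rw [show u * c - a * u = u * (c - a) by ring]; exact dvd_mul_of_dvd_right hac' u),
    eq_zpow_of_dvd_sub (hA.2 y₂ h₂) (show (p : ℤ) ∣ v * c - b * v by
      rw [show v * c - b * v = v * (-(b - c)) by ring]; exact dvd_mul_of_dvd_right hbc'.neg_right v)]

/-- An element of odd order commuting modulo `C(A)` with a non-scalar `k` fixes the lines fixed by
`k`. -/
theorem mem_normalizer_of_commute {k e y : G} (hy : y ∈ A) (hy1 : y ≠ 1)
    (hk : k ∈ normalizer (zpowers y : Set G))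
    (hns : ∃ x ∈ A, k ∉ normalizer (zpowers x : Set G))
    (he : e ∈ normalizer (A : Set G)) (hodd : Odd (orderOf e))
    (hc : ⁅k, e⁆ ∈ centralizer (A : Set G)) : e ∈ normalizer (zpowers y : Set G) := by
  have hstep : ∀ x ∈ A, k ∈ normalizer (zpowers x : Set G) →
      k ∈ normalizer (zpowers (e * x * e⁻¹) : Set G) := by
    intro x hx hkx
    obtain ⟨i, hi⟩ := mem_zpowers_iff.1 (mem_normalizer_zpowers_iff.1 hkx)
    refine mem_normalizer_zpowers_iff.2 ⟨i, ?_⟩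
    have h1 : e * x ^ i * e⁻¹ ∈ A :=
      (mem_normalizer_iff.1 he _).1 (zpow_mem hx i)
    show (e * x * e⁻¹) ^ i = _
    calc (e * x * e⁻¹) ^ i = e * x ^ i * e⁻¹ := conj_zpow
      _ = ⁅k, e⁆ * (e * x ^ i * e⁻¹) * ⁅k, e⁆⁻¹ := by rw [← hc _ h1, mul_inv_cancel_right]
      _ = ⁅k, e⁆ * (e * (k * x * k⁻¹) * e⁻¹) * ⁅k, e⁆⁻¹ := by rw [hi]
      _ = k * (e * x * e⁻¹) * k⁻¹ := by rw [commutatorElement_def]; group
  set y₁ := e * y * e⁻¹ with hy₁
  set y₂ := e * y₁ * e⁻¹ with hy₂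
  have hy₁A : y₁ ∈ A := (mem_normalizer_iff.1 he y).1 hy
  have hy₂A : y₂ ∈ A := (mem_normalizer_iff.1 he y₁).1 hy₁A
  have hy₁1 : y₁ ≠ 1 := fun h => hy1 (by simpa [hy₁] using h)
  have hy₂1 : y₂ ≠ 1 := fun h => hy₁1 (by simpa [hy₂] using h)
  have hk₁ := hstep y hy hk
  have hk₂ := hstep y₁ hy₁A hk₁
  by_cases h10 : y₁ ∈ zpowers y
  · exact mem_normalizer_zpowers_iff.2 h10
  by_cases h20 : y₂ ∈ zpowers y
  · have h2 : e ^ 2 ∈ normalizer (zpowers y : Set G) := mem_normalizer_zpowers_iff.2 (by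
      rw [sq, ← conj_mul_conj]; exact h20)
    obtain ⟨m, hm⟩ := hodd
    have h3 : e = ((e ^ 2) ^ m)⁻¹ := by
      refine eq_inv_of_mul_eq_one_left ?_
      rw [← pow_mul, ← pow_succ', ← hm, pow_orderOf_eq_one]
    rw [h3]
    exact inv_mem (pow_mem h2 m)
  by_cases h21 : y₂ ∈ zpowers y₁
  · refine mem_normalizer_zpowers_iff.2 ?_
    obtain ⟨i, hi⟩ := mem_zpowers_iff.1 h21
    refine ⟨i, ?_⟩
    show y ^ i = y₁
    have : e * y ^ i * e⁻¹ = e * y₁ * e⁻¹ := by rw [← conj_zpow]; exact hi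
    exact mul_left_cancel (mul_right_cancel this)
  obtain ⟨x, hx, hkx⟩ := hns
  exact absurd (scalar_of_three hA hA2 hy hy₁A hy₂A hy1 h10 h20 h21 hk hk₁ hk₂ x hx) hkx

end CfsgLib.OddOrder
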