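import Mathlib.FieldTheory.Finite.GaloisField
import Mathlib.FieldTheory.Finite.Trace
import Mathlib.NumberTheory.LegendreSymbol.AddCharacter
import Mathlib.RingTheory.Norm.Basic
import Mathlib.RingTheory.AdjoinRoot
import Mathlib.Algebra.Polynomial.SpecificDegree
import Mathlib.LinearAlgebra.Matrix.Charpoly.Minpoly
import Mathlib.Analysis.Complex.Basic
import Mathlib.Tactic.Ring
import Mathlib.Tactic.Linarith
import Mathlib.Tactic.LinearCombination
import Mathlib.Tactic.ComputeDegree

/-! Pairs of norm-one elements of a finite field summing to two. -/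

set_option autoImplicit false

namespace CfsgLib.OddOrder

open Finset

section Fourier

variable {K : Type*} [Field K] [Fintype K] [DecidableEq K]

theorem card_sq_le_of_few_pairs (U : Finset K) (h0 : (0 : K) ∉ U)
    (hmul : ∀ u ∈ U, ∀ v ∈ U, v * u ∈ U) (c : K) (hc : c ≠ 0) :
    ((U.card : ℝ) ^ 2 - Fintype.card K * ((U.filter fun u => c - u ∈ U).card : ℝ)) ^ 2 ≤
      (Fintype.card K : ℝ) ^ 3 := by
  haveI : Fact (Nat.Prime (ringChar K)) := ⟨CharP.char_is_prime K _⟩
  have hch : ringChar ℂ ≠ ringChar K := by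
    rw [ringChar.eq_zero]
    exact (Fact.out : (ringChar K).Prime).ne_zero.symm
  let P := AddChar.FiniteField.primitiveChar K ℂ hch
  haveI : NeZero (ringChar K) := ⟨(Fact.out : (ringChar K).Prime).ne_zero⟩
  -- transfer the character to `ℂ`
  obtain ⟨ψ, hψ⟩ : ∃ ψ : AddChar K ℂ, ψ.IsPrimitive := by
    have hζ := Complex.isPrimitiveRoot_exp (ringChar K) (NeZero.ne _)
    letI : Algebra (ZMod (ringChar K)) K := ZMod.algebra _ _
    let ψ₀ := AddChar.zmodChar (ringChar K) ((IsPrimitiveRoot.iff_def _ _).mp hζ).left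
    refine ⟨ψ₀.compAddMonoidHom (Algebra.trace (ZMod (ringChar K)) K).toAddMonoidHom,
      AddChar.IsPrimitive.of_ne_one ?_⟩
    obtain ⟨a, ha⟩ := FiniteField.trace_to_zmod_nondegenerate K one_ne_zero
    rw [one_mul] at ha
    exact AddChar.ne_one_iff.2 ⟨a, fun hf => ha <|
      ((AddChar.zmodChar_primitive_of_primitive_root (ringChar K) hζ).zmod_char_eq_one_iff
        _ _).mp hf⟩
  clear P
  let S : K → ℂ := fun t => ∑ u ∈ U, ψ (t * u)
  have hconj : ∀ a, (starRingEnd ℂ) (ψ a) = ψ (-a) := fun a => by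
    rw [AddChar.starComp_apply (Nat.pos_of_ne_zero (NeZero.ne _)), AddChar.inv_apply]
  have hortho : ∀ b : K, ∑ t, ψ (t * b) = if b = 0 then (Fintype.card K : ℂ) else 0 := fun b => by
    rw [AddChar.sum_mulShift b hψ]; split_ifs <;> simp
  have hA : ∑ t, S t * S t * ψ (-(t * c)) =
      (Fintype.card K : ℂ) * (U.filter fun u => c - u ∈ U).card := by
    have hexp : ∀ t, S t * S t * ψ (-(t * c)) = ∑ u ∈ U, ∑ v ∈ U, ψ (t * (u + v + -c)) := by
      intro t
      simp only [S]
      rw [Finset.sum_mul_sum, Finset.sum_mul]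
      refine Finset.sum_congr rfl fun u _ => ?_
      rw [Finset.sum_mul]
      refine Finset.sum_congr rfl fun v _ => ?_
      simp only [← AddChar.map_add_eq_mul, mul_add, mul_neg]
    simp only [hexp]
    rw [Finset.sum_comm]
    simp only [Finset.sum_comm (s := (univ : Finset K)) (t := U), hortho]
    rw [mul_comm, ← nsmul_eq_mul, ← Finset.sum_const, Finset.sum_filter]
    refine Finset.sum_congr rfl fun u _ => ?_
    have : ∀ v : K, (u + v + -c = 0) ↔ c - u = v := fun v => by
      constructor <;> intro h <;> linear_combination -h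
    simp only [this, Finset.sum_ite_eq]
  have hB : ∑ t, ‖S t‖ ^ 2 = (Fintype.card K : ℝ) * U.card := by
    have : ((∑ t, ‖S t‖ ^ 2 : ℝ) : ℂ) = (Fintype.card K : ℂ) * U.card := by
      push_cast
      simp only [← Complex.mul_conj', S, map_sum, hconj, Finset.sum_mul_sum,
        ← AddChar.map_add_eq_mul, ← mul_neg, ← mul_add]
      rw [Finset.sum_comm]
      simp only [Finset.sum_comm (s := (univ : Finset K)) (t := U), hortho]
      rw [mul_comm, ← nsmul_eq_mul, ← Finset.sum_const]
      refine Finset.sum_congr rfl fun u hu => ?_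
      simp only [← sub_eq_add_neg, sub_eq_zero, Finset.sum_ite_eq, hu, if_true]
    exact_mod_cast this
  have hSu : ∀ t, ∀ u ∈ U, S (t * u) = S t := by
    intro t u hu
    have hu0 : u ≠ 0 := fun h => h0 (h ▸ hu)
    have himg : U.image (fun v => u * v) = U := by
      apply Finset.eq_of_subset_of_card_le
      · intro v hv
        obtain ⟨w, hw, rfl⟩ := Finset.mem_image.mp hv
        exact hmul w hw u hu
      · rw [Finset.card_image_of_injective _ (mul_right_injective₀ hu0)]
    conv_rhs => simp only [S]; rw [← himg]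
    rw [Finset.sum_image (fun x _ y _ h => mul_right_injective₀ hu0 h)]
    simp only [S, mul_assoc]
  rcases U.eq_empty_or_nonempty with rfl | hne
  · simp
  have hn : (0 : ℝ) < U.card := by exact_mod_cast hne.card_pos
  have hS0 : S 0 = (U.card : ℂ) := by simp [S]
  have hR : ∑ t ∈ univ.erase 0, ‖S t‖ ^ 2 = (Fintype.card K : ℝ) * U.card - (U.card : ℝ) ^ 2 := by
    rw [← hB, ← Finset.sum_erase_add _ _ (Finset.mem_univ (0 : K)), hS0, Complex.norm_natCast]
    ring
  have hM : ∀ s : K, s ≠ 0 → ‖S s‖ ^ 2 ≤ (Fintype.card K : ℝ) - U.card := by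
    intro s hs
    have h1 : ∑ u ∈ U, ‖S (s * u)‖ ^ 2 ≤ ∑ t ∈ univ.erase 0, ‖S t‖ ^ 2 := by
      rw [← Finset.sum_image (f := fun t => ‖S t‖ ^ 2) (fun x _ y _ h => mul_right_injective₀ hs h)]
      refine Finset.sum_le_sum_of_subset_of_nonneg ?_ (fun _ _ _ => by positivity)
      intro x hx
      obtain ⟨u, hu, rfl⟩ := Finset.mem_image.mp hx
      exact Finset.mem_erase.mpr ⟨mul_ne_zero hs fun h => h0 (h ▸ hu), Finset.mem_univ _⟩
    rw [Finset.sum_congr rfl fun u hu => by rw [hSu s u hu], Finset.sum_const, nsmul_eq_mul, hR] at h1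
    nlinarith
  set Q : ℝ := (Fintype.card K : ℝ) with hQ
  obtain ⟨u₁, hu₁⟩ := hne
  set T := ∑ t ∈ univ.erase 0, S t * S t * ψ (-(t * c)) with hT
  have hTeq : (U.card : ℂ) * T = ∑ t ∈ univ.erase 0, S t * S t * S (-(t * c)) := by
    rw [← nsmul_eq_mul, ← Finset.sum_const]
    calc ∑ _u ∈ U, T = ∑ u ∈ U, ∑ t ∈ univ.erase 0, S t * S t * ψ (-(t * c) * u) := by
          refine Finset.sum_congr rfl fun u hu => ?_
          have hu0 : u ≠ 0 := fun h => h0 (h ▸ hu)
          rw [hT]
          refine (Finset.sum_equiv (Equiv.mulRight₀ u hu0) (fun t => ?_) (fun t _ => ?_)).symm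
          · simp [hu0]
          · show S t * S t * ψ (-(t * c) * u) =
              S (t * u) * S (t * u) * ψ (-(t * u * c))
            rw [hSu t u hu]
            congr 2
            ring
      _ = _ := by rw [Finset.sum_comm]; simp only [S, Finset.mul_sum]
  have hTb : ‖T‖ ≤ Q * Real.sqrt Q := by
    have h1 : ‖(U.card : ℂ) * T‖ ≤ ∑ t ∈ univ.erase 0, ‖S t‖ ^ 2 * Real.sqrt Q := by
      rw [hTeq]
      refine (norm_sum_le _ _).trans (Finset.sum_le_sum fun t ht => ?_)
      have ht0 : t ≠ 0 := (Finset.mem_erase.mp ht).1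
      rw [norm_mul, norm_mul, ← sq]
      refine mul_le_mul_of_nonneg_left ?_ (by positivity)
      refine Real.le_sqrt_of_sq_le ((hM _ (neg_ne_zero.mpr (mul_ne_zero ht0 hc))).trans ?_)
      linarith
    rw [← Finset.sum_mul, hR, norm_mul, Complex.norm_natCast] at h1
    have h2 : (U.card : ℝ) * ‖T‖ ≤ (U.card : ℝ) * (Q * Real.sqrt Q) := by
      refine h1.trans ?_
      nlinarith [Real.sqrt_nonneg Q, mul_nonneg (sq_nonneg (U.card : ℝ)) (Real.sqrt_nonneg Q)]
    exact le_of_mul_le_mul_left h2 hn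
  have hkey : (((U.card : ℝ) ^ 2 - Q * (U.filter fun u => c - u ∈ U).card : ℝ) : ℂ) = -T := by
    rw [← Finset.sum_erase_add _ _ (Finset.mem_univ (0 : K)), ← hT, hS0] at hA
    simp only [zero_mul, neg_zero, AddChar.map_zero_eq_one, mul_one] at hA
    rw [hQ]
    push_cast
    linear_combination hA
  have habs := congrArg norm hkey
  rw [Complex.norm_real, Real.norm_eq_abs, norm_neg] at habs
  calc _ = |(U.card : ℝ) ^ 2 - Q * (U.filter fun u => c - u ∈ U).card| ^ 2 := (sq_abs _).symm
    _ ≤ (Q * Real.sqrt Q) ^ 2 := by rw [habs]; exact pow_le_pow_left₀ (norm_nonneg _) hTb 2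
    _ = Q ^ 3 := by rw [mul_pow, Real.sq_sqrt (by positivity)]; ring

end Fourier

section Cubic

variable {p : ℕ} [Fact p.Prime]

open Polynomial in
theorem exists_cubic (hp : p ≠ 2) : ∃ b : ZMod p,
    Irreducible (X ^ 3 + C b * X ^ 2 + C (-3 - 2 * b) * X - C 1 : (ZMod p)[X]) := by
  classical
  have h2 : (2 : ZMod p) ≠ 0 := by
    intro h
    rw [show (2 : ZMod p) = ((2 : ℕ) : ZMod p) by norm_num, ZMod.natCast_eq_zero_iff] at h
    exact hp ((Nat.prime_dvd_prime_iff_eq Fact.out Nat.prime_two).mp h)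
  let bad := ((univ : Finset (ZMod p)).erase 0).image
    fun x => -(x ^ 3 - 3 * x - 1) / (x ^ 2 - 2 * x)
  obtain ⟨b, -, hb⟩ := Finset.exists_mem_notMem_of_card_lt_card (s := bad) (t := univ) (by
    refine lt_of_le_of_lt Finset.card_image_le ?_
    exact Finset.card_lt_card (Finset.erase_ssubset (Finset.mem_univ _)))
  refine ⟨b, ?_⟩
  have hdeg : (X ^ 3 + C b * X ^ 2 + C (-3 - 2 * b) * X - C 1 : (ZMod p)[X]).natDegree = 3 := by
    compute_degree!
  refine irreducible_of_degree_le_three_of_not_isRoot (by rw [hdeg]; decide) fun x hx => ?_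
  simp only [IsRoot, eval_sub, eval_add, eval_mul, eval_pow, eval_X, eval_C] at hx
  rcases eq_or_ne x 0 with rfl | hx0
  · simp at hx
  rcases eq_or_ne x 2 with rfl | hx2
  · exact one_ne_zero (α := ZMod p) (by linear_combination hx)
  apply hb
  refine Finset.mem_image.mpr ⟨x, Finset.mem_erase.mpr ⟨hx0, Finset.mem_univ _⟩, ?_⟩
  rw [div_eq_iff]
  · linear_combination -hx
  · rw [show x ^ 2 - 2 * x = x * (x - 2) by ring]
    exact mul_ne_zero hx0 (sub_ne_zero.mpr hx2)

open Polynomial in
theorem exists_norm_pair_three (hp : p ≠ 2) : ∃ a : GaloisField p 3, a ≠ 1 ∧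
    Algebra.norm (ZMod p) a = 1 ∧ Algebra.norm (ZMod p) (2 - a) = 1 := by
  obtain ⟨b, hb⟩ := exists_cubic (p := p) hp
  set f : (ZMod p)[X] := X ^ 3 + C b * X ^ 2 + C (-3 - 2 * b) * X - C 1 with hfdef
  haveI := Fact.mk hb
  have hdeg : f.natDegree = 3 := by rw [hfdef]; compute_degree!
  have hmonic : f.Monic := by rw [hfdef]; monicity!
  let pb := AdjoinRoot.powerBasis hb.ne_zero
  have hmin : minpoly (ZMod p) pb.gen = f := by
    rw [AdjoinRoot.powerBasis_gen, AdjoinRoot.minpoly_root hb.ne_zero, hmonic.leadingCoeff,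
      inv_one, C_1, mul_one]
  have hdim : pb.dim = 3 := by simp [pb, hdeg]
  have hnorm : Algebra.norm (ZMod p) pb.gen = 1 := by
    rw [Algebra.PowerBasis.norm_gen_eq_coeff_zero_minpoly, hmin, hdim]
    simp [hfdef]; norm_num
  have hnorm' : Algebra.norm (ZMod p) (2 - pb.gen) = 1 := by
    have h := Matrix.eval_charpoly (Algebra.leftMulMatrix pb.basis pb.gen) 2
    rw [charpoly_leftMulMatrix, hmin] at h
    rw [Algebra.norm_eq_matrix_det pb.basis,
      show (2 - pb.gen : AdjoinRoot f) = algebraMap (ZMod p) _ 2 - pb.gen by rw [map_ofNat],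
      map_sub, AlgHom.commutes, Matrix.algebraMap_eq_diagonal]
    refine Eq.trans ?_ (h.symm.trans ?_)
    · simp [Matrix.scalar_apply, Pi.algebraMap_def]
    rw [hfdef]
    simp only [eval_sub, eval_add, eval_mul, eval_pow, eval_X, eval_C]
    ring
  have hgen : pb.gen ≠ 1 := by
    intro h
    have h1 : minpoly (ZMod p) pb.gen = X - C 1 := by
      rw [h, minpoly.one, C_1]
    rw [hmin] at h1
    have := congrArg natDegree h1
    rw [hdeg, natDegree_X_sub_C] at this
    exact absurd this (by decide)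
  haveI : Finite (GaloisField p 3) := Module.finite_of_finite (ZMod p)
  have hfr : Module.finrank (ZMod p) (AdjoinRoot f) = Module.finrank (ZMod p) (GaloisField p 3) := by
    rw [pb.finrank, hdim, GaloisField.finrank p (by decide)]
  haveI : Finite (AdjoinRoot f) :=
    haveI := pb.finite
    Module.finite_of_finite (ZMod p)
  haveI := Fintype.ofFinite (AdjoinRoot f)
  haveI := Fintype.ofFinite (GaloisField p 3)
  let e : AdjoinRoot f ≃ₐ[ZMod p] GaloisField p 3 := FiniteField.algEquivOfCardEq p (by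
    rw [← Nat.card_eq_fintype_card, ← Nat.card_eq_fintype_card, Module.natCard_eq_pow_finrank (K := ZMod p) (V := AdjoinRoot f),
      Module.natCard_eq_pow_finrank (K := ZMod p) (V := GaloisField p 3), hfr])
  refine ⟨e pb.gen, fun h => hgen (e.injective (by rw [h, map_one])), ?_, ?_⟩
  · rw [Algebra.norm_eq_of_algEquiv, hnorm]
  · rw [show (2 : GaloisField p 3) - e pb.gen = e (2 - pb.gen) by rw [map_sub, map_ofNat],
      Algebra.norm_eq_of_algEquiv, hnorm']

end Cubic

theorem card_norm_eq_one (p q : ℕ) [Fact p.Prime] [Fact q.Prime] :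
    Set.ncard {a : GaloisField p q | Algebra.norm (ZMod p) a = 1} * (p - 1) = p ^ q - 1 := by
  haveI : Finite (GaloisField p q) := Module.finite_of_finite (ZMod p)
  let φ := Units.map (Algebra.norm (ZMod p) (S := GaloisField p q))
  have hs : Function.Surjective φ := FiniteField.unitsMap_norm_surjective _ _
  have hk : Nat.card φ.ker = Set.ncard {a : GaloisField p q | Algebra.norm (ZMod p) a = 1} := by
    rw [← Nat.card_coe_set_eq]
    refine Nat.card_congr ⟨fun u => ⟨(u : (GaloisField p q)ˣ), by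
        have := u.2
        rw [MonoidHom.mem_ker, Units.ext_iff] at this
        exact this⟩,
      fun a => ⟨Units.mk0 a.1 (fun h => by
        have := a.2
        rw [Set.mem_setOf_eq, h, Algebra.norm_zero] at this
        exact zero_ne_one this), by
        rw [MonoidHom.mem_ker, Units.ext_iff]; exact a.2⟩,
      fun u => by ext; rfl, fun a => rfl⟩
  have h := φ.ker.card_eq_card_quotient_mul_card_subgroup
  rw [Nat.card_congr (QuotientGroup.quotientKerEquivOfSurjective φ hs).toEquiv, hk,
    Nat.card_units, Nat.card_units, GaloisField.card p q (Fact.out : q.Prime).ne_zero,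
    Nat.card_zmod] at h
  rw [h, mul_comm]

end CfsgLib.OddOrder
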