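import Cfsg.Agent.Lib.CN.Lift
import Cfsg.Agent.Lib.Solvable.Core
import Cfsg.Agent.Lib.Solvable.Hall
import Cfsg.Prelude.Def_LieExceptional

/-!
# Quotients of CN-groups by solvable normal subgroups
-/

set_option autoImplicit false

namespace CfsgLib.OddOrder

open Subgroup CfsgLib.CN

universe u

theorem isCNGroup_of_mulEquiv {G K : Type*} [Group G] [Group K] (e : G ≃* K)
    (hCN : Cfsg.IsCNGroup G) : Cfsg.IsCNGroup K := by
  intro g hg
  obtain ⟨x, rfl⟩ := e.surjective g
  haveI := hCN x fun h => hg (by rw [h, map_one])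
  have hmap : (centralizer ({x} : Set G)).map e.toMonoidHom = centralizer ({e x} : Set K) := by
    ext a
    rw [Subgroup.mem_map, mem_centralizer_singleton_iff]
    constructor
    · rintro ⟨b, hb, rfl⟩
      show e b * e x = e x * e b
      rw [← map_mul, ← map_mul, mem_centralizer_singleton_iff.mp hb]
    · intro ha
      obtain ⟨b, rfl⟩ := e.surjective a
      exact ⟨b, mem_centralizer_singleton_iff.mpr (e.injective (by simpa using ha)), rfl⟩
  rw [← hmap]
  exact Group.nilpotent_of_mulEquiv
    (equivMapOfInjective (centralizer ({x} : Set G)) e.toMonoidHom e.injective)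

variable {G : Type u} [Group G] [Finite G]

/-- The quotient of a CN-group by a nontrivial normal `p`-subgroup is a CN-group. -/
theorem isCNGroup_quotient_pGroup (hCN : Cfsg.IsCNGroup G) {p : ℕ} [hp : Fact p.Prime]
    (H : Subgroup G) [H.Normal] (hHp : IsPGroup p H) (hH1 : H ≠ ⊥) :
    Cfsg.IsCNGroup (G ⧸ H) := by
  intro g hg
  obtain ⟨r, m, hr, hgm⟩ := exists_pow_prime_order hg
  haveI := Fact.mk hr
  have hle : centralizer ({g} : Set (G ⧸ H)) ≤ centralizer ({g ^ m} : Set (G ⧸ H)) := fun a ha =>
    mem_centralizer_singleton_iff.mpr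
      (Commute.pow_right (show Commute a g from mem_centralizer_singleton_iff.mp ha) m)
  refine isNilpotent_of_le ?_ hle
  set w := g ^ m with hw
  have hw1 : w ≠ 1 := ne_one_of_orderOf_eq hr hgm
  have hcoprime : ∀ {q : ℕ}, q.Prime → q ≠ p → ∀ {y : G}, PElem q y →
      (orderOf y).Coprime (Nat.card H) := by
    intro q hq hqp y hy
    haveI := Fact.mk hq
    refine Nat.coprime_of_dvd fun t ht h1 h2 => ?_
    rw [hy.orderOf_dvd ht h1] at h2
    obtain ⟨n, hn⟩ := hHp.exists_card_eq
    exact hqp ((Nat.prime_dvd_prime_iff_eq hq hp.out).mp (hq.dvd_of_dvd_pow (hn ▸ h2)))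
  by_cases hrp : r = p
  · subst hrp
    set D := (centralizer ({w} : Set (G ⧸ H))).comap (QuotientGroup.mk' H) with hD
    obtain ⟨x, hx⟩ := QuotientGroup.mk'_surjective H w
    set P' := (zpowers w).comap (QuotientGroup.mk' H) with hP'
    have hP'D : P' ≤ D := Subgroup.comap_mono
      (zpowers_le.mpr (mem_centralizer_singleton_iff.mpr rfl))
    have hP'p : IsPGroup r P' := by
      refine IsPGroup.comap_of_ker_isPGroup ?_ _ (by rw [QuotientGroup.ker_mk']; exact hHp)
      exact IsPGroup.of_card (n := 1) (by rw [Nat.card_zpowers, hgm, pow_one])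
    haveI hP'n : (P'.subgroupOf D).Normal := ⟨fun n hn d => by
      rw [mem_subgroupOf] at hn ⊢
      obtain ⟨i, hi⟩ := mem_zpowers_iff.mp hn
      have hd : Commute (QuotientGroup.mk' H (d : G)) w := mem_centralizer_singleton_iff.mp d.2
      show QuotientGroup.mk' H (((d * n * d⁻¹ : D) : G)) ∈ zpowers w
      rw [Subgroup.coe_mul, Subgroup.coe_mul, Subgroup.coe_inv, map_mul, map_mul, map_inv, ← hi,
        (hd.zpow_right i).eq, mul_inv_cancel_right]
      exact zpow_mem (mem_zpowers w) i⟩
    have hHP' : H ≤ P' := fun h hh => by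
      show QuotientGroup.mk' H h ∈ zpowers w
      rw [show QuotientGroup.mk' H h = 1 from (QuotientGroup.eq_one_iff h).mpr hh]
      exact one_mem _
    obtain ⟨S⟩ : Nonempty (Sylow r D) := inferInstance
    have hPS : P'.subgroupOf D ≤ (S : Subgroup D) := by
      have hsup : IsPGroup r (P'.subgroupOf D ⊔ (S : Subgroup D) : Subgroup D) :=
        IsPGroup.to_sup_of_normal_left (hP'p.comap_of_injective _ (subtype_injective _)) S.2
      exact le_sup_left.trans (le_of_eq (S.3 hsup le_sup_right))
    haveI : Group.IsNilpotent (S : Subgroup D) := S.2.isNilpotent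
    haveI : ((H.subgroupOf D).subgroupOf (S : Subgroup D)).Normal := Subgroup.normal_subgroupOf
    have hHS : H.subgroupOf D ≤ (S : Subgroup D) :=
      le_trans (Subgroup.comap_mono hHP') hPS
    have hne : (H.subgroupOf D).subgroupOf (S : Subgroup D) ≠ ⊥ := by
      intro h
      refine hH1 ((eq_bot_iff_forall _).mpr fun a ha => ?_)
      have haD : a ∈ D := hP'D (hHP' ha)
      have hmem : (⟨⟨a, haD⟩, hHS (mem_subgroupOf.mpr ha)⟩ : (S : Subgroup D)) ∈
          (H.subgroupOf D).subgroupOf (S : Subgroup D) :=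
        mem_subgroupOf.mpr (mem_subgroupOf.mpr ha)
      rw [h, Subgroup.mem_bot] at hmem
      exact congrArg (fun t : (S : Subgroup D) => ((t : D) : G)) hmem
    have hz := Transfer.inf_center_ne_bot hne
    rw [Ne, eq_bot_iff_forall] at hz
    push Not at hz
    obtain ⟨z, ⟨hzH, hzc⟩, hz1⟩ := hz
    have hzG : ((z : D) : G) ∈ H := mem_subgroupOf.mp (mem_subgroupOf.mp hzH)
    have hz1' : ((z : D) : G) ≠ 1 := fun h => hz1 (Subtype.ext (Subtype.ext h))
    set C := centralizer ({(z : D)} : Set D) with hC
    have hSC : (S : Subgroup D) ≤ C := fun s hs => mem_centralizer_singleton_iff.mpr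
      (congrArg Subtype.val (mem_center_iff.mp hzc ⟨s, hs⟩))
    have hall : ∀ {q : ℕ}, q.Prime → q ≠ r → ∀ d : D, PElem q (d : G) → d ∈ C := by
      intro q hq hqr d hd
      haveI := Fact.mk hq
      obtain ⟨c, hc, hcx⟩ := exists_commute_lift H (x := x) (hcoprime hq hqr hd) (by
        rw [hx]
        exact (mem_centralizer_singleton_iff.mp d.2).symm)
      have hcxw : QuotientGroup.mk' H (c * x) = w := by
        rw [map_mul, hx, show QuotientGroup.mk' H c = 1 from (QuotientGroup.eq_one_iff c).mpr hc,
          one_mul]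
      have hcxP : c * x ∈ P' := show QuotientGroup.mk' H (c * x) ∈ zpowers w from
        hcxw ▸ mem_zpowers w
      have hcx1 : c * x ≠ 1 := fun h => hw1 (by rw [← hcxw, h, map_one])
      have hcomz : ((z : D) : G) * (c * x) = (c * x) * ((z : D) : G) := by
        have h := mem_center_iff.mp hzc ⟨⟨c * x, hP'D hcxP⟩, hPS (mem_subgroupOf.mpr hcxP)⟩
        exact (congrArg (fun t : (S : Subgroup D) => ((t : D) : G)) h).symm
      refine mem_centralizer_singleton_iff.mpr (Subtype.ext ?_)
      exact commute_of_nilpotent hqr (hCN _ hcx1) (mem_centralizer_singleton_iff.mpr hcx.symm)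
        (mem_centralizer_singleton_iff.mpr hcomz) hd (pElem_of_mem hHp hzG)
    have hCtop : C = ⊤ := by
      rw [← Subgroup.index_eq_one]
      by_contra hne1
      obtain ⟨q, hq, hqd⟩ := Nat.exists_prime_and_dvd hne1
      haveI := Fact.mk hq
      obtain ⟨Q⟩ : Nonempty (Sylow q D) := inferInstance
      have hQC : (Q : Subgroup D) ≤ C := by
        by_cases hqr : q = r
        · subst hqr
          obtain ⟨d, hd⟩ := MulAction.exists_smul_eq D S Q
          exact False.elim ((S.not_dvd_index) (hqd.trans (index_dvd_of_le hSC)))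
        · intro d hd
          obtain ⟨k, hk⟩ := Q.2 ⟨d, hd⟩
          exact hall hq hqr d ⟨k, congrArg (fun t : (Q : Subgroup D) => ((t : D) : G)) hk⟩
      exact Q.not_dvd_index (hqd.trans (index_dvd_of_le hQC))
    have hDle : D ≤ centralizer ({((z : D) : G)} : Set G) := fun d hd => by
      have h : (⟨d, hd⟩ : D) ∈ C := hCtop ▸ mem_top _
      exact mem_centralizer_singleton_iff.mpr
        (congrArg Subtype.val (mem_centralizer_singleton_iff.mp h))
    haveI := isNilpotent_of_le (hCN _ hz1') hDle
    rw [← Subgroup.map_comap_eq_self_of_surjective (QuotientGroup.mk'_surjective H)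
      (centralizer ({w} : Set (G ⧸ H)))]
    exact Group.nilpotent_of_surjective _ ((QuotientGroup.mk' H).subgroupMap_surjective D)
  · obtain ⟨y₀, hy₀⟩ := QuotientGroup.mk'_surjective H w
    obtain ⟨k, hk, hk1⟩ := exists_pow_pElem (QuotientGroup.mk' H) (y := y₀) (r := r)
      (hy₀ ▸ hw1) (hy₀ ▸ pElem_of_orderOf_eq hgm)
    have hy1 : y₀ ^ k ≠ 1 := fun h => hk1 (by rw [h, map_one])
    haveI := hCN _ hy1
    have hnilimg : Group.IsNilpotent
        ((centralizer ({y₀ ^ k} : Set G)).map (QuotientGroup.mk' H)) :=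
      Group.nilpotent_of_surjective _ ((QuotientGroup.mk' H).subgroupMap_surjective _)
    refine isNilpotent_of_le hnilimg fun a ha => ?_
    obtain ⟨a₀, rfl⟩ := QuotientGroup.mk'_surjective H a
    obtain ⟨c, hc, hcx⟩ := exists_commute_lift H (x := a₀) (hcoprime hr hrp hk) (by
      rw [map_pow, hy₀]
      exact (show Commute (QuotientGroup.mk' H a₀) w from
        mem_centralizer_singleton_iff.mp ha).pow_right k)
    refine ⟨c * a₀, mem_centralizer_singleton_iff.mpr hcx, ?_⟩
    rw [map_mul, show QuotientGroup.mk' H c = 1 from (QuotientGroup.eq_one_iff c).mpr hc, one_mul]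

/-- The quotient of a CN-group by a solvable normal subgroup is a CN-group. -/
theorem isCNGroup_quotient {G : Type u} [Group G] [Finite G] (hCN : Cfsg.IsCNGroup G)
    (H : Subgroup G) [hHn : H.Normal] (hH : Group.IsSolvable H) : Cfsg.IsCNGroup (G ⧸ H) := by
  induction hn : Nat.card H using Nat.strong_induction_on generalizing G with
  | _ n ih =>
    subst hn
    by_cases hH1 : H = ⊥
    · subst hH1
      exact isCNGroup_of_mulEquiv (QuotientGroup.quotientBot (G := G)).symm hCN
    haveI := hH
    haveI : Nontrivial H := (nontrivial_iff_ne_bot H).mpr hH1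
    obtain ⟨p, N, hp, hNn, hNp, hN1⟩ := Solvable.exists_normal_pgroup_ne_bot (G := H)
    haveI := Fact.mk hp
    haveI : (Cfsg.pCore p H).Characteristic := Solvable.pCore_characteristic (p := p) H
    set A := (Cfsg.pCore p H).map H.subtype with hA
    haveI hAn : A.Normal := ConjAct.normal_of_characteristic_of_normal
    have hAH : A ≤ H := map_subtype_le _
    have hAp : IsPGroup p A := (Solvable.pCore_isPGroup (p := p) H).map _
    have hA1 : A ≠ ⊥ := fun h => hN1 (eq_bot_iff.mpr ((Solvable.le_pCore hNn hNp).trans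
      (le_of_eq ((map_eq_bot_iff_of_injective _ H.subtype_injective).mp h))))
    set K := H.map (QuotientGroup.mk' A) with hK
    haveI hKn : K.Normal := Subgroup.Normal.map hHn _ (QuotientGroup.mk'_surjective A)
    haveI : Group.IsSolvable K :=
      Group.isSolvable_of_surjective ((QuotientGroup.mk' A).subgroupMap_surjective H)
    have hlt : Nat.card K < Nat.card H := by
      have h1 : (QuotientGroup.mk' A).ker.relIndex H = Nat.card K := by
        rw [Subgroup.relIndex_ker]
      rw [QuotientGroup.ker_mk', Subgroup.relIndex] at h1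
      rw [← h1, ← (A.subgroupOf H).index_mul_card]
      refine lt_mul_of_one_lt_right (Nat.pos_of_ne_zero Subgroup.index_ne_zero_of_finite) ?_
      rw [Nat.card_congr (subgroupOfEquivOfLe hAH).toEquiv]
      exact Finite.one_lt_card_iff_nontrivial.mpr ((nontrivial_iff_ne_bot A).mpr hA1)
    exact isCNGroup_of_mulEquiv (QuotientGroup.quotientQuotientEquivQuotient A H hAH)
      (ih _ hlt (isCNGroup_quotient_pGroup hCN A hAp hA1) K inferInstance rfl)

end CfsgLib.OddOrder
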