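import Cfsg.Agent.Lib.OddOrder.Section15Cases
import Cfsg.Agent.Lib.OddOrder.KappaComplement
import Cfsg.Agent.Lib.OddOrder.Section12
import Cfsg.Agent.S1359
import Cfsg.Agent.S1375
import Cfsg.Agent.S1430
import Cfsg.Agent.S1431

/-!
BG 15.3: centralizers and fusion of Hall subgroups of `M_σ`.
-/

set_option autoImplicit false
set_option maxHeartbeats 400000
set_option linter.style.haveILetI false

open scoped Pointwise

namespace CfsgLib.OddOrder

open Subgroup

variable {G : Type*} [Group G] [Finite G]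

omit [Finite G] in
theorem isComplIn_swap {A B X : Subgroup G} (h : Cfsg.IsComplIn A B X) : Cfsg.IsComplIn B A X := by
  obtain ⟨h1, h2, h3, h4⟩ := h
  refine ⟨h2, h1, by rw [inf_comm]; exact h3, fun m hm => ?_⟩
  obtain ⟨a, ha, b, hb, hm'⟩ := h4 m⁻¹ (inv_mem hm)
  exact ⟨b⁻¹, inv_mem hb, a⁻¹, inv_mem ha, by rw [← mul_inv_rev, ← hm', inv_inv]⟩

variable (hG : Cfsg.IsMinSimpleOddOrder G) {M : Subgroup G} (hM : IsCoatom M)
include hG hM

/-- `U` is a Hall subgroup of `M` for the primes outside `σ(M) ∪ κ(M)`. -/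
theorem decomposition_U_hall_compl {K U : Subgroup G} (hKU : Cfsg.IsSigmaDecomposition M K U) :
    Cfsg.IsPiHallOf {q | q ∉ Cfsg.sigma M ∧ q ∉ Cfsg.kappa M} U M := by
  refine ⟨hKU.compl.1, fun q hq hd => decomposition_U_primes hG hM hKU hq hd,
    fun q hq hq' hd => ?_⟩
  have hKn : K ≤ normalizer (Cfsg.sigmaCore M : Set G) :=
    hKU.hall.1.trans (le_normalizer_piCoreOf _ _)
  rw [← card_eq_relIndex_of_isComplIn (isComplIn_swap hKU.compl), sup_comm] at hd
  rcases hq.dvd_mul.1 (hd.trans (Solvable.card_sup_dvd hKn)) with h | h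
  · exact hq'.1 (sigma_of_dvd_sigmaCore hq h)
  · exact hq'.2 (hKU.hall.2.1 q hq h)

/-- A `σ(M)'∩κ(M)'`-subgroup of `M` is conjugate into `U`. -/
theorem exists_conj_le_U {K U X : Subgroup G} (hKU : Cfsg.IsSigmaDecomposition M K U) (hX : X ≤ M)
    (hXp : ∀ q : ℕ, q.Prime → q ∣ Nat.card X → q ∉ Cfsg.sigma M ∧ q ∉ Cfsg.kappa M) :
    ∃ m ∈ M, MulAut.conj m • X ≤ U := by
  have hs := isSolvable_of_ne_top hG hM.1
  obtain ⟨L, hL, hXL⟩ :=
    exists_isPiHallOf_ge hs hX (π := {q | q ∉ Cfsg.sigma M ∧ q ∉ Cfsg.kappa M}) hXp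
  obtain ⟨m, hm, hmL⟩ := Solvable.exists_conj_of_isPiHallOf hs hL (decomposition_U_hall_compl hG hM hKU)
  exact ⟨m, hm, hmL ▸ pointwise_smul_le_pointwise_smul_iff.2 hXL⟩

/-- An element of prime order of `M` outside `σ(M)` centralizing a nontrivial Hall subgroup of
`M_σ` belongs to a prime of `τ₂(M)`. -/
theorem mem_tau2_of_centralizes_hall {H : Subgroup G} (hH : H ≤ Cfsg.sigmaCore M) (hH1 : H ≠ ⊥)
    (hHall : (Nat.card H).Coprime (H.relIndex (Cfsg.sigmaCore M))) {p : ℕ} [hp : Fact p.Prime]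
    (hps : p ∉ Cfsg.sigma M) {x : G} (hxM : x ∈ M) (hxo : orderOf x = p)
    (hxH : x ∈ centralizer (H : Set G)) : p ∈ Cfsg.tau2 M := by
  have hpM : p ∣ Nat.card M := hxo ▸ orderOf_dvd_card_of_mem hxM
  have hx1 : x ≠ 1 := fun h => hp.out.one_lt.ne (by rw [← hxo, h, orderOf_one])
  have hle : H ≤ Cfsg.sigmaCore M ⊓ centralizer ({x} : Set G) := le_inf hH fun h hh =>
    mem_centralizer_singleton_iff.2 (mem_centralizer_iff.1 hxH h hh)
  by_contra hτ
  have hr1 : Cfsg.PRankLE p 1 M := by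
    rcases tau_cases_of_not_sigma hG hM hp.out hpM hps with h | h | h
    · exact h.2.2.2.2
    · exact absurd h hτ
    · exact h.2.2.2
  by_cases hκ : p ∈ Cfsg.kappa M
  · have hs := isSolvable_of_ne_top hG hM.1
    obtain ⟨K, U, hKU⟩ := exists_sigmaDecomposition hG hM
    obtain ⟨L, hL, hxL⟩ := exists_isPiHallOf_ge hs (zpowers_le.2 hxM) (π := Cfsg.kappa M)
      (fun q hq hd => by
        rw [Nat.card_zpowers, hxo] at hd
        rwa [(Nat.prime_dvd_prime_iff_eq hq hp.out).1 hd])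
    obtain ⟨m, hm, hmK⟩ := Solvable.exists_conj_of_isPiHallOf hs hL hKU.hall
    set k := m * x * m⁻¹ with hk
    have hkK : k ∈ K := hmK ▸ ⟨x, hxL (mem_zpowers x), rfl⟩
    have hk1 : k ≠ 1 := fun h => hx1 (conj_eq_one_iff.1 h)
    have hK1 : K ≠ ⊥ := fun h => hk1 (by rw [h] at hkK; exact mem_bot.1 hkK)
    obtain ⟨hfix, -⟩ := Cfsg.Agent.S1430.result hG M hM K hKU.hall hK1
    obtain ⟨-, -, hsyl, -⟩ := Cfsg.Agent.S1431.result hG M hM K hKU.hall hK1
    set S := Cfsg.sigmaCore M with hS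
    set Kst := S ⊓ centralizer (K : Set G)
    have hmS : m ∈ normalizer (S : Set G) := le_normalizer_piCoreOf _ M hm
    set H' := MulAut.conj m • H with hH'
    have hH'K : H' ≤ Kst := by
      rintro _ ⟨h, hh, rfl⟩
      rw [← hfix k hkK hk1]
      refine mem_inf.2 ⟨(mem_normalizer_iff.1 hmS h).1 (hH hh), mem_centralizer_singleton_iff.2 ?_⟩
      have hc : h * x = x * h := mem_centralizer_iff.1 hxH h hh
      show m * h * m⁻¹ * k = k * (m * h * m⁻¹)
      rw [hk]
      calc m * h * m⁻¹ * (m * x * m⁻¹) = m * (h * x) * m⁻¹ := by group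
        _ = m * (x * h) * m⁻¹ := by rw [hc]
        _ = _ := by group
    have hH'S : H' ≤ S := hH'K.trans inf_le_left
    have hH'c : Nat.card H' = Nat.card H := Solvable.card_conj_smul m H
    have hH'i : H'.relIndex S = H.relIndex S := by
      conv_lhs => rw [hH', ← Solvable.conj_smul_eq_self_iff.2 hmS]
      exact relIndex_pointwise_smul _ _ _
    obtain ⟨s, hs', hsH⟩ :=
      Nat.exists_prime_and_dvd (n := Nat.card H') (by rw [hH'c]; exact (H.one_lt_card_iff_ne_bot.2 hH1).ne')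
    haveI := Fact.mk hs'
    obtain ⟨T⟩ : Nonempty (Sylow s H') := inferInstance
    set T' := ((T : Subgroup H').map H'.subtype).subgroupOf S with hT'
    have hTS : (T : Subgroup H').map H'.subtype ≤ S := (map_subtype_le _).trans hH'S
    have hTi : ¬ s ∣ T'.index := by
      intro hd
      change s ∣ ((T : Subgroup H').map H'.subtype).relIndex S at hd
      rw [← relIndex_mul_relIndex _ _ _ (map_subtype_le _) hH'S, relIndex, subgroupOf,
        comap_map_eq_self_of_injective H'.subtype_injective] at hd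
      rcases hs'.dvd_mul.1 hd with h | h
      · exact T.not_dvd_index h
      · rw [hH'i] at h
        exact Nat.not_coprime_of_dvd_of_dvd hs'.one_lt (hH'c ▸ hsH) h hHall
    have hTp : IsPGroup s T' := (T.2.map H'.subtype).of_equiv (subgroupOfEquivOfLe hTS).symm
    refine (hsyl s hs' (hsH.trans (card_dvd_of_le hH'K)) (hTp.toSylow hTi)).2.2 ?_
    rw [IsPGroup.toSylow_coe, hT', map_subgroupOf_eq_of_le hTS]
    exact (map_subtype_le _).trans hH'K
  · have h := sigmaCore_inf_centralizer_eq_bot_of_not_kappa hG hM hpM hps hκ hr1 hxM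
      (hxo ▸ pow_orderOf_eq_one x) hx1
    exact hH1 (le_bot_iff.1 (h ▸ hle))

/-- BG 15.3 (a): the centralizer in `M` of a Hall subgroup of `M_σ`. -/
theorem centralizer_hall_split {H : Subgroup G} (hH : H ≤ Cfsg.sigmaCore M) (hH1 : H ≠ ⊥)
    (hHall : (Nat.card H).Coprime (H.relIndex (Cfsg.sigmaCore M))) :
    ∃ X : Subgroup G, IsCyclic X ∧ (∀ p : ℕ, p.Prime → p ∣ Nat.card X → p ∈ Cfsg.tau2 M) ∧
        M ⊓ centralizer (H : Set G) = (Cfsg.sigmaCore M ⊓ centralizer (H : Set G)) ⊔ X := by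
  set S := Cfsg.sigmaCore M with hS
  set C := M ⊓ centralizer (H : Set G) with hC
  have hSM : S ≤ M := piCoreOf_le _ M
  have hn : C ≤ normalizer ((S ⊓ C : Subgroup G) : Set G) :=
    (le_inf (inf_le_left.trans (le_normalizer_piCoreOf _ M)) le_normalizer).trans
      inf_normalizer_le_normalizer_inf
  have hidx : (S ⊓ C).relIndex C ∣ S.relIndex M := by
    rw [Subgroup.inf_relIndex_right]
    rw [← Solvable.relIndex_sup_of_le_normalizer (N := S) (H := C)
      (inf_le_left.trans (le_normalizer_piCoreOf _ M))]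
    exact Dvd.intro _ (relIndex_mul_relIndex S (S ⊔ C) M le_sup_left (sup_le hSM inf_le_left))
  obtain ⟨hhall, -⟩ := hall_of_subset hG hM (π := Cfsg.sigma M) subset_rfl
    fun p _ P hp => sylow_le_sigmaCore hG hM hp P
  have hco : (Nat.card ↥(S ⊓ C)).Coprime ((S ⊓ C).relIndex C) := Nat.coprime_of_dvd fun p hp h1 h2 =>
    hhall.2.2 p hp (sigma_of_dvd_sigmaCore hp (h1.trans (card_dvd_of_le inf_le_left)))
      (h2.trans hidx)
  obtain ⟨X, hX⟩ := exists_isComplIn_of_coprime inf_le_right hn hco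
  have hXC : X ≤ C := hX.2.1
  have hXM : X ≤ M := hXC.trans inf_le_left
  have hXσ : ∀ q : ℕ, q.Prime → q ∣ Nat.card X → q ∉ Cfsg.sigma M := fun q hq hd hσ => by
    rw [card_eq_relIndex_of_isComplIn (isComplIn_swap hX)] at hd
    exact hhall.2.2 q hq hσ (hd.trans hidx)
  have hXτ : ∀ q : ℕ, q.Prime → q ∣ Nat.card X → q ∈ Cfsg.tau2 M := by
    intro q hq hd
    haveI := Fact.mk hq
    obtain ⟨x, hx⟩ := exists_prime_orderOf_dvd_card' (G := X) q hd
    exact mem_tau2_of_centralizes_hall hG hM hH hH1 hHall (hXσ q hq hd) (hXM x.2)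
      (by rw [Subgroup.orderOf_coe, hx]) (hXC x.2).2
  obtain ⟨K, U, hKU⟩ := exists_sigmaDecomposition hG hM
  obtain ⟨m, hm, hmU⟩ := exists_conj_le_U hG hM hKU hXM fun q hq hd => ⟨hXσ q hq hd, fun hκ => by
    haveI := Fact.mk hq
    exact (hXτ q hq hd).2.2.2 (kappa_rank_one hκ)⟩
  have hUab := Cfsg.Agent.S1359.result hG M hM K U hKU
  have hmcl : MulAut.conj m • X ≤ closure ((U : Set G) ∩ Cfsg.sigmaHat M) := by
    intro y hy
    refine subset_closure ⟨hmU hy, hKU.compl.1 (hmU hy), ?_⟩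
    obtain ⟨x, hx, rfl⟩ := hy
    obtain ⟨h, hh, hh1⟩ := (H.bot_or_exists_ne_one).resolve_left hH1
    refine ⟨m * h * m⁻¹, (mem_normalizer_iff.1 (le_normalizer_piCoreOf _ M hm) h).1 (hH hh),
      fun e => hh1 (conj_eq_one_iff.1 e), ?_⟩
    show m * x * m⁻¹ * (m * h * m⁻¹) = m * h * m⁻¹ * (m * x * m⁻¹)
    calc m * x * m⁻¹ * (m * h * m⁻¹) = m * (x * h) * m⁻¹ := by group
      _ = m * (h * x) * m⁻¹ := by rw [mem_centralizer_iff.1 (hXC hx).2 h hh]
      _ = _ := by group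
  haveI := hUab
  haveI : IsMulCommutative X := ⟨⟨fun a b => Subtype.ext (by
    have h := setLike_mul_comm (hmcl ⟨a, a.2, rfl⟩) (hmcl ⟨b, b.2, rfl⟩)
    have h' : (MulAut.conj m) ((a : G) * b) = MulAut.conj m ((b : G) * a) := by
      rw [map_mul, map_mul]; exact h
    exact (MulAut.conj m).injective h')⟩⟩
  haveI : Group.IsNilpotent X := Solvable.isNilpotent_of_comm fun a b => mul_comm' a b
  haveI : IsZGroup X := ⟨fun q hq P => by
    haveI := Fact.mk hq
    by_contra hP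
    have hd : q ∣ Nat.card X := by
      obtain ⟨n, hn'⟩ := IsPGroup.iff_card.1 P.2
      rcases n with _ | n
      · refine absurd ?_ hP
        rw [pow_zero, card_eq_one] at hn'
        rw [hn']
        infer_instance
      · exact (dvd_pow_self q n.succ_ne_zero).trans (hn' ▸ card_subgroup_dvd_card (P : Subgroup X))
    obtain ⟨A, hAP, hAe, hA2⟩ := exists_elementary_two (X := (P : Subgroup X).map X.subtype)
      (not_pRankLE_one_of_not_isCyclic (prime_ne_two_of_dvd_card hG hd) (P.2.map _) fun h =>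
        hP ((equivMapOfInjective _ _ X.subtype_injective).isCyclic.2 h))
    have hAX : A ≤ X := hAP.trans (map_subtype_le _)
    obtain ⟨-, -, hbot⟩ := tau2_facts hG hM (hXτ q hq hd) (hAX.trans hXM) hAe hA2
    exact hH1 (le_bot_iff.1 (hbot ▸ le_inf hH fun h hh => mem_centralizer_iff.2 fun a ha =>
      (mem_centralizer_iff.1 (hXC (hAX ha)).2 h hh).symm))⟩
  refine ⟨X, inferInstance, hXτ, le_antisymm (fun c hc => ?_) (sup_le (inf_le_inf_right _ hSM) hXC)⟩
  obtain ⟨a, ha, b, hb, rfl⟩ := hX.2.2.2 c hc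
  exact mul_mem (mem_sup_left ⟨ha.1, ha.2.2⟩) (mem_sup_right hb)

/-- Conjugate elements of `M_σ` and `M` are conjugate in `M`. -/
theorem exists_conj_in_maximal {x g : G} (hx : x ∈ Cfsg.sigmaCore M) (hx1 : x ≠ 1)
    (hg : g * x * g⁻¹ ∈ M) : ∃ m ∈ M, m * x * m⁻¹ = g * x * g⁻¹ := by
  obtain ⟨p, hp, hpd⟩ := Nat.exists_prime_and_dvd (n := orderOf x)
    fun h => hx1 (orderOf_eq_one_iff.1 h)
  haveI := Fact.mk hp
  set x₁ := x ^ (orderOf x / p) with hx₁
  have ho : orderOf x₁ = p := orderOf_pow_orderOf_div (orderOf_pos x).ne' hpd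
  have hx₁1 : x₁ ≠ 1 := fun h => hp.one_lt.ne (by rw [← ho, h, orderOf_one])
  have hσ : p ∈ Cfsg.sigma M := sigma_of_dvd_sigmaCore hp (hpd.trans (orderOf_dvd_card_of_mem hx))
  have hx₁S : x₁ ∈ Cfsg.sigmaCore M := pow_mem hx _
  have hxc : x ∈ centralizer ({x₁} : Set G) :=
    mem_centralizer_singleton_iff.2 (Commute.self_pow x _)
  obtain ⟨m, hm, c, hc, rfl⟩ := exists_eq_mul_centralizer hG hM hσ
    (IsPGroup.of_card (n := 1) (by rw [Nat.card_zpowers, ho, pow_one]) : IsPGroup p (zpowers x₁))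
    (by rwa [Ne, zpowers_eq_bot]) (zpowers_le.2 (piCoreOf_le _ M hx₁S))
    (g := g) (by
      rw [MonoidHom.map_zpowers]
      refine zpowers_le.2 ?_
      show g * x₁ * g⁻¹ ∈ M
      rw [hx₁, ← conj_pow]
      exact pow_mem hg _)
  rw [zpowers_eq_closure, centralizer_closure] at hc
  have hcx : c * x * c⁻¹ ∈ M := by
    have := mul_mem (mul_mem (inv_mem hm) hg) hm
    simpa [mul_assoc] using this
  by_cases hCM : centralizer ({x₁} : Set G) ≤ M
  · exact ⟨m * c, mul_mem hm (hCM hc), rfl⟩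
  obtain ⟨N, -, -, -, hnorm, hcompl, -, -⟩ := Cfsg.Agent.S1375.result hG M hM x₁ hx₁S hx₁1 hCM
  obtain ⟨a, ha, b, hb, rfl⟩ := hcompl.2.2.2 c hc
  have haM : a ∈ M := ha.1
  have hbx : b * x * b⁻¹ ∈ M := by
    have := mul_mem (mul_mem (inv_mem haM) hcx) haM
    simpa [mul_assoc] using this
  have hbc : b ∈ centralizer ({x₁} : Set G) := hb.2
  have key : b * x * b⁻¹ * x⁻¹ = 1 := by
    rw [← mem_bot, ← hcompl.2.2.1]
    refine mem_inf.2 ⟨mem_inf.2 ⟨mul_mem hbx (inv_mem (piCoreOf_le _ M hx)),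
      mul_mem (mul_mem (mul_mem hbc hxc) (inv_mem hbc)) (inv_mem hxc)⟩, ?_⟩
    rw [mul_assoc, mul_assoc, ← mul_assoc x]
    exact mul_mem hb ((mem_normalizer_iff.1 (hnorm hxc) _).1 (inv_mem hb))
  refine ⟨m * a, mul_mem hm haM, ?_⟩
  rw [mul_inv_eq_one] at key
  calc m * a * x * (m * a)⁻¹ = m * a * (b * x * b⁻¹) * (m * a)⁻¹ := by rw [key]
    _ = m * (a * b) * x * (m * (a * b))⁻¹ := by group

end CfsgLib.OddOrder
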