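import Cfsg.Agent.Lib.OddOrder.Section15Cases
import Cfsg.Agent.S1382

/-!
`M_s = M_σ`.
-/

set_option autoImplicit false
set_option maxHeartbeats 400000
set_option linter.style.haveILetI false

namespace CfsgLib.OddOrder

open Subgroup

variable {G : Type*} [Group G] [Finite G] (hG : Cfsg.IsMinSimpleOddOrder G) {M : Subgroup G}
  (hM : IsCoatom M)
include hG hM

/-- `M_s = M_σ` for every maximal subgroup. -/
theorem typeCore_eq_sigmaCore : Cfsg.typeCore M = Cfsg.sigmaCore M := by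
  classical
  obtain ⟨K, U, hKU⟩ := exists_sigmaDecomposition hG hM
  by_cases h : Cfsg.IsOfTypeIII M ∨ Cfsg.IsOfTypeIV M
  · obtain ⟨-, -, hne⟩ := (Cfsg.Agent.S1382.result hG M hM K U hKU).1 h
    obtain ⟨-, hS, -⟩ := Cfsg.Agent.S1437.result hG M hM K U hKU hne
    rw [Cfsg.typeCore, if_pos h, hS]
  · rw [Cfsg.typeCore, if_neg h]
    by_contra hne
    obtain ⟨hU, -, hK, -⟩ := Cfsg.Agent.S1437.result hG M hM K U hKU hne
    exact h ((Cfsg.Agent.S1382.result hG M hM K U hKU).2
      ⟨fun hb => hK.one_lt.ne' (by rw [hb, card_bot]), hU, hne⟩)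

end CfsgLib.OddOrder
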