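import Cfsg.Prelude.Def_OddOrderLocal
import Mathlib.GroupTheory.Sylow
import Mathlib.GroupTheory.Subgroup.Simple
import Mathlib.GroupTheory.Subgroup.Center
import Mathlib.Algebra.Group.Subgroup.Finite

/-!
First facts about a minimal simple group of odd order and its maximal subgroups.
-/

set_option autoImplicit false
set_option linter.style.haveILetI false

namespace CfsgLib.OddOrder

open Subgroup

variable {G : Type*} [Group G]

section MinSimple

variable (hG : Cfsg.IsMinSimpleOddOrder G)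
include hG

theorem odd_card_subgroup (H : Subgroup G) : Odd (Nat.card H) :=
  Odd.of_dvd_nat hG.1 (Subgroup.card_subgroup_dvd_card H)

theorem prime_ne_two {p : ℕ} (h : p ∣ Nat.card G) : p ≠ 2 := by
  rintro rfl
  exact (Nat.not_even_iff_odd.2 hG.1) (even_iff_two_dvd.2 h)

theorem prime_ne_two_of_dvd_card {p : ℕ} {H : Subgroup G} (h : p ∣ Nat.card H) : p ≠ 2 :=
  prime_ne_two hG (h.trans (Subgroup.card_subgroup_dvd_card H))

theorem isSolvable_of_ne_top {H : Subgroup G} (h : H ≠ ⊤) : Group.IsSolvable H :=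
  hG.2.2.2 H h

theorem eq_bot_or_top_of_normal {H : Subgroup G} (h : H.Normal) : H = ⊥ ∨ H = ⊤ :=
  hG.2.1.eq_bot_or_eq_top_of_normal H h

theorem normalizer_ne_top {H : Subgroup G} (h1 : H ≠ ⊥) (h2 : H ≠ ⊤) :
    normalizer (H : Set G) ≠ ⊤ := fun h =>
  (eq_bot_or_top_of_normal hG (normalizer_eq_top_iff.1 h)).elim h1 h2

theorem center_eq_bot : center G = ⊥ := by
  refine (eq_bot_or_top_of_normal hG inferInstance).resolve_right fun h => hG.2.2.1 ?_
  exact ⟨⟨fun a b => (mem_center_iff.1 (h ▸ mem_top b : b ∈ center G)) a⟩⟩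

theorem centralizer_singleton_ne_top {x : G} (hx : x ≠ 1) :
    centralizer ({x} : Set G) ≠ ⊤ := by
  intro h
  apply hx
  rw [← mem_bot, ← center_eq_bot hG, mem_center_iff]
  intro g
  exact mem_centralizer_singleton_iff.1 (h ▸ mem_top g)

theorem centralizer_ne_top {H : Subgroup G} (h1 : H ≠ ⊥) :
    centralizer (H : Set G) ≠ ⊤ := by
  obtain ⟨x, hx, hx1⟩ := H.bot_or_exists_ne_one.resolve_left h1
  intro h
  refine centralizer_singleton_ne_top hG hx1 (eq_top_iff.2 ?_)
  rw [← h]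
  exact centralizer_le (Set.singleton_subset_iff.2 hx)

variable [Finite G]

theorem isPGroup_ne_top {p : ℕ} [Fact p.Prime] {P : Subgroup G} (hP : IsPGroup p P) : P ≠ ⊤ := by
  rintro rfl
  haveI : IsSimpleGroup G := hG.2.1
  have hGp : IsPGroup p G := hP.of_equiv Subgroup.topEquiv
  haveI := hGp.center_nontrivial
  exact (Subgroup.nontrivial_iff_ne_bot _).1 this (center_eq_bot hG)

theorem mul_centralizer_ne_top {A : Subgroup G} (h1 : A ≠ ⊥) (h2 : A ≠ ⊤) :
    A ⊔ centralizer (A : Set G) ≠ ⊤ := fun h =>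
  normalizer_ne_top hG h1 h2
    (eq_top_iff.2 (h ▸ sup_le le_normalizer (centralizer_le_normalizer _)))

theorem ne_bot_of_isCoatom {M : Subgroup G} (hM : IsCoatom M) : M ≠ ⊥ := by
  rintro rfl
  haveI : Nontrivial G := hG.2.1.1
  obtain ⟨p, hp, hpd⟩ := Nat.exists_prime_and_dvd (Finite.one_lt_card (α := G)).ne'
  haveI := Fact.mk hp
  obtain ⟨x, hx⟩ := exists_prime_orderOf_dvd_card' p hpd
  have hb : zpowers x ≠ ⊥ := by
    rw [Ne, zpowers_eq_bot]
    rintro rfl
    exact hp.ne_one (by simpa using hx.symm)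
  have : zpowers x = ⊤ := hM.2 _ (bot_lt_iff_ne_bot.2 hb)
  exact hG.2.2.1 ⟨⟨fun a b => by
    obtain ⟨i, rfl⟩ := mem_zpowers_iff.1 (this ▸ mem_top a : a ∈ zpowers x)
    obtain ⟨j, rfl⟩ := mem_zpowers_iff.1 (this ▸ mem_top b : b ∈ zpowers x)
    rw [← zpow_add, ← zpow_add, add_comm]⟩⟩

theorem normalizer_eq_of_isCoatom {M : Subgroup G} (hM : IsCoatom M) :
    normalizer (M : Set G) = M :=
  (le_normalizer.eq_or_lt.resolve_right fun h =>
    normalizer_ne_top hG (ne_bot_of_isCoatom hG hM) hM.1 (hM.2 _ h)).symm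

/-- A maximal subgroup is the normalizer of each of its nontrivial normal subgroups. -/
theorem normalizer_eq_of_isCoatom_of_le {M H : Subgroup G} (hM : IsCoatom M) (hH : H ≠ ⊥)
    (hle : H ≤ M) (hn : M ≤ normalizer (H : Set G)) : normalizer (H : Set G) = M :=
  (hn.eq_or_lt.resolve_right fun h =>
    normalizer_ne_top hG hH (fun h' => hM.1 (eq_top_iff.2 (h' ▸ hle))) (hM.2 _ h)).symm

end MinSimple

section Maximal

variable [Finite G]

theorem exists_isCoatom_ge {H : Subgroup G} (h : H ≠ ⊤) : ∃ M, IsCoatom M ∧ H ≤ M :=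
  ((eq_top_or_exists_le_coatom H).resolve_left h)

omit [Finite G] in
theorem isCoatom_conj {M : Subgroup G} (hM : IsCoatom M) (g : G) :
    IsCoatom (M.map (MulAut.conj g).toMonoidHom) :=
  ((MulAut.conj g).mapSubgroup.isCoatom_iff M).2 hM

end Maximal

end CfsgLib.OddOrder
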