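import Cfsg.Agent.Lib.OddOrder.OperatorCube
import Mathlib.LinearAlgebra.Matrix.Notation
import Mathlib.NumberTheory.LegendreSymbol.Basic

/-!
An automorphism of odd order prime to `p` of an extraspecial group of order `p ^ 3`, trivial on the
center, has order dividing `p - 1` or `p + 1`.
-/

set_option autoImplicit false
set_option linter.style.haveILetI false

namespace CfsgLib.OddOrder

open Matrix

/-- The powers of a `2 × 2` matrix of determinant one over the prime field. -/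
theorem pow_cases_of_det_one {p : ℕ} [hp : Fact p.Prime] (hp2 : p ≠ 2)
    (g : Matrix (Fin 2) (Fin 2) (ZMod p)) (hd : g.det = 1) :
    g ^ (p - 1) = 1 ∨ g ^ (p + 1) = 1 ∨ g ^ (2 * p) = 1 := by
  set t := g 0 0 + g 1 1 with ht
  have h2 : (2 : ZMod p) ≠ 0 := by
    intro h
    rw [show (2 : ZMod p) = ((2 : ℕ) : ZMod p) by norm_num, CharP.cast_eq_zero_iff (ZMod p) p] at h
    exact hp2 ((Nat.prime_dvd_prime_iff_eq hp.out Nat.prime_two).1 h)
  rw [det_fin_two] at hd
  set r : Matrix (Fin 2) (Fin 2) (ZMod p) := t • 1 - g with hr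
  have hgr : g * r = 1 := by
    ext i j
    fin_cases i <;> fin_cases j <;> simp [hr, ht, mul_apply, Fin.sum_univ_two] <;>
      first | ring1 | linear_combination hd | linear_combination -hd
  have hrg : r * g = 1 := by
    ext i j
    fin_cases i <;> fin_cases j <;> simp [hr, ht, mul_apply, Fin.sum_univ_two] <;>
      first | ring1 | linear_combination hd | linear_combination -hd
  set h : Matrix (Fin 2) (Fin 2) (ZMod p) := (2 : ZMod p) • g - t • 1 with hh
  have hsq : h * h = (t ^ 2 - 4) • 1 := by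
    ext i j
    fin_cases i <;> fin_cases j <;> simp [hh, ht, mul_apply, Fin.sum_univ_two] <;>
      first | ring1 | linear_combination (-4 : ZMod p) * hd | linear_combination (4 : ZMod p) * hd
  have hcomm : Commute ((2 : ZMod p) • g) (t • (1 : Matrix (Fin 2) (Fin 2) (ZMod p))) :=
    (Commute.one_right _).smul_right t
  have hpow : h ^ p = (2 : ZMod p) • g ^ p - t • 1 := by
    rw [hh, sub_pow_char_of_commute (R := Matrix (Fin 2) (Fin 2) (ZMod p)) p hcomm, smul_pow,
      smul_pow, ZMod.pow_card, ZMod.pow_card, one_pow]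
  have hpo : 2 * (p / 2) + 1 = p := by
    have := hp.out.eq_two_or_odd.resolve_left hp2
    omega
  have hpow' : h ^ p = (t ^ 2 - 4) ^ (p / 2) • h := by
    rw [show h ^ p = h ^ (2 * (p / 2) + 1) from congrArg (h ^ ·) hpo.symm, pow_succ, pow_mul, sq, hsq]
    rw [smul_pow, one_pow, smul_mul_assoc, one_mul]
  have hcancel : ∀ {A B : Matrix (Fin 2) (Fin 2) (ZMod p)},
      (2 : ZMod p) • A = (2 : ZMod p) • B → A = B := fun {A B} e => by
    have := congrArg (fun C => (2 : ZMod p)⁻¹ • C) e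
    simpa [smul_smul, inv_mul_cancel₀ h2] using this
  by_cases hD : t ^ 2 - 4 = 0
  · refine Or.inr (Or.inr ?_)
    have h0 : (2 : ZMod p) • g ^ p = t • 1 := by
      rw [← sub_eq_zero, ← hpow, hpow', hD, zero_pow (by have := hp.out.two_le; omega), zero_smul]
    refine hcancel (hcancel ?_)
    rw [two_mul, pow_add, smul_smul, ← smul_mul_smul_comm, h0, smul_mul_smul_comm, one_mul,
      smul_smul, show t * t = 2 * 2 by linear_combination hD]
  rcases ZMod.pow_div_two_eq_neg_one_or_one p hD with he | he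
  · refine Or.inl ?_
    rw [he, one_smul, hpow, hh, sub_left_inj] at hpow'
    have h1 := hcancel hpow'
    calc g ^ (p - 1) = g ^ (p - 1) * (g * r) := by rw [hgr, mul_one]
      _ = g ^ (p - 1 + 1) * r := by rw [pow_succ, mul_assoc]
      _ = 1 := by rw [Nat.sub_add_cancel hp.out.one_le, h1, hgr]
  · refine Or.inr (Or.inl ?_)
    rw [he, neg_one_smul, hpow] at hpow'
    have h1 : g ^ p = r := by
      refine hcancel ?_
      rw [eq_add_of_sub_eq hpow', hr, hh, smul_sub, smul_smul]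
      ext i j
      simp
      ring
    rw [pow_succ, h1, hrg]

end CfsgLib.OddOrder

namespace CfsgLib.OddOrder.Operator

open Subgroup
open scoped commutatorElement

/-- An automorphism of odd order prime to `p` which is trivial on `Z` and acts faithfully on
`Q ⧸ Z`, for `Q` nonabelian and `Q ⧸ Z` elementary of order `p ^ 2` with `Z` central, has order
dividing `p - 1` or `p + 1`. -/
theorem pow_eq_one_of_cube {Γ Q : Type*} [Group Γ] [Group Q] [Finite Q] {p : ℕ}
    [hp : Fact p.Prime] (hp2 : p ≠ 2) (φ : Γ →* MulAut Q) {Z : Subgroup Q} [Z.Normal]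
    (hZ : Z ≤ center Q) (hQ : ¬ IsMulCommutative Q) (hpow : ∀ x : Q, x ^ p ∈ Z)
    (hidx : Z.index = p ^ 2) {k : Γ} (hodd : Odd (orderOf k)) (hco : (orderOf k).Coprime p)
    (hfix : ∀ a : Γ, ∀ z ∈ Z, φ a z = z)
    (hfaith : ∀ j : ℕ, (∀ x, φ (k ^ j) x * x⁻¹ ∈ Z) → k ^ j = 1) :
    k ^ (p - 1) = 1 ∨ k ^ (p + 1) = 1 := by
  haveI : IsMulCommutative (Q ⧸ Z) :=
    IsPGroup.isMulCommutative_of_card_eq_prime_sq (p := p) (by rw [← index_eq_card, hidx])
  have hab : ∀ a b : Q ⧸ Z, a * b = b * a := IsMulCommutative.is_comm.comm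
  letI : CommGroup (Q ⧸ Z) := { (inferInstance : Group (Q ⧸ Z)) with mul_comm := hab }
  set π := QuotientGroup.mk' Z with hπ
  have hcZ : ∀ u w : Q, ⁅u, w⁆ ∈ Z := fun u w => by
    rw [← QuotientGroup.eq_one_iff, ← QuotientGroup.mk'_apply, map_commutatorElement,
      commutatorElement_eq_one_iff_mul_comm]
    exact mul_comm _ _
  have hml : ∀ u v w : Q, ⁅u * v, w⁆ = ⁅u, w⁆ * ⁅v, w⁆ := fun u v w => by
    rw [commutator_mul_left', mem_center_iff.1 (hZ (hcZ v w)) u, mul_inv_cancel_right,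
      ← mem_center_iff.1 (hZ (hcZ v w)) ⁅u, w⁆]
  let cl : Q → (Q →* Q) := fun w => MonoidHom.mk' (fun u => ⁅u, w⁆) fun u v => hml u v w
  have hl : ∀ (u w : Q) (n : ℕ), ⁅u ^ n, w⁆ = ⁅u, w⁆ ^ n := fun u w n => map_pow (cl w) u n
  have hmr : ∀ u v w : Q, ⁅u, v * w⁆ = ⁅u, v⁆ * ⁅u, w⁆ := fun u v w => by
    rw [← inv_inj, commutatorElement_inv, hml, mul_inv_rev, commutatorElement_inv,
      commutatorElement_inv, mem_center_iff.1 (hZ (hcZ w u))]
  have hr : ∀ (u w : Q) (n : ℕ), ⁅u, w ^ n⁆ = ⁅u, w⁆ ^ n := fun u w n => by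
    rw [← inv_inj, commutatorElement_inv, hl, ← inv_pow, commutatorElement_inv]
  obtain ⟨x, y, hc⟩ : ∃ x y : Q, ⁅x, y⁆ ≠ 1 := by
    by_contra hcon
    push Not at hcon
    exact hQ ⟨⟨fun a b => commutatorElement_eq_one_iff_mul_comm.1 (hcon a b)⟩⟩
  set c := ⁅x, y⁆ with hcdef
  have hcp : c ^ p = 1 := by
    rw [hcdef, ← hl, commutatorElement_eq_one_iff_mul_comm]
    exact (mem_center_iff.1 (hZ (hpow x)) y).symm
  have hco' : orderOf c = p := orderOf_eq_prime hcp hc
  have hXp : ∀ u : Q, (p : ℕ) • Additive.ofMul (π u) = 0 := fun u => by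
    rw [← ofMul_pow, ← map_pow, hπ, QuotientGroup.mk'_apply, (QuotientGroup.eq_one_iff _).2 (hpow u)]
    rfl
  let f : Q → (ZMod p →+ Additive (Q ⧸ Z)) := fun u =>
    ZMod.lift p ⟨zmultiplesHom _ (Additive.ofMul (π u)), by
      simpa [natCast_zsmul] using hXp u⟩
  have hf : ∀ (u : Q) (n : ℕ), f u (n : ZMod p) = Additive.ofMul (π (u ^ n)) := fun u n => by
    rw [show ((n : ℕ) : ZMod p) = ((n : ℤ) : ZMod p) by norm_num]
    show ZMod.lift p _ ((n : ℤ) : ZMod p) = _
    rw [ZMod.lift_coe]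
    simp [natCast_zsmul]
  let v : (Fin 2 → ZMod p) →+ Additive (Q ⧸ Z) :=
    (f x).comp (Pi.evalAddMonoidHom _ 0) + (f y).comp (Pi.evalAddMonoidHom _ 1)
  have hv : ∀ w : Fin 2 → ZMod p, v w = Additive.ofMul (π (x ^ (w 0).val * y ^ (w 1).val)) := by
    intro w
    show f x (w 0) + f y (w 1) = _
    rw [← ZMod.natCast_zmod_val (w 0), ← ZMod.natCast_zmod_val (w 1), hf, hf,
      ZMod.natCast_zmod_val, ZMod.natCast_zmod_val, map_mul, ofMul_mul]
  have hcd : ∀ n : ℕ, c ^ n = 1 → ((n : ℕ) : ZMod p) = 0 := fun n h => by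
    rw [CharP.cast_eq_zero_iff (ZMod p) p]
    exact hco' ▸ orderOf_dvd_of_pow_eq_one h
  have hinj : Function.Injective v := by
    rw [injective_iff_map_eq_zero]
    intro w hw
    rw [hv, ← ofMul_one, Additive.ofMul.injective.eq_iff, hπ, QuotientGroup.mk'_apply,
      QuotientGroup.eq_one_iff] at hw
    have hzero : ∀ u : Q, ⁅u, x ^ (w 0).val * y ^ (w 1).val⁆ = 1 := fun u =>
      commutatorElement_eq_one_iff_mul_comm.2 (mem_center_iff.1 (hZ hw) u)
    have h1 := hzero x
    rw [hmr, hr, hr, commutatorElement_self, one_pow, one_mul] at h1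
    have h0 := hzero y
    rw [hmr, hr, hr, commutatorElement_self, one_pow, mul_one,
      ← commutatorElement_inv x y, inv_pow, inv_eq_one] at h0
    funext i
    fin_cases i
    · simpa using hcd _ h0
    · simpa using hcd _ h1
  have hsurj : Function.Surjective v := by
    refine (Nat.bijective_iff_injective_and_card v).2 ⟨hinj, ?_⟩ |>.2
    rw [Nat.card_fun, Nat.card_fin, Nat.card_zmod, Nat.card_congr Additive.toMul, ← index_eq_card,
      hidx]
  have hZinv : ∀ a : Γ, Z ≤ Z.comap (φ a).toMonoidHom := fun a z hz => by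
    rw [mem_comap, MulEquiv.coe_toMonoidHom, hfix a z hz]
    exact hz
  let ψ : Γ → (Additive (Q ⧸ Z) →+ Additive (Q ⧸ Z)) := fun a =>
    MonoidHom.toAdditive (QuotientGroup.map Z Z (φ a).toMonoidHom (hZinv a))
  have hψ : ∀ (a : Γ) (u : Q), ψ a (Additive.ofMul (π u)) = Additive.ofMul (π (φ a u)) :=
    fun a u => rfl
  have hψmul : ∀ (a b : Γ) (z : Additive (Q ⧸ Z)), ψ (a * b) z = ψ a (ψ b z) := fun a b z => by
    obtain ⟨u, rfl⟩ := QuotientGroup.mk'_surjective Z z
    show ψ (a * b) (Additive.ofMul (π u)) = ψ a (ψ b (Additive.ofMul (π u)))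
    rw [hψ, hψ, hψ, map_mul, MulAut.mul_apply]
  -- the matrix of `k`
  obtain ⟨u₀, hu₀⟩ := hsurj (ψ k (v ![1, 0]))
  obtain ⟨u₁, hu₁⟩ := hsurj (ψ k (v ![0, 1]))
  let M : Matrix (Fin 2) (Fin 2) (ZMod p) := !![u₀ 0, u₁ 0; u₀ 1, u₁ 1]
  have hM : ∀ w, ψ k (v w) = v (M.mulVec w) := fun w => by
    have hw : w = (w 0).val • ![1, 0] + (w 1).val • ![0, 1] := by
      funext i
      fin_cases i <;> simp
    have hw' : M.mulVec w = (w 0).val • u₀ + (w 1).val • u₁ := by
      funext i
      rw [Pi.add_apply, Pi.smul_apply, Pi.smul_apply, nsmul_eq_mul, nsmul_eq_mul,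
        ZMod.natCast_zmod_val, ZMod.natCast_zmod_val]
      fin_cases i <;> simp [M, Matrix.mulVec, dotProduct, Fin.sum_univ_two] <;> ring
    rw [hw']
    conv_lhs => rw [hw]
    simp only [map_add, map_nsmul, hu₀, hu₁]
  have hMj : ∀ (j : ℕ) w, ψ (k ^ j) (v w) = v ((M ^ j).mulVec w) := by
    intro j
    induction j with
    | zero =>
      intro w
      rw [pow_zero, pow_zero, Matrix.one_mulVec]
      obtain ⟨u, hu⟩ := QuotientGroup.mk'_surjective Z (Additive.toMul (v w))
      rw [show v w = Additive.ofMul (π u) from (congrArg Additive.ofMul hu).symm, hψ, map_one,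
        MulAut.one_apply]
    | succ j ih =>
      intro w
      rw [pow_succ, hψmul, hM, ih, Matrix.mulVec_mulVec, ← pow_succ]
  have hone : ∀ j : ℕ, M ^ j = 1 → k ^ j = 1 := fun j hj => hfaith j fun u => by
    obtain ⟨w, hw⟩ := hsurj (Additive.ofMul (π u))
    have h1 := hMj j w
    rw [hj, Matrix.one_mulVec, hw, hψ, Additive.ofMul.injective.eq_iff] at h1
    rw [← QuotientGroup.eq_one_iff, ← QuotientGroup.mk'_apply, map_mul, map_inv, h1, mul_inv_cancel]
  have hdet : M.det = 1 := by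
    have hx : ψ k (v ![1, 0]) = Additive.ofMul (π (φ k x)) := by
      rw [← hψ]
      congr 1
      rw [hv]
      simp [ZMod.val_one]
    have hy : ψ k (v ![0, 1]) = Additive.ofMul (π (φ k y)) := by
      rw [← hψ]
      congr 1
      rw [hv]
      simp [ZMod.val_one]
    rw [← hu₀, hv, Additive.ofMul.injective.eq_iff] at hx
    rw [← hu₁, hv, Additive.ofMul.injective.eq_iff] at hy
    obtain ⟨z₀, hz₀, he₀⟩ := (QuotientGroup.mk'_eq_mk' Z).1 hx
    obtain ⟨z₁, hz₁, he₁⟩ := (QuotientGroup.mk'_eq_mk' Z).1 hy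
    have hkey : ⁅φ k x, φ k y⁆ = c := by
      rw [← map_commutatorElement]
      exact hfix k c (hcZ x y)
    have hcen : ∀ z ∈ Z, ∀ u : Q, ⁅z, u⁆ = 1 ∧ ⁅u, z⁆ = 1 := fun z hz u =>
      ⟨commutatorElement_eq_one_iff_mul_comm.2 (mem_center_iff.1 (hZ hz) u).symm,
        commutatorElement_eq_one_iff_mul_comm.2 (mem_center_iff.1 (hZ hz) u)⟩
    have h : c ^ ((u₀ 0).val * (u₁ 1).val) = c * c ^ ((u₀ 1).val * (u₁ 0).val) := by
      rw [← he₀, ← he₁] at hkey
      simp only [hml, hmr, hl, hr, (hcen z₀ hz₀ _).1, (hcen z₁ hz₁ _).2, (hcen z₀ hz₀ _).2,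
        (hcen z₁ hz₁ _).1, commutatorElement_self, one_pow, mul_one, one_mul,
        ← commutatorElement_inv x y, inv_pow, ← hcdef, ← pow_mul] at hkey
      rw [mul_inv_eq_iff_eq_mul] at hkey
      simpa only [mul_comm] using hkey
    rw [← pow_succ'] at h
    have h' := (pow_eq_pow_iff_modEq).1 h
    rw [hco', ← ZMod.natCast_eq_natCast_iff] at h'
    push_cast at h'
    simp only [ZMod.natCast_zmod_val] at h'
    rw [Matrix.det_fin_two_of]
    linear_combination h'
  rcases pow_cases_of_det_one hp2 M hdet with h | h | h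
  · exact Or.inl (hone _ h)
  · exact Or.inr (hone _ h)
  · refine Or.inl ?_
    have h1 : orderOf k ∣ 2 * p := orderOf_dvd_of_pow_eq_one (hone _ h)
    have h2 : orderOf k ∣ 2 := hco.dvd_of_dvd_mul_right h1
    rcases (Nat.dvd_prime Nat.prime_two).1 h2 with h3 | h3
    · rw [orderOf_eq_one_iff.1 h3, one_pow]
    · rw [h3] at hodd; exact absurd hodd (by decide)

end CfsgLib.OddOrder.Operator
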