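import Cfsg.Agent.Lib.OddOrder.FittingTI
import Cfsg.Agent.Lib.OddOrder.CubeAction
import Cfsg.Agent.Lib.OddOrder.ExceptionalSylow
import Cfsg.Agent.Lib.OddOrder.CyclicCoprime
import Cfsg.Agent.Lib.OddOrder.NarrowAction
import Cfsg.Agent.Lib.OddOrder.SigmaCount

/-!
A maximal subgroup whose Fitting subgroup is not a TI-subset (BG 15.7): structure.
-/

set_option autoImplicit false
set_option linter.style.haveILetI false
set_option maxHeartbeats 400000

namespace CfsgLib.OddOrder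

open Subgroup

variable {G : Type*} [Group G] [Finite G] (hG : Cfsg.IsMinSimpleOddOrder G) {M : Subgroup G}
  (hM : IsCoatom M)
include hG hM

/-- `O_r(M) ≤ M_σ` and it is a Sylow subgroup of `M`, for nilpotent `M_σ`. -/
theorem component_of_sigma (hnil : Group.IsNilpotent (Cfsg.sigmaCore M)) {r : ℕ} [hr : Fact r.Prime]
    (hrσ : r ∈ Cfsg.sigma M) :
    Cfsg.piCoreOf {r} M ≤ Cfsg.sigmaCore M ∧
      Cfsg.piCoreOf {r} (Cfsg.sigmaCore M) ≤ Cfsg.piCoreOf {r} M ∧
      ¬ r ∣ (Cfsg.piCoreOf {r} M).index ∧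
      ∀ a ∈ M, (∀ s : ℕ, s.Prime → s ∣ orderOf a → s = r) → a ∈ Cfsg.piCoreOf {r} M := by
  set P := Cfsg.piCoreOf {r} M with hP
  set S := Cfsg.sigmaCore M with hS
  have hPM : P ≤ M := piCoreOf_le _ _
  have hSM : S ≤ M := piCoreOf_le _ _
  have hMP : M ≤ normalizer (P : Set G) := le_normalizer_piCoreOf _ _
  have hPS : P ≤ S := le_sigmaCore_of_piSubgroup hG hM (fun s hs hd => by
    have := piCoreOf_isPiSubgroup {r} M s hs hd
    rw [Set.mem_singleton_iff] at this
    exact this ▸ hrσ) hPM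
  have hQP : Cfsg.piCoreOf {r} S ≤ P :=
    le_piCoreOf ((piCoreOf_le _ _).trans hSM)
      ((le_normalizer_piCoreOf (Cfsg.sigma M) M).trans (normalizer_le_normalizer_piCoreOf _ _))
      (piCoreOf_isPiSubgroup _ _)
  have hS2 := hall_of_subset hG hM (π := Cfsg.sigma M) subset_rfl
    fun p _ T hp => sylow_le_sigmaCore hG hM hp T
  have hidx : ¬ r ∣ P.index := by
    rw [← relIndex_mul_index hPS]
    intro h
    rcases hr.out.dvd_mul.1 h with h | h
    · exact (piCoreOf_isPiHallOf_of_nilpotent hnil {r}).2.2 r hr.out rfl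
        (h.trans (relIndex_dvd_of_le_left S hQP))
    · exact hS2.2.2 r hr.out hrσ h
  refine ⟨hPS, hQP, hidx, fun a ha hs => mem_of_orderOf_coprime_relIndex hMP ha
    (Nat.coprime_of_dvd fun s hs' h1 h2 => hidx ?_)⟩
  rw [← hs s hs' h1, ← relIndex_mul_index hPM]
  exact h2.mul_right _

variable {g : G} (hg : g ∉ M) {p : ℕ} [hp : Fact p.Prime] {x : G} (hxF : x ∈ Cfsg.fittingOf M)
  (hxp : orderOf x = p) (hyF : g⁻¹ * x * g ∈ Cfsg.fittingOf M)
include hg hxF hxp hyF

theorem sigma_of_fitting_conj : p ∈ Cfsg.sigma M :=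
  sigma_of_dvd_sigmaCore hp.out (hxp ▸ orderOf_dvd_card_of_mem
    (mem_sigmaCore_of_fitting_conj hG hM hg hxF hyF))

theorem sigmaCore_nilpotent_of_fitting_conj : Group.IsNilpotent (Cfsg.sigmaCore M) :=
  fittingHallOf_eq_of_fitting_conj hG hM hg hxF hxp hyF ▸ fittingHallOf_isNilpotent M

/-- With `O_p(M)` nonabelian the other components are cyclic. -/
theorem component_cyclic (hna : ¬ IsMulCommutative (Cfsg.piCoreOf {p} M)) {r : ℕ} [hr : Fact r.Prime]
    (hrp : r ≠ p) : IsCyclic (Cfsg.piCoreOf {r} M) := by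
  by_contra hnc
  set R := Cfsg.piCoreOf {r} M with hR
  set P := Cfsg.piCoreOf {p} M with hP
  have hr2 : r ≠ 2 := by
    rintro rfl
    refine prime_ne_two_of_dvd_card hG
      (dvd_card_of_isPGroup (piCoreOf_singleton_isPGroup 2 M) fun h => hnc ?_) rfl
    rw [hR, h]
    infer_instance
  obtain ⟨E, hER, hEe, hE⟩ := exists_elementary_of_not_pRankLE
    (not_pRankLE_one_of_not_isCyclic hr2 (piCoreOf_singleton_isPGroup r M) hnc)
  obtain ⟨hRc, hR2⟩ := component_small hG hM hg hxF hxp hyF hrp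
  have hE2 : Nat.card E = r ^ 2 := by
    obtain ⟨i, hi⟩ := (isPGroup_of_exp hEe.2).exists_card_eq
    have hle : Nat.card E ≤ r ^ 2 := not_lt.1 fun h => not_pRankLE_of_elementary hER hEe h hR2
    rw [hi] at hE hle
    have h1 := (Nat.pow_lt_pow_iff_right hr.out.one_lt).1 hE
    have h2 := (Nat.pow_le_pow_iff_right hr.out.one_lt).1 hle
    rw [hi, show i = 2 by omega]
  obtain ⟨L, hL, hne, hCL⟩ :=
    exists_other_maximal hG hM hg hxF (ne_one_of_prime_order hxF hxp) hyF
  have hEL : E ≤ L := hER.trans ((component_le_centralizer hxF hxp hrp).trans hCL)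
  have hPC : P ≤ centralizer (E : Set G) := fun a ha e he =>
    mem_centralizer_iff.1 (piCoreOf_le_centralizer_piCoreOf M (fun s hs hs' _ => hrp (by
      rw [Set.mem_singleton_iff] at hs hs'; exact hs'.symm.trans hs)) ha) e (hER he)
  have hPL : P ≤ L := hPC.trans (Cfsg.Agent.S1416.result hG L hL r E ⟨hEL, hEe, hE2⟩).1
  exact hne ((Cfsg.Agent.S1422.result hG p P (piCoreOf_singleton_isPGroup p M) hna).unique
    ⟨hL, hPL⟩ ⟨hM, piCoreOf_le _ _⟩)

/-- The center of a nonabelian `O_p(M)`: a line normal in `M`, not containing `x`. -/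
theorem exists_center_line (hna : ¬ IsMulCommutative (Cfsg.piCoreOf {p} M)) :
    IsCyclic ↥(Cfsg.piCoreOf {p} M ⊓ centralizer (Cfsg.piCoreOf {p} M : Set G)) ∧
      x ∉ centralizer (Cfsg.piCoreOf {p} M : Set G) ∧
      ∃ z ∈ Cfsg.piCoreOf {p} M ⊓ centralizer (Cfsg.piCoreOf {p} M : Set G),
        orderOf z = p ∧ M ≤ normalizer (zpowers z : Set G) := by
  set P := Cfsg.piCoreOf {p} M with hP
  have hPp : IsPGroup p P := piCoreOf_singleton_isPGroup p M
  have hxP : x ∈ P := mem_component hxF hxp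
  obtain ⟨hCc, hC2⟩ := component_centralizer_small hG hM hg hxF hxp hyF
  have hxZ : x ∉ centralizer (P : Set G) := fun h => hna (by
    have : P ⊓ centralizer ({x} : Set G) = P := inf_eq_left.2 fun a ha =>
      mem_centralizer_singleton_iff.2 (h a ha)
    rwa [this] at hCc)
  have hp2 : p ≠ 2 := prime_ne_two_of_dvd_card hG (H := P) (hxp ▸ orderOf_dvd_card_of_mem hxP)
  set Zp := P ⊓ centralizer (P : Set G) with hZp
  have hZc : IsCyclic Zp := by
    by_contra hnc
    obtain ⟨E, hEZ, hEe, hE⟩ := exists_elementary_of_not_pRankLE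
      (not_pRankLE_one_of_not_isCyclic hp2 (hPp.to_le inf_le_left) hnc)
    have hxe : x ∈ centralizer (E : Set G) := fun e he => ((hEZ he).2 x hxP).symm
    have hxp' : x ^ p = 1 := hxp ▸ pow_orderOf_eq_one x
    have hxE : x ∉ E := fun h => hxZ (hEZ h).2
    refine not_pRankLE_of_elementary (k := 2) ?_ (elementary_sup_zpowers hEe hxe hxp') ?_ hC2
    · exact sup_le (fun e he => ⟨(hEZ he).1, mem_centralizer_singleton_iff.2 (hxe e he)⟩)
        (zpowers_le.2 ⟨hxP, mem_centralizer_singleton_iff.2 rfl⟩)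
    · refine lt_of_lt_of_le ?_ (card_mul_le_card_sup hEe hxe hxp' hxE)
      rw [pow_one] at hE
      rw [sq]
      exact Nat.mul_lt_mul_of_pos_right hE hp.out.pos
  haveI := hPp.isNilpotent
  obtain ⟨z, hz, hzo⟩ := exists_center_orderOf_eq hPp.isNilpotent (s := p)
    (hxp ▸ orderOf_dvd_card_of_mem hxP)
  refine ⟨hZc, hxZ, z, hz, hzo, le_normalizer_of_cyclic ?_ hZc (zpowers_le.2 hz)⟩
  have hMP : M ≤ normalizer (P : Set G) := le_normalizer_piCoreOf _ _
  exact fun m hm => inf_normalizer_le_normalizer_inf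
    ⟨hMP hm, normalizer_le_normalizer_centralizer _ (hMP hm)⟩

/-- `|X| = p` for `O_p(M)` nonabelian. -/
theorem card_fitting_inter (hna : ¬ IsMulCommutative (Cfsg.piCoreOf {p} M)) :
    Nat.card ↥(Cfsg.fittingOf M ⊓ (Cfsg.fittingOf M).map (MulAut.conj g).toMonoidHom) = p := by
  set F := Cfsg.fittingOf M with hF
  set X := F ⊓ F.map (MulAut.conj g).toMonoidHom with hX
  set P := Cfsg.piCoreOf {p} M with hP
  have hmemX : ∀ u ∈ X, u ∈ F ∧ g⁻¹ * u * g ∈ F := fun u hu => by
    refine ⟨hu.1, ?_⟩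
    obtain ⟨v, hv, rfl⟩ := hu.2
    rw [MulEquiv.coe_toMonoidHom, MulAut.conj_apply]
    rwa [show g⁻¹ * (g * v * g⁻¹) * g = v by group]
  have hxX : x ∈ X := ⟨hxF, g⁻¹ * x * g, hyF, by
    rw [MulEquiv.coe_toMonoidHom, MulAut.conj_apply]; group⟩
  have hone : ∀ r : ℕ, r.Prime → r ∣ Nat.card X → r = p := by
    intro r hr hd
    haveI := Fact.mk hr
    by_contra hrp
    obtain ⟨v, hv⟩ := exists_prime_orderOf_dvd_card' r hd
    exact hna (component_small hG hM hg (hmemX v v.2).1 (p := r)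
      (by rw [Subgroup.orderOf_coe, hv]) (hmemX v v.2).2 (Ne.symm hrp)).1
  have hXp : IsPGroup p X := by
    exact IsPGroup.iff_card.2 ⟨_, Nat.eq_prime_pow_of_unique_prime_dvd Nat.card_pos.ne'
      (fun {d} hd hdd => hone d hd hdd)⟩
  obtain ⟨E₀, -, hE₀⟩ := exists_complement_ge hG hM (bot_le : ⊥ ≤ M) fun q hq hd => by
    rw [card_bot] at hd; exact absurd hd hq.not_dvd_one
  have hXS : X ≤ Cfsg.sigmaCore M ⊓ M.map (MulAut.conj g).toMonoidHom := le_inf
    (fun u hu => mem_sigmaCore_of_fitting_conj hG hM hg (hmemX u hu).1 (hmemX u hu).2)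
    (inf_le_right.trans (map_mono (fittingOf_le M)))
  haveI hXc : IsCyclic X := by
    haveI := ((Cfsg.Agent.S1426.result hG M hM E₀ hE₀).2.2 g hg).1
    exact isCyclic_of_injective (inclusion hXS) (inclusion_injective hXS)
  obtain ⟨i, hi⟩ := hXp.exists_card_eq
  have hxi : p ∣ Nat.card X := hxp ▸ orderOf_dvd_card_of_mem hxX
  by_contra hne
  have hi2 : 2 ≤ i := by
    by_contra h
    interval_cases i
    · rw [hi, pow_zero] at hxi; exact hp.out.not_dvd_one hxi
    · rw [hi, pow_one] at hne; exact hne rfl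
  obtain ⟨⟨u, huX⟩, hu⟩ := IsCyclic.exists_ofOrder_eq_natCard (α := X)
  rw [hi, Subgroup.orderOf_mk] at hu
  set u' := u ^ p ^ (i - 2) with hu'
  have hu'o : orderOf u' = p ^ 2 := by
    rw [hu', orderOf_pow_of_dvd (pow_ne_zero _ hp.out.ne_zero) (hu ▸ pow_dvd_pow p (by omega)), hu,
      Nat.pow_div (by omega) hp.out.pos]
    congr 1
    omega
  have hu'X : u' ∈ X := pow_mem huX _
  have hu'P : u' ∈ P := by
    rw [hP, ← piCoreOf_singleton_fittingOf]
    refine mem_piCoreOf_of_nilpotent (fittingOf_isNilpotent M) (hmemX u' hu'X).1 fun s hs hsd => ?_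
    rw [hu'o] at hsd
    exact (Nat.prime_dvd_prime_iff_eq hs hp.out).1 (hs.dvd_of_dvd_pow hsd)
  obtain ⟨hZc, hxZ, z, hz, hzo, hMz⟩ := exists_center_line hG hM hg hxF hxp hyF hna
  have hxP : x ∈ P := mem_component hxF hxp
  have hxp' : x ^ p = 1 := hxp ▸ pow_orderOf_eq_one x
  have hzp' : z ^ p = 1 := hzo ▸ pow_orderOf_eq_one z
  have hzx : z ∈ centralizer (zpowers x : Set G) := fun a ha => by
    obtain ⟨k, rfl⟩ := mem_zpowers_iff.1 ha
    exact hz.2 _ (zpow_mem hxP k)
  set E := zpowers x ⊔ zpowers z with hE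
  have hEe : Cfsg.IsElementaryAbelian p E :=
    elementary_sup_zpowers (elementary_zpowers hxp') hzx hzp'
  obtain ⟨hCc, hC2⟩ := component_centralizer_small hG hM hg hxF hxp hyF
  set C := P ⊓ centralizer ({x} : Set G) with hC
  have hEC : E ≤ C := sup_le (zpowers_le.2 ⟨hxP, mem_centralizer_singleton_iff.2 rfl⟩)
    (zpowers_le.2 ⟨hz.1, mem_centralizer_singleton_iff.2 (hzx x (mem_zpowers x)).symm⟩)
  have hzx' : z ∉ zpowers x := fun h => by
    refine hxZ ?_
    have h1 : zpowers z = zpowers x := eq_of_le_of_card_ge (zpowers_le.2 h)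
      (by rw [Nat.card_zpowers, Nat.card_zpowers, hxp, hzo])
    exact (zpowers_le.2 hz.2 : zpowers z ≤ centralizer (P : Set G)) (h1 ▸ mem_zpowers x)
  have hE2 : Nat.card E = p ^ 2 := by
    refine le_antisymm (not_lt.1 fun h => not_pRankLE_of_elementary hEC hEe h hC2) ?_
    refine le_trans ?_ (card_mul_le_card_sup (elementary_zpowers hxp') hzx hzp' hzx')
    rw [Nat.card_zpowers, hxp, sq]
  have hp2 : p ≠ 2 := prime_ne_two_of_dvd_card hG (H := P) (hxp ▸ orderOf_dvd_card_of_mem hxP)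
  have hnil := sigmaCore_nilpotent_of_fitting_conj hG hM hg hxF hxp hyF
  have hpσ := sigma_of_fitting_conj hG hM hg hxF hxp hyF
  obtain ⟨hPS, -, hidx, hmemP⟩ := component_of_sigma hG hM hnil hpσ
  have hNz : normalizer (zpowers z : Set G) = M := normalizer_eq_of_isCoatom_of_le hG hM
    (fun h => hp.out.ne_one (by rw [← hzo, ← Nat.card_zpowers, h, card_bot]))
    (zpowers_le.2 (piCoreOf_le _ _ hz.1)) hMz
  have hmax : ∀ B : Subgroup G, Cfsg.IsElementaryAbelian p B → E ≤ B → B = E := by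
    intro B hB hEB
    haveI := hB.1
    have hBM : B ≤ M := fun b hb => hNz ▸ centralizer_le_normalizer _ (fun a ha =>
      setLike_mul_comm (s := B) (hEB (mem_sup_right ha)) hb)
    have hBP : B ≤ P := fun b hb => hmemP b (hBM hb) fun s hs hsd =>
      (Nat.prime_dvd_prime_iff_eq hs hp.out).1
        (hsd.trans (orderOf_dvd_of_pow_eq_one (hB.2 b hb)))
    have hBC : B ≤ C := le_inf hBP fun b hb => mem_centralizer_singleton_iff.2
      (setLike_mul_comm (s := B) hb (hEB (mem_sup_left (mem_zpowers x))))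
    refine (eq_of_le_of_card_ge hEB ?_).symm
    rw [hE2]
    exact not_lt.1 fun h => not_pRankLE_of_elementary hBC hB h hC2
  set S : Sylow p G := (piCoreOf_singleton_isPGroup p M).toSylow hidx
  have hSP : (S : Subgroup G) = P := IsPGroup.toSylow_coe _ _
  obtain ⟨C', hC'c, hC'le, hpow, hnorm⟩ := exists_cyclic_pow hG hp2 S (hSP ▸ hEC.trans inf_le_left)
    hEe hE2 hmax (hSP ▸ fun h => hxZ (h (mem_sup_left (mem_zpowers x))))
  have hu'x : u' * x = x * u' := by
    letI : CommGroup X := IsCyclic.commGroup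
    exact congrArg Subtype.val (mul_comm (⟨u', hu'X⟩ : X) ⟨x, hxX⟩)
  have hu'E : u' ∈ centralizer (E : Set G) := by
    have : E ≤ centralizer ({u'} : Set G) := sup_le
      (zpowers_le.2 (mem_centralizer_singleton_iff.2 hu'x.symm))
      (zpowers_le.2 (mem_centralizer_singleton_iff.2 (hz.2 u' hu'P).symm))
    exact fun e he => mem_centralizer_singleton_iff.1 (this he)
  have hxC' : x ∈ C' := by
    have h1 : u' ^ p ∈ C' := hpow u' (hSP.symm ▸ hu'P) hu'E
    have h2 : orderOf (u' ^ p) = p := by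
      rw [orderOf_pow_of_dvd hp.out.ne_zero (hu'o ▸ dvd_pow_self p two_ne_zero), hu'o, sq,
        Nat.mul_div_cancel _ hp.out.pos]
    have h3 : zpowers (u' ^ p) = zpowers x := eq_of_card_eq_of_le_cyclic hXc
      (zpowers_le.2 (pow_mem hu'X _)) (zpowers_le.2 hxX)
      (by rw [Nat.card_zpowers, Nat.card_zpowers, h2, hxp])
    exact (zpowers_le.2 h1 : zpowers (u' ^ p) ≤ C') (h3 ▸ mem_zpowers x)
  have hNE : ∀ n ∈ P, n ∈ normalizer (E : Set G) → n ∈ C := by
    intro n hn hnE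
    refine ⟨hn, ?_⟩
    have h1 : n ∈ normalizer (zpowers x : Set G) := le_normalizer_of_cyclic le_rfl hC'c
      (zpowers_le.2 hxC') (hnorm n (hSP.symm ▸ hn) hnE)
    refine mem_of_pow_mem_coprime' (n := p - 1) ?_ (pow_sub_one_mem_centralizer hp.out hxp h1)
    obtain ⟨k, hk⟩ := (piCoreOf_singleton_isPGroup p M) ⟨n, hn⟩
    refine Nat.Coprime.coprime_dvd_right (orderOf_dvd_of_pow_eq_one
      (show n ^ p ^ k = 1 from congrArg Subtype.val hk)) (Nat.Coprime.pow_right _ ?_)
    exact (hp.out.coprime_iff_not_dvd.2 (Nat.not_dvd_of_pos_of_lt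
      (by have := hp.out.two_le; omega) (by have := hp.out.pos; omega))).symm
  have hCP : C.subgroupOf P < ⊤ := by
    rw [lt_top_iff_ne_top, Ne, subgroupOf_eq_top]
    intro h
    exact hxZ fun a ha => mem_centralizer_singleton_iff.1 (h ha).2
  haveI := (piCoreOf_singleton_isPGroup p M).isNilpotent
  obtain ⟨⟨n, hnP⟩, hnN, hnC⟩ := SetLike.exists_of_lt
    (normalizerCondition_of_isNilpotent (G := P) _ hCP)
  refine hnC (mem_subgroupOf.2 (hNE n hnP (mem_normalizer_of_map_le ?_)))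
  rintro _ ⟨e, he, rfl⟩
  rw [MulEquiv.coe_toMonoidHom, MulAut.conj_apply]
  have heP : e ∈ P := (hEC he).1
  have h1 : n * e * n⁻¹ ∈ C :=
    mem_subgroupOf.1 ((mem_normalizer_iff.1 hnN ⟨e, heP⟩).1 (mem_subgroupOf.2 (hEC he)))
  have h2 : (n * e * n⁻¹) ^ p = 1 := by rw [conj_pow, hEe.2 e he]; group
  have h3 : n * e * n⁻¹ ∈ centralizer (E : Set G) := fun a ha =>
    setLike_mul_comm (s := C) (hEC ha) h1
  rw [← hmax _ (elementary_sup_zpowers hEe h3 h2) le_sup_left]
  exact mem_sup_right (mem_zpowers _)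

/-- An abelian `M_σ` has rank exactly two. -/
theorem rank_of_abelian (ha : IsMulCommutative (Cfsg.sigmaCore M)) :
    Cfsg.RankLE 2 (Cfsg.sigmaCore M) ∧ ¬ Cfsg.RankLE 1 (Cfsg.sigmaCore M) := by
  set S := Cfsg.sigmaCore M with hS
  have hnil := sigmaCore_nilpotent_of_fitting_conj hG hM hg hxF hxp hyF
  have hpσ := sigma_of_fitting_conj hG hM hg hxF hxp hyF
  set P := Cfsg.piCoreOf {p} M with hP
  have hPp : IsPGroup p P := piCoreOf_singleton_isPGroup p M
  obtain ⟨hPS, -, -, -⟩ := component_of_sigma hG hM hnil hpσ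
  have hxP : x ∈ P := mem_component hxF hxp
  have hPx : P ⊓ centralizer ({x} : Set G) = P := inf_eq_left.2 fun a ha' =>
    mem_centralizer_singleton_iff.2 (setLike_mul_comm (s := S) (hPS ha') (hPS hxP))
  refine ⟨fun r hr => ?_, fun h1 => ?_⟩
  · haveI := Fact.mk hr
    by_contra hcon
    obtain ⟨E, hES, hEe, hE⟩ := exists_elementary_of_not_pRankLE hcon
    have hEr : IsPGroup r E := isPGroup_of_exp hEe.2
    have hE1 : E ≠ ⊥ := fun h => by
      rw [h, card_bot] at hE
      exact absurd hE (not_lt.2 (Nat.one_le_pow _ _ hr.pos))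
    obtain ⟨-, -, -, hmem⟩ := component_of_sigma hG hM hnil (r := r) (sigma_of_dvd_sigmaCore hr
      ((dvd_card_of_isPGroup hEr hE1).trans (card_dvd_of_le hES)))
    have hER : E ≤ Cfsg.piCoreOf {r} M := fun a ha' => hmem a (piCoreOf_le _ _ (hES ha'))
      fun s hs hsd => (Nat.prime_dvd_prime_iff_eq hs hr).1
        (hsd.trans (orderOf_dvd_of_pow_eq_one (hEe.2 a ha')))
    rcases eq_or_ne r p with rfl | hrp
    · have h2 := (component_centralizer_small hG hM hg hxF hxp hyF).2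
      rw [← hP, hPx] at h2
      exact not_pRankLE_of_elementary hER hEe hE h2
    · exact not_pRankLE_of_elementary hER hEe hE (component_small hG hM hg hxF hxp hyF hrp).2
  · have hp2 : p ≠ 2 := prime_ne_two_of_dvd_card hG (H := P) (hxp ▸ orderOf_dvd_card_of_mem hxP)
    have hPc : IsCyclic P := by_contra fun h => not_pRankLE_one_of_not_isCyclic hp2 hPp h
      (TwoFusion.PRank.pRankLE_mono hPS (h1 p hp.out))
    have hMx : M ≤ normalizer (zpowers x : Set G) :=
      le_normalizer_of_cyclic (le_normalizer_piCoreOf _ _) hPc (zpowers_le.2 hxP)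
    refine centralizer_not_le_of_fitting_conj hG hM hg hxF (ne_one_of_prime_order hxF hxp) hyF ?_
    rw [← normalizer_eq_of_isCoatom_of_le hG hM (fun h => hp.out.ne_one (by
      rw [← hxp, ← Nat.card_zpowers, h, card_bot])) (zpowers_le.2 (piCoreOf_le _ _ hxP)) hMx]
    rw [← centralizer_closure ({x} : Set G), ← zpowers_eq_closure]
    exact centralizer_le_normalizer _

end CfsgLib.OddOrder
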