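import Cfsg.Agent.Lib.OddOrder.FixLineRep

/-!
BG 3.6, the case of an abelian `Q`: if `x` of odd prime order fixes at most a line and `Q` is
irreducible under an odd-order group `M ∋ x`, then a `p`-group normalised by `x` centralises `Q`.
-/

set_option autoImplicit false
set_option linter.style.haveILetI false

namespace CfsgLib.OddOrder.FixLine

open scoped Classical in
theorem commute_of_abelian {K E Γ : Type*} [Field K] [IsAlgClosed K] [AddCommGroup E] [Module K E]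
    [FiniteDimensional K E] [Group Γ] [Finite Γ] (ρ : Representation K Γ E)
    {q p : ℕ} (hq : q.Prime) [hp : Fact p.Prime] (hqK : (q : K) ≠ 0)
    (Q P M : Subgroup Γ) {x : Γ} (hfix : FixLineAt ρ x)
    (hr : (orderOf x).Prime) (hr2 : Odd (orderOf x)) (hpr : p ≠ orderOf x)
    (hab : ∀ a ∈ Q, ∀ b ∈ Q, Commute a b) (hexp : ∀ g ∈ Q, g ^ q = 1)
    (hfaith : ∀ g ∈ Q, ρ g = 1 → g = 1)
    (hMQ : M ≤ Subgroup.normalizer (Q : Set Γ)) (hxM : x ∈ M) (hPM : P ≤ M) (hP : IsPGroup p P)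
    (hxP : x ∈ Subgroup.normalizer (P : Set Γ)) (hModd : Odd (Nat.card M))
    (hirr : ∀ Q1 : Subgroup Γ, Q1 ≤ Q → M ≤ Subgroup.normalizer (Q1 : Set Γ) → Q1 ≠ Q → Q1 = ⊥)
    (hsplit : ∀ g ∈ Q, ∃ k ∈ Q, Commute x k ∧
      ∀ χ : Γ → K, IsWt ρ Q χ → cw x χ = χ → χ g = χ k)
    {c : Γ} (hcQ : c ∈ Q) (hc : ∀ g ∈ Q, Commute x g → ∃ n : ℕ, c ^ n = g)
    (hnc : ∃ g ∈ Q, ¬ Commute x g) :
    ∀ y ∈ P, ∀ g ∈ Q, Commute y g := by
  have hxQ : x ∈ Subgroup.normalizer (Q : Set Γ) := hMQ hxM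
  have habρ : ∀ a ∈ Q, ∀ b ∈ Q, Commute (ρ a) (ρ b) := fun a ha b hb => (hab a ha b hb).map ρ
  -- separation
  have hsep : ∀ g ∈ Q, (∀ χ, IsWt ρ Q χ → χ g = 1) → g = 1 := fun g hg h =>
    hfaith g hg (eq_one_of_weights Q habρ hg hqK (hexp g hg) h)
  -- weights fixed by `y` normalising `Q` detect commutation
  have hcomm : ∀ y ∈ Subgroup.normalizer (Q : Set Γ), ∀ g ∈ Q,
      (∀ χ, IsWt ρ Q χ → cw y χ = χ) → Commute y g := by
    intro y hy g hg h
    have hyg : y⁻¹ * g * y ∈ Q := (conj_mem_iff hy g).2 hg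
    have h1 := hsep _ (Q.mul_mem hyg (Q.inv_mem hg)) fun χ hχ => by
      have h2 : χ (y⁻¹ * g * y) = χ g := congrFun (h χ hχ) g
      rw [hχ.map_mul hyg (Q.inv_mem hg), hχ.map_inv hg, h2, mul_inv_cancel₀ (hχ.ne_zero hg)]
    rw [mul_inv_eq_one] at h1
    show y * g = g * y
    conv_lhs => rw [← h1]
    group
  have hmovedEx : ∃ χ, IsWt ρ Q χ ∧ cw x χ ≠ χ := by
    by_contra hno
    push Not at hno
    obtain ⟨g, hg, hgx⟩ := hnc
    exact hgx (hcomm x hxQ g hg hno)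
  obtain ⟨χ, hχ, hmov⟩ := hmovedEx
  -- the kernel of a weight
  let ker : (Γ → K) → Set Γ := fun ψ => {g | g ∈ Q ∧ ψ g = 1}
  let NT : (Γ → K) → Prop := fun ψ => IsWt ρ Q ψ ∧ ∃ g ∈ Q, ψ g ≠ 1
  have hNTcw : ∀ y ∈ Subgroup.normalizer (Q : Set Γ), ∀ ψ, NT ψ → NT (cw y ψ) := by
    rintro y hy ψ ⟨hψ, g, hg, hne⟩
    refine ⟨hψ.cw hy, y * g * y⁻¹, (Subgroup.mem_normalizer_iff.1 hy g).1 hg, ?_⟩
    simpa [cw, mul_assoc] using hne
  have hkercw : ∀ y ∈ Subgroup.normalizer (Q : Set Γ), ∀ ψ g, g ∈ ker (cw y ψ) ↔ y⁻¹ * g * y ∈ ker ψ := by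
    intro y hy ψ g
    exact and_congr_left' (conj_mem_iff hy g).symm
  -- fixed nontrivial weights all have the same kernel
  have hkey : ∀ ψ, IsWt ρ Q ψ → cw x ψ = ψ → ∀ g ∈ Q, ∃ n : ℕ, (∀ φ, IsWt ρ Q φ → cw x φ = φ →
      φ g = φ c ^ n) := by
    intro ψ _ _ g hg
    obtain ⟨k, hk, hxk, hks⟩ := hsplit g hg
    obtain ⟨n, hn⟩ := hc k hk hxk
    exact ⟨n, fun φ hφ hfφ => by rw [hks φ hφ hfφ, ← hn, hφ.map_pow hcQ]⟩
  have hroot : ∀ φ, NT φ → cw x φ = φ → IsPrimitiveRoot (φ c) q := by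
    rintro φ ⟨hφ, g, hg, hne⟩ hfφ
    have h1 : φ c ^ q = 1 := by rw [← hφ.map_pow hcQ, hexp c hcQ, hφ.map_one]
    refine ⟨h1, fun l hl => ?_⟩
    by_contra hnd
    obtain ⟨n, hn⟩ := hkey φ hφ hfφ g hg
    refine hne ?_
    rw [hn φ hφ hfφ]
    have hc1 : φ c = 1 := by
      have := pow_gcd_eq_one.2 ⟨hl, h1⟩
      rwa [Nat.Coprime.gcd_eq_one ((Nat.Prime.coprime_iff_not_dvd hq).2 hnd).symm, pow_one] at this
    rw [hc1, one_pow]
  have hsame : ∀ φ ψ, NT φ → cw x φ = φ → NT ψ → cw x ψ = ψ → ker φ = ker ψ := by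
    intro φ ψ hφ hfφ hψ hfψ
    ext g
    refine and_congr_right fun hg => ?_
    obtain ⟨n, hn⟩ := hkey φ hφ.1 hfφ g hg
    rw [hn φ hφ.1 hfφ, hn ψ hψ.1 hfψ, (hroot φ hφ hfφ).pow_eq_one_iff_dvd,
      (hroot ψ hψ hfψ).pow_eq_one_iff_dvd]
  -- no moved weight shares the kernel of a fixed nontrivial one
  have hker_fixed : ∀ φ ψ, IsWt ρ Q φ → IsWt ρ Q ψ → cw x φ = φ → ker φ = ker ψ → cw x ψ = ψ := by
    intro φ ψ hφ hψ hfφ hk
    funext g
    by_cases hg : g ∈ Q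
    · have hgx : x⁻¹ * g * x ∈ Q := (conj_mem_iff hxQ g).2 hg
      have h1 : x⁻¹ * g * x * g⁻¹ ∈ ker φ := by
        refine ⟨Q.mul_mem hgx (Q.inv_mem hg), ?_⟩
        have h2 : φ (x⁻¹ * g * x) = φ g := congrFun hfφ g
        rw [hφ.map_mul hgx (Q.inv_mem hg), hφ.map_inv hg, h2, mul_inv_cancel₀ (hφ.ne_zero hg)]
      rw [hk] at h1
      have h3 := h1.2
      rw [hψ.map_mul hgx (Q.inv_mem hg), hψ.map_inv hg, mul_inv_eq_one₀ (hψ.ne_zero hg)] at h3
      exact h3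
    · rw [(hψ.cw hxQ).1 g hg, hψ.1 g hg]
  have hmovedOrb : ∀ ψ, IsWt ρ Q ψ → cw x ψ ≠ ψ → ∃ i < orderOf x, ψ = cw (x ^ i) χ :=
    fun ψ hψ hm => moved_unique hfix hr hxQ hχ hmov hψ hm
  have horbMoved : ∀ i : ℕ, cw x (cw (x ^ i) χ) ≠ cw (x ^ i) χ := by
    intro i h
    refine hmov (cw_injective (x ^ i) ?_)
    rwa [← cw_mul, ← pow_succ, pow_succ', cw_mul]
  have hcast : (orderOf x) = (Finset.image (fun i => cw (x ^ i) χ) (Finset.range (orderOf x))).card := by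
    rw [Finset.card_image_of_injOn, Finset.card_range]
    exact fun i hi j hj h => pow_mem_cwStab_iff hr hmov (Finset.mem_range.1 hi) (Finset.mem_range.1 hj) h
  -- no fixed nontrivial weight
  have hnofix : ∀ μ, NT μ → cw x μ ≠ μ := by
    intro μ hμ hfμ
    letI act : MulAction M (Γ → K) :=
      { smul := fun g φ => cw (g : Γ) φ
        one_smul := fun φ => cw_one φ
        mul_smul := fun g h φ => cw_mul (g : Γ) (h : Γ) φ }
    have hsmul : ∀ (g : M) (φ : Γ → K), g • φ = cw (g : Γ) φ := fun _ _ => rfl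
    haveI : Fintype M := Fintype.ofFinite M
    let o : Finset (Γ → K) := Finset.univ.image (fun g : M => g • μ)
    have ho : ∀ φ, φ ∈ o ↔ ∃ g ∈ M, cw g μ = φ := by
      intro φ
      simp [o, hsmul]
    have hμo : μ ∈ o := (ho μ).2 ⟨1, M.one_mem, cw_one μ⟩
    have honto : ∀ φ ∈ o, NT φ := fun φ hφ => by
      obtain ⟨g, hg, rfl⟩ := (ho φ).1 hφ
      exact hNTcw g (hMQ hg) μ hμ
    have hoinv : ∀ g ∈ M, ∀ φ ∈ o, cw g φ ∈ o := fun g hg φ hφ => by
      obtain ⟨h, hh, rfl⟩ := (ho φ).1 hφ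
      exact (ho _).2 ⟨g * h, M.mul_mem hg hh, cw_mul g h μ⟩
    by_cases hallfix : ∀ φ ∈ o, cw x φ = φ
    · -- the kernel is invariant
      let Q1 : Subgroup Γ :=
        { carrier := ker μ
          one_mem' := ⟨Q.one_mem, hμ.1.map_one⟩
          mul_mem' := fun {a b} ha hb => ⟨Q.mul_mem ha.1 hb.1, by
            rw [hμ.1.map_mul ha.1 hb.1, ha.2, hb.2, one_mul]⟩
          inv_mem' := fun {a} ha => ⟨Q.inv_mem ha.1, by rw [hμ.1.map_inv ha.1, ha.2, inv_one]⟩ }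
      have hQ1 : Q1 = ⊥ := by
        refine hirr Q1 (fun g hg => hg.1) (fun y hy => ?_) fun h => ?_
        · refine Subgroup.mem_normalizer_iff.2 fun g => ?_
          have hy' : y⁻¹ ∈ M := M.inv_mem hy
          have hk := hsame _ μ (hNTcw y⁻¹ (hMQ hy') μ hμ) (hallfix _ (hoinv _ hy' μ hμo)) hμ hfμ
          show g ∈ ker μ ↔ y * g * y⁻¹ ∈ ker μ
          conv_lhs => rw [← hk]
          rw [hkercw y⁻¹ (hMQ hy'), inv_inv]
        · obtain ⟨g, hg, hne⟩ := hμ.2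
          exact hne ((h ▸ hg : g ∈ Q1)).2
      obtain ⟨g, hg, hgx⟩ := hnc
      refine hgx ?_
      have hgx' : x⁻¹ * g * x ∈ Q := (conj_mem_iff hxQ g).2 hg
      have h1 : x⁻¹ * g * x * g⁻¹ ∈ Q1 := ⟨Q.mul_mem hgx' (Q.inv_mem hg), by
        have h2 : μ (x⁻¹ * g * x) = μ g := congrFun hfμ g
        rw [hμ.1.map_mul hgx' (Q.inv_mem hg), hμ.1.map_inv hg, h2, mul_inv_cancel₀ (hμ.1.ne_zero hg)]⟩
      rw [hQ1, Subgroup.mem_bot, mul_inv_eq_one] at h1
      show x * g = g * x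
      conv_lhs => rw [← h1]
      group
    push Not at hallfix
    obtain ⟨ψ, hψo, hψm⟩ := hallfix
    let F := o.filter (fun φ => ker φ = ker μ)
    have hF : ∀ φ ∈ o, ker φ = ker μ ↔ cw x φ = φ := fun φ hφ =>
      ⟨fun h => hker_fixed μ φ hμ.1 (honto φ hφ).1 hfμ h.symm,
        fun h => hsame φ μ (honto φ hφ) h hμ hfμ⟩
    obtain ⟨i0, hi0, hi0e⟩ := hmovedOrb ψ (honto ψ hψo).1 hψm
    have hO : ∀ i : ℕ, cw (x ^ i) χ ∈ o := by
      intro i
      have h := hoinv _ (M.mul_mem (M.pow_mem hxM i) (M.inv_mem (M.pow_mem hxM i0))) ψ hψo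
      rwa [cw_mul, hi0e, cw_inv_cw] at h
    have hcard : o.card = orderOf x + F.card := by
      rw [hcast, ← Finset.card_union_of_disjoint]
      · congr 1
        ext φ
        simp only [Finset.mem_union, Finset.mem_image, Finset.mem_range, F, Finset.mem_filter]
        constructor
        · intro hφ
          by_cases hf : cw x φ = φ
          · exact Or.inr ⟨hφ, (hF φ hφ).2 hf⟩
          · obtain ⟨i, hi, rfl⟩ := hmovedOrb φ (honto φ hφ).1 hf
            exact Or.inl ⟨i, hi, rfl⟩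
        · rintro (⟨i, _, rfl⟩ | ⟨h, _⟩)
          · exact hO i
          · exact h
      · rw [Finset.disjoint_left]
        rintro φ hφ hφF
        obtain ⟨i, _, rfl⟩ := Finset.mem_image.1 hφ
        obtain ⟨h1, h2⟩ := Finset.mem_filter.1 hφF
        exact horbMoved i ((hF _ h1).1 h2)
    -- all kernel classes have equal size
    have hfib : ∀ B ∈ o.image ker, (o.filter (fun φ => ker φ = B)).card = F.card := by
      intro B hB
      obtain ⟨φ, hφ, rfl⟩ := Finset.mem_image.1 hB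
      obtain ⟨g, hg, rfl⟩ := (ho φ).1 hφ
      refine (Finset.card_bij (fun φ _ => cw g φ) ?_ (fun a _ b _ h => cw_injective g h) ?_).symm
      · intro a ha
        obtain ⟨h1, h2⟩ := Finset.mem_filter.1 ha
        refine Finset.mem_filter.2 ⟨hoinv g hg a h1, ?_⟩
        ext t
        rw [hkercw g (hMQ hg), hkercw g (hMQ hg), h2]
      · intro b hb
        obtain ⟨h1, h2⟩ := Finset.mem_filter.1 hb
        refine ⟨cw g⁻¹ b, Finset.mem_filter.2 ⟨hoinv _ (M.inv_mem hg) b h1, ?_⟩, by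
          rw [← cw_mul, mul_inv_cancel, cw_one]⟩
        ext t
        rw [hkercw g⁻¹ (hMQ (M.inv_mem hg)), h2, hkercw g (hMQ hg), inv_inv,
          show g⁻¹ * (g * t * g⁻¹) * g = t by group]
    have hdvd : F.card ∣ o.card := by
      rw [Finset.card_eq_sum_card_image ker o, Finset.sum_congr rfl hfib, Finset.sum_const,
        smul_eq_mul]
      exact dvd_mul_left _ _
    have hodvd : o.card ∣ Nat.card M := by
      have h1 : (o : Set (Γ → K)) = MulAction.orbit M μ := by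
        ext φ
        simp [o, MulAction.mem_orbit_iff]
      rw [← Nat.card_eq_finsetCard, show Nat.card (o : Finset (Γ → K)) = Nat.card (MulAction.orbit M μ)
        from Nat.card_congr (Equiv.setCongr h1)]
      exact ⟨_, ((MulAction.stabilizer M μ).index_mul_card).symm.trans
        (by rw [MulAction.index_stabilizer]; rw [Nat.card_coe_set_eq])⟩
    have hoodd : Odd o.card := Odd.of_dvd_nat hModd hodvd
    rw [hcard] at hdvd hoodd
    rcases (Nat.dvd_prime hr).1 ((Nat.dvd_add_left dvd_rfl).1 hdvd) with h | h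
    · rw [h] at hoodd
      exact (Nat.not_even_iff_odd.2 hoodd) (hr2.add_odd odd_one)
    · rw [h] at hoodd
      exact (Nat.not_even_iff_odd.2 hoodd) ⟨_, rfl⟩
  -- nontrivial weights form one `x`-orbit, fixed by `P`
  intro y hy g hg
  refine hcomm y (hMQ (hPM hy)) g hg fun ψ hψ => ?_
  by_contra hne
  have hψNT : NT ψ := by
    refine ⟨hψ, ?_⟩
    by_contra hall
    push Not at hall
    refine hne (funext fun t => ?_)
    by_cases ht : t ∈ Q
    · rw [cw, hall _ ((conj_mem_iff (hMQ (hPM hy)) t).2 ht), hall t ht]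
    · rw [(hψ.cw (hMQ (hPM hy))).1 t ht, hψ.1 t ht]
  letI act : MulAction P (Γ → K) :=
    { smul := fun g φ => cw (g : Γ) φ
      one_smul := fun φ => cw_one φ
      mul_smul := fun g h φ => cw_mul (g : Γ) (h : Γ) φ }
  have hsmul : ∀ (g : P) (φ : Γ → K), g • φ = cw (g : Γ) φ := fun _ _ => rfl
  have hsub : ∀ φ ∈ MulAction.orbit P ψ, NT φ := by
    rintro φ ⟨h, rfl⟩
    exact hNTcw h (hMQ (hPM h.2)) ψ hψNT
  obtain ⟨a, ha, hae⟩ := hmovedOrb ψ hψ (hnofix ψ hψNT)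
  obtain ⟨b, hb, hbe⟩ := hmovedOrb (cw y ψ) (hψ.cw (hMQ (hPM hy)))
    (hnofix _ (hNTcw y (hMQ (hPM hy)) ψ hψNT))
  have hab' : a ≠ b := by
    rintro rfl
    exact hne (hbe.trans hae.symm)
  let d := orderOf x - a + b
  have hd : cw (x ^ d) ψ = cw y ψ := by
    rw [hbe, hae, ← cw_mul, ← pow_add, show d + a = orderOf x + b by omega, pow_add,
      pow_orderOf_eq_one, one_mul]
  have hdc : d.Coprime (orderOf x) := by
    refine ((Nat.Prime.coprime_iff_not_dvd hr).2 fun hdd => hne ?_).symm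
    rw [← hd, orderOf_dvd_iff_pow_eq_one.1 hdd, cw_one]
  have horb : MulAction.orbit P ψ = Set.range (fun i : Fin (orderOf x) => cw (x ^ (i : ℕ)) χ) := by
    have hclosed : ∀ φ ∈ MulAction.orbit P ψ, cw (x ^ d) φ ∈ MulAction.orbit P ψ := by
      rintro φ ⟨h, rfl⟩
      have hn : x ^ d ∈ Subgroup.normalizer (P : Set Γ) := Subgroup.pow_mem _ hxP d
      refine ⟨⟨x ^ d * (h : Γ) * (x ^ d)⁻¹ * y, P.mul_mem
        ((Subgroup.mem_normalizer_iff.1 hn _).1 h.2) hy⟩, ?_⟩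
      show cw (x ^ d * (h : Γ) * (x ^ d)⁻¹ * y) ψ = cw (x ^ d) (cw (h : Γ) ψ)
      rw [cw_mul, ← hd, cw_mul, cw_inv_cw, cw_mul]
    refine Set.eq_of_subset_of_subset ?_ ?_
    · intro φ hφ
      obtain ⟨i, hi, hie⟩ := hmovedOrb φ (hsub φ hφ).1 (hnofix φ (hsub φ hφ))
      exact ⟨⟨i, hi⟩, hie.symm⟩
    · rintro φ ⟨i, rfl⟩
      have hpow : ∀ k : ℕ, cw ((x ^ d) ^ k) ψ ∈ MulAction.orbit P ψ := by
        intro k
        induction k with
        | zero => rw [pow_zero, cw_one]; exact MulAction.mem_orbit_self _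
        | succ k ih => rw [pow_succ', cw_mul]; exact hclosed _ ih
      obtain ⟨m, hm⟩ := exists_pow_eq_self_of_coprime (G := Γ) (x := x) hdc
      have := hpow (m * ((i : ℕ) + (orderOf x - a)))
      rw [pow_mul, hm, hae, ← cw_mul, ← pow_add, add_assoc, Nat.sub_add_cancel ha.le, pow_add,
        pow_orderOf_eq_one, mul_one] at this
      show cw (x ^ (i : ℕ)) χ ∈ MulAction.orbit P ψ
      rw [hae]
      exact this
  have hcardorb : Nat.card (MulAction.orbit P ψ) = orderOf x := by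
    rw [horb, Nat.card_range_of_injective, Nat.card_eq_fintype_card, Fintype.card_fin]
    exact fun i j h => Fin.ext (pow_mem_cwStab_iff hr hmov i.2 j.2 h)
  have hdvdP : orderOf x ∣ Nat.card P := by
    rw [← hcardorb]
    exact ⟨_, ((MulAction.stabilizer P ψ).index_mul_card).symm.trans
      (by rw [MulAction.index_stabilizer, Nat.card_coe_set_eq])⟩
  obtain ⟨n, hn⟩ := hP.exists_card_eq
  rw [hn] at hdvdP
  exact hpr ((Nat.prime_dvd_prime_iff_eq hr hp.out).1 (hr.dvd_of_dvd_pow hdvdP)).symm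

end CfsgLib.OddOrder.FixLine
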