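import Cfsg.Agent.Lib.OddOrder.FixLineRep
import Mathlib.FieldTheory.IsAlgClosed.AlgebraicClosure
import Mathlib.Algebra.Module.ZMod

/-!
Base change of a conjugation module to the algebraic closure, and the fixed-point lemma for a
Frobenius group acting on an abelian group.
-/

set_option autoImplicit false
set_option linter.style.haveILetI false

namespace CfsgLib.OddOrder.FixLine

open Module

/-- A `𝔽_p`-module with a group action gives a representation over `𝔽̄_p`. -/
theorem exists_closure_rep_aux {G M : Type*} [Group G] [Finite G] {p : ℕ} [Fact p.Prime]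
    [AddCommGroup M] [Module (ZMod p) M] [Finite M] [Nontrivial M]
    (ρ0 : Representation (ZMod p) G M) (x : G) (hx : ¬ p ∣ orderOf x)
    (hfix : Nat.card {v : M // ρ0 x v = v} ≤ p) :
    ∃ n : ℕ, 0 < n ∧ ∃ ρ : Representation (AlgebraicClosure (ZMod p)) G
        (Fin n → AlgebraicClosure (ZMod p)),
      FixLineAt ρ x ∧ ∀ g, ρ g = 1 → ρ0 g = 1 := by
  classical
  let b := Module.finBasis (ZMod p) M
  set n := finrank (ZMod p) M with hn
  let K := AlgebraicClosure (ZMod p)
  haveI : CharP K p := charP_of_injective_algebraMap (algebraMap (ZMod p) K).injective p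
  let Φ : Module.End (ZMod p) M →+* Module.End K (Fin n → K) :=
    ((Matrix.toLinAlgEquiv' (R := K) (n := Fin n)).toRingEquiv.toRingHom.comp
      (algebraMap (ZMod p) K).mapMatrix).comp
      (LinearMap.toMatrixAlgEquiv b).toRingEquiv.toRingHom
  have hΦ : ∀ (f : Module.End (ZMod p) M) (v : Fin n → K),
      Φ f v = ((LinearMap.toMatrixAlgEquiv b f).map (algebraMap (ZMod p) K)).mulVec v := fun f v => rfl
  have hΦinj : Function.Injective Φ :=
    ((Matrix.toLinAlgEquiv' (R := K) (n := Fin n)).injective.comp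
      (Matrix.map_injective (algebraMap (ZMod p) K).injective)).comp
      (LinearMap.toMatrixAlgEquiv b).injective
  have hn0 : 0 < n := Module.finrank_pos
  refine ⟨n, hn0, Φ.toMonoidHom.comp ρ0, ?_, fun g hg => ?_⟩
  · -- the line of fixed vectors
    let F := LinearMap.ker (ρ0 x - 1)
    have hF : finrank (ZMod p) F ≤ 1 := by
      have hcard : Nat.card F ≤ p := by
        refine le_of_eq_of_le (Nat.card_congr (Equiv.subtypeEquivRight fun v => ?_)) hfix
        show v ∈ LinearMap.ker _ ↔ _
        rw [LinearMap.mem_ker, LinearMap.sub_apply, Module.End.one_apply, sub_eq_zero]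
      rw [Module.natCard_eq_pow_finrank (K := ZMod p), Nat.card_zmod] at hcard
      exact (Nat.pow_le_pow_iff_right (Fact.out : p.Prime).one_lt).1 (by rwa [pow_one])
    obtain ⟨u0, hu0⟩ := finrank_le_one_iff.1 hF
    let S := ∑ i ∈ Finset.range (orderOf x), ρ0 (x ^ i)
    have hS : ∀ v, S v ∈ F := by
      intro v
      rw [LinearMap.mem_ker, LinearMap.sub_apply, Module.End.one_apply, sub_eq_zero]
      have h1 : S v = orbSum ρ0 x v := by
        simp [S, orbSum, LinearMap.sum_apply]
      rw [h1]
      exact apply_orbSum (ρ := ρ0) v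
    have hcol : ∀ j, ∃ c : ZMod p, S (b j) = c • (u0 : M) := fun j => by
      obtain ⟨c, hc⟩ := hu0 ⟨S (b j), hS _⟩
      exact ⟨c, (congrArg Subtype.val hc).symm⟩
    choose c hc using hcol
    refine ⟨fun i => algebraMap (ZMod p) K (b.repr (u0 : M) i), fun v hv => ?_⟩
    have hpow' : ∀ i : ℕ, Φ (ρ0 (x ^ i)) v = v := by
      intro i
      induction i with
      | zero => rw [pow_zero, map_one, map_one]; rfl
      | succ i ih =>
        rw [pow_succ', map_mul, map_mul, Module.End.mul_apply, ih]
        exact hv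
    have h1 : Φ S v = ((orderOf x : ℕ) : K) • v := by
      simp only [S, map_sum, LinearMap.sum_apply, hpow', Finset.sum_const, Finset.card_range,
        Nat.cast_smul_eq_nsmul]
    have h2 : Φ S v = (∑ j, algebraMap (ZMod p) K (c j) * v j) •
        (fun i => algebraMap (ZMod p) K (b.repr (u0 : M) i)) := by
      funext i
      rw [hΦ, Pi.smul_apply, smul_eq_mul, Finset.sum_mul]
      simp only [Matrix.mulVec, dotProduct, Matrix.map_apply, LinearMap.toMatrixAlgEquiv_apply, hc,
        map_smul, Finsupp.smul_apply, smul_eq_mul, map_mul]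
      exact Finset.sum_congr rfl fun j _ => by ring
    have hr : ((orderOf x : ℕ) : K) ≠ 0 := by rwa [ne_eq, CharP.cast_eq_zero_iff K p]
    rw [h1] at h2
    exact ⟨((orderOf x : ℕ) : K)⁻¹ * ∑ j, algebraMap (ZMod p) K (c j) * v j, by
      rw [mul_smul, ← h2, inv_smul_smul₀ hr]⟩
  · exact hΦinj (by rw [map_one]; exact hg)

/-- Conjugation on an elementary abelian normal subgroup gives a representation over `𝔽̄_p` in which
`x` still fixes at most a line. -/
theorem exists_closure_rep {G : Type*} [Group G] [Finite G] {p : ℕ} [Fact p.Prime] (V : Subgroup G)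
    [V.Normal] (hcomm : ∀ a ∈ V, ∀ b ∈ V, Commute a b) (hpow : ∀ v ∈ V, v ^ p = 1) (hV : V ≠ ⊥)
    (x : G) (hx : ¬ p ∣ orderOf x)
    (hfix : Nat.card ↥(V ⊓ Subgroup.centralizer ({x} : Set G)) ≤ p) :
    ∃ n : ℕ, 0 < n ∧ ∃ ρ : Representation (AlgebraicClosure (ZMod p)) G
        (Fin n → AlgebraicClosure (ZMod p)),
      FixLineAt ρ x ∧ ∀ g, ρ g = 1 → g ∈ Subgroup.centralizer (V : Set G) := by
  classical
  letI : CommGroup V :=
    { (inferInstance : Group V) with mul_comm := fun a b => Subtype.ext (hcomm a a.2 b b.2).eq }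
  -- opaque on purpose: only existence of the module structure matters
  have iM : Module (ZMod p) (Additive V) :=
    AddCommGroup.zmodModule (G := Additive V) (n := p) fun v =>
    show (Additive.toMul v) ^ p = 1 from Subtype.ext (by push_cast; exact hpow _ (Additive.toMul v).2)
  haveI : Finite (Additive V) := inferInstanceAs (Finite V)
  haveI : Nontrivial (Additive V) := (Subgroup.nontrivial_iff_ne_bot V).2 hV
  let φ : G → (Additive V →+ Additive V) := fun g =>
    { toFun := fun v => Additive.ofMul ⟨g * ((Additive.toMul v : V) : G) * g⁻¹,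
        Subgroup.Normal.conj_mem ‹V.Normal› _ (Additive.toMul v).2 g⟩
      map_zero' := Additive.toMul.injective (Subtype.ext (by simp))
      map_add' := fun v w => Additive.toMul.injective (Subtype.ext (by simp [mul_assoc])) }
  let ρ0 : Representation (ZMod p) G (Additive V) :=
    { toFun := fun g => (φ g).toZModLinearMap p
      map_one' := LinearMap.ext fun v => Additive.toMul.injective (Subtype.ext (by
        show (1 : G) * ((Additive.toMul v : V) : G) * (1 : G)⁻¹ = ((Additive.toMul v : V) : G)
        simp))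
      map_mul' := fun g h => LinearMap.ext fun v => Additive.toMul.injective (Subtype.ext (by
        show (g * h) * ((Additive.toMul v : V) : G) * (g * h)⁻¹ =
          g * (h * ((Additive.toMul v : V) : G) * h⁻¹) * g⁻¹
        group)) }
  obtain ⟨n, hn, ρ, hρ, hρf⟩ := exists_closure_rep_aux ρ0 x hx (by
    refine le_trans (Nat.card_le_card_of_injective (fun v => (⟨((Additive.toMul v.1 : V) : G),
      ⟨(Additive.toMul v.1).2, ?_⟩⟩ : ↥(V ⊓ Subgroup.centralizer ({x} : Set G)))) ?_) hfix
    · refine Subgroup.mem_centralizer_singleton_iff.2 ?_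
      have h1 : x * ((Additive.toMul v.1 : V) : G) * x⁻¹ = ((Additive.toMul v.1 : V) : G) :=
        congrArg (fun w => ((Additive.toMul w : V) : G)) v.2
      conv_lhs => rw [← h1]
      group
    · intro v w h
      exact Subtype.ext (Additive.toMul.injective (Subtype.ext (congrArg Subtype.val h :))))
  refine ⟨n, hn, ρ, hρ, fun g hg => Subgroup.mem_centralizer_iff.2 fun v hv => ?_⟩
  have h0 := hρf g hg
  have h1 : g * v * g⁻¹ = v := by
    have h2 := congrArg (fun f => ((Additive.toMul (f (Additive.ofMul (⟨v, hv⟩ : V))) : V) : G)) h0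
    exact h2
  conv_lhs => rw [← h1]
  group

/-- If `A` and `x` generate a Frobenius group on `M` and neither fixes a point, `M` is trivial. -/
theorem eq_one_of_frobenius {Γ M : Type*} [Group Γ] [Finite Γ] [CommGroup M] [Finite M]
    [MulDistribMulAction Γ M] (A : Subgroup Γ) (x : Γ) (hr : (orderOf x).Prime)
    (hxA : x ∈ Subgroup.normalizer (A : Set Γ)) (hfree : ∀ a ∈ A, Commute x a → a = 1)
    (hA : ∀ m : M, (∀ a ∈ A, a • m = m) → m = 1) (hx : ∀ m : M, x • m = m → m = 1)
    (hcop : (Nat.card A).Coprime (Nat.card M)) (m : M) : m = 1 := by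
  classical
  haveI : Fintype A := Fintype.ofFinite A
  have hnorm : ∀ v : M, ∏ i ∈ Finset.range (orderOf x), x ^ i • v = 1 := by
    intro v
    refine hx _ ?_
    rw [Finset.smul_prod']
    simp_rw [smul_smul, ← pow_succ']
    have h := Finset.prod_range_succ' (fun i => x ^ i • v) (orderOf x)
    rw [Finset.prod_range_succ, pow_orderOf_eq_one] at h
    simp only [pow_zero] at h
    exact (mul_right_cancel h).symm
  have hall : ∏ a : A, ∏ i ∈ Finset.range (orderOf x), ((a : Γ) * x ^ i * (a : Γ)⁻¹) • m = 1 := by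
    refine Finset.prod_eq_one fun a _ => ?_
    have : ∀ i : ℕ, ((a : Γ) * x ^ i * (a : Γ)⁻¹) • m = (a : Γ) • x ^ i • (a : Γ)⁻¹ • m := fun i => by
      rw [mul_smul, mul_smul]
    rw [Finset.prod_congr rfl (fun i _ => this i), ← Finset.smul_prod', hnorm, smul_one]
  rw [Finset.prod_comm, Finset.prod_eq_single 0] at hall
  · simp only [pow_zero, mul_one, mul_inv_cancel, one_smul, Finset.prod_const, Finset.card_univ] at hall
    rw [← Nat.card_eq_fintype_card] at hall
    exact orderOf_eq_one_iff.1 (Nat.eq_one_of_dvd_coprimes hcop (orderOf_dvd_of_pow_eq_one hall)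
      (orderOf_dvd_natCard m))
  · intro i hi hi0
    have hxi : x ^ i ∈ Subgroup.normalizer (A : Set Γ) := Subgroup.pow_mem _ hxA i
    let f : A → A := fun a => ⟨(a : Γ) * (x ^ i * (a : Γ)⁻¹ * (x ^ i)⁻¹),
      A.mul_mem a.2 ((Subgroup.mem_normalizer_iff.1 hxi _).1 (A.inv_mem a.2))⟩
    have hco : i.Coprime (orderOf x) :=
      ((Nat.Prime.coprime_iff_not_dvd hr).2 fun hd => by
        have := Nat.le_of_dvd (Nat.pos_of_ne_zero hi0) hd
        have := Finset.mem_range.1 hi
        omega).symm
    have hinj : Function.Injective f := by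
      intro a b hab
      have he : (a : Γ) * x ^ i * (a : Γ)⁻¹ = (b : Γ) * x ^ i * (b : Γ)⁻¹ := by
        have := congrArg (fun t : A => (t : Γ) * x ^ i) hab
        simpa [f, mul_assoc] using this
      have hc : Commute (x ^ i) ((b : Γ)⁻¹ * (a : Γ)) := by
        show x ^ i * _ = _ * x ^ i
        calc x ^ i * ((b : Γ)⁻¹ * (a : Γ)) = (b : Γ)⁻¹ * ((b : Γ) * x ^ i * (b : Γ)⁻¹) * (a : Γ) := by group
          _ = (b : Γ)⁻¹ * ((a : Γ) * x ^ i * (a : Γ)⁻¹) * (a : Γ) := by rw [he]
          _ = _ := by group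
      obtain ⟨k, hk⟩ := exists_pow_eq_self_of_coprime (x := x) hco
      have hcx : Commute x ((b : Γ)⁻¹ * (a : Γ)) := hk ▸ hc.pow_left k
      exact Subtype.ext (inv_mul_eq_one.1 (hfree _ (A.mul_mem (A.inv_mem b.2) a.2) hcx)).symm
    have hbij : Function.Bijective f := Finite.injective_iff_bijective.1 hinj
    have he : ∀ a : A, ((a : Γ) * x ^ i * (a : Γ)⁻¹) • m = ((f a : A) : Γ) • x ^ i • m := fun a => by
      rw [smul_smul]
      congr 1
      simp [f, mul_assoc]
    rw [Finset.prod_congr rfl (fun a _ => he a),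
      Fintype.prod_bijective f hbij _ (fun b : A => (b : Γ) • x ^ i • m) (fun a => rfl)]
    refine hA _ fun a ha => ?_
    rw [Finset.smul_prod']
    refine Fintype.prod_equiv (Equiv.mulLeft ⟨a, ha⟩) _ _ fun b => ?_
    rw [smul_smul]
    rfl
  · exact fun h => absurd (Finset.mem_range.2 hr.pos) h

end CfsgLib.OddOrder.FixLine
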