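import Cfsg.Agent.Lib.HallHigman.Nilpotent

/-!
Linear algebra for the extraspecial case of BG 3.6: fixed spaces of monomial group actions, the
commutant of an endomorphism of prime order, and the arithmetic of its multiplicities.
-/

set_option autoImplicit false
set_option linter.unusedSectionVars false
set_option linter.style.haveILetI false

namespace CfsgLib.OddOrder.FixLine

open Module CfsgLib.HallHigman

/-- `r Σ m² = N² + r - 1` forces all multiplicities but the first to be `2`. -/
theorem mult_case {r N : ℕ} (hr : 2 ≤ r) (hrodd : Odd r) (m : Fin r → ℕ) (i0 : Fin r)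
    (hm0 : m i0 ≤ 1) (hN : Odd N) (hN1 : N ≠ 1) (hsum : ∑ i, m i = N)
    (hsq : r * ∑ i, m i ^ 2 = N ^ 2 + (r - 1)) :
    m i0 = 1 ∧ (∀ i, i ≠ i0 → m i = 2) ∧ N + 1 = 2 * r := by
  classical
  haveI : Nonempty (Fin r) := ⟨i0⟩
  obtain ⟨A, -, hA⟩ := Finset.exists_min_image Finset.univ m Finset.univ_nonempty
  obtain ⟨B, -, hB⟩ := Finset.exists_max_image Finset.univ m Finset.univ_nonempty
  have hsqz : (r : ℤ) * ∑ i, (m i : ℤ) ^ 2 = (N : ℤ) ^ 2 + (r - 1) := by
    have := congrArg (fun t : ℕ => (t : ℤ)) hsq
    push_cast [Nat.cast_sub (by omega : 1 ≤ r)] at this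
    linarith
  have hsumz : ∑ i, (m i : ℤ) = N := by exact_mod_cast hsum
  have hdev : ∑ i, ((r : ℤ) * m i - N) ^ 2 = r * (r - 1) := by
    have : ∀ i, ((r : ℤ) * m i - N) ^ 2 = r ^ 2 * (m i : ℤ) ^ 2 - 2 * r * N * m i + (N : ℤ) ^ 2 :=
      fun i => by ring
    rw [Finset.sum_congr rfl (fun i _ => this i), Finset.sum_add_distrib, Finset.sum_sub_distrib,
      ← Finset.mul_sum, ← Finset.mul_sum, hsumz, Finset.sum_const, Finset.card_univ, Fintype.card_fin,
      nsmul_eq_mul]
    linear_combination (r : ℤ) * hsqz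
  have hgap : m B ≤ m A + 1 := by
    by_contra hlt
    have hne : A ≠ B := fun h => by rw [h] at hlt; omega
    have h2 : ((r : ℤ) * m A - N) ^ 2 + ((r : ℤ) * m B - N) ^ 2 ≤ r * (r - 1) := by
      rw [← hdev, ← Finset.sum_pair (f := fun i => ((r : ℤ) * m i - N) ^ 2) hne]
      exact Finset.sum_le_sum_of_subset_of_nonneg (Finset.subset_univ _) fun i _ _ => sq_nonneg _
    have h3 : (m A : ℤ) + 2 ≤ m B := by omega
    have hd : 2 * (r : ℤ) ≤ (r : ℤ) * m B - r * m A := by nlinarith
    nlinarith [sq_nonneg ((r : ℤ) * m A - N + ((r : ℤ) * m B - N))]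
  set a := m A with ha
  let S := Finset.univ.filter (fun i => m i = a + 1)
  have hval : ∀ i, m i = a + if i ∈ S then 1 else 0 := by
    intro i
    have h1 := hA i (Finset.mem_univ i)
    have h2 := hB i (Finset.mem_univ i)
    have hS : i ∈ S ↔ m i = a + 1 := by simp [S]
    by_cases hi : m i = a + 1
    · rw [if_pos (hS.2 hi)]; exact hi
    · rw [if_neg (fun h => hi (hS.1 h))]; omega
  have hs : (N : ℤ) = r * a + S.card := by
    rw [← hsumz, Finset.sum_congr rfl (fun i _ => by rw [hval i])]
    push_cast
    rw [Finset.sum_add_distrib, Finset.sum_boole, Finset.sum_const, Finset.card_univ,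
      Fintype.card_fin, nsmul_eq_mul, Finset.filter_univ_mem]
  have hq : ∑ i, (m i : ℤ) ^ 2 = r * (a : ℤ) ^ 2 + S.card * (2 * a + 1) := by
    have : ∀ i, (m i : ℤ) ^ 2 = (a : ℤ) ^ 2 + if i ∈ S then (2 * a + 1 : ℤ) else 0 := by
      intro i
      rw [hval i]
      split_ifs <;> push_cast <;> ring
    rw [Finset.sum_congr rfl (fun i _ => this i), Finset.sum_add_distrib, Finset.sum_const,
      Finset.card_univ, Fintype.card_fin, nsmul_eq_mul, ← Finset.sum_filter, Finset.filter_univ_mem,
      Finset.sum_const, nsmul_eq_mul]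
  have hprod : ((S.card : ℤ) - 1) * ((r : ℤ) - 1 - S.card) = 0 := by
    rw [hq, hs] at hsqz
    linear_combination hsqz
  have hNn : N = r * a + S.card := by exact_mod_cast hs
  have hi0S := hval i0
  rcases mul_eq_zero.1 hprod with h | h
  · -- one large value
    have hS1 : S.card = 1 := by omega
    have hS2 := hS1
    obtain ⟨j, hj⟩ := Finset.card_eq_one.1 hS1
    rw [hS2] at hNn
    by_cases hji : i0 = j
    · rw [if_pos (by rw [hj, hji]; exact Finset.mem_singleton_self j)] at hi0S
      exfalso
      have : a = 0 := by omega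
      rw [this] at hNn
      omega
    · rw [if_neg (by rw [hj, Finset.mem_singleton]; exact hji)] at hi0S
      exfalso
      rcases (show a = 0 ∨ a = 1 by omega) with h1 | h1
      · rw [h1] at hNn; omega
      · rw [h1, mul_one] at hNn
        exact (Nat.not_even_iff_odd.2 hN) (hNn ▸ hrodd.add_odd odd_one)
  · have hS1 : S.card + 1 = r := by omega
    obtain ⟨j, hj⟩ := Finset.card_eq_one.1 (show (Finset.univ \ S).card = 1 by
      rw [Finset.card_univ_diff, Fintype.card_fin]; omega)
    have hmem : ∀ i, i ∈ S ↔ i ≠ j := by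
      intro i
      have := Finset.ext_iff.1 hj i
      simp only [Finset.mem_sdiff, Finset.mem_univ, true_and, Finset.mem_singleton] at this
      constructor
      · intro h1 h2; exact this.2 h2 h1
      · intro h1; by_contra h2; exact h1 (this.1 h2)
    by_cases hji : i0 = j
    · rw [if_neg (by rw [hmem, not_not]; exact hji)] at hi0S
      rcases (show a = 0 ∨ a = 1 by omega) with h1 | h1
      · exfalso
        rw [h1, mul_zero, zero_add] at hNn
        exact (Nat.not_even_iff_odd.2 hrodd) (hS1 ▸ hNn ▸ hN.add_odd odd_one)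
      · refine ⟨by omega, fun i hi => ?_, by rw [hNn, h1]; omega⟩
        rw [hval i, if_pos ((hmem i).2 (hji ▸ hi)), h1]
    · rw [if_pos ((hmem i0).2 hji)] at hi0S
      exfalso
      have : a = 0 := by omega
      rw [this, mul_zero, zero_add] at hNn
      exact (Nat.not_even_iff_odd.2 hrodd) (hS1 ▸ hNn ▸ hN.add_odd odd_one)

section Monomial

variable {K M ι H : Type*} [Field K] [AddCommGroup M] [Module K M] [Group H] [MulAction H ι]

/-- The common fixed space of a family of endomorphisms. -/
def fixedSub (T : H → Module.End K M) : Submodule K M := ⨅ h, LinearMap.ker (T h - 1)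

theorem mem_fixedSub {T : H → Module.End K M} {m : M} : m ∈ fixedSub T ↔ ∀ h, T h m = m := by
  simp [fixedSub, Submodule.mem_iInf, LinearMap.mem_ker, sub_eq_zero]

theorem repr_smul_apply [Fintype ι] (b : Basis ι K M) (T : H → Module.End K M) {h : H} {i : ι}
    (μ : ι → K) (hT : ∀ j, T h (b j) = μ j • b (h • j)) (m : M) :
    b.repr (T h m) (h • i) = μ i * b.repr m i := by
  classical
  conv_lhs => rw [← b.sum_repr m]
  simp only [map_sum, map_smul, hT, Finsupp.coe_finset_sum, Finset.sum_apply, Finsupp.coe_smul,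
    Pi.smul_apply, b.repr_self, Finsupp.single_apply, smul_eq_mul, mul_ite, mul_one, mul_zero]
  rw [Finset.sum_eq_single i (fun j _ hj => if_neg fun he => hj (MulAction.injective h he))
    (fun hni => absurd (Finset.mem_univ i) hni), if_pos rfl, mul_comm]

theorem finrank_fixedSub_le [Fintype ι] (b : Basis ι K M) (T : H → Module.End K M)
    (hT : ∀ h j, ∃ μ : K, T h (b j) = μ • b (h • j)) :
    finrank K (fixedSub T) ≤ Nat.card (MulAction.orbitRel.Quotient H ι) := by
  classical
  choose μ hμ using hT
  let R := MulAction.orbitRel.Quotient H ι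
  haveI : Fintype R := Fintype.ofFinite R
  let Φ : fixedSub T →ₗ[K] (R → K) :=
    { toFun := fun m ω => b.repr (m : M) (Quotient.out ω)
      map_add' := fun m n => by funext ω; simp
      map_smul' := fun c m => by funext ω; simp }
  have hinj : Function.Injective Φ := by
    rw [← LinearMap.ker_eq_bot, LinearMap.ker_eq_bot']
    intro m hm
    refine Subtype.ext (b.repr.injective (Finsupp.ext fun i => ?_))
    obtain ⟨h, hh⟩ : i ∈ MulAction.orbit H (Quotient.out (⟦i⟧ : R)) :=
      MulAction.orbitRel_apply.1 (Quotient.exact (Quotient.out_eq (⟦i⟧ : R)).symm)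
    replace hh : h • Quotient.out (⟦i⟧ : R) = i := hh
    have h1 := repr_smul_apply b T (i := Quotient.out (⟦i⟧ : R)) (μ h) (hμ h) (m : M)
    have h2 : b.repr (m : M) (Quotient.out (⟦i⟧ : R)) = 0 := congrFun hm ⟦i⟧
    rw [hh, mem_fixedSub.1 m.2 h, h2, mul_zero] at h1
    simpa using h1
  haveI : Module.Finite K M := Module.Finite.of_basis b
  refine (LinearMap.finrank_le_finrank_of_injective hinj).trans ?_
  rw [Module.finrank_fintype_fun_eq_card, Nat.card_eq_fintype_card]

theorem finrank_fixedSub_eq [Fintype ι] [Fintype H] (b : Basis ι K M) (T : H → Module.End K M)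
    (hT : ∀ h j, ∃ μ : K, T h (b j) = μ • b (h • j)) (hmul : ∀ g h m, T (g * h) m = T g (T h m))
    (hstab : ∀ h j, h • j = j → T h (b j) = b j) (hH : ((Fintype.card H : ℕ) : K) ≠ 0) :
    finrank K (fixedSub T) = Nat.card (MulAction.orbitRel.Quotient H ι) := by
  classical
  refine le_antisymm (finrank_fixedSub_le b T hT) ?_
  let R := MulAction.orbitRel.Quotient H ι
  haveI : Fintype R := Fintype.ofFinite R
  haveI : Module.Finite K M := Module.Finite.of_basis b
  let e : R → fixedSub T := fun ω => ⟨∑ h, T h (b (Quotient.out ω)), mem_fixedSub.2 fun g => by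
    rw [map_sum]
    simp_rw [← hmul]
    exact Fintype.sum_equiv (Equiv.mulLeft g) _ _ fun h => rfl⟩
  have hli : LinearIndependent K e := by
    rw [Fintype.linearIndependent_iff]
    intro c hc ω
    have h1 := congrArg (fun m : fixedSub T => b.repr (m : M) (Quotient.out ω)) hc
    simp only [e, Submodule.coe_sum, Submodule.coe_smul, map_sum, map_smul, Finsupp.coe_finset_sum,
      Finset.sum_apply, Finsupp.coe_smul, Pi.smul_apply, smul_eq_mul, ZeroMemClass.coe_zero,
      map_zero, Finsupp.coe_zero, Pi.zero_apply] at h1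
    rw [Finset.sum_eq_single ω (fun ω' _ hne => ?_) (fun hni => absurd (Finset.mem_univ ω) hni)] at h1
    · refine (mul_eq_zero.1 h1).resolve_right ?_
      have hterm : ∀ h : H, b.repr (T h (b (Quotient.out ω))) (Quotient.out ω) =
          if h • Quotient.out ω = Quotient.out ω then 1 else 0 := by
        intro h
        by_cases hh : h • Quotient.out ω = Quotient.out ω
        · rw [if_pos hh, hstab h _ hh, b.repr_self, Finsupp.single_eq_same]
        · obtain ⟨μ, hμ⟩ := hT h (Quotient.out ω)
          rw [if_neg hh, hμ, map_smul, b.repr_self, Finsupp.smul_apply,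
            Finsupp.single_eq_of_ne (Ne.symm hh), smul_zero]
      rw [Finset.sum_congr rfl (fun h _ => hterm h), Finset.sum_boole]
      intro h0
      have hcard : Finset.card (Finset.univ.filter fun h : H => h • Quotient.out ω = Quotient.out ω) =
          Nat.card (MulAction.stabilizer H (Quotient.out ω)) := by
        rw [Nat.card_eq_fintype_card, Fintype.card_subtype]
        rfl
      rw [hcard] at h0
      obtain ⟨d, hd⟩ := (MulAction.stabilizer H (Quotient.out ω)).card_subgroup_dvd_card
      rw [← Nat.card_eq_fintype_card, hd, Nat.cast_mul, h0, zero_mul] at hH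
      exact hH rfl
    · rw [Finset.sum_eq_zero, mul_zero]
      intro h _
      obtain ⟨μ, hμ⟩ := hT h (Quotient.out ω')
      rw [hμ, map_smul, b.repr_self, Finsupp.smul_apply, Finsupp.single_eq_of_ne, smul_zero]
      intro he
      refine hne ?_
      have hm : Quotient.out ω ∈ MulAction.orbit H (Quotient.out ω') := ⟨h, he.symm⟩
      rw [← Quotient.out_eq ω, ← Quotient.out_eq ω']
      exact (Quotient.sound (MulAction.orbitRel_apply.2 hm)).symm
  rw [Nat.card_eq_fintype_card]
  exact hli.fintype_card_le_finrank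

end Monomial

section Eigen

variable {K W : Type*} [Field K] [AddCommGroup W] [Module K W]

theorem two_le_commutant [FiniteDimensional K W] (h2 : finrank K W = 2) (T : Module.End K W) :
    2 ≤ finrank K (commutant T) := by
  by_cases hs : ∃ c : K, T = c • (1 : Module.End K W)
  · obtain ⟨c, rfl⟩ := hs
    have : commutant (c • (1 : Module.End K W)) = ⊤ := by
      rw [eq_top_iff]
      intro f _
      rw [mem_commutant, mul_smul_comm, smul_mul_assoc, one_mul, mul_one]
    rw [this, finrank_top, Module.finrank_linearMap, h2]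
    norm_num
  · let v : Fin 2 → commutant T :=
      ![⟨1, by rw [mem_commutant, one_mul, mul_one]⟩, ⟨T, mem_commutant.2 rfl⟩]
    haveI : Nontrivial W := Module.nontrivial_of_finrank_eq_succ h2
    have hli : LinearIndependent K v := by
      rw [Fintype.linearIndependent_iff]
      intro g hg
      rw [Fin.sum_univ_two] at hg
      have h := congrArg Subtype.val hg
      simp only [v, Matrix.cons_val_zero, Matrix.cons_val_one, Submodule.coe_add, Submodule.coe_smul,
        ZeroMemClass.coe_zero] at h
      by_cases h1 : g 1 = 0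
      · rw [h1, zero_smul, add_zero, smul_eq_zero] at h
        intro i
        fin_cases i
        · exact h.resolve_right one_ne_zero
        · exact h1
      · refine absurd ⟨-((g 1)⁻¹ * g 0), ?_⟩ hs
        rw [neg_smul, mul_smul, ← smul_neg, ← eq_neg_of_add_eq_zero_right h, inv_smul_smul₀ h1]
    simpa using hli.fintype_card_le_finrank

/-- The eigenprojection for `μ` of an endomorphism of order dividing `r`. -/
noncomputable def eproj (f : Module.End K W) (r : ℕ) (μ : K) : Module.End K W :=
  (r : K)⁻¹ • ∑ i ∈ Finset.range r, (μ⁻¹ • f) ^ i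

theorem apply_eproj {f : Module.End K W} {r : ℕ} {μ : K} (hf : f ^ r = 1) (hμ0 : μ ≠ 0)
    (hμ : μ ^ r = 1) (w : W) : f (eproj f r μ w) = μ • eproj f r μ w := by
  have hg : (μ⁻¹ • f) ^ r = 1 := by rw [smul_pow, hf, inv_pow, hμ, inv_one, one_smul]
  have h1 : (μ⁻¹ • f) * eproj f r μ = eproj f r μ := by
    have h := mul_geom_sum (μ⁻¹ • f) r
    rw [hg, sub_self, sub_mul, one_mul, sub_eq_zero] at h
    rw [eproj, mul_smul_comm, h]
  have h2 := congrArg (fun g : Module.End K W => μ • g w) h1
  simpa [smul_smul, hμ0] using h2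

theorem eproj_of_eigen {f : Module.End K W} {r : ℕ} {μ ν : K} {w : W} (hw : f w = ν • w) :
    eproj f r μ w = ((r : K)⁻¹ * ∑ i ∈ Finset.range r, (μ⁻¹ * ν) ^ i) • w := by
  have : ∀ i : ℕ, ((μ⁻¹ • f) ^ i) w = (μ⁻¹ * ν) ^ i • w := by
    intro i
    induction i with
    | zero => simp
    | succ i ih =>
      rw [pow_succ', Module.End.mul_apply, ih, map_smul, LinearMap.smul_apply, hw, smul_smul,
        smul_smul, pow_succ]
      congr 1
      ring
  rw [eproj, LinearMap.smul_apply, LinearMap.sum_apply, Finset.sum_congr rfl (fun i _ => this i),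
    ← Finset.sum_smul, smul_smul]

variable {r : ℕ} {ω : K}

theorem geom_sum_root (hω : IsPrimitiveRoot ω r) {z : K} (hz : z ^ r = 1) [Decidable (z = 1)] :
    ∑ i ∈ Finset.range r, z ^ i = if z = 1 then (r : K) else 0 := by
  by_cases h : z = 1
  · subst h; simp
  · rw [if_neg h]
    have h2 := geom_sum_mul z r
    rw [hz, sub_self] at h2
    exact (mul_eq_zero.1 h2).resolve_right (sub_ne_zero.2 h)

theorem root_pow (hω : IsPrimitiveRoot ω r) (k : ℕ) : (ω ^ k) ^ r = 1 := by
  rw [← pow_mul, mul_comm, pow_mul, hω.pow_eq_one, one_pow]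

/-- The eigenspaces of `f` at the powers of `ω`. -/
def espace (f : Module.End K W) (ω : K) (k : Fin r) : Submodule K W :=
  Module.End.eigenspace f (ω ^ (k : ℕ))

theorem eproj_eigen_eq (hω : IsPrimitiveRoot ω r) (hrK : (r : K) ≠ 0) {f : Module.End K W}
    (j k : Fin r) {w : W} (hw : w ∈ espace f ω j) :
    eproj f r (ω ^ (k : ℕ)) w = if j = k then w else 0 := by
  classical
  have h0 : ω ^ (k : ℕ) ≠ 0 := pow_ne_zero _ (hω.ne_zero (by have := k.2; omega))
  rw [eproj_of_eigen (Module.End.mem_eigenspace_iff.1 hw),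
    geom_sum_root hω (by rw [mul_pow, inv_pow, root_pow hω, root_pow hω, inv_one, one_mul])]
  by_cases hjk : j = k
  · subst hjk
    rw [if_pos (inv_mul_cancel₀ h0), if_pos rfl, inv_mul_cancel₀ hrK, one_smul]
  · have hne : (ω ^ (k : ℕ))⁻¹ * ω ^ (j : ℕ) ≠ 1 := by
      rw [ne_eq, inv_mul_eq_one₀ h0]
      exact fun h => hjk (Fin.ext (hω.pow_inj k.2 j.2 h).symm)
    rw [if_neg hne, if_neg hjk, mul_zero, zero_smul]

theorem sum_eproj (hω : IsPrimitiveRoot ω r) (hrK : (r : K) ≠ 0) (f : Module.End K W) (w : W) :
    ∑ k : Fin r, eproj f r (ω ^ (k : ℕ)) w = w := by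
  classical
  have hr0 : 0 < r := Nat.pos_of_ne_zero (fun h => hrK (by rw [h, Nat.cast_zero]))
  have hcoef : ∀ i ∈ Finset.range r, ∑ k : Fin r, ((ω ^ (k : ℕ))⁻¹) ^ i = if i = 0 then (r : K) else 0 := by
    intro i hi
    have : ∀ k : Fin r, ((ω ^ (k : ℕ))⁻¹) ^ i = ((ω ^ i)⁻¹) ^ (k : ℕ) := fun k => by
      rw [inv_pow, inv_pow, ← pow_mul, ← pow_mul, mul_comm]
    rw [Finset.sum_congr rfl (fun k _ => this k), Fin.sum_univ_eq_sum_range (fun k => ((ω ^ i)⁻¹) ^ k),
      geom_sum_root hω (by rw [inv_pow, root_pow hω, inv_one])]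
    refine if_congr ?_ rfl rfl
    rw [inv_eq_one]
    constructor
    · intro h
      by_contra hi0
      exact hω.pow_ne_one_of_pos_of_lt hi0 (Finset.mem_range.1 hi) h
    · rintro rfl; exact pow_zero ω
  simp only [eproj, LinearMap.smul_apply, LinearMap.sum_apply, smul_pow]
  rw [← Finset.smul_sum, Finset.sum_comm, Finset.sum_congr rfl (fun i hi => by
    rw [← Finset.sum_smul, hcoef i hi]), Finset.sum_eq_single 0 (fun i _ hi => by simp [hi])
    (fun h => absurd (Finset.mem_range.2 hr0) h), if_pos rfl, pow_zero, Module.End.one_apply,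
    inv_smul_smul₀ hrK]

/-- The projection to an eigenspace. -/
noncomputable def eprojK (f : Module.End K W) (hω : IsPrimitiveRoot ω r) (hf : f ^ r = 1)
    (k : Fin r) : W →ₗ[K] espace f ω k :=
  LinearMap.codRestrict (espace f ω k) (eproj f r (ω ^ (k : ℕ))) fun w =>
    Module.End.mem_eigenspace_iff.2
      (apply_eproj hf (pow_ne_zero _ (hω.ne_zero (by have := k.2; omega))) (root_pow hω _) w)

theorem coe_eprojK (f : Module.End K W) (hω : IsPrimitiveRoot ω r) (hf : f ^ r = 1) (k : Fin r)
    (w : W) : (eprojK f hω hf k w : W) = eproj f r (ω ^ (k : ℕ)) w := rfl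

/-- `W` as the product of the eigenspaces. -/
noncomputable def espaceEquiv (f : Module.End K W) (hω : IsPrimitiveRoot ω r) (hrK : (r : K) ≠ 0)
    (hf : f ^ r = 1) : W ≃ₗ[K] Π k : Fin r, espace f ω k where
  toFun w k := eprojK f hω hf k w
  map_add' v w := by funext k; exact map_add _ v w
  map_smul' c w := by funext k; exact map_smul _ c w
  invFun g := ∑ k, (g k : W)
  left_inv w := by simp only [coe_eprojK]; exact sum_eproj hω hrK f w
  right_inv g := by
    classical
    funext k
    refine Subtype.ext ?_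
    rw [coe_eprojK, map_sum, Finset.sum_congr rfl (fun j _ => eproj_eigen_eq hω hrK j k (g j).2),
      Finset.sum_ite_eq' Finset.univ k, if_pos (Finset.mem_univ k)]

theorem sum_finrank_espace [FiniteDimensional K W] (f : Module.End K W) (hω : IsPrimitiveRoot ω r)
    (hrK : (r : K) ≠ 0) (hf : f ^ r = 1) :
    ∑ k : Fin r, finrank K (espace f ω k) = finrank K W := by
  rw [(espaceEquiv f hω hrK hf).finrank_eq, Module.finrank_pi_fintype]

theorem mem_espace_of_commute {f g : Module.End K W} (h : g * f = f * g) {k : Fin r} {w : W}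
    (hw : w ∈ espace f ω k) : g w ∈ espace f ω k := by
  refine Module.End.mem_eigenspace_iff.2 ?_
  rw [← Module.End.mul_apply, ← h, Module.End.mul_apply, Module.End.mem_eigenspace_iff.1 hw, map_smul]

/-- The block-diagonal endomorphism with given blocks. -/
noncomputable def blockMap (f : Module.End K W) (hω : IsPrimitiveRoot ω r)
    (hf : f ^ r = 1) : (Π k : Fin r, Module.End K (espace f ω k)) →ₗ[K] Module.End K W where
  toFun g := ∑ k, (espace f ω k).subtype ∘ₗ (g k) ∘ₗ eprojK f hω hf k
  map_add' g h := by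
    simp only [Pi.add_apply, LinearMap.add_comp, LinearMap.comp_add, Finset.sum_add_distrib]
  map_smul' c g := by
    simp only [Pi.smul_apply, LinearMap.smul_comp, LinearMap.comp_smul, RingHom.id_apply,
      Finset.smul_sum]

theorem blockMap_apply (f : Module.End K W) (hω : IsPrimitiveRoot ω r) (hrK : (r : K) ≠ 0)
    (hf : f ^ r = 1) (g : Π k : Fin r, Module.End K (espace f ω k)) (k : Fin r) (w : espace f ω k) :
    blockMap f hω hf g (w : W) = (g k w : W) := by
  classical
  show (∑ j, (espace f ω j).subtype ∘ₗ (g j) ∘ₗ eprojK f hω hf j) (w : W) = _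
  rw [LinearMap.sum_apply, Finset.sum_eq_single k]
  · have he : eprojK f hω hf k (w : W) = w :=
      Subtype.ext (by rw [coe_eprojK, eproj_eigen_eq hω hrK k k w.2, if_pos rfl])
    simp [he]
  · intro j _ hj
    have he : eprojK f hω hf j (w : W) = 0 :=
      Subtype.ext (by rw [coe_eprojK, eproj_eigen_eq hω hrK k j w.2, if_neg (Ne.symm hj)]; rfl)
    simp [he]
  · exact fun h => absurd (Finset.mem_univ k) h

theorem eq_of_espace (f : Module.End K W) (hω : IsPrimitiveRoot ω r) (hrK : (r : K) ≠ 0)
    (hf : f ^ r = 1) {g h : Module.End K W} (he : ∀ k : Fin r, ∀ w ∈ espace f ω k, g w = h w) :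
    g = h := by
  ext w
  rw [← sum_eproj hω hrK f w, map_sum, map_sum]
  exact Finset.sum_congr rfl fun k _ => he k _ (Module.End.mem_eigenspace_iff.2
    (apply_eproj hf (pow_ne_zero _ (hω.ne_zero (by have := k.2; omega))) (root_pow hω _) w))

theorem blockMap_mem_commutant (f : Module.End K W) (hω : IsPrimitiveRoot ω r) (hrK : (r : K) ≠ 0)
    (hf : f ^ r = 1) (g : Π k : Fin r, Module.End K (espace f ω k)) :
    blockMap f hω hf g ∈ commutant f :=
  mem_commutant.2 (eq_of_espace f hω hrK hf fun k w hw => by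
    rw [Module.End.mul_apply, Module.End.mul_apply, Module.End.mem_eigenspace_iff.1 hw, map_smul,
      show blockMap f hω hf g w = _ from blockMap_apply f hω hrK hf g k ⟨w, hw⟩,
      Module.End.mem_eigenspace_iff.1 (g k ⟨w, hw⟩).2])

/-- The commutant of `f` is the algebra of block-diagonal endomorphisms. -/
noncomputable def commutantEquiv (f : Module.End K W) (hω : IsPrimitiveRoot ω r) (hrK : (r : K) ≠ 0)
    (hf : f ^ r = 1) : commutant f ≃ₗ[K] Π k : Fin r, Module.End K (espace f ω k) where
  toFun g k := (g : Module.End K W).restrict fun w hw => mem_espace_of_commute (mem_commutant.1 g.2) hw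
  map_add' g h := by funext k; ext w; rfl
  map_smul' c g := by funext k; ext w; rfl
  invFun g := ⟨blockMap f hω hf g, blockMap_mem_commutant f hω hrK hf g⟩
  left_inv g := Subtype.ext (eq_of_espace f hω hrK hf fun k w hw =>
    blockMap_apply f hω hrK hf _ k ⟨w, hw⟩)
  right_inv g := by
    funext k
    ext w
    exact blockMap_apply f hω hrK hf g k w

theorem finrank_commutant_eq [FiniteDimensional K W] (f : Module.End K W)
    (hω : IsPrimitiveRoot ω r) (hrK : (r : K) ≠ 0) (hf : f ^ r = 1) :
    finrank K (commutant f) = ∑ k : Fin r, finrank K (espace f ω k) ^ 2 := by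
  rw [(commutantEquiv f hω hrK hf).finrank_eq, Module.finrank_pi_fintype]
  exact Finset.sum_congr rfl fun k _ => by rw [Module.finrank_linearMap, sq]

/-- With eigenspace dimensions `1, 2, …, 2`, two commuting maps have a big common commutant. -/
theorem finrank_commutant_inf_ge [FiniteDimensional K W] (f g : Module.End K W)
    (hω : IsPrimitiveRoot ω r) (hrK : (r : K) ≠ 0) (hf : f ^ r = 1) (hfg : g * f = f * g)
    (i0 : Fin r) (h0 : finrank K (espace f ω i0) = 1)
    (h2 : ∀ k : Fin r, k ≠ i0 → finrank K (espace f ω k) = 2) :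
    finrank K W ≤ finrank K ↥(commutant f ⊓ commutant g) := by
  classical
  let C : (k : Fin r) → Submodule K (Module.End K (espace f ω k)) := fun k =>
    commutant (g.restrict fun w hw => mem_espace_of_commute hfg hw)
  let Φ : (Π k, C k) →ₗ[K] ↥(commutant f ⊓ commutant g) :=
    LinearMap.codRestrict _ ((blockMap f hω hf) ∘ₗ
      LinearMap.pi fun k => (C k).subtype ∘ₗ LinearMap.proj k) fun φ => by
      refine ⟨blockMap_mem_commutant f hω hrK hf fun k => (φ k : Module.End K _),
        mem_commutant.2 (eq_of_espace f hω hrK hf fun k w hw => ?_)⟩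
      have hk := mem_commutant.1 (φ k).2
      have h := congrArg (fun T : Module.End K (espace f ω k) => ((T ⟨w, hw⟩ : espace f ω k) : W)) hk
      simp only [Module.End.mul_apply] at h
      show blockMap f hω hf (fun k => (φ k : Module.End K _)) (g w) =
        g (blockMap f hω hf (fun k => (φ k : Module.End K _)) w)
      rw [show blockMap f hω hf (fun k => (φ k : Module.End K _)) w = _ from
          blockMap_apply f hω hrK hf (fun k => (φ k : Module.End K _)) k ⟨w, hw⟩,
        show blockMap f hω hf (fun k => (φ k : Module.End K _)) (g w) = _ from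
          blockMap_apply f hω hrK hf (fun k => (φ k : Module.End K _)) k ⟨g w, mem_espace_of_commute hfg hw⟩]
      exact h
  have hinj : Function.Injective Φ := by
    intro φ ψ he
    funext k
    refine Subtype.ext (LinearMap.ext fun w => Subtype.ext ?_)
    have h := congrArg (fun T : ↥(commutant f ⊓ commutant g) => (T : Module.End K W) (w : W)) he
    rw [← blockMap_apply f hω hrK hf (fun k => (φ k : Module.End K _)) k w,
      ← blockMap_apply f hω hrK hf (fun k => (ψ k : Module.End K _)) k w]
    exact h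
  refine le_trans ?_ (LinearMap.finrank_le_finrank_of_injective hinj)
  haveI : ∀ i, Module.Free K (C i) := fun i => @Module.Free.of_divisionRing K ↥(C i) _ (C i).addCommGroup _
  rw [Module.finrank_pi_fintype, ← sum_finrank_espace f hω hrK hf]
  refine Finset.sum_le_sum fun k _ => ?_
  by_cases hk : k = i0
  · subst hk
    rw [h0]
    haveI : Nontrivial (espace f ω k) := Module.nontrivial_of_finrank_eq_succ h0
    exact Submodule.one_le_finrank_iff.2 ((Submodule.ne_bot_iff _).2
      ⟨1, mem_commutant.2 (by rw [one_mul, mul_one]), one_ne_zero⟩)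
  · rw [h2 k hk]
    exact two_le_commutant (h2 k hk) _

end Eigen

end CfsgLib.OddOrder.FixLine
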