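import Cfsg.Agent.Lib.OddOrder.FixLineRep
import Cfsg.Agent.Lib.OddOrder.FixLineLinear
import Cfsg.Agent.Lib.HallHigman.TheoremB

/-!
BG 3.6, the extraspecial case: commuting elements `x` of order `r` and `a` of order `p` cannot act on
a `q`-group of symplectic type as required when `x` fixes at most a line.
-/

set_option autoImplicit false
set_option linter.unusedSectionVars false
set_option linter.style.haveILetI false

namespace CfsgLib.OddOrder.FixLine

open Module CfsgLib.HallHigman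
open scoped commutatorElement

section Act

variable {Γ : Type*} [Group Γ]

/-- The index set: cosets of `Z` in `Q`. -/
abbrev IQ (Q Z : Subgroup Γ) : Type _ := ↥Q ⧸ Z.subgroupOf Q

/-- Elements normalising `Q` and centralising `Z`. -/
def NC (Q Z : Subgroup Γ) : Subgroup Γ :=
  Subgroup.normalizer (Q : Set Γ) ⊓ Subgroup.centralizer (Z : Set Γ)

variable {Q Z : Subgroup Γ}

/-- The class of an element of `Q`. -/
def iq (Z : Subgroup Γ) {g : Γ} (hg : g ∈ Q) : IQ Q Z := QuotientGroup.mk (⟨g, hg⟩ : Q)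

theorem iq_eq_iff {a b : Γ} (ha : a ∈ Q) (hb : b ∈ Q) : iq Z ha = iq Z hb ↔ a⁻¹ * b ∈ Z := by
  rw [iq, iq, QuotientGroup.eq, Subgroup.mem_subgroupOf]
  rfl

/-- The chosen representative. -/
noncomputable def rout (v : IQ Q Z) : Γ := ((Quotient.out v : Q) : Γ)

theorem rout_mem (v : IQ Q Z) : rout v ∈ Q := (Quotient.out v : Q).2

theorem iq_out (v : IQ Q Z) : iq Z (rout_mem v) = v := QuotientGroup.out_eq' v

theorem conj_mem_of_nc (h : NC Q Z) {g : Γ} (hg : g ∈ Q) : (h : Γ) * g * (h : Γ)⁻¹ ∈ Q :=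
  (Subgroup.mem_normalizer_iff.1 h.2.1 g).1 hg

theorem conj_diff_mem (h : NC Q Z) {a b : Γ} (hab : a⁻¹ * b ∈ Z) :
    ((h : Γ) * a * (h : Γ)⁻¹)⁻¹ * ((h : Γ) * b * (h : Γ)⁻¹) ∈ Z := by
  have hc := Subgroup.mem_centralizer_iff.1 h.2.2 _ hab
  rw [show ((h : Γ) * a * (h : Γ)⁻¹)⁻¹ * ((h : Γ) * b * (h : Γ)⁻¹) =
    (h : Γ) * (a⁻¹ * b) * (h : Γ)⁻¹ by group, ← hc, mul_inv_cancel_right]
  exact hab

/-- Conjugation on cosets. -/
noncomputable def qsmul (h : NC Q Z) (v : IQ Q Z) : IQ Q Z := iq Z (conj_mem_of_nc h (rout_mem v))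

noncomputable instance instActIQ : MulAction (NC Q Z) (IQ Q Z) where
  smul := qsmul
  one_smul v := by
    conv_rhs => rw [← iq_out v]
    show iq Z _ = iq Z _
    simp
  mul_smul g h v := by
    show qsmul (g * h) v = qsmul g (qsmul h v)
    unfold qsmul
    rw [iq_eq_iff]
    have h1 := (iq_eq_iff (conj_mem_of_nc h (rout_mem v))
      (rout_mem (iq Z (conj_mem_of_nc h (rout_mem v))))).1 (iq_out _).symm
    have h2 := conj_diff_mem g h1
    simp only [Subgroup.coe_mul, mul_inv_rev, inv_inv, mul_assoc, inv_mul_cancel_left] at h2 ⊢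
    exact h2

theorem smul_iq (h : NC Q Z) {g : Γ} (hg : g ∈ Q) : h • iq Z hg = iq Z (conj_mem_of_nc h hg) := by
  show iq Z _ = iq Z _
  rw [iq_eq_iff]
  exact conj_diff_mem h ((iq_eq_iff (rout_mem _) hg).1 (iq_out _))

theorem smul_eq_of_pow {v : IQ Q Z} {g : NC Q Z} (hv : g • v = v) (k : ℕ) : g ^ k • v = v := by
  induction k with
  | zero => rw [pow_zero, one_smul]
  | succ k ih => rw [pow_succ, mul_smul, hv, ih]

/-- A coprime power determines the fixed points. -/
theorem smul_eq_of_coprime_pow {v : IQ Q Z} {g : NC Q Z} {k : ℕ} (hk : k.Coprime (orderOf g))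
    (hv : g ^ k • v = v) : g • v = v := by
  obtain ⟨m, hm⟩ := exists_pow_eq_self_of_coprime (x := g) hk
  conv_lhs => rw [← hm]
  exact smul_eq_of_pow hv m

end Act

variable {K E Γ : Type*} [Field K] [AddCommGroup E] [Module K E] [Group Γ]

/-- A `q`-group of symplectic type over `Z`, acting with `Z` scalar. -/
structure Heis (ρ : Representation K Γ E) (q : ℕ) (Q Z : Subgroup Γ) : Prop where
  hq : q.Prime
  qodd : Odd q
  le : Z ≤ Q
  qgroup : IsPGroup q Q
  comm : ∀ g ∈ Q, ∀ h ∈ Q, ⁅g, h⁆ ∈ Z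
  cent : ∀ z ∈ Z, ∀ g ∈ Q, Commute z g
  nondeg : ∀ g ∈ Q, (∀ h ∈ Q, Commute g h) → g ∈ Z
  scalar : ∀ z ∈ Z, ∃ c : K, ρ z = c • (1 : Module.End K E)
  faith : ∀ z ∈ Z, ρ z = 1 → z = 1
  big : ∃ g ∈ Q, g ∉ Z

/-- Such a group with an element of odd prime order fixing at most a line. -/
structure HeisX (ρ : Representation K Γ E) (q : ℕ) (Q Z : Subgroup Γ) (x : Γ) : Prop
    extends Heis ρ q Q Z where
  rprime : (orderOf x).Prime
  rodd : Odd (orderOf x)
  rK : ((orderOf x : ℕ) : K) ≠ 0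
  xQ : x ∈ Subgroup.normalizer (Q : Set Γ)
  xZ : ∀ z ∈ Z, Commute x z
  free : ∀ g ∈ Q, ⁅x, g⁆ ∈ Z → g ∈ Z
  fix : FixLineAt ρ x

variable {ρ : Representation K Γ E} {q : ℕ} {Q Z : Subgroup Γ} {x a : Γ}

theorem HeisX.mem_NC (h : HeisX ρ q Q Z x) : x ∈ NC Q Z :=
  ⟨h.xQ, Subgroup.mem_centralizer_iff.2 fun z hz => (h.xZ z hz).eq.symm⟩

/-- The chosen lift. -/
noncomputable def tvec (ρ : Representation K Γ E) (v : IQ Q Z) : Module.End K E :=
  ρ (rout v)

theorem Heis.exists_rep_eq (h : Heis ρ q Q Z) {g : Γ} (hg : g ∈ Q) :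
    ∃ c : K, ρ g = c • tvec ρ (iq Z hg) := by
  have h1 : (rout (iq Z hg))⁻¹ * g ∈ Z :=
    (iq_eq_iff (rout_mem _) hg).1 (iq_out _)
  obtain ⟨c, hc⟩ := h.scalar _ h1
  refine ⟨c, ?_⟩
  conv_lhs => rw [← mul_inv_cancel_left (rout (iq Z hg)) g]
  rw [map_mul, hc, mul_smul_comm, mul_one]
  rfl

theorem Heis.exists_conj_eq (h : Heis ρ q Q Z) (y : NC Q Z) (v : IQ Q Z) :
    ∃ c : K, ρ (y : Γ) * tvec ρ v * ρ (y : Γ)⁻¹ = c • tvec ρ (y • v) := by
  obtain ⟨c, hc⟩ := h.exists_rep_eq (conj_mem_of_nc y (rout_mem v))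
  refine ⟨c, ?_⟩
  rw [tvec, ← map_mul, ← map_mul, hc]
  rfl

theorem Heis.span_range_tvec (h : Heis ρ q Q Z) :
    Submodule.span K (Set.range (tvec ρ : IQ Q Z → Module.End K E)) =
      Submodule.span K (ρ '' (Q : Set Γ)) := by
  refine le_antisymm (Submodule.span_mono ?_) (Submodule.span_le.2 ?_)
  · rintro _ ⟨v, rfl⟩
    exact ⟨_, (rout_mem v), rfl⟩
  · rintro _ ⟨g, hg, rfl⟩
    obtain ⟨c, hc⟩ := h.exists_rep_eq hg
    rw [hc]
    exact Submodule.smul_mem _ c (Submodule.subset_span ⟨_, rfl⟩)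

theorem Heis.scalar_inj (h : Heis ρ q Q Z) {z w : Γ} (hz : z ∈ Z) (hw : w ∈ Z) (he : ρ z = ρ w) :
    z = w := by
  refine mul_inv_eq_one.1 (h.faith _ (Z.mul_mem hz (Z.inv_mem hw)) ?_)
  rw [map_mul, he, ← map_mul, mul_inv_cancel, map_one]

/-- The lifts stay independent on every nonzero invariant subspace. -/
theorem Heis.indep_on [Finite Γ] (h : Heis ρ q Q Z) [Fintype (IQ Q Z)] (U : Submodule K E)
    (hU : U ≠ ⊥) (hinv : ∀ g ∈ Q, ∀ u ∈ U, ρ g u ∈ U) (c : IQ Q Z → K)
    (hc : ∀ u ∈ U, (∑ v, c v • tvec ρ v) u = 0) : ∀ v, c v = 0 := by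
  classical
  obtain ⟨u0, hu0, hu00⟩ := (Submodule.ne_bot_iff _).1 hU
  have hsc : ∀ (g : Q) (v : IQ Q Z), ∃ d : K,
      ρ ⁅(g : Γ), (rout v)⁆ = d • (1 : Module.End K E) := fun g v =>
    h.scalar _ (h.comm _ g.2 _ (rout_mem v))
  choose μ hμ using hsc
  let T : Q → Module.End K (U →ₗ[K] E) := fun g =>
    { toFun := fun φ => (ρ (g : Γ)) ∘ₗ φ ∘ₗ ((ρ (g : Γ)⁻¹).restrict (hinv _ (Q.inv_mem g.2)))
      map_add' := fun φ ψ => by simp [LinearMap.comp_add, LinearMap.add_comp]
      map_smul' := fun d φ => by simp [LinearMap.comp_smul, LinearMap.smul_comp] }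
  have key := weight_indep T (fun v g => μ g v) (fun v w hvw => ?_) Finset.univ
    (fun v => c v • (tvec ρ v ∘ₗ U.subtype)) (fun v _ g => ?_) (by
      refine LinearMap.ext fun u => ?_
      have := hc u u.2
      simpa [LinearMap.sum_apply] using this)
  · intro v
    have h1 := congrArg (fun φ : U →ₗ[K] E => φ ⟨u0, hu0⟩) (key v (Finset.mem_univ v))
    simp only [LinearMap.smul_apply, LinearMap.comp_apply, Submodule.subtype_apply,
      LinearMap.zero_apply, smul_eq_zero] at h1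
    exact h1.resolve_right fun h0 => hu00 (rep_apply_eq_zero h0)
  · by_contra hall
    push Not at hall
    set a := (rout v) with ha
    set b := (rout w) with hb
    refine hvw ?_
    rw [← iq_out v, ← iq_out w, iq_eq_iff]
    refine h.nondeg _ (Q.mul_mem (Q.inv_mem (rout_mem v)) (rout_mem w)) fun g hg => ?_
    have he : ⁅g, a⁆ = ⁅g, b⁆ := h.scalar_inj (h.comm _ hg _ (rout_mem v))
      (h.comm _ hg _ (rout_mem w)) (by rw [hμ ⟨g, hg⟩ v, hμ ⟨g, hg⟩ w, hall ⟨g, hg⟩])
    have hz := h.cent _ (h.comm _ hg _ (rout_mem w)) a⁻¹ (Q.inv_mem (rout_mem v))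
    rw [commutatorElement_def, commutatorElement_def] at he
    rw [commutatorElement_def] at hz
    show a⁻¹ * b * g = g * (a⁻¹ * b)
    have e1 : g * (a⁻¹ * b) * g⁻¹ = a⁻¹ * b := by
      calc g * (a⁻¹ * b) * g⁻¹
          = a⁻¹ * (g * a * g⁻¹ * a⁻¹)⁻¹ * (g * b * g⁻¹ * b⁻¹) * b := by group
        _ = a⁻¹ * b := by rw [he, inv_mul_cancel_right]
    conv_lhs => rw [← e1]
    group
  · show (ρ (g : Γ)) ∘ₗ (c v • (tvec ρ v ∘ₗ U.subtype)) ∘ₗ _ = μ g v • (c v • (tvec ρ v ∘ₗ U.subtype))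
    refine LinearMap.ext fun u => ?_
    simp only [LinearMap.comp_apply, LinearMap.smul_apply, map_smul, Submodule.subtype_apply,
      LinearMap.restrict_coe_apply, tvec]
    rw [smul_comm (μ g v) (c v)]
    congr 1
    have h1 := congrArg (fun f : Module.End K E => f (ρ (rout v) (u : E))) (hμ g v)
    simp only [LinearMap.smul_apply, Module.End.one_apply] at h1
    rw [← h1, ← rep_mul_apply, ← rep_mul_apply, ← rep_mul_apply]
    congr 2
    rw [commutatorElement_def]
    group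

variable [Finite Γ] [FiniteDimensional K E]

theorem Heis.linearIndependent_tvec [Nontrivial E] (h : Heis ρ q Q Z) :
    LinearIndependent K (tvec ρ : IQ Q Z → Module.End K E) := by
  classical
  haveI : Fintype (IQ Q Z) := Fintype.ofFinite _
  rw [Fintype.linearIndependent_iff]
  intro c hc
  exact h.indep_on ⊤ top_ne_bot (fun _ _ _ _ => Submodule.mem_top) c (fun u _ => by rw [hc]; rfl)

theorem Heis.card_IQ [Nontrivial E] (h : Heis ρ q Q Z)
    (hspan : Submodule.span K (ρ '' (Q : Set Γ)) = ⊤) :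
    Nat.card (IQ Q Z) = finrank K E ^ 2 := by
  classical
  haveI : Fintype (IQ Q Z) := Fintype.ofFinite _
  rw [Nat.card_eq_fintype_card, ← finrank_span_eq_card h.linearIndependent_tvec, h.span_range_tvec,
    hspan, finrank_top, Module.finrank_linearMap, sq]

theorem Heis.card_IQ_pow (h : Heis ρ q Q Z) : ∃ k, 1 ≤ k ∧ Nat.card (IQ Q Z) = q ^ k := by
  haveI := Fact.mk h.hq
  obtain ⟨n, hn⟩ := h.qgroup.exists_card_eq
  have hd : Nat.card (IQ Q Z) ∣ q ^ n := hn ▸ (Z.subgroupOf Q).index_dvd_card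
  obtain ⟨k, -, hk⟩ := (Nat.dvd_prime_pow h.hq).1 hd
  refine ⟨k, Nat.one_le_iff_ne_zero.2 fun h0 => ?_, hk⟩
  obtain ⟨g, hg, hgZ⟩ := h.big
  rw [h0, pow_zero] at hk
  haveI : Subsingleton (IQ Q Z) := (Nat.card_eq_one_iff_unique.1 hk).1
  have := (iq_eq_iff Q.one_mem hg).1 (Subsingleton.elim (iq Z Q.one_mem) (iq Z hg))
  exact hgZ (by simpa using this)

theorem Heis.finrank_odd [Nontrivial E] (h : Heis ρ q Q Z)
    (hspan : Submodule.span K (ρ '' (Q : Set Γ)) = ⊤) : Odd (finrank K E) ∧ finrank K E ≠ 1 := by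
  obtain ⟨k, hk1, hk⟩ := h.card_IQ_pow
  rw [h.card_IQ hspan] at hk
  refine ⟨?_, fun h1 => ?_⟩
  · have := h.qodd.pow (n := k)
    rw [← hk] at this
    exact (Nat.odd_pow_iff two_ne_zero).1 this
  · rw [h1, one_pow] at hk
    exact absurd hk.symm (Nat.one_lt_pow (by omega) h.hq.one_lt).ne'

/-- Conjugation on endomorphisms. -/
def conjT (ρ : Representation K Γ E) (H : Subgroup (NC Q Z)) (y : H) :
    Module.End K (Module.End K E) :=
  LinearMap.mulLeft K (ρ ((y : NC Q Z) : Γ)) ∘ₗ LinearMap.mulRight K (ρ ((y : NC Q Z) : Γ)⁻¹)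

theorem conjT_apply (H : Subgroup (NC Q Z)) (y : H) (f : Module.End K E) :
    conjT ρ H y f = ρ ((y : NC Q Z) : Γ) * f * ρ ((y : NC Q Z) : Γ)⁻¹ := by
  simp [conjT, mul_assoc]

theorem commute_rep_of_mem_commutant {g : Γ} {f : Module.End K E} (hf : f * ρ g = ρ g * f) :
    ρ g * f * ρ g⁻¹ = f := by
  rw [← hf, mul_assoc, ← map_mul, mul_inv_cancel, map_one, mul_one]

/-- The eigenspace dimensions of `x` when the group algebra of `Q` is everything. -/
theorem HeisX.full_data [IsAlgClosed K] [Nontrivial E] (h : HeisX ρ q Q Z x)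
    (hspan : Submodule.span K (ρ '' (Q : Set Γ)) = ⊤) {ω : K} (hω : IsPrimitiveRoot ω (orderOf x)) :
    finrank K (espace (ρ x) ω (⟨0, h.rprime.pos⟩ : Fin (orderOf x))) = 1 ∧
      (∀ k : Fin (orderOf x), k ≠ ⟨0, h.rprime.pos⟩ → finrank K (espace (ρ x) ω k) = 2) ∧
      finrank K E + 1 = 2 * orderOf x := by
  classical
  haveI : Fintype (IQ Q Z) := Fintype.ofFinite _
  let xN : NC Q Z := ⟨x, h.mem_NC⟩
  let H : Subgroup (NC Q Z) := Subgroup.zpowers xN
  haveI : Fintype H := Fintype.ofFinite H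
  have hordN : orderOf xN = orderOf x := (Subgroup.orderOf_coe xN).symm
  have hcardH : Fintype.card H = orderOf x := by
    rw [← Nat.card_eq_fintype_card, Nat.card_zpowers, hordN]
  have hfixed : ∀ y : H, y ≠ 1 → ∀ v : IQ Q Z, y • v = v → v = iq Z Q.one_mem := by
    intro y hy v hv
    obtain ⟨k, hk⟩ := (isOfFinOrder_of_finite xN).mem_powers_iff_mem_zpowers.2 y.2
    have hco : k.Coprime (orderOf xN) := by
      rw [hordN]
      refine ((Nat.Prime.coprime_iff_not_dvd h.rprime).2 fun hd => hy (Subtype.ext ?_)).symm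
      rw [← hordN] at hd
      rw [← hk]
      exact orderOf_dvd_iff_pow_eq_one.1 hd
    have hx1 : xN • v = v := smul_eq_of_coprime_pow hco (by
      show xN ^ k • v = v
      rw [show xN ^ k = (y : NC Q Z) from hk]; exact hv)
    rw [← iq_out v, smul_iq, iq_eq_iff] at hx1
    rw [← iq_out v, iq_eq_iff, mul_one]
    refine Z.inv_mem (h.free _ (rout_mem v) ?_)
    have h2 := Z.inv_mem hx1
    have h3 := h.cent _ h2 _ (rout_mem v)
    rw [commutatorElement_def]
    have : x * (rout v) * x⁻¹ * (rout v)⁻¹ =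
        (rout v) * ((x * (rout v) * x⁻¹)⁻¹ *
          (rout v))⁻¹ * (rout v)⁻¹ := by group
    rw [this, ← h3.eq, mul_inv_cancel_right]
    exact h2
  let b : Basis (IQ Q Z) K (Module.End K E) := Basis.mk h.linearIndependent_tvec
    (by rw [h.span_range_tvec, hspan])
  have hT : ∀ (y : H) j, ∃ μ : K, conjT ρ H y (b j) = μ • b (y • j) := by
    intro y j
    obtain ⟨c, hc⟩ := h.exists_conj_eq (y : NC Q Z) j
    exact ⟨c, by rw [conjT_apply, Basis.mk_apply, Basis.mk_apply]; exact hc⟩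
  have hfs : fixedSub (conjT ρ H) = commutant (ρ x) := by
    ext f
    rw [mem_fixedSub, mem_commutant]
    constructor
    · intro hf
      have h1 := hf ⟨xN, Subgroup.mem_zpowers xN⟩
      rw [conjT_apply] at h1
      conv_lhs => rw [← h1]
      rw [mul_assoc, ← map_mul, inv_mul_cancel, map_one, mul_one]
    · intro hf y
      rw [conjT_apply]
      obtain ⟨k, hk⟩ := (isOfFinOrder_of_finite xN).mem_powers_iff_mem_zpowers.2 y.2
      rw [← hk]
      refine commute_rep_of_mem_commutant ?_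
      simp only [SubmonoidClass.coe_pow, map_pow]
      exact Commute.pow_right (show Commute f (ρ x) from hf) k
  have heq := finrank_fixedSub_eq b (conjT ρ H) hT
    (fun g y f => by simp [conjT_apply, mul_assoc]) (fun y j hj => by
      by_cases hy : y = 1
      · subst hy; simp [conjT_apply]
      · have hjz : (rout j) ∈ Z := by
          have := (iq_eq_iff (rout_mem j) Q.one_mem).1 ((iq_out j).trans (hfixed y hy j hj))
          simpa using this
        obtain ⟨c, hc⟩ := h.scalar _ hjz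
        rw [conjT_apply, Basis.mk_apply, tvec, hc, mul_smul_comm, mul_one, smul_mul_assoc, ← map_mul,
          mul_inv_cancel, map_one])
    (by rw [hcardH]; exact h.rK)
  haveI : Fintype (MulAction.orbitRel.Quotient H (IQ Q Z)) := Fintype.ofFinite _
  have hburn := MulAction.sum_card_fixedBy_eq_card_orbits_mul_card_group H (IQ Q Z)
  have hfb : ∀ y : H, Fintype.card (MulAction.fixedBy (IQ Q Z) y) =
      if y = 1 then Fintype.card (IQ Q Z) else 1 := by
    intro y
    by_cases hy : y = 1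
    · rw [if_pos hy]
      subst hy
      exact Fintype.card_congr (Equiv.subtypeUnivEquiv fun v => one_smul H v)
    · rw [if_neg hy]
      refine Fintype.card_eq_one_iff.2 ⟨⟨iq Z Q.one_mem, ?_⟩, fun z => Subtype.ext (hfixed y hy _ z.2)⟩
      show (y : NC Q Z) • iq Z Q.one_mem = iq Z Q.one_mem
      rw [smul_iq, iq_eq_iff]
      simp
  rw [Finset.sum_congr rfl (fun y _ => hfb y), ← Finset.add_sum_erase _ _ (Finset.mem_univ (1 : H)),
    if_pos rfl, Finset.sum_congr rfl (fun y hy => if_neg (Finset.ne_of_mem_erase hy)),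
    Finset.sum_const, Finset.card_erase_of_mem (Finset.mem_univ _), Finset.card_univ, hcardH,
    smul_eq_mul, mul_one, ← Nat.card_eq_fintype_card, h.card_IQ hspan] at hburn
  rw [hfs, finrank_commutant_eq (ρ x) hω h.rK (by rw [← map_pow, pow_orderOf_eq_one, map_one]),
    Nat.card_eq_fintype_card] at heq
  obtain ⟨hodd, hne1⟩ := h.finrank_odd hspan
  refine mult_case h.rprime.two_le h.rodd (fun k => finrank K (espace (ρ x) ω k)) _ ?_ hodd hne1
    (sum_finrank_espace (ρ x) hω h.rK (by rw [← map_pow, pow_orderOf_eq_one, map_one]))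
    (by rw [heq, hburn, mul_comm])
  obtain ⟨u, hu⟩ := h.fix
  calc finrank K (espace (ρ x) ω (⟨0, h.rprime.pos⟩ : Fin (orderOf x)))
      ≤ finrank K (Submodule.span K {u}) := by
        refine Submodule.finrank_mono fun v hv => ?_
        obtain ⟨c, rfl⟩ := hu v (by
          have := Module.End.mem_eigenspace_iff.1 hv
          simpa using this)
        exact Submodule.smul_mem _ c (Submodule.mem_span_singleton_self u)
    _ ≤ 1 := (finrank_span_le_card ({u} : Set E)).trans (by simp)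

/-- No commuting element of prime order `p` acts nontrivially on `Q / Z`. -/
theorem HeisX.full_false [IsAlgClosed K] [Nontrivial E] (h : HeisX ρ q Q Z x)
    (hspan : Submodule.span K (ρ '' (Q : Set Γ)) = ⊤) (haN : a ∈ NC Q Z) (hp : (orderOf a).Prime)
    (hpodd : Odd (orderOf a)) (hpr : orderOf a ≠ orderOf x) (hpq : orderOf a ≠ q)
    (hax : Commute a x) (hnt : ∃ g ∈ Q, ⁅a, g⁆ ∉ Z) : False := by
  classical
  haveI : NeZero ((orderOf x : ℕ) : K) := ⟨h.rK⟩
  obtain ⟨ω, hω⟩ := HasEnoughRootsOfUnity.exists_primitiveRoot K (orderOf x)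
  obtain ⟨hd0, hd2, hN⟩ := h.full_data hspan hω
  haveI : Fintype (IQ Q Z) := Fintype.ofFinite _
  let xN : NC Q Z := ⟨x, h.mem_NC⟩
  let aN : NC Q Z := ⟨a, haN⟩
  have hxo : orderOf xN = orderOf x := (Subgroup.orderOf_coe xN).symm
  have hao : orderOf aN = orderOf a := (Subgroup.orderOf_coe aN).symm
  have hcomm : Commute aN xN := Subtype.ext hax.eq
  have hcop : (orderOf a).Coprime (orderOf x) := (Nat.coprime_primes hp h.rprime).2 hpr
  let H : Subgroup (NC Q Z) := Subgroup.zpowers (aN * xN)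
  haveI : Fintype H := Fintype.ofFinite H
  have hcardH : Fintype.card H = orderOf a * orderOf x := by
    rw [← Nat.card_eq_fintype_card, Nat.card_zpowers,
      hcomm.orderOf_mul_eq_mul_orderOf_of_coprime (by rw [hao, hxo]; exact hcop), hao, hxo]
  let F : Subgroup Γ :=
    { carrier := {g | g ∈ Q ∧ ⁅a, g⁆ ∈ Z}
      one_mem' := ⟨Q.one_mem, by rw [commutatorElement_one_right]; exact Z.one_mem⟩
      mul_mem' := fun {g k} hg hk => ⟨Q.mul_mem hg.1 hk.1, by
        have hc := h.cent _ hk.2 g⁻¹ (Q.inv_mem hg.1)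
        rw [show ⁅a, g * k⁆ = ⁅a, g⁆ * (g * ⁅a, k⁆ * g⁻¹) by simp [commutatorElement_def]; group,
          mul_assoc g, hc.eq, mul_inv_cancel_left]
        exact Z.mul_mem hg.2 hk.2⟩
      inv_mem' := fun {g} hg => ⟨Q.inv_mem hg.1, by
        have hc := h.cent _ (Z.inv_mem hg.2) g hg.1
        rw [show ⁅a, g⁻¹⁆ = g⁻¹ * ⁅a, g⁆⁻¹ * g by simp [commutatorElement_def]; group, mul_assoc,
          hc.eq, inv_mul_cancel_left]
        exact Z.inv_mem hg.2⟩ }
  have hFQ : F ≤ Q := fun g hg => hg.1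
  have hfixF : ∀ v : IQ Q Z, aN • v = v ↔ (rout v) ∈ F := by
    intro v
    conv_lhs => rw [← iq_out v, smul_iq, iq_eq_iff]
    show _ ↔ rout v ∈ Q ∧ _
    rw [and_iff_right (rout_mem v), commutatorElement_def]
    set g := (rout v) with hg
    have hgQ : g ∈ Q := (rout_mem v)
    constructor <;> intro hm
    · have h2 := Z.inv_mem hm
      have h3 := h.cent _ h2 g hgQ
      rw [show a * g * a⁻¹ * g⁻¹ = g * ((a * g * a⁻¹)⁻¹ * g)⁻¹ * g⁻¹ by group, ← h3.eq,
        mul_inv_cancel_right]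
      exact h2
    · have h3 := h.cent _ hm g⁻¹ (Q.inv_mem hgQ)
      show (a * g * a⁻¹)⁻¹ * g ∈ Z
      rw [show (a * g * a⁻¹)⁻¹ * g = (g⁻¹ * (a * g * a⁻¹ * g⁻¹) * g)⁻¹ by group, ← h3.eq,
        inv_mul_cancel_right]
      exact Z.inv_mem hm
  -- the fixed set of `a` is a proper subgroup
  set S : ℕ := Fintype.card (MulAction.fixedBy (IQ Q Z) aN) with hS
  have hnZn : (Z.subgroupOf Q).Normal := ⟨fun z hz g => by
    rw [Subgroup.mem_subgroupOf] at hz ⊢
    push_cast
    rw [← (h.cent _ hz (g : Γ) g.2).eq, mul_inv_cancel_right]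
    exact hz⟩
  haveI := hnZn
  obtain ⟨k, hk1, hk⟩ := h.card_IQ_pow
  have hSq : q * S ≤ Nat.card (IQ Q Z) := by
    let F' : Subgroup (IQ Q Z) := (F.subgroupOf Q).map (QuotientGroup.mk' _)
    have hset : (F' : Set (IQ Q Z)) = MulAction.fixedBy (IQ Q Z) aN := by
      ext v
      rw [MulAction.mem_fixedBy, hfixF, SetLike.mem_coe]
      constructor
      · rintro ⟨g, hg, rfl⟩
        have h1 : (g : Γ)⁻¹ * (rout (QuotientGroup.mk' (Z.subgroupOf Q) g)) ∈ Z :=
          (iq_eq_iff g.2 (rout_mem _)).1 (iq_out _).symm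
        have h2 := F.mul_mem (Subgroup.mem_subgroupOf.1 hg)
          (⟨h.le h1, by
            rw [commutatorElement_eq_one_iff_commute.2 ?_]
            · exact Z.one_mem
            · exact ((Subgroup.mem_centralizer_iff.1 haN.2 _ h1).symm : _ = _)⟩ : _ ∈ F)
        rwa [mul_inv_cancel_left] at h2
      · intro hv
        exact ⟨Quotient.out v, Subgroup.mem_subgroupOf.2 hv, iq_out v⟩
    have hScard : S = Nat.card F' := by
      rw [hS, ← Nat.card_eq_fintype_card]
      exact Nat.card_congr (Equiv.setCongr hset.symm)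
    have hlt : F' ≠ ⊤ := by
      intro htop
      obtain ⟨g, hg, hga⟩ := hnt
      obtain ⟨f, hf, hfe⟩ : iq Z hg ∈ F' := htop ▸ Subgroup.mem_top _
      have h1 : (f : Γ)⁻¹ * g ∈ Z := (iq_eq_iff f.2 hg).1 hfe
      have h2 := F.mul_mem (Subgroup.mem_subgroupOf.1 hf) (⟨h.le h1, by
        rw [commutatorElement_eq_one_iff_commute.2 ?_]
        · exact Z.one_mem
        · exact ((Subgroup.mem_centralizer_iff.1 haN.2 _ h1).symm : _ = _)⟩ : _ ∈ F)
      rw [mul_inv_cancel_left] at h2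
      exact hga h2.2
    obtain ⟨j, hjk, hj⟩ := (Nat.dvd_prime_pow h.hq).1 (hk ▸ F'.card_subgroup_dvd_card)
    have hjlt : j < k := lt_of_le_of_ne hjk fun he => hlt
      (Subgroup.eq_top_of_card_eq _ (by rw [hj, hk, he]))
    rw [hScard, hj, hk, ← pow_succ']
    exact Nat.pow_le_pow_right h.hq.pos hjlt
  -- fixed points of the elements of `H`
  have hfb : ∀ y : H, Fintype.card (MulAction.fixedBy (IQ Q Z) y) ≤
      if y = 1 then Fintype.card (IQ Q Z)
      else if ((y : NC Q Z) : Γ) ∈ Subgroup.zpowers a then S else 1 := by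
    intro y
    obtain ⟨n, hn⟩ := (isOfFinOrder_of_finite (aN * xN)).mem_powers_iff_mem_zpowers.2 y.2
    have hyn : (y : NC Q Z) = aN ^ n * xN ^ n := by rw [← hcomm.mul_pow]; exact hn.symm
    by_cases hy : y = 1
    · rw [if_pos hy]; exact Fintype.card_subtype_le _
    rw [if_neg hy]
    by_cases hrn : orderOf x ∣ n
    · have hxn : xN ^ n = 1 := orderOf_dvd_iff_pow_eq_one.1 (hxo ▸ hrn)
      rw [hxn, mul_one] at hyn
      have hmem : ((y : NC Q Z) : Γ) ∈ Subgroup.zpowers a := by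
        rw [hyn, SubmonoidClass.coe_pow]
        exact Subgroup.pow_mem _ (Subgroup.mem_zpowers a) n
      rw [if_pos hmem]
      have hpn : ¬ orderOf a ∣ n := fun hd => hy (Subtype.ext (by
        rw [hyn, orderOf_dvd_iff_pow_eq_one.1 (hao ▸ hd)]; rfl))
      refine Fintype.card_le_of_injective (fun v => ⟨v.1, ?_⟩) (fun v w hvw => Subtype.ext (congrArg Subtype.val hvw :))
      refine smul_eq_of_coprime_pow (k := n) (hao ▸ ((Nat.Prime.coprime_iff_not_dvd hp).2 hpn).symm) ?_
      rw [← hyn]; exact v.2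
    · have hle1 : Fintype.card (MulAction.fixedBy (IQ Q Z) y) ≤ 1 := by
        refine Fintype.card_le_one_iff_subsingleton.2 ⟨fun v w => Subtype.ext ?_⟩
        have key : ∀ v : MulAction.fixedBy (IQ Q Z) y, (v : IQ Q Z) = iq Z Q.one_mem := by
          intro v
          have h1 : (y : NC Q Z) ^ orderOf a • (v : IQ Q Z) = v := smul_eq_of_pow v.2 _
          have hp0 : aN ^ orderOf a = 1 := orderOf_dvd_iff_pow_eq_one.1 (hao ▸ dvd_rfl)
          rw [hyn, (hcomm.pow_pow n n).mul_pow, ← pow_mul, mul_comm n, pow_mul, hp0, one_pow, one_mul,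
            ← pow_mul] at h1
          have hx1 : xN • (v : IQ Q Z) = v := smul_eq_of_coprime_pow (by
            rw [hxo]
            exact Nat.Coprime.mul_left ((Nat.Prime.coprime_iff_not_dvd h.rprime).2 hrn).symm hcop) h1
          conv_lhs => rw [← iq_out (v : IQ Q Z)]
          rw [← iq_out (v : IQ Q Z), smul_iq, iq_eq_iff] at hx1
          rw [iq_eq_iff, mul_one]
          refine Z.inv_mem (h.free _ (rout_mem _) ?_)
          have h2 := Z.inv_mem hx1
          set g := (rout (v : IQ Q Z)) with hg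
          have h3 := h.cent _ h2 g (rout_mem _)
          rw [commutatorElement_def,
            show x * g * x⁻¹ * g⁻¹ = g * ((x * g * x⁻¹)⁻¹ * g)⁻¹ * g⁻¹ by group, ← h3.eq,
            mul_inv_cancel_right]
          exact h2
        rw [key v, key w]
      split_ifs with hm
      · exact hle1.trans (Fintype.card_pos_iff.2 ⟨⟨iq Z Q.one_mem, (hfixF _).2 ⟨(rout_mem _), by
          have hz : (rout (iq Z Q.one_mem)) ∈ Z := by
            simpa using (iq_eq_iff (rout_mem _) Q.one_mem).1 (iq_out (iq Z Q.one_mem))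
          rw [commutatorElement_eq_one_iff_commute.2
            ((Subgroup.mem_centralizer_iff.1 haN.2 _ hz).symm : _ = _)]
          exact Z.one_mem⟩⟩⟩)
      · exact hle1
  haveI : Fintype (MulAction.orbitRel.Quotient H (IQ Q Z)) := Fintype.ofFinite _
  have hburn := MulAction.sum_card_fixedBy_eq_card_orbits_mul_card_group H (IQ Q Z)
  have hcnt : (Finset.univ.filter fun y : H => ((y : NC Q Z) : Γ) ∈ Subgroup.zpowers a).card ≤ orderOf a := by
    haveI : Fintype (Subgroup.zpowers a) := Fintype.ofFinite _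
    rw [← Nat.card_zpowers a, Nat.card_eq_fintype_card, ← Fintype.card_subtype]
    exact Fintype.card_le_of_injective (fun y => (⟨((y.1 : NC Q Z) : Γ), y.2⟩ : Subgroup.zpowers a))
      fun y z hyz => Subtype.ext (Subtype.ext (Subtype.ext (congrArg Subtype.val hyz :)))
  have hbound : Fintype.card (MulAction.orbitRel.Quotient H (IQ Q Z)) * (orderOf a * orderOf x) ≤
      Fintype.card (IQ Q Z) + ((orderOf a - 1) * S + orderOf a * orderOf x) := by
    rw [← hcardH, ← hburn]
    refine (Finset.sum_le_sum fun y _ => hfb y).trans ?_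
    rw [← Finset.add_sum_erase _ _ (Finset.mem_univ (1 : H)), if_pos rfl,
      Finset.sum_congr rfl (fun y hy => if_neg (Finset.ne_of_mem_erase hy))]
    refine Nat.add_le_add_left ?_ _
    rw [Finset.sum_ite, Finset.sum_const, Finset.sum_const, smul_eq_mul, smul_eq_mul, mul_one]
    refine Nat.add_le_add (Nat.mul_le_mul_right _ ?_) (Finset.card_le_univ _)
    have hsub : ((Finset.univ.erase (1 : H)).filter fun y : H => ((y : NC Q Z) : Γ) ∈ Subgroup.zpowers a) =
        (Finset.univ.filter fun y : H => ((y : NC Q Z) : Γ) ∈ Subgroup.zpowers a).erase 1 := by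
      rw [Finset.filter_erase]
    rw [hsub, Finset.card_erase_of_mem (by simp)]
    omega
  -- the lower bound
  let b : Basis (IQ Q Z) K (Module.End K E) := Basis.mk h.linearIndependent_tvec
    (by rw [h.span_range_tvec, hspan])
  have hupper := finrank_fixedSub_le b (conjT ρ H) (fun y j => by
    obtain ⟨c, hc⟩ := h.exists_conj_eq (y : NC Q Z) j
    exact ⟨c, by rw [conjT_apply, Basis.mk_apply, Basis.mk_apply]; exact hc⟩)
  have hle : commutant (ρ x) ⊓ commutant (ρ a) ≤ fixedSub (conjT ρ H) := by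
    rintro f ⟨hfx, hfa⟩
    rw [mem_fixedSub]
    intro y
    rw [conjT_apply]
    obtain ⟨n, hn⟩ := (isOfFinOrder_of_finite (aN * xN)).mem_powers_iff_mem_zpowers.2 y.2
    rw [← hn]
    refine commute_rep_of_mem_commutant ?_
    simp only [SubmonoidClass.coe_pow, Subgroup.coe_mul, map_pow, map_mul]
    exact Commute.pow_right ((show Commute f (ρ a) from mem_commutant.1 hfa).mul_right
      (show Commute f (ρ x) from mem_commutant.1 hfx)) n
  have hlow := (finrank_commutant_inf_ge (ρ x) (ρ a) hω h.rK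
    (by rw [← map_pow, pow_orderOf_eq_one, map_one]) (by rw [← map_mul, ← map_mul, hax.eq]) _ hd0 hd2).trans
    (Submodule.finrank_mono hle)
  rw [Nat.card_eq_fintype_card] at hupper hk hSq
  have hNle := hlow.trans hupper
  have hcard := h.card_IQ hspan
  rw [Nat.card_eq_fintype_card] at hcard
  rw [hcard] at hbound hSq
  have hp3 : 3 ≤ orderOf a := by
    obtain ⟨t, ht⟩ := hpodd
    have := hp.two_le
    omega
  have hq3 : 3 ≤ q := by
    obtain ⟨t, ht⟩ := h.qodd
    have := h.hq.two_le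
    omega
  have hr3 : 3 ≤ orderOf x := by
    obtain ⟨t, ht⟩ := h.rodd
    have := h.rprime.two_le
    omega
  have hb2 : finrank K E * (orderOf a * orderOf x) ≤
      finrank K E ^ 2 + ((orderOf a - 1) * S + orderOf a * orderOf x) :=
    le_trans (Nat.mul_le_mul_right _ hNle) hbound
  obtain ⟨pp, hpp⟩ : ∃ pp, orderOf a = pp + 1 := ⟨orderOf a - 1, by omega⟩
  have hpq' : q = 3 → 5 ≤ orderOf a := by
    intro h3
    obtain ⟨t, ht⟩ := hpodd
    omega
  rw [hpp, Nat.add_sub_cancel] at hb2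
  rw [hpp] at hp3 hpq'
  generalize finrank K E = N at hb2 hSq hN
  generalize orderOf x = r at hb2 hN hr3
  have hN5 : 5 ≤ N := by omega
  have hN25 : 25 ≤ N ^ 2 := by nlinarith
  have hm1 : (N + 1) * ((pp + 1) * N) = 2 * r * ((pp + 1) * N) := by rw [hN]
  have hm2 : (N + 1) * (pp + 1) = 2 * r * (pp + 1) := by rw [hN]
  have hkey : (pp + 1) * N ^ 2 ≤ 2 * N ^ 2 + 2 * (pp * S) + (pp + 1) := by
    ring_nf at hm1 hm2 hb2 ⊢
    linarith
  obtain ⟨e, he⟩ := Nat.exists_eq_add_of_le hN25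
  rcases Nat.lt_or_ge q 5 with hq5 | hq5
  · have : q = 3 := by
      obtain ⟨t, ht⟩ := h.qodd
      omega
    subst this
    have h5 := hpq' rfl
    obtain ⟨d, rfl⟩ : ∃ d, pp = 4 + d := ⟨pp - 4, by omega⟩
    have hS3 : (4 + d) * (3 * S) ≤ (4 + d) * N ^ 2 := Nat.mul_le_mul_left _ hSq
    rw [he] at hS3 hkey
    ring_nf at hS3 hkey
    linarith [Nat.zero_le (d * e)]
  · obtain ⟨d, rfl⟩ : ∃ d, pp = 2 + d := ⟨pp - 2, by omega⟩
    have hS5 : (2 + d) * (5 * S) ≤ (2 + d) * N ^ 2 :=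
      Nat.mul_le_mul_left _ ((Nat.mul_le_mul_right S hq5).trans hSq)
    rw [he] at hS5 hkey
    ring_nf at hS5 hkey
    linarith [Nat.zero_le (d * e)]

/-- The data restricts to invariant subspaces. -/
theorem HeisX.restrict (h : HeisX ρ q Q Z x) (W : Submodule K E) (hW : W ≠ ⊥)
    (hQW : Q ≤ stab ρ W) (hxW : x ∈ stab ρ W) :
    HeisX (subRep ρ W) q (Q.subgroupOf (stab ρ W)) (Z.subgroupOf (stab ρ W)) ⟨x, hxW⟩ := by
  classical
  have ho : orderOf (⟨x, hxW⟩ : stab ρ W) = orderOf x := Subgroup.orderOf_mk _ _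
  refine
    { hq := h.hq, qodd := h.qodd, le := fun z hz => h.le hz
      qgroup := h.qgroup.of_equiv (Subgroup.subgroupOfEquivOfLe hQW).symm
      comm := fun g hg k hk => ?_, cent := fun z hz g hg => Subtype.ext (h.cent _ hz _ hg).eq
      nondeg := fun g hg hgc => ?_, scalar := fun z hz => ?_, faith := fun z hz hz1 => ?_
      big := ?_, rprime := ho.symm ▸ h.rprime, rodd := ho.symm ▸ h.rodd
      rK := ho.symm ▸ h.rK, xQ := ?_, xZ := fun z hz => Subtype.ext (h.xZ _ hz).eq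
      free := fun g hg hc => ?_, fix := ?_ }
  · rw [Subgroup.mem_subgroupOf] at hg hk ⊢
    exact h.comm _ hg _ hk
  · refine h.nondeg _ hg fun k hk => ?_
    exact congrArg Subtype.val (hgc ⟨k, hQW hk⟩ hk).eq
  · obtain ⟨c, hc⟩ := isScal_subRep ρ W z (h.scalar _ hz)
    exact ⟨c, hc⟩
  · obtain ⟨c, hc⟩ : ∃ c : K, ρ (z : Γ) = c • (1 : Module.End K E) := h.scalar _ hz
    obtain ⟨w, hw, hw0⟩ := (Submodule.ne_bot_iff _).1 hW
    have h1 := congrArg (fun f : Module.End K W => ((f ⟨w, hw⟩ : W) : E)) hz1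
    simp only [subRep_apply, Module.End.one_apply, hc, LinearMap.smul_apply] at h1
    have hc1 : c = 1 := smul_left_injective K hw0 (by simpa using h1)
    exact Subtype.ext (h.faith _ hz (by rw [hc, hc1, one_smul]))
  · obtain ⟨g, hg, hgZ⟩ := h.big
    exact ⟨⟨g, hQW hg⟩, hg, hgZ⟩
  · rw [Subgroup.mem_normalizer_iff]
    intro g
    simp only [Subgroup.mem_subgroupOf]
    exact Subgroup.mem_normalizer_iff.1 h.xQ (g : Γ)
  · rw [Subgroup.mem_subgroupOf] at hg hc ⊢
    exact h.free _ hg hc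
  · obtain ⟨u, hu⟩ := h.fix
    by_cases hex : ∃ w : W, subRep ρ W ⟨x, hxW⟩ w = w ∧ w ≠ 0
    · obtain ⟨w, hw, hw0⟩ := hex
      refine ⟨w, fun v hv => ?_⟩
      obtain ⟨cw, hcw⟩ := hu w (congrArg Subtype.val hw)
      obtain ⟨cv, hcv⟩ := hu v (congrArg Subtype.val hv)
      have hcw0 : cw ≠ 0 := fun h0 => hw0 (Subtype.ext (by rw [hcw, h0, zero_smul]; rfl))
      refine ⟨cv * cw⁻¹, Subtype.ext ?_⟩
      rw [Submodule.coe_smul, hcv, hcw, smul_smul, mul_assoc, inv_mul_cancel₀ hcw0, mul_one]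
    · push Not at hex
      exact ⟨0, fun v hv => ⟨0, by rw [zero_smul]; exact hex v hv⟩⟩

/-- An invariant subspace on which the group algebra of `Q` is everything. -/
theorem HeisX.exists_full [IsAlgClosed K] [Nontrivial E] (h : HeisX ρ q Q Z x) :
    ∃ W : Submodule K E, W ≠ ⊥ ∧ (∀ g ∈ Q, ∀ w ∈ W, ρ g w ∈ W) ∧ (∀ w ∈ W, ρ x w ∈ W) ∧
      (∀ W' : Submodule K E, W' ≤ W → W' ≠ ⊥ → (∀ g ∈ Q, ∀ w ∈ W', ρ g w ∈ W') → W' = W) := by
  classical
  haveI : Fintype (IQ Q Z) := Fintype.ofFinite _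
  let M : Submonoid (Module.End K E) :=
    { carrier := ρ '' (Q : Set Γ)
      one_mem' := ⟨1, Q.one_mem, map_one ρ⟩
      mul_mem' := by
        rintro _ _ ⟨s, hs, rfl⟩ ⟨t, ht, rfl⟩
        exact ⟨s * t, Q.mul_mem hs ht, map_mul ρ s t⟩ }
  let A := Algebra.adjoin K (ρ '' (Q : Set Γ))
  have hAspan : Subalgebra.toSubmodule A = Submodule.span K (Set.range (tvec ρ : IQ Q Z → _)) := by
    rw [h.span_range_tvec, Algebra.adjoin_eq_span]
    congr 1
    exact congrArg SetLike.coe (Submonoid.closure_eq M)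
  have hAU : ∀ (U : Submodule K E), (∀ g ∈ Q, ∀ u ∈ U, ρ g u ∈ U) → ∀ f ∈ A, ∀ u ∈ U, f u ∈ U := by
    intro U hU f hf
    induction hf using Algebra.adjoin_induction with
    | mem f hf => obtain ⟨g, hg, rfl⟩ := hf; exact hU g hg
    | algebraMap c => intro u hu; rw [Module.algebraMap_end_apply]; exact U.smul_mem c hu
    | add s t _ _ ihs iht => intro u hu; rw [LinearMap.add_apply]; exact U.add_mem (ihs u hu) (iht u hu)
    | mul s t _ _ ihs iht => intro u hu; rw [Module.End.mul_apply]; exact ihs _ (iht u hu)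
  obtain ⟨U, hU0, hUinv, hUmin⟩ := exists_min_invariant ρ Q
  haveI : Nontrivial U := (Submodule.nontrivial_iff_ne_bot).2 hU0
  let res : A →ₐ[K] Module.End K U :=
    { toFun := fun f => (f : Module.End K E).restrict (hAU U hUinv f f.2)
      map_one' := LinearMap.ext fun u => Subtype.ext rfl
      map_mul' := fun f g => LinearMap.ext fun u => Subtype.ext rfl
      map_zero' := LinearMap.ext fun u => Subtype.ext rfl
      map_add' := fun f g => LinearMap.ext fun u => Subtype.ext rfl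
      commutes' := fun c => LinearMap.ext fun u => Subtype.ext rfl }
  have hsurj : Function.Surjective res := by
    rw [← AlgHom.range_eq_top]
    refine eq_top_of_irreducible _ fun U' hU' => ?_
    by_cases h0 : U' = ⊥
    · exact Or.inl h0
    right
    have h' := hUmin (U'.map U.subtype) (Submodule.map_subtype_le _ _)
      (fun he => h0 (Submodule.map_injective_of_injective U.injective_subtype (he.trans (Submodule.map_bot _).symm))) (by
        rintro g hg _ ⟨u, hu, rfl⟩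
        exact ⟨res ⟨ρ g, Algebra.subset_adjoin ⟨g, hg, rfl⟩⟩ u, hU' _ ⟨_, rfl⟩ u hu, rfl⟩)
    rw [eq_top_iff]
    intro u _
    obtain ⟨u', hu', he⟩ : (u : E) ∈ U'.map U.subtype := by rw [h']; exact u.2
    rwa [← Subtype.ext he]
  have hinj : Function.Injective res := by
    rw [injective_iff_map_eq_zero]
    intro f hf
    have hmem : (f : Module.End K E) ∈ Submodule.span K (Set.range (tvec ρ : IQ Q Z → _)) := by
      rw [← hAspan]; exact f.2
    obtain ⟨c, hc⟩ := (Submodule.mem_span_range_iff_exists_fun K).1 hmem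
    have h0 := h.indep_on U hU0 hUinv c fun u hu => by
      rw [hc]
      exact congrArg Subtype.val (LinearMap.congr_fun hf ⟨u, hu⟩)
    refine Subtype.ext ?_
    rw [← hc, Finset.sum_congr rfl (fun v _ => by rw [h0 v, zero_smul]), Finset.sum_const_zero]
    rfl
  let e : A ≃ₐ[K] Module.End K U := AlgEquiv.ofBijective res ⟨hinj, hsurj⟩
  have hconjA : ∀ y ∈ Subgroup.normalizer (Q : Set Γ), ∀ f ∈ A, ρ y * f * ρ y⁻¹ ∈ A := by
    intro y hy f hf
    induction hf using Algebra.adjoin_induction with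
    | mem f hf =>
      obtain ⟨g, hg, rfl⟩ := hf
      rw [← map_mul, ← map_mul]
      exact Algebra.subset_adjoin ⟨_, (Subgroup.mem_normalizer_iff.1 hy g).1 hg, rfl⟩
    | algebraMap c =>
      rw [← Algebra.commutes, mul_assoc, ← map_mul, mul_inv_cancel, map_one, mul_one]
      exact Subalgebra.algebraMap_mem _ c
    | add s t _ _ ihs iht => rw [mul_add, add_mul]; exact add_mem ihs iht
    | mul s t _ _ ihs iht =>
      have : ρ y * (s * t) * ρ y⁻¹ = (ρ y * s * ρ y⁻¹) * (ρ y * t * ρ y⁻¹) := by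
        have h1 : ρ y⁻¹ * ρ y = 1 := by rw [← map_mul, inv_mul_cancel, map_one]
        simp only [mul_assoc, ← mul_assoc (ρ y⁻¹) (ρ y), h1, one_mul]
      rw [this]
      exact mul_mem ihs iht
  have hxinv : x⁻¹ ∈ Subgroup.normalizer (Q : Set Γ) := inv_mem h.xQ
  have hxx : ρ x * ρ x⁻¹ = 1 := by rw [← map_mul, mul_inv_cancel, map_one]
  have hxx' : ρ x⁻¹ * ρ x = 1 := by rw [← map_mul, inv_mul_cancel, map_one]
  let cj : A ≃ₐ[K] A := AlgEquiv.ofAlgHom
    { toFun := fun f => ⟨ρ x * f * ρ x⁻¹, hconjA x h.xQ f f.2⟩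
      map_one' := Subtype.ext (by simp [hxx])
      map_mul' := fun f g => Subtype.ext (by
        simp only [MulMemClass.coe_mul, mul_assoc, ← mul_assoc (ρ x⁻¹) (ρ x), hxx', one_mul])
      map_zero' := Subtype.ext (by simp)
      map_add' := fun f g => Subtype.ext (by simp [mul_add, add_mul])
      commutes' := fun c => Subtype.ext (by
        show ρ x * algebraMap K (Module.End K E) c * ρ x⁻¹ = _
        rw [← Algebra.commutes, mul_assoc, hxx, mul_one]; rfl) }
    { toFun := fun f => ⟨ρ x⁻¹ * f * ρ x, by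
        have := hconjA x⁻¹ hxinv f f.2
        rwa [inv_inv] at this⟩
      map_one' := Subtype.ext (by simp [hxx'])
      map_mul' := fun f g => Subtype.ext (by
        simp only [MulMemClass.coe_mul, mul_assoc, ← mul_assoc (ρ x) (ρ x⁻¹), hxx, one_mul])
      map_zero' := Subtype.ext (by simp)
      map_add' := fun f g => Subtype.ext (by simp [mul_add, add_mul])
      commutes' := fun c => Subtype.ext (by
        show ρ x⁻¹ * algebraMap K (Module.End K E) c * ρ x = _
        rw [← Algebra.commutes, mul_assoc, hxx', mul_one]; rfl) }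
    (AlgHom.ext fun f => Subtype.ext (by
      show ρ x * (ρ x⁻¹ * (f : Module.End K E) * ρ x) * ρ x⁻¹ = f
      simp only [mul_assoc, hxx, mul_one]
      rw [← mul_assoc, hxx, one_mul]))
    (AlgHom.ext fun f => Subtype.ext (by
      show ρ x⁻¹ * (ρ x * (f : Module.End K E) * ρ x⁻¹) * ρ x = f
      simp only [mul_assoc, hxx', mul_one]
      rw [← mul_assoc, hxx', one_mul]))
  obtain ⟨T, hT⟩ := AlgEquiv.eq_linearEquivConjAlgEquiv (e.symm.trans (cj.trans e))
  let u : A := e.symm (T.toLinearMap)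
  let u' : A := e.symm (T.symm.toLinearMap)
  have huu : u * u' = 1 := e.injective (by
    rw [map_mul, map_one]; simp only [u, u', AlgEquiv.apply_symm_apply]
    exact LinearMap.ext fun w => T.apply_symm_apply w)
  have hu'u : u' * u = 1 := e.injective (by
    rw [map_mul, map_one]; simp only [u, u', AlgEquiv.apply_symm_apply]
    exact LinearMap.ext fun w => T.symm_apply_apply w)
  have hconj : ∀ f : A, cj f = u * f * u' := by
    intro f
    refine e.injective ?_
    have h1 : e (cj f) = T.conjAlgEquiv K (e f) := by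
      rw [← hT]; simp
    rw [h1, map_mul, map_mul]
    simp only [u, u', AlgEquiv.apply_symm_apply]
    refine LinearMap.ext fun w => ?_
    simp [LinearEquiv.conjAlgEquiv]
  let c : Module.End K E := (u' : Module.End K E) * ρ x
  have hcA : ∀ f ∈ A, c * f = f * c := by
    intro f hf
    have h1 : ρ x * f = (ρ x * f * ρ x⁻¹) * ρ x := by rw [mul_assoc, hxx', mul_one]
    have h2 : ρ x * f * ρ x⁻¹ = (u : Module.End K E) * f * (u' : Module.End K E) :=
      congrArg Subtype.val (hconj ⟨f, hf⟩)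
    have h3 : (u' : Module.End K E) * (u : Module.End K E) = 1 := congrArg Subtype.val hu'u
    show (u' : Module.End K E) * ρ x * f = f * ((u' : Module.End K E) * ρ x)
    rw [mul_assoc, h1, h2, ← mul_assoc, ← mul_assoc, ← mul_assoc, h3, one_mul, mul_assoc]
  obtain ⟨μ, hμ⟩ := Module.End.exists_eigenvalue c
  obtain ⟨W, hWle, hW0, hWinv, hWmin⟩ : ∃ W : Submodule K E, W ≤ Module.End.eigenspace c μ ∧ W ≠ ⊥ ∧
      (∀ g ∈ Q, ∀ w ∈ W, ρ g w ∈ W) ∧
      ∀ W' : Submodule K E, W' ≤ W → W' ≠ ⊥ → (∀ g ∈ Q, ∀ w ∈ W', ρ g w ∈ W') → W' = W := by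
    have hex : ∃ d, ∃ W : Submodule K E, W ≤ Module.End.eigenspace c μ ∧ W ≠ ⊥ ∧
        (∀ g ∈ Q, ∀ w ∈ W, ρ g w ∈ W) ∧ finrank K W = d :=
      ⟨_, _, le_rfl, Module.End.hasEigenvalue_iff.1 hμ, fun g hg w hw => Module.End.mem_eigenspace_iff.2 (by
        rw [← Module.End.mul_apply, hcA _ (Algebra.subset_adjoin ⟨g, hg, rfl⟩), Module.End.mul_apply,
          Module.End.mem_eigenspace_iff.1 hw, map_smul]), rfl⟩
    obtain ⟨W, h1, h2, h3, h4⟩ := Nat.find_spec hex
    exact ⟨W, h1, h2, h3, fun W' hle hne hinv => Submodule.eq_of_le_of_finrank_le hle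
      (h4 ▸ Nat.find_min' hex ⟨W', hle.trans h1, hne, hinv, rfl⟩)⟩
  refine ⟨W, hW0, hWinv, fun w hw => ?_, hWmin⟩
  have h1 : ρ x = (u : Module.End K E) * c := by
    show _ = (u : Module.End K E) * ((u' : Module.End K E) * ρ x)
    rw [← mul_assoc, show (u : Module.End K E) * (u' : Module.End K E) = 1 from congrArg Subtype.val huu,
      one_mul]
  rw [h1, Module.End.mul_apply, Module.End.mem_eigenspace_iff.1 (hWle hw), map_smul]
  exact W.smul_mem μ (hAU W hWinv _ u.2 w hw)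

/-- BG 3.6, extraspecial case. -/
theorem HeisX.false [IsAlgClosed K] [Nontrivial E] (h : HeisX ρ q Q Z x)
    (haQ : a ∈ Subgroup.normalizer (Q : Set Γ)) (haZ : ∀ z ∈ Z, Commute a z)
    (hp : (orderOf a).Prime) (hpodd : Odd (orderOf a)) (hpr : orderOf a ≠ orderOf x)
    (hpq : orderOf a ≠ q) (hax : Commute a x) (hnt : ∃ g ∈ Q, ⁅a, g⁆ ∉ Z) : False := by
  classical
  obtain ⟨W, hW0, hWQ, hWx, hWmin⟩ := h.exists_full
  have hQW : Q ≤ stab ρ W := fun g hg => hWQ g hg
  have hxW : x ∈ stab ρ W := hWx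
  haveI : Nontrivial W := (Submodule.nontrivial_iff_ne_bot).2 hW0
  have h' := h.restrict W hW0 hQW hxW
  have hspan : Submodule.span K (subRep ρ W '' (Q.subgroupOf (stab ρ W) : Set (stab ρ W))) = ⊤ := by
    let M : Submonoid (Module.End K W) :=
      { carrier := subRep ρ W '' (Q.subgroupOf (stab ρ W) : Set (stab ρ W))
        one_mem' := ⟨1, Subgroup.one_mem _, map_one _⟩
        mul_mem' := by
          rintro _ _ ⟨s, hs, rfl⟩ ⟨t, ht, rfl⟩
          exact ⟨s * t, Subgroup.mul_mem _ hs ht, map_mul _ s t⟩ }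
    have htop := eq_top_of_irreducible
      (Algebra.adjoin K (subRep ρ W '' (Q.subgroupOf (stab ρ W) : Set (stab ρ W)))) fun U hU => by
      by_cases h0 : U = ⊥
      · exact Or.inl h0
      right
      have h1 := hWmin (U.map W.subtype) (Submodule.map_subtype_le _ _)
        (fun he => h0 (Submodule.map_injective_of_injective W.injective_subtype (he.trans (Submodule.map_bot _).symm))) (by
          rintro g hg _ ⟨w, hw, rfl⟩
          exact ⟨subRep ρ W ⟨g, hQW hg⟩ w, hU _ (Algebra.subset_adjoin ⟨⟨g, hQW hg⟩, hg, rfl⟩) w hw, rfl⟩)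
      rw [eq_top_iff]
      intro w _
      obtain ⟨w', hw', he⟩ : (w : E) ∈ U.map W.subtype := by rw [h1]; exact w.2
      rwa [← Subtype.ext he]
    have h2 := congrArg Subalgebra.toSubmodule htop
    rw [Algebra.adjoin_eq_span, Algebra.top_toSubmodule] at h2
    rw [← h2]
    congr 1
    exact (congrArg SetLike.coe (Submonoid.closure_eq M)).symm
  -- `a` preserves `W`
  have ho : orderOf (⟨x, hxW⟩ : stab ρ W) = orderOf x := Subgroup.orderOf_mk _ _
  haveI : NeZero ((orderOf (⟨x, hxW⟩ : stab ρ W) : ℕ) : K) := ⟨h'.rK⟩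
  obtain ⟨ω, hω⟩ := HasEnoughRootsOfUnity.exists_primitiveRoot K (orderOf (⟨x, hxW⟩ : stab ρ W))
  obtain ⟨hd0, -, -⟩ := h'.full_data hspan hω
  obtain ⟨w, hw, hw0⟩ := (Submodule.ne_bot_iff _).1 (Submodule.one_le_finrank_iff.1 hd0.ge)
  have hwfix : ρ x (w : E) = (w : E) := by
    have := congrArg Subtype.val (Module.End.mem_eigenspace_iff.1 hw)
    simpa [subRep_apply] using this
  have hawfix : ρ x (ρ a (w : E)) = ρ a (w : E) := by
    rw [← rep_mul_apply, ← hax.eq, rep_mul_apply, hwfix]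
  obtain ⟨u, hu⟩ := h.fix
  obtain ⟨cw, hcw⟩ := hu _ hwfix
  obtain ⟨ca, hca⟩ := hu _ hawfix
  have hcw0 : cw ≠ 0 := fun h0 => hw0 (Subtype.ext (by rw [hcw, h0, zero_smul]; rfl))
  have hawW : ρ a (w : E) ∈ W := by
    have : ρ a (w : E) = (ca * cw⁻¹) • (w : E) := by
      rw [hca, hcw, smul_smul, mul_assoc, inv_mul_cancel₀ hcw0, mul_one]
    rw [this]
    exact W.smul_mem _ w.2
  have haW : a ∈ stab ρ W := by
    let W' : Submodule K E := W ⊓ W.comap (ρ a)
    have h1 : W' = W := hWmin W' inf_le_left ((Submodule.ne_bot_iff _).2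
      ⟨w, ⟨w.2, hawW⟩, fun h0 => hw0 (Subtype.ext h0)⟩) fun g hg v hv => by
        refine ⟨hWQ g hg v hv.1, ?_⟩
        show ρ a (ρ g v) ∈ W
        rw [← rep_mul_apply, show a * g = (a * g * a⁻¹) * a by group, rep_mul_apply]
        exact hWQ _ ((Subgroup.mem_normalizer_iff.1 haQ g).1 hg) _ hv.2
    intro v hv
    exact (h1.ge hv).2
  have hoa : orderOf (⟨a, haW⟩ : stab ρ W) = orderOf a := Subgroup.orderOf_mk _ _
  obtain ⟨g, hg, hga⟩ := hnt
  refine h'.full_false hspan (a := ⟨a, haW⟩) ?_ (hoa.symm ▸ hp) (hoa.symm ▸ hpodd)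
    (by rw [hoa, ho]; exact hpr) (by rw [hoa]; exact hpq) (Subtype.ext hax.eq)
    ⟨⟨g, hQW hg⟩, hg, hga⟩
  refine ⟨?_, Subgroup.mem_centralizer_iff.2 fun z hz => Subtype.ext (haZ _ hz).eq.symm⟩
  show (⟨a, haW⟩ : stab ρ W) ∈ Subgroup.normalizer _
  rw [Subgroup.mem_normalizer_iff]
  intro g
  simp only [Subgroup.mem_subgroupOf]
  exact Subgroup.mem_normalizer_iff.1 haQ (g : Γ)

end CfsgLib.OddOrder.FixLine
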