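import Cfsg.Agent.Lib.OddOrder.FixLineAbelian
import Cfsg.Agent.Lib.OddOrder.FixLineHeis
import Cfsg.Agent.Lib.OddOrder.FixLineBase
import Cfsg.Agent.Lib.OddOrder.OmegaFix
import Cfsg.Agent.Lib.Solvable.CoprimeAbelian

/-!
BG 3.6, the minimal configuration `V (U P₀) R` is impossible.
-/

set_option autoImplicit false
set_option linter.style.haveILetI false

open scoped commutatorElement

namespace CfsgLib.OddOrder.FixLine

open Subgroup

variable {G : Type*} [Group G] [Finite G]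

/-- The elements commuting with a cyclic group's normaliser commutators: `y ρ y⁻¹ ρ⁻¹` fixes a cyclic
subgroup normalised by `y` and `ρ` pointwise. -/
theorem commute_commutator_of_cyclic {U : Subgroup G} [IsCyclic U] {y z : G}
    (hy : y ∈ normalizer (U : Set G)) (hz : z ∈ normalizer (U : Set G)) {g : G} (hg : g ∈ U) :
    Commute ⁅y, z⁆ g := by
  obtain ⟨⟨c, hc⟩, hgen⟩ := IsCyclic.exists_generator (α := U)
  have hpow : ∀ w ∈ normalizer (U : Set G), ∃ a : ℤ, ∀ g ∈ U, w * g * w⁻¹ = g ^ a := by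
    intro w hw
    obtain ⟨a, ha⟩ := hgen ⟨w * c * w⁻¹, (mem_normalizer_iff.1 hw c).1 hc⟩
    refine ⟨a, fun g hg => ?_⟩
    obtain ⟨k, hk⟩ := hgen ⟨g, hg⟩
    have hk' : c ^ k = g := congrArg Subtype.val hk
    have ha' : c ^ a = w * c * w⁻¹ := congrArg Subtype.val ha
    rw [← hk', show w * c ^ k * w⁻¹ = (w * c * w⁻¹) ^ k from conj_zpow.symm, ← ha', ← zpow_mul,
      ← zpow_mul, mul_comm]
  obtain ⟨a, ha⟩ := hpow y hy
  obtain ⟨b, hb⟩ := hpow z hz
  have h1 : ∀ g ∈ U, y * z * g * (y * z)⁻¹ = z * y * g * (z * y)⁻¹ := fun g hg => by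
    rw [show y * z * g * (y * z)⁻¹ = y * (z * g * z⁻¹) * y⁻¹ by group, hb g hg,
      ha _ (U.zpow_mem hg b), show z * y * g * (z * y)⁻¹ = z * (y * g * y⁻¹) * z⁻¹ by group, ha g hg,
      hb _ (U.zpow_mem hg a), ← zpow_mul, ← zpow_mul, mul_comm]
  have hg' : (z * y)⁻¹ * g * (z * y) ∈ U := by
    have := (mem_normalizer_iff.1 (inv_mem (mul_mem hz hy)) g).1 hg
    rwa [inv_inv] at this
  have h2 : ⁅y, z⁆ * g * ⁅y, z⁆⁻¹ = g := by
    rw [commutatorElement_def, show y * z * y⁻¹ * z⁻¹ * g * (y * z * y⁻¹ * z⁻¹)⁻¹ =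
      y * z * ((z * y)⁻¹ * g * (z * y)) * (y * z)⁻¹ by group, h1 _ hg']
    group
  show ⁅y, z⁆ * g = g * ⁅y, z⁆
  conv_rhs => rw [← h2]
  group

theorem normalizer_le_normalizer_cent (B : Subgroup G) :
    normalizer (B : Set G) ≤ normalizer ((centralizer (B : Set G) : Subgroup G) : Set G) := by
  have h1 : ∀ y ∈ normalizer (B : Set G), ∀ g ∈ centralizer (B : Set G), y * g * y⁻¹ ∈ centralizer (B : Set G) := by
    intro y hy g hg
    refine mem_centralizer_iff.2 fun b hb => ?_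
    have hb' : y⁻¹ * b * y ∈ B := by
      have := (mem_normalizer_iff.1 (inv_mem hy) b).1 hb
      rwa [inv_inv] at this
    calc b * (y * g * y⁻¹) = y * ((y⁻¹ * b * y) * g) * y⁻¹ := by group
      _ = y * (g * (y⁻¹ * b * y)) * y⁻¹ := by rw [mem_centralizer_iff.1 hg _ hb']
      _ = y * g * y⁻¹ * b := by group
  intro y hy
  refine mem_normalizer_iff.2 fun g => ⟨h1 y hy g, fun h => ?_⟩
  have := h1 y⁻¹ (inv_mem hy) _ h
  simpa [mul_assoc] using this

theorem subgroup_le_centralizer_zpowers {S : Subgroup G} {x : G}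
    (h : ∀ g ∈ S, Commute x g) : S ≤ centralizer (zpowers x : Set G) := by
  intro g hg
  refine mem_centralizer_iff.2 ?_
  intro t ht
  obtain ⟨k, rfl⟩ := mem_zpowers_iff.1 ht
  exact ((h g hg).zpow_left k).eq

theorem le_normalizer_zpowers {S : Subgroup G} {x : G} (h : x ∈ normalizer (S : Set G)) :
    zpowers x ≤ normalizer (S : Set G) := zpowers_le.2 h

/-- BG 3.6: the minimal configuration. -/
theorem core_false {p q : ℕ} [hp : Fact p.Prime] [hq : Fact q.Prime] (hodd : Odd (Nat.card G))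
    (V U P0 R : Subgroup G) [V.Normal] {x : G}
    (hVab : ∀ a ∈ V, ∀ b ∈ V, Commute a b) (hVpow : ∀ v ∈ V, v ^ p = 1) (hV : V ≠ ⊥)
    (hfix : Nat.card ↥(V ⊓ centralizer ({x} : Set G)) ≤ p)
    (hU : IsPGroup q U) (hP : IsPGroup p P0) (hpq : p ≠ q)
    (hxR : x ∈ R) (hr : (orderOf x).Prime) (hrp : p ≠ orderOf x) (hrq : q ≠ orderOf x)
    (hPU : P0 ≤ normalizer (U : Set G)) (hRU : R ≤ normalizer (U : Set G))
    (hRP : R ≤ normalizer (P0 : Set G))
    (hfaith : ∀ g ∈ U, g ∈ centralizer (V : Set G) → g = 1)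
    (hcyc : ∀ S : Subgroup G, S ≤ U → (∀ g ∈ S, Commute x g) → IsCyclic S)
    (hP0 : ⁅P0, R⁆ = P0) (hP0ne : P0 ≠ ⊥)
    (hPC : P0 ⊓ centralizer (U : Set G) = ⊥)
    (hmin : ∀ Q1 : Subgroup G, Q1 ≤ U → Q1 ≠ U → P0 ≤ normalizer (Q1 : Set G) →
      R ≤ normalizer (Q1 : Set G) → ∀ y ∈ P0, ∀ g ∈ Q1, Commute y g) : False := by
  classical
  have hxU : x ∈ normalizer (U : Set G) := hRU hxR
  have hro : Odd (orderOf x) := hodd.of_dvd_nat (orderOf_dvd_natCard x)
  have hcopPU : (Nat.card P0).Coprime (Nat.card U) :=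
    IsPGroup.coprime_card_of_ne p q hpq P0 U hP hU
  haveI hUnil := hU.isNilpotent
  haveI hUsol : Group.IsSolvable U := inferInstance
  have hxUcop : (Nat.card (zpowers x)).Coprime (Nat.card U) := by
    obtain ⟨n, hn⟩ := hU.exists_card_eq
    rw [Nat.card_zpowers, hn]
    exact ((Nat.coprime_primes hr hq.out).2 (Ne.symm hrq)).pow_right n
  have hPnotcent : ¬ ∀ y ∈ P0, ∀ g ∈ U, Commute y g := by
    intro h
    exact hP0ne (eq_bot_iff.2 (hPC ▸ le_inf le_rfl fun y hy => mem_centralizer_iff.2 fun g hg => (h y hy g hg).eq.symm))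
  have hUne : U ≠ ⊥ := by
    rintro rfl
    exact hPnotcent fun y _ g hg => by rw [mem_bot.1 hg]; exact Commute.one_right y
  -- `[U, P0] = U`
  have hUP : ⁅U, P0⁆ = U := by
    have hle : ⁅U, P0⁆ ≤ U := Solvable.commutator_le_of_normalizes hPU
    by_contra hne
    have hRn : R ≤ normalizer ((⁅U, P0⁆ : Subgroup G) : Set G) := fun g hg =>
      mem_normalizer_iff.2 fun t => by
        have h1 : (⁅U, P0⁆ : Subgroup G).map (MulAut.conj g).toMonoidHom = ⁅U, P0⁆ := by
          rw [map_commutator]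
          congr 1
          · exact Subgroup.mem_normalizer_iff_map_conj_eq.1 (hRU hg)
          · exact Subgroup.mem_normalizer_iff_map_conj_eq.1 (hRP hg)
        exact Subgroup.mem_normalizer_iff.1 (Subgroup.mem_normalizer_iff_map_conj_eq.2 h1) t
    have h1 := hmin _ hle hne (Solvable.le_normalizer_commutator_right U P0) hRn
    have h2 : ⁅⁅U, P0⁆, P0⁆ = ⊥ :=
      commutator_eq_bot_iff_le_centralizer.2 fun g hg => mem_centralizer_iff.2 fun y hy => (h1 y hy g hg).eq
    rw [Solvable.commutator_commutator_eq hPU hcopPU (Or.inr hUsol)] at h2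
    rw [commutator_eq_bot_iff_le_centralizer] at h2
    exact hPnotcent fun y hy g hg => mem_centralizer_iff.1 (h2 hg) y hy
  -- `Z = [U, U]`
  set Z : Subgroup G := ⁅U, U⁆ with hZdef
  have hZU : Z ≤ U := commutator_le_self U
  have hZn : ∀ g ∈ normalizer (U : Set G), g ∈ normalizer (Z : Set G) := fun g hg =>
    Subgroup.mem_normalizer_iff_map_conj_eq.2 (by
      rw [hZdef, map_commutator, Subgroup.mem_normalizer_iff_map_conj_eq.1 hg])
  have hZne : Z ≠ U := by
    intro hh
    haveI : Nontrivial U := (nontrivial_iff_ne_bot U).2 hUne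
    have h1 : commutator U < ⊤ := Group.IsSolvable.commutator_lt_top_of_nontrivial U
    refine h1.ne (map_injective U.subtype_injective ?_)
    rw [commutator_def, map_commutator, ← MonoidHom.range_eq_map, range_subtype, ← hZdef, hh]
  have hUN : U ≤ normalizer (U : Set G) := le_normalizer
  have hZP : ∀ y ∈ P0, ∀ z ∈ Z, Commute y z :=
    hmin Z hZU hZne (fun g hg => hZn g (hPU hg)) (fun g hg => hZn g (hRU hg))
  have hZcent : ∀ z ∈ Z, ∀ g ∈ U, Commute z g := by
    have h1 : ⁅⁅U, P0⁆, Z⁆ = ⊥ := by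
      refine commutator_commutator_eq_bot_of_rotate ?_ ?_
      · rw [show ⁅P0, Z⁆ = ⊥ from commutator_eq_bot_iff_le_centralizer.2
          fun y hy => mem_centralizer_iff.2 fun z hz => (hZP y hy z hz).eq.symm, commutator_bot_left]
      · exact commutator_eq_bot_iff_le_centralizer.2 fun t ht => mem_centralizer_iff.2 fun y hy =>
          (hZP y hy t (Solvable.commutator_le_of_normalizes (fun g hg => hZn g (hUN hg)) ht)).eq
    rw [hUP, commutator_eq_bot_iff_le_centralizer] at h1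
    exact fun z hz g hg => mem_centralizer_iff.1 (h1 hg) z hz
  -- exponent `q`
  have hexp : ∀ g ∈ U, g ^ q = 1 := by
    have hfr : ∀ g ∈ U, g ^ q ∈ (frattini U).map U.subtype := fun g hg =>
      ⟨(⟨g, hg⟩ : U) ^ q, pow_mem_frattini_of_isPGroup hU _, rfl⟩
    have hΦne : (frattini U).map U.subtype ≠ U := by
      intro hh
      haveI : Nontrivial U := (nontrivial_iff_ne_bot U).2 hUne
      have h1 : frattini U ≠ ⊤ := by
        obtain ⟨M, hM, -⟩ := (eq_top_or_exists_le_coatom (⊥ : Subgroup U)).resolve_left bot_ne_top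
        exact fun ht => hM.1 (top_le_iff.1 (ht ▸ frattini_le_coatom hM))
      refine h1 (map_injective U.subtype_injective ?_)
      rw [hh, ← MonoidHom.range_eq_map, range_subtype]
    have hΦn : ∀ g ∈ normalizer (U : Set G), g ∈ normalizer (((frattini U).map U.subtype : Subgroup G) : Set G) := by
      intro g hg
      rw [Subgroup.mem_normalizer_iff_map_conj_eq]
      have hc : (frattini U).map ((U.normalizerMonoidHom ⟨g, hg⟩ : U ≃* U).toMonoidHom) = frattini U :=
        characteristic_iff_map_eq.1 inferInstance _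
      conv_rhs => rw [← hc]
      rw [map_map, map_map]
      rfl
    have hΦP := hmin _ (map_subtype_le _) hΦne (fun g hg => hΦn g (hPU hg)) (fun g hg => hΦn g (hRU hg))
    have hqodd : q ≠ 2 := by
      intro h2
      have hd : q ∣ Nat.card G := by
        obtain ⟨n, hn⟩ := hU.exists_card_eq
        have hn0 : n ≠ 0 := fun h0 => hUne (card_eq_one.1 (by rw [hn, h0, pow_zero]))
        exact (dvd_pow_self q hn0).trans (hn ▸ U.card_subgroup_dvd_card)
      exact (Nat.not_even_iff_odd.2 (hodd.of_dvd_nat hd)) (h2 ▸ even_two)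
    -- `[g, h]` has order dividing `q`
    have hcq : ∀ g ∈ U, ∀ h ∈ U, ⁅g, h⁆ ^ q = 1 := by
      intro g hg h hh
      have hc : ∀ z ∈ U, Commute ⁅g, h⁆ z := hZcent _ (commutator_mem_commutator hg hh)
      have hpw : ∀ n : ℕ, ⁅g ^ n, h⁆ = ⁅g, h⁆ ^ n := by
        intro n
        induction n with
        | zero => simp
        | succ n ih =>
          have : ⁅g ^ (n + 1), h⁆ = g * ⁅g ^ n, h⁆ * g⁻¹ * ⁅g, h⁆ := by
            simp only [commutatorElement_def, pow_succ']
            group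
          rw [this, ih, ← ((hc g hg).pow_left n).eq, mul_inv_cancel_right, pow_succ]
      rw [← hpw]
      have hqz : ⁅⁅U, P0⁆, (frattini U).map U.subtype⁆ = ⊥ := by
        refine commutator_commutator_eq_bot_of_rotate ?_ ?_
        · rw [show ⁅P0, (frattini U).map U.subtype⁆ = ⊥ from commutator_eq_bot_iff_le_centralizer.2
            fun y hy => mem_centralizer_iff.2 fun z hz => (hΦP y hy z hz).eq.symm, commutator_bot_left]
        · exact commutator_eq_bot_iff_le_centralizer.2 fun t ht => mem_centralizer_iff.2 fun y hy =>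
            (hΦP y hy t (Solvable.commutator_le_of_normalizes (fun g hg => hΦn g (hUN hg)) ht)).eq
      rw [hUP, commutator_eq_bot_iff_le_centralizer] at hqz
      rw [commutatorElement_eq_one_iff_commute]
      exact mem_centralizer_iff.1 (hqz hh) _ (hfr g hg)
    have hhom : ∀ a ∈ U, ∀ b ∈ U, (a * b) ^ q = a ^ q * b ^ q := by
      intro a ha b hb
      have hc : ∀ z ∈ U, Commute ⁅b, a⁆ z := hZcent _ (commutator_mem_commutator hb ha)
      rw [mul_pow_of_central_commutator (c := ⁅b, a⁆) (by rw [commutatorElement_def]; group) (hc a ha) (hc b hb),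
        Nat.choose_two_right]
      obtain ⟨k, hk⟩ := (hq.out.odd_of_ne_two hqodd).add_odd odd_one
      rw [show q * (q - 1) / 2 = q * (k - 1) by
        rw [show q - 1 = 2 * (k - 1) by omega, Nat.mul_div_assoc q (Dvd.intro _ rfl),
          Nat.mul_div_cancel_left _ (by norm_num)],
        pow_mul, hcq b hb a ha, one_pow, one_mul]
    let T : Subgroup G :=
      { carrier := {g | g ∈ U ∧ g ^ q = 1}
        one_mem' := ⟨U.one_mem, one_pow q⟩
        mul_mem' := fun {a b} ha hb => ⟨U.mul_mem ha.1 hb.1, by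
          rw [hhom a ha.1 b hb.1, ha.2, hb.2, one_mul]⟩
        inv_mem' := fun {a} ha => ⟨U.inv_mem ha.1, by rw [inv_pow, ha.2, inv_one]⟩ }
    have hT : ⁅U, P0⁆ ≤ T := by
      rw [commutator_le]
      intro g hg y hy
      have hyg : y * g⁻¹ * y⁻¹ ∈ U := (mem_normalizer_iff.1 (hPU hy) _).1 (U.inv_mem hg)
      refine ⟨hUP ▸ commutator_mem_commutator hg hy, ?_⟩
      rw [commutatorElement_def, show g * y * g⁻¹ * y⁻¹ = g * (y * g⁻¹ * y⁻¹) by group,
        hhom g hg _ hyg, conj_pow, inv_pow, (hΦP y hy _ (inv_mem (hfr g hg))).eq,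
        mul_inv_cancel_right, mul_inv_cancel]
    intro g hg
    exact (hT (hUP.symm ▸ hg)).2
  -- the quotient `U / Z`
  haveI hZnorm : (Z.subgroupOf U).Normal := ⟨fun z hz g => by
    rw [mem_subgroupOf] at hz ⊢
    push_cast
    rw [← (hZcent _ hz (g : G) g.2).eq, mul_inv_cancel_right]
    exact hz⟩
  letI : CommGroup (IQ U Z) :=
    { (inferInstance : Group (IQ U Z)) with
      mul_comm := fun a b => by
        induction a using QuotientGroup.induction_on with
        | _ a =>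
          induction b using QuotientGroup.induction_on with
          | _ b =>
            rw [← QuotientGroup.mk_mul, ← QuotientGroup.mk_mul, QuotientGroup.eq, mem_subgroupOf]
            have := commutator_mem_commutator (U.inv_mem b.2) (U.inv_mem a.2)
            simpa [commutatorElement_def, mul_assoc, ← hZdef] using this }
  letI : MulDistribMulAction (NC U Z) (IQ U Z) :=
    { instActIQ with
      smul_one := fun h => by
        show h • iq Z U.one_mem = iq Z U.one_mem
        rw [smul_iq, iq_eq_iff]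
        simp
      smul_mul := fun h a b => by
        induction a using QuotientGroup.induction_on with
        | _ a =>
          induction b using QuotientGroup.induction_on with
          | _ b =>
            show h • iq Z (U.mul_mem a.2 b.2) = h • iq Z a.2 * (h • iq Z b.2)
            rw [smul_iq, smul_iq, smul_iq]
            show _ = iq Z (U.mul_mem (conj_mem_of_nc h a.2) (conj_mem_of_nc h b.2))
            rw [iq_eq_iff]
            simp [mul_assoc] }
  haveI : Finite (IQ U Z) := inferInstanceAs (Finite (U ⧸ Z.subgroupOf U))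
  have hcopPI : (Nat.card P0).Coprime (Nat.card (IQ U Z)) :=
    hcopPU.coprime_dvd_right (Z.subgroupOf U).index_dvd_card
  have hP0NC : P0 ≤ NC U Z := fun y hy =>
    ⟨hPU hy, mem_centralizer_iff.2 fun z hz => (hZP y hy z hz).eq.symm⟩
  -- fixed points of `P0` on `U / Z`
  have hC : ∀ g ∈ U, (∀ y ∈ P0, Commute y g) → g ∈ Z := by
    intro g hg hgc
    haveI : Fintype P0 := Fintype.ofFinite P0
    let μ : U →* IQ U Z :=
      MonoidHom.mk' (fun u => ∏ c : P0, (⟨(c : G), hP0NC c.2⟩ : NC U Z) • iq Z u.2) fun a b => by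
        rw [← Finset.prod_mul_distrib]
        exact Finset.prod_congr rfl fun c _ => smul_mul' _ (iq Z a.2) (iq Z b.2)
    have hker : ⁅U, P0⁆ ≤ μ.ker.map U.subtype := by
      rw [commutator_le]
      intro u hu y hy
      have hyu : y * u⁻¹ * y⁻¹ ∈ U := (mem_normalizer_iff.1 (hPU hy) _).1 (U.inv_mem hu)
      refine ⟨⟨u, hu⟩ * ⟨y * u⁻¹ * y⁻¹, hyu⟩, ?_, by simp [commutatorElement_def, mul_assoc]⟩
      have hinv : μ ⟨y * u⁻¹ * y⁻¹, hyu⟩ = μ ⟨u⁻¹, U.inv_mem hu⟩ := by
        show ∏ c : P0, (⟨(c : G), hP0NC c.2⟩ : NC U Z) • iq Z hyu =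
          ∏ c : P0, (⟨(c : G), hP0NC c.2⟩ : NC U Z) • iq Z (U.inv_mem hu)
        refine Fintype.prod_equiv (Equiv.mulRight ⟨y, hy⟩) _ _ fun c => ?_
        rw [show iq Z hyu = (⟨y, hP0NC hy⟩ : NC U Z) • iq Z (U.inv_mem hu) from
          (smul_iq (⟨y, hP0NC hy⟩ : NC U Z) (U.inv_mem hu)).symm,
          smul_smul]
        rfl
      show μ _ = 1
      rw [map_mul, hinv, ← map_mul, show (⟨u, hu⟩ : U) * ⟨u⁻¹, U.inv_mem hu⟩ = 1 from
        Subtype.ext (mul_inv_cancel u), map_one]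
    obtain ⟨u, hu, hue⟩ := hker (hUP.symm ▸ hg)
    have hu1 : u = ⟨g, hg⟩ := Subtype.ext hue
    rw [hu1, SetLike.mem_coe, MonoidHom.mem_ker] at hu
    have h1 : μ ⟨g, hg⟩ = (iq Z hg) ^ Nat.card P0 := by
      show ∏ c : P0, (⟨(c : G), hP0NC c.2⟩ : NC U Z) • iq Z hg = _
      rw [Nat.card_eq_fintype_card, ← Finset.card_univ, ← Finset.prod_const]
      refine Finset.prod_congr rfl fun c _ => ?_
      rw [smul_iq, iq_eq_iff]
      show ((c : G) * g * (c : G)⁻¹)⁻¹ * g ∈ Z
      rw [show (c : G) * g * (c : G)⁻¹ = g by rw [(hgc c c.2).eq, mul_inv_cancel_right], inv_mul_cancel]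
      exact Z.one_mem
    rw [h1] at hu
    have h2 : iq Z hg = iq Z U.one_mem := orderOf_eq_one_iff.1
      (Nat.eq_one_of_dvd_coprimes hcopPI (orderOf_dvd_of_pow_eq_one hu) (orderOf_dvd_natCard _))
    rw [iq_eq_iff, mul_one] at h2
    exact inv_mem_iff.1 h2
  -- invariant proper subgroups lie in `Z`
  have hirr : ∀ Q1 : Subgroup G, Q1 ≤ U → Q1 ≠ U → P0 ≤ normalizer (Q1 : Set G) →
      R ≤ normalizer (Q1 : Set G) → Q1 ≤ Z := fun Q1 h1 h2 h3 h4 g hg =>
    hC g (h1 hg) fun y hy => hmin Q1 h1 h2 h3 h4 y hy g hg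
  -- `x` does not centralise `U`
  have hxnc : ∃ g ∈ U, ¬ Commute x g := by
    by_contra hall
    push Not at hall
    haveI := hcyc U le_rfl hall
    refine hPnotcent fun y hy g hg => ?_
    rw [← hP0] at hy
    have hle : ⁅P0, R⁆ ≤ centralizer (U : Set G) := by
      rw [commutator_le]
      exact fun a ha b hb => mem_centralizer_iff.2 fun u hu =>
        (commute_commutator_of_cyclic (hPU ha) (hRU hb) hu).eq.symm
    exact (mem_centralizer_iff.1 (hle hy) g hg).symm
  -- the module over the algebraic closure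
  obtain ⟨n, hn, ρ, hρfix, hρf⟩ := exists_closure_rep V hVab hVpow hV x
    (fun hd => hrp ((Nat.prime_dvd_prime_iff_eq hp.out hr).1 hd)) hfix
  let K := AlgebraicClosure (ZMod p)
  haveI : CharP K p := charP_of_injective_algebraMap (algebraMap (ZMod p) K).injective p
  haveI : Nonempty (Fin n) := ⟨⟨0, hn⟩⟩
  have hρU : ∀ g ∈ U, ρ g = 1 → g = 1 := fun g hg h => hfaith g hg (hρf g h)
  have hqK : (q : K) ≠ 0 := by
    rw [ne_eq, CharP.cast_eq_zero_iff K p]
    exact fun h => hpq ((Nat.prime_dvd_prime_iff_eq hp.out hq.out).1 h)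
  have hrK : ((orderOf x : ℕ) : K) ≠ 0 := by
    rw [ne_eq, CharP.cast_eq_zero_iff K p]
    exact fun h => hrp ((Nat.prime_dvd_prime_iff_eq hp.out hr).1 h)
  have hordK : ∀ g ∈ U, ((orderOf g : ℕ) : K) ≠ 0 := by
    intro g hg h0
    rcases (Nat.dvd_prime hq.out).1 (orderOf_dvd_of_pow_eq_one (hexp g hg)) with h | h <;>
      rw [h] at h0
    · simp at h0
    · exact hqK h0
  by_cases hZb : Z = ⊥
  · -- abelian
    have hab : ∀ a ∈ U, ∀ b ∈ U, Commute a b := fun a ha b hb => by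
      rw [← commutatorElement_eq_one_iff_commute, ← mem_bot, ← hZb]
      exact commutator_mem_commutator ha hb
    haveI : IsCyclic ↥(U ⊓ centralizer ({x} : Set G)) := hcyc _ inf_le_left fun g hg =>
      (mem_centralizer_singleton_iff.1 hg.2).symm
    obtain ⟨⟨c, hc⟩, hgen⟩ := IsCyclic.exists_generator (α := ↥(U ⊓ centralizer ({x} : Set G)))
    refine hPnotcent (commute_of_abelian ρ hq.out hqK U P0 (P0 ⊔ R) hρfix hr hro hrp hab hexp hρU
      (sup_le hPU hRU) (mem_sup_right hxR) le_sup_left hP (hRP hxR) (hodd.of_dvd_nat (P0 ⊔ R).card_subgroup_dvd_card)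
      (fun Q1 h1 h2 h3 => ?_) (fun g hg => ?_) hc.1 (fun g hg hxg => ?_) hxnc)
    · have := hirr Q1 h1 h3 (le_sup_left.trans h2) (le_sup_right.trans h2)
      rwa [hZb, le_bot_iff] at this
    · haveI : IsMulCommutative U := ⟨⟨fun a b => Subtype.ext (hab a a.2 b b.2).eq⟩⟩
      have hsup := Solvable.commutator_sup_centralizer (le_normalizer_zpowers hxU) hxUcop (Or.inr hUsol)
      rw [← hsup] at hg
      have hcle : ⁅U, zpowers x⁆ ≤ U :=
        Solvable.commutator_le_of_normalizes (le_normalizer_zpowers hxU)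
      obtain ⟨d, hd, k, hk, rfl⟩ := (Solvable.mem_sup_of_le_normalizer
        (inf_le_left.trans (Solvable.le_normalizer_commutator_left U (zpowers x)))).mp hg
      refine ⟨k, hk.1, (mem_centralizer_iff.1 hk.2 x (mem_zpowers x)), fun χ hχ hfx => ?_⟩
      let T : Subgroup G :=
        { carrier := {t | t ∈ U ∧ χ t = 1}
          one_mem' := ⟨U.one_mem, hχ.map_one⟩
          mul_mem' := fun {a b} ha hb => ⟨U.mul_mem ha.1 hb.1, by
            rw [hχ.map_mul ha.1 hb.1, ha.2, hb.2, one_mul]⟩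
          inv_mem' := fun {a} ha => ⟨U.inv_mem ha.1, by rw [hχ.map_inv ha.1, ha.2, inv_one]⟩ }
      have hT : ⁅U, zpowers x⁆ ≤ T := by
        rw [commutator_le]
        intro u hu t ht
        have htu : t * u⁻¹ * t⁻¹ ∈ U :=
          (mem_normalizer_iff.1 (le_normalizer_zpowers hxU ht) _).1 (U.inv_mem hu)
        refine ⟨hcle (commutator_mem_commutator hu ht), ?_⟩
        rw [commutatorElement_def, show u * t * u⁻¹ * t⁻¹ = u * (t * u⁻¹ * t⁻¹) by group,
          hχ.map_mul hu htu]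
        have h1 : cw t⁻¹ χ = χ := mem_cwStab.1
          (inv_mem (zpowers_le.2 (mem_cwStab.2 hfx) ht))
        have h2 : χ (t * u⁻¹ * t⁻¹) = χ u⁻¹ := by
          conv_rhs => rw [← h1]
          simp [cw]
        rw [h2, hχ.map_inv hu, mul_inv_cancel₀ (hχ.ne_zero hu)]
      rw [hχ.map_mul (hcle hd) hk.1, (hT hd).2, one_mul]
    · obtain ⟨m, hm⟩ := (isOfFinOrder_of_finite (⟨c, hc⟩ : ↥(U ⊓ centralizer ({x} : Set G)))).mem_powers_iff_mem_zpowers.2
        (hgen ⟨g, hg, mem_centralizer_singleton_iff.2 hxg.eq.symm⟩)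
      exact ⟨m, congrArg Subtype.val hm⟩
  -- nonabelian
  have hxZn : x ∈ normalizer (Z : Set G) := hZn x hxU
  have hxZ : ∀ z ∈ Z, Commute x z := by
    intro z hz
    have h1 := apply_conj_eq_of_le_commutator hρfix hr hxZn (le_refl Z) hZcent
      (fun a ha b hb => hZcent a ha b (hZU hb)) (fun w hw => hordK w (hZU hw)) z hz
    have hxz : x * z * x⁻¹ ∈ Z := (mem_normalizer_iff.1 hxZn z).1 hz
    have h2 : ρ (x * z * x⁻¹ * z⁻¹) = 1 := by
      rw [map_mul, h1, ← map_mul, mul_inv_cancel, map_one]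
    have h3 := hρU _ (hZU (Z.mul_mem hxz (Z.inv_mem hz))) h2
    show x * z = z * x
    rw [mul_inv_eq_one] at h3
    conv_rhs => rw [← h3]
    group
  have hcardcyc : ∀ S : Subgroup G, S ≤ U → (∀ g ∈ S, Commute x g) → Nat.card S ∣ q := by
    intro S hS hSx
    haveI := hcyc S hS hSx
    rw [← IsCyclic.exponent_eq_card]
    exact Monoid.exponent_dvd_of_forall_pow_eq_one fun g => Subtype.ext (hexp _ (hS g.2))
  have hZcard : Nat.card Z = q :=
    ((Nat.dvd_prime hq.out).1 (hcardcyc Z hZU hxZ)).resolve_left fun h => hZb (card_eq_one.1 h)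
  have hfree : ∀ g ∈ U, ⁅x, g⁆ ∈ Z → g ∈ Z := by
    intro g hg hc
    let K0 : Subgroup G :=
      { carrier := {t | t ∈ U ∧ ⁅x, t⁆ ∈ Z}
        one_mem' := ⟨U.one_mem, by rw [commutatorElement_one_right]; exact Z.one_mem⟩
        mul_mem' := fun {a b} ha hb => ⟨U.mul_mem ha.1 hb.1, by
          rw [show ⁅x, a * b⁆ = ⁅x, a⁆ * (a * ⁅x, b⁆ * a⁻¹) by simp [commutatorElement_def]; group,
            ← (hZcent _ hb.2 a ha.1).eq, mul_inv_cancel_right]
          exact Z.mul_mem ha.2 hb.2⟩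
        inv_mem' := fun {a} ha => ⟨U.inv_mem ha.1, by
          rw [show ⁅x, a⁻¹⁆ = a⁻¹ * ⁅x, a⁆⁻¹ * a by simp [commutatorElement_def]; group, mul_assoc,
            (hZcent _ (Z.inv_mem ha.2) a ha.1).eq, inv_mul_cancel_left]
          exact Z.inv_mem ha.2⟩ }
    have hK0x : ∀ t ∈ K0, Commute x t := by
      rintro t ⟨ht, htc⟩
      have hfixt : ∀ a ∈ zpowers x, a * t * a⁻¹ * t⁻¹ ∈ Z := by
        let T : Subgroup G :=
          { carrier := {a | a ∈ normalizer (Z : Set G) ∧ a * t * a⁻¹ * t⁻¹ ∈ Z}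
            one_mem' := ⟨one_mem _, by simp⟩
            mul_mem' := fun {a b} ha hb => ⟨mul_mem ha.1 hb.1, by
              rw [show a * b * t * (a * b)⁻¹ * t⁻¹ =
                a * (b * t * b⁻¹ * t⁻¹) * a⁻¹ * (a * t * a⁻¹ * t⁻¹) by group]
              exact Z.mul_mem ((mem_normalizer_iff.1 ha.1 _).1 hb.2) ha.2⟩
            inv_mem' := fun {a} ha => ⟨inv_mem ha.1, by
              rw [show a⁻¹ * t * a⁻¹⁻¹ * t⁻¹ = a⁻¹ * (a * t * a⁻¹ * t⁻¹)⁻¹ * a⁻¹⁻¹ by group]
              exact (mem_normalizer_iff.1 (inv_mem ha.1) _).1 (Z.inv_mem ha.2)⟩ }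
        exact fun a ha => ((zpowers_le (H := T)).2 ⟨hxZn, htc⟩ ha).2
      obtain ⟨c, hcc, htz⟩ := Solvable.exists_fixed_of_fixed_mod (le_normalizer_zpowers hxU) hxUcop
        (Or.inr hUsol) hZU (fun u hu => hZn u (hUN hu)) (le_normalizer_zpowers hxZn) ht hfixt
      have h1 : Commute x (t⁻¹ * c) := hxZ _ htz
      have h2 : Commute x c := mem_centralizer_iff.1 hcc.2 x (mem_zpowers x)
      have h3 := h2.mul_right h1.inv_right
      rwa [mul_inv_rev, inv_inv, mul_inv_cancel_left] at h3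
    have hle : Z ≤ K0 := fun z hz => ⟨hZU hz, by
      rw [commutatorElement_eq_one_iff_commute.2 (hxZ z hz)]; exact Z.one_mem⟩
    have heq : Z = K0 := eq_of_le_of_card_ge hle
      (hZcard.symm ▸ Nat.le_of_dvd hq.out.pos (hcardcyc K0 (fun t ht => ht.1) hK0x))
    rw [heq]
    exact ⟨hg, hc⟩
  have hnondeg : ∀ g ∈ U, (∀ h ∈ U, Commute g h) → g ∈ Z := by
    intro g hg hgc
    refine hirr (U ⊓ centralizer (U : Set G)) inf_le_left ?_ ?_ ?_
      ⟨hg, mem_centralizer_iff.2 fun u hu => (hgc u hu).eq.symm⟩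
    · intro hh
      exact hZb (commutator_eq_bot_iff_le_centralizer.2 (inf_eq_left.1 hh))
    · exact fun y hy => inf_normalizer_le_normalizer_inf
        ⟨hPU hy, (normalizer_le_normalizer_cent U) (hPU hy)⟩
    · exact fun y hy => inf_normalizer_le_normalizer_inf
        ⟨hRU hy, (normalizer_le_normalizer_cent U) (hRU hy)⟩
  -- a weight of `Z`
  obtain ⟨ζ, hζ, hζne⟩ : ∃ ζ : G → K, IsWt ρ Z ζ ∧ ∃ z ∈ Z, ζ z ≠ 1 := by
    by_contra hall
    push Not at hall
    refine hZb (eq_bot_iff.2 fun z hz => mem_bot.2 ?_)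
    exact hρU z (hZU hz) (eq_one_of_weights Z (fun a ha b hb => (hZcent a ha b (hZU hb)).map ρ) hz
      (hordK z (hZU hz)) (pow_orderOf_eq_one z) fun χ hχ => hall χ hχ z hz)
  let E := wt ρ Z ζ
  let S := HallHigman.stab ρ E
  have hstab : ∀ g : G, (∀ z ∈ Z, Commute g z) → g ∈ S := by
    intro g hgz v hv
    refine mem_wt.2 fun z hz => ?_
    rw [← rep_mul_apply, ← (hgz z hz).eq, rep_mul_apply, mem_wt.1 hv z hz, map_smul]
  have hUS : U ≤ S := fun g hg => hstab g fun z hz => (hZcent z hz g hg).symm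
  have hxS : x ∈ S := hstab x hxZ
  have hox : orderOf (⟨x, hxS⟩ : S) = orderOf x := orderOf_mk _ _
  haveI : Nontrivial E := (Submodule.nontrivial_iff_ne_bot).2 hζ.2
  have hZgen : ∀ z ∈ Z, z ≠ 1 → ∀ w ∈ Z, ∃ k : ℕ, z ^ k = w := by
    intro z hz hz1 w hw
    have := mem_powers_of_prime_card (G := Z) hZcard (g := ⟨z, hz⟩) (g' := ⟨w, hw⟩)
      fun h => hz1 (congrArg Subtype.val h)
    obtain ⟨k, hk⟩ := this
    exact ⟨k, congrArg Subtype.val hk⟩
  obtain ⟨u, hu⟩ := hρfix
  have hfixE : FixLineAt (HallHigman.subRep ρ E) (⟨x, hxS⟩ : S) := by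
    by_cases hex : ∃ w : E, HallHigman.subRep ρ E ⟨x, hxS⟩ w = w ∧ w ≠ 0
    · obtain ⟨w, hw, hw0⟩ := hex
      refine ⟨w, fun v hv => ?_⟩
      obtain ⟨cw', hcw⟩ := hu w (congrArg Subtype.val hw)
      obtain ⟨cv, hcv⟩ := hu v (congrArg Subtype.val hv)
      have hcw0 : cw' ≠ 0 := fun h0 => hw0 (Subtype.ext (by rw [hcw, h0, zero_smul]; rfl))
      refine ⟨cv * cw'⁻¹, Subtype.ext ?_⟩
      rw [Submodule.coe_smul, hcv, hcw, smul_smul, mul_assoc, inv_mul_cancel₀ hcw0, mul_one]
    · push Not at hex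
      exact ⟨0, fun v hv => ⟨0, by rw [zero_smul]; exact hex v hv⟩⟩
  have hX : HeisX (HallHigman.subRep ρ E) q (U.subgroupOf S) (Z.subgroupOf S) ⟨x, hxS⟩ := by
    refine
      { hq := hq.out, qodd := hodd.of_dvd_nat (hZcard ▸ Z.card_subgroup_dvd_card)
        le := fun z hz => hZU hz
        qgroup := hU.of_equiv (subgroupOfEquivOfLe hUS).symm
        comm := fun g hg h hh => ?_, cent := fun z hz g hg => Subtype.ext (hZcent _ hz _ hg).eq
        nondeg := fun g hg hgc => ?_, scalar := fun z hz => ?_, faith := fun z hz hz1 => ?_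
        big := ?_, rprime := hox.symm ▸ hr, rodd := hox.symm ▸ hro
        rK := hox.symm ▸ hrK, xQ := ?_, xZ := fun z hz => Subtype.ext (hxZ _ hz).eq
        free := fun g hg hc => ?_, fix := hfixE }
    · rw [mem_subgroupOf] at hg hh ⊢
      exact commutator_mem_commutator hg hh
    · exact hnondeg _ hg fun h hh => congrArg Subtype.val (hgc ⟨h, hUS hh⟩ hh).eq
    · exact ⟨ζ (z : G), LinearMap.ext fun v => Subtype.ext (mem_wt.1 v.2 _ hz)⟩
    · by_contra hne
      obtain ⟨w, hw, hwne⟩ := hζne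
      obtain ⟨v, hv, hv0⟩ := (Submodule.ne_bot_iff _).1 hζ.2
      have h1 : ρ (z : G) v = v := congrArg Subtype.val (LinearMap.congr_fun hz1 ⟨v, hv⟩)
      rw [mem_wt.1 hv (z : G) hz] at h1
      have h2 : ζ (z : G) = 1 := smul_left_injective K hv0 (by simpa using h1)
      obtain ⟨k, hk⟩ := hZgen _ hz (fun h => hne (Subtype.ext h)) w hw
      exact hwne (by rw [← hk, hζ.map_pow hz]; exact (congrArg (· ^ k) h2).trans (one_pow k))
    · obtain ⟨g, hg, hgZ⟩ : ∃ g ∈ U, g ∉ Z := by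
        by_contra hall
        push Not at hall
        exact hZne (le_antisymm hZU hall)
      exact ⟨⟨g, hUS hg⟩, hg, hgZ⟩
    · rw [mem_normalizer_iff]
      intro g
      simp only [mem_subgroupOf]
      exact mem_normalizer_iff.1 hxU (g : G)
    · rw [mem_subgroupOf] at hg hc ⊢
      exact hfree _ hg hc
  -- an element of order `p` commuting with `x`
  let A : Subgroup G := P0 ⊓ centralizer (P0 : Set G)
  have hAP : A ≤ P0 := inf_le_left
  have hAn : ∀ y ∈ normalizer (P0 : Set G), y ∈ normalizer (A : Set G) := fun y hy =>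
    inf_normalizer_le_normalizer_inf ⟨hy, (normalizer_le_normalizer_cent P0) hy⟩
  have hAne : A ≠ ⊥ := by
    haveI : Nontrivial P0 := (nontrivial_iff_ne_bot P0).2 hP0ne
    haveI := hP.center_nontrivial
    obtain ⟨⟨⟨z, hz⟩, hzc⟩, hne⟩ := exists_ne (1 : center P0)
    refine (ne_bot_iff_exists_ne_one).2 ⟨⟨z, hz, mem_centralizer_iff.2 fun y hy =>
      congrArg Subtype.val (mem_center_iff.1 hzc ⟨y, hy⟩)⟩, fun h => hne ?_⟩
    exact Subtype.ext (Subtype.ext (congrArg Subtype.val h :))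
  -- elements of `P0` centralising `U / Z` centralise `U`
  have hcentU : ∀ a ∈ P0, (∀ g ∈ U, ⁅a, g⁆ ∈ Z) → a = 1 := by
    intro a ha h
    refine mem_bot.1 (hPC ▸ ⟨ha, ?_⟩)
    have haU : zpowers a ≤ normalizer (U : Set G) := (zpowers_le.2 ha).trans hPU
    have hc : (Nat.card (zpowers a)).Coprime (Nat.card U) :=
      hcopPU.coprime_dvd_left (card_dvd_of_le (zpowers_le.2 ha))
    have h1 : ⁅U, zpowers a⁆ ≤ Z := by
      rw [commutator_le]
      intro g hg t ht
      let T : Subgroup G :=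
        { carrier := {t | t ∈ normalizer (U : Set G) ∧ ∀ g ∈ U, ⁅g, t⁆ ∈ Z}
          one_mem' := ⟨one_mem _, fun g _ => by rw [commutatorElement_one_right]; exact Z.one_mem⟩
          mul_mem' := fun {s t} hs ht => ⟨mul_mem hs.1 ht.1, fun g hg => by
            rw [show ⁅g, s * t⁆ = ⁅g, s⁆ * (s * ⁅g, t⁆ * s⁻¹) by simp [commutatorElement_def]; group]
            exact Z.mul_mem (hs.2 g hg) ((mem_normalizer_iff.1 (hZn s hs.1) _).1 (ht.2 g hg))⟩
          inv_mem' := fun {s} hs => ⟨inv_mem hs.1, fun g hg => by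
            rw [show ⁅g, s⁻¹⁆ = s⁻¹ * ⁅g, s⁆⁻¹ * s⁻¹⁻¹ by simp [commutatorElement_def]; group]
            exact (mem_normalizer_iff.1 (hZn _ (inv_mem hs.1)) _).1 (Z.inv_mem (hs.2 g hg))⟩ }
      have : a ∈ T := ⟨hPU ha, fun g hg => by
        rw [← commutatorElement_inv]; exact Z.inv_mem (h g hg)⟩
      exact ((zpowers_le (H := T)).2 this ht).2 g hg
    have h2 : ⁅⁅U, zpowers a⁆, zpowers a⁆ = ⊥ :=
      commutator_eq_bot_iff_le_centralizer.2 fun t ht => mem_centralizer_iff.2 fun s hs =>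
        (hZP s (zpowers_le.2 ha hs) t (h1 ht)).eq
    rw [Solvable.commutator_commutator_eq haU hc (Or.inr hUsol),
      commutator_eq_bot_iff_le_centralizer] at h2
    exact mem_centralizer_iff.2 fun g hg => (mem_centralizer_iff.1 (h2 hg) a (mem_zpowers a)).symm
  obtain ⟨a, haA, ha1, hax⟩ : ∃ a ∈ A, a ≠ 1 ∧ Commute x a := by
    by_contra hall
    push Not at hall
    let xN : NC U Z := ⟨x, hxU, mem_centralizer_iff.2 fun z hz => (hxZ z hz).eq.symm⟩
    let AN : Subgroup (NC U Z) := A.subgroupOf (NC U Z)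
    have hone : ∀ {g : G} (hg : g ∈ U), g ∈ Z ↔ iq Z hg = 1 := by
      intro g hg
      show g ∈ Z ↔ iq Z hg = iq Z U.one_mem
      rw [iq_eq_iff, mul_one, inv_mem_iff]
    have hall2 : ∀ m : IQ U Z, m = 1 := by
      refine eq_one_of_frobenius AN xN (by rw [← orderOf_coe]; exact hr) ?_ ?_ ?_ ?_ ?_
      · rw [mem_normalizer_iff]
        intro t
        simp only [AN, mem_subgroupOf]
        exact mem_normalizer_iff.1 (hAn x (hRP hxR)) (t : G)
      · intro b hb hc
        by_contra hb1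
        exact hall (b : G) hb (fun h => hb1 (Subtype.ext h)) (congrArg Subtype.val hc.eq)
      · intro m hm
        rw [← iq_out m, ← hone]
        let C0 : Subgroup G :=
          { carrier := {g | g ∈ U ∧ ∀ a ∈ A, ⁅a, g⁆ ∈ Z}
            one_mem' := ⟨U.one_mem, fun a _ => by rw [commutatorElement_one_right]; exact Z.one_mem⟩
            mul_mem' := fun {g h} hg hh => ⟨U.mul_mem hg.1 hh.1, fun a ha => by
              rw [show ⁅a, g * h⁆ = ⁅a, g⁆ * (g * ⁅a, h⁆ * g⁻¹) by simp [commutatorElement_def]; group,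
                ← (hZcent _ (hh.2 a ha) g hg.1).eq, mul_inv_cancel_right]
              exact Z.mul_mem (hg.2 a ha) (hh.2 a ha)⟩
            inv_mem' := fun {g} hg => ⟨U.inv_mem hg.1, fun a ha => by
              rw [show ⁅a, g⁻¹⁆ = g⁻¹ * ⁅a, g⁆⁻¹ * g by simp [commutatorElement_def]; group, mul_assoc,
                (hZcent _ (Z.inv_mem (hg.2 a ha)) g hg.1).eq, inv_mul_cancel_left]
              exact Z.inv_mem (hg.2 a ha)⟩ }
        have hCn : ∀ y ∈ normalizer (U : Set G) ⊓ normalizer (A : Set G), y ∈ normalizer (C0 : Set G) := by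
          have hone' : ∀ y ∈ normalizer (U : Set G) ⊓ normalizer (A : Set G), ∀ g ∈ C0, y * g * y⁻¹ ∈ C0 := by
            rintro y ⟨hy1, hy2⟩ g ⟨hg1, hg2⟩
            refine ⟨(mem_normalizer_iff.1 hy1 g).1 hg1, fun a ha => ?_⟩
            have ha' : y⁻¹ * a * y ∈ A := by
              have := (mem_normalizer_iff.1 (inv_mem hy2) a).1 ha
              rwa [inv_inv] at this
            rw [show ⁅a, y * g * y⁻¹⁆ = y * ⁅y⁻¹ * a * y, g⁆ * y⁻¹ by simp [commutatorElement_def]; group]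
            exact (mem_normalizer_iff.1 (hZn y hy1) _).1 (hg2 _ ha')
          intro y hy
          refine mem_normalizer_iff.2 fun g => ⟨hone' y hy g, fun h => ?_⟩
          have := hone' y⁻¹ (inv_mem hy) _ h
          simpa [mul_assoc] using this
        refine hirr C0 (fun g hg => hg.1) ?_
          (fun y hy => hCn y ⟨hPU hy, hAn y (le_normalizer hy)⟩)
          (fun y hy => hCn y ⟨hRU hy, hAn y (hRP hy)⟩) ⟨rout_mem m, fun b hb => ?_⟩
        · intro hh
          refine hAne (eq_bot_iff.2 fun b hb => mem_bot.2 (hcentU b (hAP hb) fun g hg => ?_))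
          exact ((hh.symm ▸ hg : g ∈ C0)).2 b hb
        · have h1 := hm ⟨b, hP0NC (hAP hb)⟩ hb
          rw [← iq_out m, smul_iq, iq_eq_iff] at h1
          rw [commutatorElement_def]
          have h3 := hZcent _ (Z.inv_mem h1) _ (rout_mem m)
          rw [show b * rout m * b⁻¹ * (rout m)⁻¹ = rout m * ((b * rout m * b⁻¹)⁻¹ * rout m)⁻¹ * (rout m)⁻¹
            by group, ← h3.eq, mul_inv_cancel_right]
          exact Z.inv_mem h1
      · intro m hm
        rw [← iq_out m, smul_iq, iq_eq_iff] at hm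
        rw [← iq_out m, ← hone]
        refine hfree _ (rout_mem m) ?_
        rw [commutatorElement_def]
        have h3 := hZcent _ (Z.inv_mem hm) _ (rout_mem m)
        rw [show x * rout m * x⁻¹ * (rout m)⁻¹ = rout m * ((x * rout m * x⁻¹)⁻¹ * rout m)⁻¹ * (rout m)⁻¹
          by group, ← h3.eq, mul_inv_cancel_right]
        exact Z.inv_mem hm
      · refine hcopPI.coprime_dvd_left ?_
        rw [Nat.card_congr (subgroupOfEquivOfLe (hAP.trans hP0NC)).toEquiv]
        exact card_dvd_of_le hAP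
    exact hZne (le_antisymm hZU fun g hg => (hone hg).2 (hall2 _))
  -- pass to a power of order `p`
  obtain ⟨b, hbA, hbo, hbx⟩ : ∃ b ∈ A, orderOf b = p ∧ Commute x b := by
    obtain ⟨k, hk⟩ := hP.exists_orderOf_eq_pow (⟨a, hAP haA⟩ : P0) |> fun h => h
    rw [Subgroup.orderOf_mk] at hk
    have hk0 : k ≠ 0 := fun h0 => ha1 (orderOf_eq_one_iff.1 (by rw [hk, h0, pow_zero]))
    refine ⟨a ^ p ^ (k - 1), A.pow_mem haA _, ?_, hax.pow_right _⟩
    rw [orderOf_pow' _ (pow_ne_zero _ hp.out.ne_zero), hk,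
      Nat.gcd_eq_right (pow_dvd_pow p (Nat.sub_le k 1)), Nat.pow_div (Nat.sub_le k 1) hp.out.pos,
      show k - (k - 1) = 1 by omega, pow_one]
  have hbP := hAP hbA
  have hbS : b ∈ S := hstab b (hZP b hbP)
  have hob : orderOf (⟨b, hbS⟩ : S) = p := by rw [orderOf_mk, hbo]
  have hpodd : Odd p := hbo ▸ hodd.of_dvd_nat (orderOf_dvd_natCard b)
  obtain ⟨g, hg, hgb⟩ : ∃ g ∈ U, ⁅b, g⁆ ∉ Z := by
    by_contra hall
    push Not at hall
    have := hcentU b hbP hall
    rw [this, orderOf_one] at hbo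
    exact hp.out.one_lt.ne hbo
  refine hX.false (a := ⟨b, hbS⟩) ?_ (fun z hz => Subtype.ext (hZP b hbP _ hz).eq) (hob.symm ▸ hp.out)
    (hob.symm ▸ hpodd) (by rw [hob, hox]; exact hrp) (by rw [hob]; exact hpq)
    (Subtype.ext hbx.eq.symm) ⟨⟨g, hUS hg⟩, hg, hgb⟩
  rw [mem_normalizer_iff]
  intro t
  simp only [mem_subgroupOf]
  exact mem_normalizer_iff.1 (hPU hbP) (t : G)

end CfsgLib.OddOrder.FixLine
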