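import Cfsg.Agent.Lib.HallHigman.Free

/-!
Weights of an abelian group in a representation in which an element `x` of prime order fixes at
most a line (the linear algebra behind BG 3.6).
-/

set_option autoImplicit false
set_option linter.unusedSectionVars false

namespace CfsgLib.OddOrder.FixLine

open Module
open scoped commutatorElement

variable {K E Γ : Type*} [Field K] [AddCommGroup E] [Module K E] [Group Γ]
  {ρ : Representation K Γ E}

/-- The fixed space of `ρ x` is at most a line. -/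
def FixLineAt (ρ : Representation K Γ E) (x : Γ) : Prop :=
  ∃ u : E, ∀ v : E, ρ x v = v → ∃ c : K, v = c • u

theorem rep_mul_apply (ρ : Representation K Γ E) (a b : Γ) (v : E) :
    ρ (a * b) v = ρ a (ρ b v) := by
  rw [map_mul]; rfl

theorem rep_one_apply (ρ : Representation K Γ E) (v : E) : ρ 1 v = v := by
  rw [map_one]; rfl

theorem rep_inv_apply_self (ρ : Representation K Γ E) (g : Γ) (v : E) : ρ g⁻¹ (ρ g v) = v := by
  rw [← rep_mul_apply, inv_mul_cancel, rep_one_apply]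

theorem rep_apply_eq_zero {g : Γ} {v : E} (h : ρ g v = 0) : v = 0 := by
  rw [← rep_inv_apply_self ρ g v, h, map_zero]

section Eigen

variable [IsAlgClosed K] [FiniteDimensional K E]

theorem exists_eigen_of_invariant (f : Module.End K E) {U : Submodule K E} (hU : U ≠ ⊥)
    (hinv : ∀ u ∈ U, f u ∈ U) : ∃ μ : K, ∃ u ∈ U, u ≠ 0 ∧ f u = μ • u := by
  haveI : Nontrivial U := (Submodule.nontrivial_iff_ne_bot).2 hU
  obtain ⟨μ, hμ⟩ := Module.End.exists_eigenvalue (f.restrict hinv)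
  obtain ⟨u, hu, hu0⟩ := hμ.exists_hasEigenvector
  rw [Module.End.mem_eigenspace_iff] at hu
  exact ⟨μ, u, u.2, fun h => hu0 (Subtype.ext h), congrArg Subtype.val hu⟩

/-- An endomorphism of finite invertible order other than `1` has an eigenvalue other than `1`. -/
theorem exists_eigen_ne_one (f : Module.End K E) {m : ℕ} (hm : (m : K) ≠ 0) (hf : f ^ m = 1)
    (h1 : f ≠ 1) : ∃ μ : K, μ ≠ 1 ∧ ∃ v : E, v ≠ 0 ∧ f v = μ • v := by
  set g : Module.End K E := ∑ i ∈ Finset.range m, f ^ i with hg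
  have hfg : f * g = g * f := (Commute.sum_right _ _ f fun i _ => (Commute.refl f).pow_right i).eq
  have hgf : g * (f - 1) = 0 := by rw [hg, geom_sum_mul, hf, sub_self]
  by_cases hinj : LinearMap.ker g = ⊥
  · refine absurd (sub_eq_zero.1 (LinearMap.ext fun v => ?_)) h1
    have : g ((f - 1) v) = 0 := by rw [← Module.End.mul_apply, hgf]; rfl
    simpa using LinearMap.ker_eq_bot'.1 hinj _ this
  · obtain ⟨μ, u, hu, hu0, hfu⟩ := exists_eigen_of_invariant f hinj (fun u hu => by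
      rw [LinearMap.mem_ker] at hu ⊢
      rw [← Module.End.mul_apply, ← hfg, Module.End.mul_apply, hu, map_zero])
    refine ⟨μ, ?_, u, hu0, hfu⟩
    rintro rfl
    rw [one_smul] at hfu
    rw [LinearMap.mem_ker] at hu
    have hp : ∀ i : ℕ, (f ^ i) u = u := by
      intro i
      induction i with
      | zero => rfl
      | succ i ih => rw [pow_succ, Module.End.mul_apply, hfu, ih]
    rw [hg, LinearMap.sum_apply, Finset.sum_congr rfl (fun i _ => hp i), Finset.sum_const,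
      Finset.card_range, ← Nat.cast_smul_eq_nsmul K] at hu
    exact hu0 ((smul_eq_zero.1 hu).resolve_left hm)

theorem exists_common_eigen (S : Subgroup Γ) (hab : ∀ a ∈ S, ∀ b ∈ S, Commute (ρ a) (ρ b)) :
    ∀ (d : ℕ) (U : Submodule K E), finrank K U ≤ d → U ≠ ⊥ →
      (∀ s ∈ S, ∀ u ∈ U, ρ s u ∈ U) → ∃ u ∈ U, u ≠ 0 ∧ ∀ s ∈ S, ∃ c : K, ρ s u = c • u := by
  intro d
  induction d with
  | zero => intro U hd hU _; exact absurd (Submodule.finrank_eq_zero.1 (Nat.le_zero.1 hd)) hU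
  | succ d ih =>
    intro U hd hU hinv
    by_cases hall : ∀ s ∈ S, ∃ c : K, ∀ u ∈ U, ρ s u = c • u
    · obtain ⟨u, hu, hu0⟩ := (Submodule.ne_bot_iff _).1 hU
      exact ⟨u, hu, hu0, fun s hs => (hall s hs).imp fun c hc => hc u hu⟩
    push Not at hall
    obtain ⟨s, hs, hns⟩ := hall
    obtain ⟨μ, u, hu, hu0, hfu⟩ := exists_eigen_of_invariant (ρ s) hU (hinv s hs)
    let U' : Submodule K E := U ⊓ Module.End.eigenspace (ρ s) μ
    have hu' : u ∈ U' := ⟨hu, Module.End.mem_eigenspace_iff.2 hfu⟩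
    have hlt : U' < U := by
      refine lt_of_le_of_ne inf_le_left fun h => ?_
      obtain ⟨w, hw, hne⟩ := hns μ
      have : w ∈ U' := by rw [h]; exact hw
      exact hne (Module.End.mem_eigenspace_iff.1 this.2)
    obtain ⟨v, hv, h⟩ := ih U' (Nat.lt_succ_iff.1 ((Submodule.finrank_lt_finrank_of_lt hlt).trans_le hd))
      ((Submodule.ne_bot_iff _).2 ⟨u, hu', hu0⟩) (fun t ht w hw => ⟨hinv t ht w hw.1,
        Module.End.mem_eigenspace_iff.2 (by
          rw [← Module.End.mul_apply, (hab s hs t ht).eq, Module.End.mul_apply,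
            Module.End.mem_eigenspace_iff.1 hw.2, map_smul])⟩)
    exact ⟨v, hv.1, h⟩

end Eigen

/-! ### Weights -/

/-- The weight space of a function `χ` on `S`. -/
def wt (ρ : Representation K Γ E) (S : Subgroup Γ) (χ : Γ → K) : Submodule K E :=
  ⨅ s ∈ S, Module.End.eigenspace (ρ s) (χ s)

theorem mem_wt {S : Subgroup Γ} {χ : Γ → K} {v : E} :
    v ∈ wt ρ S χ ↔ ∀ s ∈ S, ρ s v = χ s • v := by
  simp only [wt, Submodule.mem_iInf, Module.End.mem_eigenspace_iff]

/-- A weight: vanishes outside `S` and has a nonzero weight space. -/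
def IsWt (ρ : Representation K Γ E) (S : Subgroup Γ) (χ : Γ → K) : Prop :=
  (∀ s, s ∉ S → χ s = 0) ∧ wt ρ S χ ≠ ⊥

/-- The conjugate of a function by `g`. -/
def cw (g : Γ) (χ : Γ → K) : Γ → K := fun s => χ (g⁻¹ * s * g)

theorem cw_one (χ : Γ → K) : cw 1 χ = χ := by funext s; simp [cw]

theorem cw_mul (g h : Γ) (χ : Γ → K) : cw (g * h) χ = cw g (cw h χ) := by
  funext s; simp [cw, mul_assoc]

theorem cw_inv_cw (g : Γ) (χ : Γ → K) : cw g⁻¹ (cw g χ) = χ := by
  rw [← cw_mul, inv_mul_cancel, cw_one]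

theorem cw_injective (g : Γ) : Function.Injective (cw g : (Γ → K) → Γ → K) :=
  Function.LeftInverse.injective (cw_inv_cw g)

/-- The stabiliser of a function. -/
def cwStab (χ : Γ → K) : Subgroup Γ where
  carrier := {g | cw g χ = χ}
  one_mem' := cw_one χ
  mul_mem' {a b} ha hb := by
    show cw (a * b) χ = χ
    rw [cw_mul, show cw b χ = χ from hb]; exact ha
  inv_mem' {a} ha := by
    show cw a⁻¹ χ = χ
    conv_lhs => rw [← (show cw a χ = χ from ha)]
    exact cw_inv_cw a χ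

theorem mem_cwStab {χ : Γ → K} {g : Γ} : g ∈ cwStab χ ↔ cw g χ = χ := Iff.rfl

theorem conj_mem_iff {S : Subgroup Γ} {g : Γ} (hg : g ∈ Subgroup.normalizer (S : Set Γ)) (s : Γ) :
    g⁻¹ * s * g ∈ S ↔ s ∈ S := by
  rw [Subgroup.mem_normalizer_iff] at hg
  rw [hg (g⁻¹ * s * g), show g * (g⁻¹ * s * g) * g⁻¹ = s by group]

theorem wt_apply {S : Subgroup Γ} {g : Γ} (hg : g ∈ Subgroup.normalizer (S : Set Γ)) {χ : Γ → K}
    {v : E} (hv : v ∈ wt ρ S χ) : ρ g v ∈ wt ρ S (cw g χ) := by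
  rw [mem_wt] at hv ⊢
  intro s hs
  rw [← rep_mul_apply, show s * g = g * (g⁻¹ * s * g) by group, rep_mul_apply,
    hv _ ((conj_mem_iff hg s).2 hs), map_smul]
  rfl

theorem IsWt.cw {S : Subgroup Γ} {g : Γ} (hg : g ∈ Subgroup.normalizer (S : Set Γ)) {χ : Γ → K}
    (h : IsWt ρ S χ) : IsWt ρ S (cw g χ) := by
  refine ⟨fun s hs => h.1 _ fun h' => hs ((conj_mem_iff hg s).1 h'), ?_⟩
  obtain ⟨v, hv, hv0⟩ := (Submodule.ne_bot_iff _).1 h.2
  exact (Submodule.ne_bot_iff _).2 ⟨_, wt_apply hg hv, fun h0 => hv0 (rep_apply_eq_zero h0)⟩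

theorem IsWt.map_one {S : Subgroup Γ} {χ : Γ → K} (h : IsWt ρ S χ) : χ 1 = 1 := by
  obtain ⟨v, hv, hv0⟩ := (Submodule.ne_bot_iff _).1 h.2
  have h1 := mem_wt.1 hv 1 S.one_mem
  rw [rep_one_apply] at h1
  exact smul_left_injective K hv0 (by simp only [one_smul]; exact h1.symm)

theorem IsWt.map_mul {S : Subgroup Γ} {χ : Γ → K} (h : IsWt ρ S χ) {a b : Γ} (ha : a ∈ S)
    (hb : b ∈ S) : χ (a * b) = χ a * χ b := by
  obtain ⟨v, hv, hv0⟩ := (Submodule.ne_bot_iff _).1 h.2
  have h1 := mem_wt.1 hv _ (S.mul_mem ha hb)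
  rw [rep_mul_apply, mem_wt.1 hv b hb, map_smul, mem_wt.1 hv a ha, smul_smul, mul_comm] at h1
  exact smul_left_injective K hv0 h1.symm

theorem IsWt.map_inv {S : Subgroup Γ} {χ : Γ → K} (h : IsWt ρ S χ) {a : Γ} (ha : a ∈ S) :
    χ a⁻¹ = (χ a)⁻¹ :=
  eq_inv_of_mul_eq_one_left (by rw [← h.map_mul (S.inv_mem ha) ha, inv_mul_cancel, h.map_one])

theorem IsWt.map_pow {S : Subgroup Γ} {χ : Γ → K} (h : IsWt ρ S χ) {a : Γ} (ha : a ∈ S) (k : ℕ) :
    χ (a ^ k) = χ a ^ k := by
  induction k with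
  | zero => simp [h.map_one]
  | succ k ih => rw [pow_succ, h.map_mul (S.pow_mem ha k) ha, ih, pow_succ]

theorem IsWt.ne_zero {S : Subgroup Γ} {χ : Γ → K} (h : IsWt ρ S χ) {a : Γ} (ha : a ∈ S) :
    χ a ≠ 0 := by
  intro h0
  have := h.map_mul ha (S.inv_mem ha)
  rw [mul_inv_cancel, h.map_one, h0, zero_mul] at this
  exact one_ne_zero this

/-- Separation: an element of an abelian group killed by all weights acts trivially. -/
theorem eq_one_of_weights [IsAlgClosed K] [FiniteDimensional K E] (S : Subgroup Γ)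
    (hab : ∀ a ∈ S, ∀ b ∈ S, Commute (ρ a) (ρ b)) {s : Γ} (hs : s ∈ S) {m : ℕ} (hm : (m : K) ≠ 0)
    (hsm : s ^ m = 1) (h : ∀ χ, IsWt ρ S χ → χ s = 1) : ρ s = 1 := by
  classical
  by_contra h1
  obtain ⟨μ, hμ, v, hv0, hv⟩ := exists_eigen_ne_one (ρ s) hm (by rw [← map_pow, hsm, map_one]) h1
  obtain ⟨u, hu, hu0, hc⟩ := exists_common_eigen (ρ := ρ) S hab _ (Module.End.eigenspace (ρ s) μ)
    le_rfl ((Submodule.ne_bot_iff _).2 ⟨v, Module.End.mem_eigenspace_iff.2 hv, hv0⟩)
    (fun t ht w hw => Module.End.mem_eigenspace_iff.2 (by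
      rw [← Module.End.mul_apply, (hab s hs t ht).eq, Module.End.mul_apply,
        Module.End.mem_eigenspace_iff.1 hw, map_smul]))
  choose! c hc using hc
  let χ : Γ → K := fun t => if t ∈ S then c t else 0
  have hw : IsWt ρ S χ := ⟨fun t ht => if_neg ht, (Submodule.ne_bot_iff _).2
    ⟨u, mem_wt.2 (fun t ht => by rw [show χ t = c t from if_pos ht]; exact hc t ht), hu0⟩⟩
  have hχ := h χ hw
  rw [show χ s = c s from if_pos hs] at hχ
  have h2 := hc s hs
  rw [hχ, one_smul, Module.End.mem_eigenspace_iff.1 hu] at h2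
  exact hμ (smul_left_injective K hu0 (by simpa using h2))

/-- Vectors in distinct weight spaces are independent. -/
theorem wt_sum_eq_zero {ι : Type*} {S : Subgroup Γ} (s : Finset ι) (f : ι → Γ → K) (e : ι → E)
    (hf : ∀ i ∈ s, ∀ t, t ∉ S → f i t = 0) (hinj : Set.InjOn f s)
    (he : ∀ i ∈ s, e i ∈ wt ρ S (f i)) (hsum : ∑ i ∈ s, e i = 0) : ∀ i ∈ s, e i = 0 := by
  intro i hi
  refine HallHigman.weight_indep (fun t : S => ρ (t : Γ)) (fun (j : {j // j ∈ s}) (t : S) => f j t)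
    ?_ Finset.univ (fun j => e j) (fun j _ t => mem_wt.1 (he j j.2) t t.2)
    (by rw [Finset.univ_eq_attach, Finset.sum_attach s e]; exact hsum) ⟨i, hi⟩ (Finset.mem_univ _)
  intro a b hab
  by_contra hc
  push Not at hc
  refine hab (Subtype.ext (hinj a.2 b.2 (funext fun t => ?_)))
  by_cases ht : t ∈ S
  · exact hc ⟨t, ht⟩
  · rw [hf a a.2 t ht, hf b b.2 t ht]

/-! ### An element of prime order fixing at most a line -/

section Moved

variable {S : Subgroup Γ} {x : Γ}

/-- The sum over the powers of `x`. -/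
noncomputable def orbSum (ρ : Representation K Γ E) (x : Γ) (v : E) : E :=
  ∑ i ∈ Finset.range (orderOf x), ρ (x ^ i) v

theorem apply_orbSum (v : E) : ρ x (orbSum ρ x v) = orbSum ρ x v := by
  rw [orbSum, map_sum]
  simp_rw [← rep_mul_apply, ← pow_succ']
  have h := Finset.sum_range_succ' (fun i => ρ (x ^ i) v) (orderOf x)
  rw [Finset.sum_range_succ, pow_orderOf_eq_one] at h
  simp only [pow_zero] at h
  exact (add_right_cancel h).symm

theorem pow_mem_cwStab_iff (hr : (orderOf x).Prime) {χ : Γ → K} (hmov : cw x χ ≠ χ) {i j : ℕ}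
    (hi : i < orderOf x) (hj : j < orderOf x) (h : cw (x ^ i) χ = cw (x ^ j) χ) : i = j := by
  wlog hij : i ≤ j generalizing i j
  · exact (this hj hi h.symm (le_of_not_ge hij)).symm
  by_contra hne
  refine hmov (mem_cwStab.1 ?_)
  have hmem : x ^ (j - i) ∈ cwStab χ := by
    refine mem_cwStab.2 (cw_injective (x ^ i) ?_)
    rw [← cw_mul, ← pow_add, Nat.add_sub_cancel' hij]
    exact h.symm
  have hco : (j - i).Coprime (orderOf x) :=
    Nat.Coprime.symm ((hr.coprime_iff_not_dvd).2 fun hd => by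
      have := Nat.le_of_dvd (by omega) hd
      omega)
  obtain ⟨m, hm⟩ := exists_pow_eq_self_of_coprime (G := Γ) (x := x) hco
  rw [← hm]
  exact Subgroup.pow_mem _ hmem m

theorem cw_pow_isWt (hx : x ∈ Subgroup.normalizer (S : Set Γ)) {χ : Γ → K} (h : IsWt ρ S χ) (i : ℕ) :
    IsWt ρ S (cw (x ^ i) χ) :=
  h.cw (Subgroup.pow_mem _ hx i)

theorem orbSum_eq_zero (hr : (orderOf x).Prime) (hx : x ∈ Subgroup.normalizer (S : Set Γ))
    {χ : Γ → K} (h : IsWt ρ S χ) (hmov : cw x χ ≠ χ) {v : E} (hv : v ∈ wt ρ S χ)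
    (h0 : orbSum ρ x v = 0) : v = 0 := by
  have := wt_sum_eq_zero (ρ := ρ) (S := S) (Finset.range (orderOf x)) (fun i => cw (x ^ i) χ)
    (fun i => ρ (x ^ i) v) (fun i _ => (cw_pow_isWt hx h i).1)
    (fun i hi j hj hij => pow_mem_cwStab_iff hr hmov (Finset.mem_range.1 hi)
      (Finset.mem_range.1 hj) hij)
    (fun i _ => wt_apply (Subgroup.pow_mem _ hx i) hv) h0 0 (Finset.mem_range.2 hr.pos)
  simpa using this

theorem moved_line (hfix : FixLineAt ρ x) (hr : (orderOf x).Prime)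
    (hx : x ∈ Subgroup.normalizer (S : Set Γ)) {χ : Γ → K} (h : IsWt ρ S χ) (hmov : cw x χ ≠ χ)
    {v w : E} (hv : v ∈ wt ρ S χ) (hv0 : v ≠ 0) (hw : w ∈ wt ρ S χ) : ∃ c : K, w = c • v := by
  obtain ⟨u, hu⟩ := hfix
  obtain ⟨a, ha⟩ := hu _ (apply_orbSum (ρ := ρ) (x := x) v)
  obtain ⟨b, hb⟩ := hu _ (apply_orbSum (ρ := ρ) (x := x) w)
  have ha0 : a ≠ 0 := by
    rintro rfl
    rw [zero_smul] at ha
    exact hv0 (orbSum_eq_zero hr hx h hmov hv ha)
  have h0 : orbSum ρ x (a • w - b • v) = 0 := by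
    simp only [orbSum, map_sub, map_smul, Finset.sum_sub_distrib, ← Finset.smul_sum] at ha hb ⊢
    rw [ha, hb, smul_smul, smul_smul, mul_comm, sub_self]
  have := orbSum_eq_zero hr hx h hmov (sub_mem (Submodule.smul_mem _ _ hw) (Submodule.smul_mem _ _ hv)) h0
  refine ⟨a⁻¹ * b, ?_⟩
  rw [mul_smul, ← sub_eq_zero.1 this, inv_smul_smul₀ ha0]

theorem moved_unique (hfix : FixLineAt ρ x) (hr : (orderOf x).Prime)
    (hx : x ∈ Subgroup.normalizer (S : Set Γ)) {χ ψ : Γ → K} (h : IsWt ρ S χ) (hmov : cw x χ ≠ χ)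
    (hψ : IsWt ρ S ψ) (hψm : cw x ψ ≠ ψ) : ∃ i < orderOf x, ψ = cw (x ^ i) χ := by
  classical
  by_contra hno
  push Not at hno
  obtain ⟨u, hu⟩ := hfix
  obtain ⟨v, hv, hv0⟩ := (Submodule.ne_bot_iff _).1 h.2
  obtain ⟨w, hw, hw0⟩ := (Submodule.ne_bot_iff _).1 hψ.2
  obtain ⟨a, ha⟩ := hu _ (apply_orbSum (ρ := ρ) (x := x) v)
  obtain ⟨b, hb⟩ := hu _ (apply_orbSum (ρ := ρ) (x := x) w)
  let s : Finset (Bool × ℕ) := Finset.univ ×ˢ Finset.range (orderOf x)
  let f : Bool × ℕ → Γ → K := fun z => cw (x ^ z.2) (bif z.1 then χ else ψ)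
  let e : Bool × ℕ → E := fun z => bif z.1 then b • ρ (x ^ z.2) v else -(a • ρ (x ^ z.2) w)
  have hinj : Set.InjOn f s := by
    rintro ⟨c, i⟩ hi ⟨d, j⟩ hj hij
    simp only [s, Finset.coe_product, Set.mem_prod, Finset.mem_coe, Finset.mem_univ, true_and,
      Finset.mem_range] at hi hj
    have hcross : ∀ i j, i < orderOf x → j < orderOf x → cw (x ^ i) χ ≠ cw (x ^ j) ψ := by
      intro i j hi hj he
      refine hno ((orderOf x - j + i) % orderOf x) (Nat.mod_lt _ hr.pos) ?_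
      rw [pow_mod_orderOf, pow_add, cw_mul, he, ← cw_mul, ← pow_add,
        Nat.sub_add_cancel hj.le, pow_orderOf_eq_one, cw_one]
    cases c <;> cases d <;> simp only [f, cond_true, cond_false] at hij
    · rw [pow_mem_cwStab_iff hr hψm hi hj hij]
    · exact absurd hij.symm (hcross j i hj hi)
    · exact absurd hij (hcross i j hi hj)
    · rw [pow_mem_cwStab_iff hr hmov hi hj hij]
  have hz := wt_sum_eq_zero (ρ := ρ) (S := S) s f e ?_ hinj ?_ ?_
  · have ha0 := hz (false, 0) (Finset.mem_product.2 ⟨Finset.mem_univ _, Finset.mem_range.2 hr.pos⟩)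
    simp only [e, cond_false, pow_zero, rep_one_apply, neg_eq_zero, smul_eq_zero, hw0, or_false]
      at ha0
    rw [ha0, zero_smul] at ha
    exact hv0 (orbSum_eq_zero hr hx h hmov hv ha)
  · rintro ⟨c, i⟩ _
    cases c
    · exact (cw_pow_isWt hx hψ i).1
    · exact (cw_pow_isWt hx h i).1
  · rintro ⟨c, i⟩ _
    cases c
    · exact neg_mem (Submodule.smul_mem _ _ (wt_apply (Subgroup.pow_mem _ hx i) hw))
    · exact Submodule.smul_mem _ _ (wt_apply (Subgroup.pow_mem _ hx i) hv)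
  · simp only [s, Finset.sum_product, Fintype.sum_bool, e, cond_true, cond_false,
      Finset.sum_neg_distrib, ← Finset.smul_sum]
    rw [show ∑ i ∈ Finset.range (orderOf x), ρ (x ^ i) v = a • u from ha,
      show ∑ i ∈ Finset.range (orderOf x), ρ (x ^ i) w = b • u from hb, smul_smul, smul_smul,
      mul_comm, add_neg_cancel]

end Moved

/-- A central subgroup inside the derived group of `Q` is centralised by `x`. -/
theorem apply_conj_eq_of_le_commutator [IsAlgClosed K] [FiniteDimensional K E] {Q Z : Subgroup Γ}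
    {x : Γ} (hfix : FixLineAt ρ x) (hr : (orderOf x).Prime)
    (hx : x ∈ Subgroup.normalizer (Z : Set Γ))
    (hZ : Z ≤ ⁅Q, Q⁆) (hZQ : ∀ z ∈ Z, ∀ g ∈ Q, Commute z g)
    (hZab : ∀ a ∈ Z, ∀ b ∈ Z, Commute a b)
    (hord : ∀ z ∈ Z, ((orderOf z : ℕ) : K) ≠ 0) :
    ∀ z ∈ Z, ρ (x * z * x⁻¹) = ρ z := by
  intro z hz
  have hxz : x * z * x⁻¹ ∈ Z := (Subgroup.mem_normalizer_iff.1 hx z).1 hz
  have hw : x * z * x⁻¹ * z⁻¹ ∈ Z := Z.mul_mem hxz (Z.inv_mem hz)
  have key : ρ (x * z * x⁻¹ * z⁻¹) = 1 := by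
    refine eq_one_of_weights Z (fun a ha b hb => (hZab a ha b hb).map ρ) hw (hord _ hw)
      (pow_orderOf_eq_one _) fun χ hχ => ?_
    have hfixed : cw x χ = χ := by
      by_contra hmov
      obtain ⟨v, hv, hv0⟩ := (Submodule.ne_bot_iff _).1 hχ.2
      have hline : ∀ g ∈ Q, ∃ c : K, ρ g v = c • v := fun g hg =>
        moved_line hfix hr hx hχ hmov hv hv0 (mem_wt.2 fun s hs => by
          rw [← rep_mul_apply, (hZQ s hs g hg).eq, rep_mul_apply, mem_wt.1 hv s hs, map_smul])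
      let T : Subgroup Γ :=
        { carrier := {g | ρ g v = v}
          one_mem' := rep_one_apply ρ v
          mul_mem' := fun {a b} ha hb => by
            show ρ (a * b) v = v
            rw [rep_mul_apply, hb]; exact ha
          inv_mem' := fun {a} ha => by
            show ρ a⁻¹ v = v
            conv_lhs => rw [← (show ρ a v = v from ha)]
            exact rep_inv_apply_self ρ a v }
      have hT : ⁅Q, Q⁆ ≤ T := by
        rw [Subgroup.commutator_le]
        intro g hg h hh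
        show ρ ⁅g, h⁆ v = v
        obtain ⟨c, hc⟩ := hline g hg
        obtain ⟨d, hd⟩ := hline h hh
        have hgh : ρ (g * h) v = ρ (h * g) v := by
          rw [rep_mul_apply, rep_mul_apply, hc, hd, map_smul, map_smul, hc, hd, smul_comm]
        rw [commutatorElement_def, show g * h * g⁻¹ * h⁻¹ = (g * h) * (h * g)⁻¹ by group]
        have hl : ρ (h * g) v = (d * c) • v := by
          rw [rep_mul_apply, hc, map_smul, hd, smul_smul, mul_comm]
        have h2 : ρ (g * h * (h * g)⁻¹) (ρ (h * g) v) = ρ (h * g) v := by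
          rw [← rep_mul_apply, inv_mul_cancel_right, hgh]
        rw [hl, map_smul] at h2
        exact (smul_right_injective E (fun h0 => hv0 (rep_apply_eq_zero (by rw [hl, h0, zero_smul])))) h2
      have h1 : ∀ s ∈ Z, χ s = 1 := fun s hs => by
        have := mem_wt.1 hv s hs
        rw [show ρ s v = v from hT (hZ hs)] at this
        exact smul_left_injective K hv0 (by simpa using this.symm)
      refine hmov (funext fun s => ?_)
      by_cases hs : s ∈ Z
      · rw [cw, h1 _ ((conj_mem_iff hx s).2 hs), h1 s hs]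
      · rw [(hχ.cw hx).1 s hs, hχ.1 s hs]
    have h2 := congrFun hfixed (x * z * x⁻¹)
    simp only [cw, show x⁻¹ * (x * z * x⁻¹) * x = z by group] at h2
    rw [hχ.map_mul hxz (Z.inv_mem hz), hχ.map_inv hz, ← h2, mul_inv_cancel₀ (hχ.ne_zero hz)]
  rw [show x * z * x⁻¹ = x * z * x⁻¹ * z⁻¹ * z by group, map_mul, key, one_mul]

end CfsgLib.OddOrder.FixLine
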