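import Cfsg.Agent.Lib.OddOrder.SigmaPartition
import Cfsg.Agent.S1420

/-!
With a cyclic Hall `κ(M)`-subgroup, `κ(M) ⊆ τ₁(M)`.
-/

set_option autoImplicit false
set_option linter.style.haveILetI false

open scoped commutatorElement Pointwise

namespace CfsgLib.OddOrder

open Subgroup

variable {G : Type*} [Group G] [Finite G]

theorem prime_eq_of_dvd_pgroup {s t : ℕ} [hs : Fact s.Prime] {P : Subgroup G} (hP : IsPGroup s P)
    (ht : t.Prime) (hd : t ∣ Nat.card P) : t = s := by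
  obtain ⟨n, hn⟩ := hP.exists_card_eq
  exact (Nat.prime_dvd_prime_iff_eq ht hs.out).1 (ht.dvd_of_dvd_pow (hn ▸ hd))

theorem coprime_card_of_not_sigma {M A : Subgroup G} (h : ∀ q : ℕ, q.Prime → q ∣ Nat.card A →
    q ∉ Cfsg.sigma M) : (Nat.card A).Coprime (Nat.card (Cfsg.sigmaCore M)) :=
  Nat.coprime_of_dvd fun q hq h1 h2 => h q hq h1 (sigma_of_dvd_sigmaCore hq h2)

variable (hG : Cfsg.IsMinSimpleOddOrder G) {M : Subgroup G} (hM : IsCoatom M)
include hG hM

/-- A prime order subgroup of the `τ₃` part of a complement is moved by a `τ₁` element. -/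
theorem exists_tau1_moving {c : ℕ} [hc : Fact c.Prime] (hc3 : c ∈ Cfsg.tau3 M)
    (hτ2 : ∀ s, s ∉ Cfsg.tau2 M) {D D₁ D₃ Y : Subgroup G}
    (hD : Cfsg.IsComplIn D (Cfsg.sigmaCore M) M) (hD₁ : Cfsg.IsPiHallOf (Cfsg.tau1 M) D₁ D)
    (hD₃ : Cfsg.IsPiHallOf (Cfsg.tau3 M) D₃ D) (hY : Nat.card Y = c) (hYD₃ : Y ≤ D₃) :
    ∃ (s : ℕ) (w : G), s.Prime ∧ w ∈ D₁ ∧ IsPGroup s (zpowers w) ∧
      w ∉ centralizer (Y : Set G) ∧ s ∈ Cfsg.tau1 M := by
  obtain ⟨hD₃c, hD₃D, -⟩ := tau3_hall hG hM hD hD₃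
  haveI := hD₃c
  have hmove : ¬ D₁ ≤ centralizer (Y : Set G) := by
    intro h
    have hDX : D ≤ centralizer (Y : Set G) := by
      refine le_of_sylows_le fun s hs hsD => ?_
      haveI := Fact.mk hs
      rcases tau_cases_of_not_sigma hG hM hs (hsD.trans (card_dvd_of_le hD.1))
        (complement_prime_not_sigma hG hM hD hs hsD) with h1 | h2 | h3
      · obtain ⟨S', hS'⟩ := exists_sylow_le_hall hD₁ h1
        exact ⟨S', hS'.trans h⟩
      · exact absurd h2 (hτ2 s)
      · obtain ⟨S', hS'⟩ := exists_sylow_le_hall hD₃ h3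
        exact ⟨S', fun y hy x hx => setLike_mul_comm (hYD₃ hx) (hS' hy)⟩
    obtain ⟨x, hx⟩ := exists_prime_orderOf_dvd_card' c (dvd_of_eq hY.symm)
    have hxD : (x : G) ∈ D := hD₃.1 (hYD₃ x.2)
    obtain ⟨P, hP⟩ := exists_sylow_le_hall hD₃ hc3
    have hxP : (⟨x, hxD⟩ : D) ∈ (P : Subgroup D) :=
      SchurSylow.center_pElement_mem_sylow P (k := 1) (mem_center_iff.2 fun y => Subtype.ext
        (hDX y.2 x x.2).symm) (Subtype.ext (by
          rw [pow_one, ← hx]
          show (x : G) ^ orderOf x = 1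
          rw [← orderOf_coe, pow_orderOf_eq_one]))
    have hmem := SchurSylow.center_inf_commutator_inf_sylow_le P
      (mem_center_iff.2 fun y => Subtype.ext (hDX y.2 x x.2).symm) (by
        obtain ⟨y, hy, hyx⟩ := (map_subtype_commutator D).ge (hD₃D (hYD₃ x.2))
        rwa [show (⟨x, hxD⟩ : D) = y from Subtype.ext hyx.symm]) hxP
    have hbot : commutator (P : Subgroup D) = ⊥ := SchurSylow.commutator_eq_bot_of_comm fun y z =>
      Subtype.ext (Subtype.ext (setLike_mul_comm (hP (mem_map_of_mem _ y.2))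
        (hP (mem_map_of_mem _ z.2))))
    rw [hbot, Subgroup.map_bot, mem_bot] at hmem
    have hx1 : x = 1 := Subtype.ext (congrArg Subtype.val hmem :)
    rw [hx1, orderOf_one] at hx
    exact hc.out.ne_one hx.symm
  obtain ⟨s, hs, P, hP, hPD, hPC⟩ : ∃ (s : ℕ), s.Prime ∧ ∃ P : Subgroup G,
      IsPGroup s P ∧ P ≤ D₁ ∧ ¬ P ≤ centralizer (Y : Set G) := by
    by_contra hno
    push Not at hno
    exact hmove (le_of_pgroups_le fun s hs P hP hPE => hno s hs P hP hPE)
  obtain ⟨w, hwP, hwC⟩ := SetLike.not_le_iff_exists.1 hPC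
  haveI := Fact.mk hs
  have hwp : IsPGroup s (zpowers w) := hP.to_le (zpowers_le.2 hwP)
  exact ⟨s, w, hs, hPD hwP, hwp, hwC, hD₁.2.1 s hs ((dvd_card_of_isPGroup hwp fun h =>
    hwC (zpowers_eq_bot.1 h ▸ one_mem _)).trans (card_dvd_of_le (zpowers_le.2 (hPD hwP))))⟩

omit hM in
/-- A subgroup of prime order of the `τ₃` part is normal in the complement. -/
theorem le_normalizer_of_le_cyclic {D Y : Subgroup G} [IsCyclic D] (hY : Y ≤ D) :
    normalizer (D : Set G) ≤ normalizer (Y : Set G) := by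
  haveI : (Y.subgroupOf D).Characteristic := characteristic_iff_map_eq.2 fun e =>
    eq_of_card_eq_of_isCyclic (card_map_of_injective e.injective)
  have h1 := normalizer_le_normalizer_map_of_characteristic D (Y.subgroupOf D)
  rwa [map_subgroupOf_eq_of_le hY] at h1

/-- A `κ(M)`-prime of `τ₃(M)` leaves no room for `τ₂` primes. -/
theorem tau2_empty_of_kappa3 {q : ℕ} [hq : Fact q.Prime] {E Q : Subgroup G}
    (hE : Cfsg.IsComplIn E (Cfsg.sigmaCore M) M) (hQ : Nat.card Q = q) (hQE : Q ≤ E)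
    (hEQ : E ≤ normalizer (Q : Set G)) (hq1 : Cfsg.PRankLE q 1 M) {H : Subgroup G}
    (hH : IsCoatom H) (hne : H ≠ M) (hNH : normalizer (Q : Set G) ≤ H)
    (hW : Cfsg.sigmaCore M ⊓ centralizer (Q : Set G) ≠ ⊥) (s : ℕ) : s ∉ Cfsg.tau2 M := by
  intro hs
  haveI := Fact.mk hs.1
  obtain ⟨A, hAE, hA, hA2⟩ := exists_elementary_in_complement hG hM hE hs
  have hEA : E ≤ normalizer (A : Set G) :=
    (Cfsg.Agent.S1418.result hG M hM E hE s hs A ⟨hAE, hA, hA2⟩).1.1
  have hsq : s ≠ q := fun h => hs.2.2.2 (h.symm ▸ hq1)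
  have hAQ : A ⊓ Q = ⊥ := disjoint_iff.1 (disjoint_of_coprime_natCard (by
    rw [hA2, hQ]
    exact ((Nat.coprime_primes hs.1 hq.out).2 hsq).pow_left 2))
  have hAC : A ≤ centralizer (Q : Set G) :=
    commute_of_normalize_disjoint (hAE.trans hEQ) (hQE.trans hEA) (disjoint_iff.2 hAQ)
  refine hW (le_bot_iff.1 ?_)
  rw [← (Cfsg.Agent.S1417.result hG M hM s hs A ⟨hAE.trans hE.1, hA, hA2⟩).2.2.2.2.1 H hH hne
    ((hAC.trans (centralizer_le_normalizer _)).trans hNH)]
  exact inf_le_inf_left _ ((centralizer_le_normalizer _).trans hNH)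

/-- With a cyclic Hall `κ(M)`-subgroup, `κ(M) ⊆ τ₁(M)`. -/
theorem kappa_subset_tau1 {K : Subgroup G} (hKc : IsCyclic K)
    (hK : Cfsg.IsPiHallOf (Cfsg.kappa M) K M) {q : ℕ} (hqκ : q ∈ Cfsg.kappa M) :
    q ∈ Cfsg.tau1 M := by
  rcases kappa_tau13 hG hM hqκ with h | h3
  · exact h
  exfalso
  haveI hq := Fact.mk hqκ.1
  haveI := isSolvable_of_ne_top hG hM.1
  -- an order `q` subgroup of `K`, inside the `τ₃` part of a complement
  obtain ⟨E, hKE, hE⟩ := exists_complement_ge hG hM hK.1 fun s hs hd =>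
    kappa_not_sigma (hK.2.1 s hs hd)
  have hqK : q ∣ Nat.card K := by
    have h1 := hqκ.2.1
    rw [← relIndex_bot_left M, ← relIndex_mul_relIndex ⊥ K M bot_le hK.1, relIndex_bot_left] at h1
    exact (hqκ.1.dvd_mul.1 h1).resolve_right (hK.2.2 q hqκ.1 hqκ)
  obtain ⟨x, hx⟩ := exists_prime_orderOf_dvd_card' q hqK
  set Q := zpowers (x : G)
  have hQ : Nat.card Q = q := by rw [Nat.card_zpowers, orderOf_coe, hx]
  have hQK : Q ≤ K := zpowers_le.2 x.2
  have hQM : Q ≤ M := hQK.trans hK.1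
  have hQE : Q ≤ E := hQK.trans hKE
  haveI hEs := isSolvable_of_ne_top hG (H := E) fun h => hM.1 (top_le_iff.1 (h ▸ hE.1))
  have hQτ : ∀ s : ℕ, s.Prime → s ∣ Nat.card Q → s ∈ Cfsg.tau3 M := fun s hs hd =>
    ((Nat.prime_dvd_prime_iff_eq hs hqκ.1).1 (hQ ▸ hd)) ▸ h3
  obtain ⟨E₃, hE₃, hQE₃⟩ := exists_isPiHallOf_ge (π := Cfsg.tau3 M) hEs hQE hQτ
  obtain ⟨hE₃c, -, hE₃n⟩ := tau3_hall hG hM hE hE₃
  haveI := hE₃c
  have hEQ : E ≤ normalizer (Q : Set G) := hE₃n.trans (le_normalizer_of_le_cyclic hG hQE₃)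
  set W := Cfsg.sigmaCore M ⊓ centralizer (Q : Set G) with hWdef
  have hW1 : W ≠ ⊥ := by
    rw [hWdef, show Q = closure {(x : G)} from zpowers_eq_closure _, centralizer_closure]
    exact kappa_centralizer_ne_bot hqκ (hK.1 x.2) (by rw [← hx, ← orderOf_coe, pow_orderOf_eq_one])
  obtain ⟨H, hH, hNH⟩ := exists_isCoatom_ge (normalizer_ne_top hG (ne_bot_of_prime_card hQ)
    (isPGroup_ne_top hG (isPGroup_of_prime_card hQ)))
  obtain ⟨hne, -, hHM⟩ := overgroup_normalizer hG hM h3.2.1 h3.2.2.2 hQ hNH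
  have hMH : ∀ g : G, M.map (MulAut.conj g).toMonoidHom ≠ H := fun g hg => hHM g⁻¹ (by
    rw [← hg, map_conj_map_conj, inv_mul_cancel, map_conj_one])
  have hCH : centralizer (Q : Set G) ≤ H := (centralizer_le_normalizer _).trans hNH
  have hWH : W ≤ H := inf_le_right.trans hCH
  have hWM : W ≤ M := inf_le_left.trans (piCoreOf_le _ _)
  have hτ2 := tau2_empty_of_kappa3 hG hM hE hQ hQE hEQ h3.2.2.2 hH hne hNH hW1
  obtain ⟨E₁, hE₁, -, -⟩ := exists_tau1_hall_ge hG hM hE (bot_le : (⊥ : Subgroup G) ≤ E)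
    fun s hs hd => absurd (Subgroup.card_bot (G := G) ▸ hd) hs.not_dvd_one
  obtain ⟨p, y, hp, hyE₁, hyp, hyC, hp1⟩ := exists_tau1_moving hG hM h3 hτ2 hE hE₁ hE₃ hQ hQE₃
  haveI := Fact.mk hp
  have hyE : y ∈ E := hE₁.1 hyE₁
  have hyM : y ∈ M := hE.1 hyE
  have hyH : y ∈ H := hNH (hEQ hyE)
  obtain ⟨P, hPy, hP⟩ := exists_le_card_prime hyp fun h => hyC (zpowers_eq_bot.1 h ▸ one_mem _)
  obtain ⟨a, haP, ha⟩ : ∃ a ∈ P, orderOf a = p := by
    obtain ⟨a, ha⟩ := exists_prime_orderOf_dvd_card' p (dvd_of_eq hP.symm)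
    exact ⟨a, a.2, by rw [orderOf_coe, ha]⟩
  have hPa : P = zpowers a := (eq_of_le_of_card_ge (zpowers_le.2 haP)
    (by rw [hP, Nat.card_zpowers, ha])).symm
  have hap : a ^ p = 1 := ha ▸ pow_orderOf_eq_one a
  have ha1 : a ≠ 1 := fun h => hp.ne_one (by rw [← ha, h, orderOf_one])
  have haE : a ∈ E := (hPy.trans (zpowers_le.2 hyE)) haP
  have haM : a ∈ M := hE.1 haE
  have hqp : q ≠ p := fun h => hp1.2.2.2.1 (h ▸ h3.2.2.1)
  -- `p ∉ κ(M)`
  have hpκ : p ∉ Cfsg.kappa M := by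
    intro hpκ
    have hyQ : zpowers y ≤ normalizer (Q : Set G) := zpowers_le.2 (hEQ hyE)
    set Y := Q ⊔ zpowers y with hY
    have hYM : Y ≤ M := sup_le hQM (zpowers_le.2 hyM)
    obtain ⟨g, hg⟩ := Solvable.exists_conj_le_isPiHall (Solvable.isPiHall_of_isPiHallOf hK)
      (K := Y.subgroupOf M) fun s hs hd => by
        rw [Nat.card_congr (subgroupOfEquivOfLe hYM).toEquiv] at hd
        rcases hs.dvd_mul.1 (hd.trans (card_sup_dvd_mul_of_le_normalizer hyQ)) with h | h
        · rw [hQ, Nat.prime_dvd_prime_iff_eq hs hqκ.1] at h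
          exact h ▸ hqκ
        · rw [prime_eq_of_dvd_pgroup hyp hs h]
          exact hpκ
    haveI := hKc
    refine hyC fun z hz => ?_
    have hmem : ∀ w ∈ Y, ∀ hw : w ∈ M, MulAut.conj g • (⟨w, hw⟩ : M) ∈ K.subgroupOf M :=
      fun w hwY hw => hg (smul_mem_pointwise_smul _ _ _ (mem_subgroupOf.2 hwY))
    have h1 := setLike_mul_comm (mem_subgroupOf.1 (hmem z (mem_sup_left hz) (hQM hz)))
      (mem_subgroupOf.1 (hmem y (mem_sup_right (mem_zpowers y)) hyM))
    rw [← Subgroup.coe_mul, ← Subgroup.coe_mul, Subtype.val_inj, ← smul_mul', ← smul_mul'] at h1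
    exact congrArg Subtype.val (MulAction.injective (MulAut.conj g) h1)
  have hfix : Cfsg.sigmaCore M ⊓ centralizer ({a} : Set G) = ⊥ :=
    sigmaCore_inf_centralizer_eq_bot_of_not_kappa hG hM hp1.2.2.1 hp1.2.1 hpκ hp1.2.2.2.2 haM hap ha1
  have haK : a ∈ normalizer (Cfsg.sigmaCore M : Set G) := le_normalizer_piCoreOf _ _ haM
  have hnil : Group.IsNilpotent (Cfsg.sigmaCore M) := isNilpotent_of_prime_fpf hp hap haK hfix
  have hcop : ∀ s : ℕ, s.Prime → s ∉ Cfsg.sigma M → (Nat.card (Cfsg.sigmaCore M)).Coprime s :=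
    fun s hs hσ => Nat.Coprime.symm (hs.coprime_iff_not_dvd.2 fun h =>
      hσ (sigma_of_dvd_sigmaCore hs h))
  by_cases haQ : a ∈ centralizer (Q : Set G)
  case neg =>
    -- `Q P` is a Frobenius group, so `Q` centralizes `M_σ`
    have hq2 : q ≠ 2 := prime_ne_two_of_dvd_card hG hqκ.2.1
    have haN : a ∈ normalizer (Q : Set G) := hEQ haE
    have hc := Solvable.PrimeAction.commute_of_fpf_nilpotent hq2 hqp hnil
      (hcop q hqκ.1 h3.2.1) (hcop p hp hp1.2.1) (isPGroup_of_prime_card hQ)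
      (fun g hg => (mem_normalizer_iff.1 haN g).1 hg) hap
      (hQM.trans (le_normalizer_piCoreOf _ _)) haK hfix
    have hQC : Q ≤ centralizer (Cfsg.sigmaCore M : Set G) := by
      obtain ⟨z, hzQ, hza⟩ : ∃ z ∈ Q, a * z ≠ z * a := by
        by_contra hno
        push Not at hno
        exact haQ fun z hz => (hno z hz).symm
      set t := z⁻¹ * (a * z * a⁻¹)
      have htQ : t ∈ Q := mul_mem (inv_mem hzQ) ((mem_normalizer_iff.1 haN z).1 hzQ)
      have ht1 : t ≠ 1 := fun h => hza (mul_inv_eq_iff_eq_mul.1 (inv_mul_eq_one.1 h).symm)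
      have hQt : zpowers t = Q := eq_of_le_of_card_ge (zpowers_le.2 htQ) (by
        rw [hQ, Nat.card_zpowers, orderOf_eq_prime (p := q) (orderOf_dvd_iff_pow_eq_one.1
          ((orderOf_dvd_card_of_mem htQ).trans (dvd_of_eq hQ))) ht1])
      rw [← hQt, zpowers_le]
      exact hc z hzQ
    have hMQ : M ≤ normalizer (Q : Set G) := fun m hm => by
      obtain ⟨e, he, k, hk, rfl⟩ := hE.2.2.2 m hm
      exact mul_mem (hEQ he) (centralizer_le_normalizer _ (le_centralizer_iff.1 hQC hk))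
    exact hne ((isCoatom_iff_ge_of_le.1 hM).2 H hH.1 (hMQ.trans hNH) |>.antisymm (hMQ.trans hNH))
  case pos =>
    have haH : a ∈ H := hCH haQ
    have hPC : P ≤ centralizer (Q : Set G) := hPa ▸ zpowers_le.2 haQ
    have hPH : P ≤ H := hPC.trans hCH
    have hPW : P ≤ normalizer (W : Set G) := fun u hu => inf_normalizer_le_normalizer_inf
      ⟨le_normalizer_piCoreOf _ _ ((hPa ▸ zpowers_le.2 haM : P ≤ M) hu), le_normalizer (hPC hu)⟩
    have hWP : W ⊓ centralizer (P : Set G) = ⊥ := by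
      rw [hPa, zpowers_eq_closure, centralizer_closure]
      exact le_bot_iff.1 (hfix ▸ inf_le_inf_right _ inf_le_left)
    have hWcop : (Nat.card P).Coprime (Nat.card W) := by
      rw [hP]
      exact ((hcop p hp hp1.2.1).coprime_dvd_left (card_dvd_of_le inf_le_left)).symm
    haveI hWs : Group.IsSolvable W :=
      Group.isSolvable_of_isSolvable_injective (Subgroup.inclusion_injective hWM)
    have hWeq : ⁅W, P⁆ = W := by
      have h := Solvable.commutator_sup_centralizer hPW hWcop (Or.inr hWs)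
      rwa [hWP, sup_bot_eq] at h
    have hnC : ∀ v : G, v ∈ M → v ∈ ⁅H, H⁆ → (∀ t : ℕ, t.Prime → t ∣ orderOf v →
        t ∉ Cfsg.sigma M) → v = a → False := fun v hv hvd hvσ hva => hW1 (by
      rw [← hWP]
      refine (inf_eq_left.2 ?_).symm
      rw [hPa, zpowers_eq_closure, centralizer_closure]
      intro w hw
      rw [mem_centralizer_singleton_iff, ← hva]
      exact derived_centralizes hG hM hH hMH hv hvd hvσ w ⟨hw.1, hWH hw⟩)
    have haσ : ∀ t : ℕ, t.Prime → t ∣ orderOf a → t ∉ Cfsg.sigma M := fun t ht hd => by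
      rw [ha, Nat.prime_dvd_prime_iff_eq ht hp] at hd
      exact hd ▸ hp1.2.1
    have hpσH : p ∉ Cfsg.sigma H := fun h => hnC a haM (by
      obtain ⟨z, hz, hza⟩ := le_sigmaCore_of_pgroup hG hH h (isPGroup_of_prime_card hP) hPH haP
      rw [← map_subtype_commutator]
      exact ⟨z, piCore_sigma_le_commutator hG hH hz, hza⟩) haσ rfl
    have hpH : p ∣ Nat.card H := hP ▸ card_dvd_of_le hPH
    -- some `t ∈ τ₂(H)` with an element of prime order normalising the subgroups of `W`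
    obtain ⟨t, u, ht, hut, htσ, huM, huC⟩ : ∃ (t : ℕ) (u : G), t ∈ Cfsg.tau2 H ∧ orderOf u = t ∧
        t ∉ Cfsg.sigma M ∧ u ∈ M ∧ u ∈ normalizer (W : Set G) ∧ (u = a ∨ u ∈ centralizer (W : Set G)) := by
      rcases tau_cases_of_not_sigma hG hH hp hpH hpσH with h | h | h
      · by_cases hqH : q ∈ Cfsg.sigma H
        · exfalso
          refine hyC fun z hz => mem_centralizer_singleton_iff.1 ((semiprime hG hH hpσH h.2.2.2.2
            hyH hyp hP hPy) ⟨le_sigmaCore_of_pgroup hG hH hqH (isPGroup_of_prime_card hQ)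
              (le_normalizer.trans hNH) hz, le_centralizer_iff.1 hPC hz⟩)
        · obtain ⟨-, A, hA, hA2, hQA⟩ := rank_two_of_normalizer_le hG hH hqH hQ hNH
          haveI := hA.1
          refine ⟨q, x, mem_tau2_of_elementary hG hH hqH ?_ hA hA2, by rw [orderOf_coe, hx],
            h3.2.1, hK.1 x.2, ?_, Or.inr fun w hw => (hw.2 x (mem_zpowers _)).symm⟩
          · exact fun z hz => hCH fun w hw => setLike_mul_comm (hQA hw) hz
          · exact centralizer_le_normalizer _ fun w hw => (hw.2 x (mem_zpowers _)).symm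
      · exact ⟨p, a, h, ha, hp1.2.1, haM, hPW haP, Or.inl rfl⟩
      · exact (hnC a haM (mem_derived_of_tau3 hG hH h haH
          (hPa ▸ isPGroup_of_prime_card hP)) haσ rfl).elim
    haveI := Fact.mk ht.1
    obtain ⟨huW, -⟩ := huC
    -- a complement of `H_σ` containing `W P`
    have hWσ : ∀ s : ℕ, s.Prime → s ∣ Nat.card W → s ∈ Cfsg.sigma M := fun s hs hd =>
      sigma_of_dvd_sigmaCore hs (hd.trans (card_dvd_of_le inf_le_left))
    obtain ⟨EH, hWPE, hEH⟩ := exists_complement_ge hG hH (sup_le hWH hPH : W ⊔ P ≤ H)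
      fun s hs hd => by
        rcases hs.dvd_mul.1 (hd.trans (card_sup_dvd_mul_of_le_normalizer hPW)) with h | h
        · exact sigma_disjoint hG hM hH hMH (hWσ s hs h)
        · rw [hP, Nat.prime_dvd_prime_iff_eq hs hp] at h
          exact h ▸ hpσH
    have hWD : W ≤ ⁅EH, EH⁆ := hWeq.ge.trans
      (commutator_mono (le_sup_left.trans hWPE) (le_sup_right.trans hWPE))
    haveI hab := (Cfsg.Agent.S1420.result hG H hH EH hEH).2.1
    obtain ⟨B, hBE, hB, hB2⟩ := exists_elementary_in_complement hG hH hEH ht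
    have hEB : EH ≤ normalizer (B : Set G) :=
      (Cfsg.Agent.S1418.result hG H hH EH hEH t ht B ⟨hBE, hB, hB2⟩).1.1
    have hBW : B ≤ centralizer (W : Set G) := by
      refine le_centralizer_iff.1 fun w hw => ?_
      have hwE : zpowers w ≤ EH := zpowers_le.2 (commutator_le_self EH (hWD hw))
      haveI := hB.1
      have hc : (Nat.card (zpowers w)).Coprime (Nat.card B) := by
        rw [hB2]
        refine Nat.Coprime.pow_right 2 (Nat.Coprime.symm (ht.1.coprime_iff_not_dvd.2 fun hd => ?_))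
        exact htσ (hWσ t ht.1 (hd.trans (card_dvd_of_le (zpowers_le.2 hw))))
      have h1 := Solvable.commutator_commutator_eq (hwE.trans hEB) hc
        (Or.inl (Group.isSolvable_of_comm fun u v => Subtype.ext (setLike_mul_comm u.2 v.2)))
      have h2 : ⁅⁅B, zpowers w⁆, zpowers w⁆ = ⊥ := commutator_eq_bot_iff_le_centralizer.2
        fun c hc d hd => setLike_mul_comm (s := ⁅EH, EH⁆) (zpowers_le.2 (hWD hw) hd)
          (commutator_mono hBE hwE hc)
      rw [h1] at h2
      exact fun b hb => (commutator_eq_bot_iff_le_centralizer.1 h2 hb w (mem_zpowers w)).symm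
    haveI hWab : IsMulCommutative W := ⟨⟨fun u v =>
      Subtype.ext (setLike_mul_comm (hWD u.2) (hWD v.2))⟩⟩
    obtain ⟨r, hr, hrW⟩ := Nat.exists_prime_and_dvd fun h => hW1 (card_eq_one.1 h)
    haveI := Fact.mk hr
    let R : Subgroup G :=
      { carrier := {z | z ∈ W ∧ z ^ r = 1}
        mul_mem' := fun {z w} hz hw => ⟨mul_mem hz.1 hw.1, by
          rw [(show Commute z w from setLike_mul_comm hz.1 hw.1).mul_pow, hz.2, hw.2, one_mul]⟩
        one_mem' := ⟨one_mem _, one_pow _⟩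
        inv_mem' := fun {z} hz => ⟨inv_mem hz.1, by rw [inv_pow, hz.2, inv_one]⟩ }
    have hRW : R ≤ W := fun z hz => hz.1
    have hRe : Cfsg.IsElementaryAbelian r R :=
      ⟨⟨⟨fun u v => Subtype.ext (setLike_mul_comm u.2.1 v.2.1)⟩⟩, fun z hz => hz.2⟩
    have hBR : B ≤ centralizer (R : Set G) := hBW.trans (centralizer_le hRW)
    obtain ⟨z, hz⟩ := exists_prime_orderOf_dvd_card' r hrW
    have hzR : (z : G) ∈ R := ⟨z.2, by rw [← hz, ← orderOf_coe, pow_orderOf_eq_one]⟩
    have hrσ : r ∈ Cfsg.sigma M := hWσ r hr hrW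
    have hid := not_idealPrime hG hH ht.2.2.1 ht.2.2.2
    obtain ⟨i, hi⟩ := (isPGroup_of_exp hRe.2).exists_card_eq
    rcases Nat.lt_or_ge i 2 with hi2 | hi2
    · have hR : Nat.card R = r := by
        have h1 : r ∣ Nat.card R := by
          rw [← hz, ← orderOf_coe]
          exact orderOf_dvd_card_of_mem hzR
        rw [hi] at h1 ⊢
        rcases Nat.le_one_iff_eq_zero_or_eq_one.1 (Nat.lt_succ_iff.1 hi2) with rfl | rfl
        · exact absurd h1 hr.not_dvd_one
        · exact pow_one r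
      have huR : u ∈ normalizer (R : Set G) := by
        refine mem_normalizer_fintype fun w hw => ?_
        exact ⟨(mem_normalizer_iff.1 huW w).1 hw.1, by rw [conj_pow, hw.2, mul_one, mul_inv_cancel]⟩
      exact false_of_elementary_centralizer hG hM htσ hrσ hR (hRW.trans hWM)
        (fun h => ht.1.ne_one (by rw [← hut, h, orderOf_one]))
        (IsPGroup.of_card (n := 1) (by rw [Nat.card_zpowers, hut, pow_one])) huM huR hB hB2 hBR hid
    · obtain ⟨R₂, hR₂⟩ := Sylow.exists_subgroup_card_pow_prime (G := R) r (n := 2)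
        (hi ▸ pow_dvd_pow r hi2)
      have h2R : R₂.map R.subtype ≤ R := map_subtype_le _
      have hR₂e : Cfsg.IsElementaryAbelian r (R₂.map R.subtype) := by
        refine ⟨?_, fun w hw => hRe.2 w (h2R hw)⟩
        haveI := hRe.1
        exact map_isMulCommutative R₂ R.subtype
      have hCM := centralizer_elementary_le hG hM ((h2R.trans hRW).trans hWM) hR₂e
        (by rw [card_map_of_injective R.subtype_injective, hR₂])
      exact false_of_elementary_sigma hG hM htσ hB hB2 ((hBR.trans (centralizer_le h2R)).trans hCM)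
        hrσ (X := zpowers (z : G)) (by rw [Nat.card_zpowers, orderOf_coe, hz])
        (zpowers_le.2 (hWM z.2)) (hBW.trans (centralizer_le (zpowers_le.2 z.2)))

end CfsgLib.OddOrder
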