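import Cfsg.Agent.S1351
import Cfsg.Agent.S1354
import Cfsg.Agent.S1430
import Cfsg.Agent.S1432
import Cfsg.Agent.S1378
import Cfsg.Agent.Lib.OddOrder.SigmaConj
import Cfsg.Agent.Lib.OddOrder.SigmaSignalizer
import Cfsg.Agent.Lib.OddOrder.Tau13Unique
import Cfsg.Agent.Lib.OddOrder.KappaTau3

/-!
BG 14.7, first part: pairs `(M, K)` and the cyclic group `Z = K × K*` they share with their partners.
-/

set_option autoImplicit false
set_option linter.style.haveILetI false

namespace CfsgLib.OddOrder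

open Subgroup

variable {G : Type*} [Group G] [Finite G]

theorem mem_of_pow_mem_of_coprime {W : Subgroup G} {x : G} {n : ℕ}
    (hco : n.Coprime (orderOf x)) (h : x ^ n ∈ W) : x ∈ W := by
  obtain ⟨m, hm⟩ := exists_pow_eq_self_of_coprime hco
  exact hm ▸ pow_mem h m

/-- Two cyclic subgroups of coprime orders centralizing each other generate a cyclic subgroup. -/
theorem isCyclic_sup_of_coprime {A B : Subgroup G} [IsCyclic A] [IsCyclic B]
    (hco : (Nat.card A).Coprime (Nat.card B)) (hAB : A ≤ centralizer (B : Set G)) :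
    IsCyclic ↥(A ⊔ B) := by
  obtain ⟨a, ha⟩ := (Subgroup.isCyclic_iff_exists_zpowers_eq_top A).1 inferInstance
  obtain ⟨b, hb⟩ := (Subgroup.isCyclic_iff_exists_zpowers_eq_top B).1 inferInstance
  have hcomm : Commute a b := (hAB (ha ▸ mem_zpowers a) b (hb ▸ mem_zpowers b)).symm
  have hoa : orderOf a = Nat.card A := by rw [← Nat.card_zpowers, ha]
  have hob : orderOf b = Nat.card B := by rw [← Nat.card_zpowers, hb]
  refine (Subgroup.isCyclic_iff_exists_zpowers_eq_top _).2 ⟨a * b, le_antisymm ?_ ?_⟩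
  · exact zpowers_le.2 (mul_mem (mem_sup_left (ha ▸ mem_zpowers a))
      (mem_sup_right (hb ▸ mem_zpowers b)))
  · refine sup_le ?_ ?_
    · rw [← ha, zpowers_le]
      refine mem_of_pow_mem_of_coprime (n := Nat.card B) (hoa ▸ hco.symm) ?_
      rw [show a ^ Nat.card B = (a * b) ^ Nat.card B by
        rw [hcomm.mul_pow, ← hob, pow_orderOf_eq_one, mul_one]]
      exact pow_mem (mem_zpowers _) _
    · rw [← hb, zpowers_le]
      refine mem_of_pow_mem_of_coprime (n := Nat.card A) (hob ▸ hco) ?_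
      rw [show b ^ Nat.card A = (a * b) ^ Nat.card A by
        rw [hcomm.mul_pow, ← hoa, pow_orderOf_eq_one, one_mul]]
      exact pow_mem (mem_zpowers _) _

/-- `K* = M_σ ∩ C(K)`. -/
abbrev kappaStar (M K : Subgroup G) : Subgroup G := Cfsg.sigmaCore M ⊓ centralizer (K : Set G)

/-- A maximal subgroup with a nontrivial Hall `κ`-subgroup. -/
structure IsKappaPair (M K : Subgroup G) : Prop where
  max : IsCoatom M
  hall : Cfsg.IsPiHallOf (Cfsg.kappa M) K M
  ne_bot : K ≠ ⊥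

namespace IsKappaPair

variable {M K : Subgroup G} (h : IsKappaPair M K)
include h

theorem primes_kappaStar {q : ℕ} (hq : q.Prime) (hd : q ∣ Nat.card ↥(kappaStar M K)) :
    q ∈ Cfsg.sigma M :=
  sigma_of_dvd_sigmaCore hq (hd.trans (card_dvd_of_le inf_le_left))

theorem not_sigma {q : ℕ} (hq : q.Prime) (hd : q ∣ Nat.card K) : q ∉ Cfsg.sigma M :=
  kappa_not_sigma (h.hall.2.1 q hq hd)

theorem coprime_card : (Nat.card K).Coprime (Nat.card ↥(kappaStar M K)) :=
  Nat.coprime_of_dvd fun q hq h1 h2 => h.not_sigma hq h1 (h.primes_kappaStar hq h2)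

theorem le_centralizer_star : K ≤ centralizer (kappaStar M K : Set G) :=
  le_centralizer_iff.1 inf_le_right

theorem inf_eq_bot : K ⊓ kappaStar M K = ⊥ := inf_eq_bot_of_coprime h.coprime_card

theorem card_zsub : Nat.card ↥(K ⊔ kappaStar M K) = Nat.card K * Nat.card ↥(kappaStar M K) :=
  Solvable.card_sup_of_disjoint
    ((inf_le_right : kappaStar M K ≤ _).trans (centralizer_le_normalizer _))
    (disjoint_iff.2 h.inf_eq_bot)

theorem mem_kappaStar {z : G} (hz : z ∈ K ⊔ kappaStar M K)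
    (hσ : ∀ q : ℕ, q.Prime → q ∣ orderOf z → q ∈ Cfsg.sigma M) : z ∈ kappaStar M K := by
  obtain ⟨a, ha, b, hb, rfl⟩ := (Solvable.mem_sup_of_le_normalizer
    ((inf_le_right : kappaStar M K ≤ _).trans (centralizer_le_normalizer _))).1 hz
  refine mem_of_pow_mem_of_coprime (n := Nat.card K)
    (Nat.coprime_of_dvd fun q hq h1 h2 => h.not_sigma hq h1 (hσ q hq h2)) ?_
  rw [(show Commute a b from (h.le_centralizer_star ha b hb).symm).mul_pow,
    show a ^ Nat.card K = 1 from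
      congrArg Subtype.val (pow_card_eq_one' (x := (⟨a, ha⟩ : K))), one_mul]
  exact pow_mem hb _

theorem mem_of_coprime {z : G} (hz : z ∈ K ⊔ kappaStar M K)
    (hco : (Nat.card ↥(kappaStar M K)).Coprime (orderOf z)) : z ∈ K := by
  obtain ⟨a, ha, b, hb, rfl⟩ := (Solvable.mem_sup_of_le_normalizer
    ((inf_le_right : kappaStar M K ≤ _).trans (centralizer_le_normalizer _))).1 hz
  refine mem_of_pow_mem_of_coprime hco ?_
  rw [(show Commute a b from (h.le_centralizer_star ha b hb).symm).mul_pow,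
    show b ^ Nat.card ↥(kappaStar M K) = 1 from
      congrArg Subtype.val (pow_card_eq_one' (x := (⟨b, hb⟩ : kappaStar M K))), mul_one]
  exact pow_mem ha _

theorem zsub_inf_sigmaCore : (K ⊔ kappaStar M K) ⊓ Cfsg.sigmaCore M = kappaStar M K :=
  le_antisymm (fun z hz => h.mem_kappaStar hz.1 fun q hq hd =>
    sigma_of_dvd_sigmaCore hq (hd.trans (orderOf_dvd_card_of_mem hz.2)))
    (le_inf le_sup_right inf_le_left)

variable (hG : Cfsg.IsMinSimpleOddOrder G)
include hG

theorem cyclic : IsCyclic K := (Cfsg.Agent.S1351.result hG M h.max).2 K h.hall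

theorem kappaStar_ne_bot : kappaStar M K ≠ ⊥ :=
  (Cfsg.Agent.S1354.result hG M h.max K (h.cyclic hG) h.hall).1

theorem inf_centralizer {k : G} (hk : k ∈ K) (hk1 : k ≠ 1) :
    M ⊓ centralizer ({k} : Set G) = K ⊔ kappaStar M K :=
  (Cfsg.Agent.S1354.result hG M h.max K (h.cyclic hG) h.hall).2 h.ne_bot k hk hk1

theorem exists_prime_order : ∃ k ∈ K, (orderOf k).Prime := by
  obtain ⟨p, hp, hd⟩ := Nat.exists_prime_and_dvd
    (fun h1 => h.ne_bot (Subgroup.card_eq_one.1 h1) : Nat.card K ≠ 1)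
  haveI := Fact.mk hp
  obtain ⟨k, hk⟩ := exists_prime_orderOf_dvd_card' p hd
  exact ⟨k, k.2, by rwa [Subgroup.orderOf_coe, hk]⟩

theorem centralizer_unique {X : Subgroup G} (hX : X ≤ kappaStar M K) (hXp : (Nat.card X).Prime) :
    centralizer (X : Set G) ≤ M ∧
      ∀ L : Subgroup G, IsCoatom L → centralizer (X : Set G) ≤ L → L = M := by
  haveI := Fact.mk hXp
  obtain ⟨k, hk, hp⟩ := h.exists_prime_order hG
  have hκ := h.hall.2.1 _ hp (orderOf_dvd_card_of_mem hk)
  refine tau1_centralizer_unique hG h.max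
    (kappa_subset_tau1 hG h.max (h.cyclic hG) h.hall hκ) (P := zpowers k) (Nat.card_zpowers k)
    (zpowers_le.2 (h.hall.1 hk)) rfl (le_inf (hX.trans inf_le_left) ?_)
  exact hX.trans (inf_le_right.trans (centralizer_le (zpowers_le.2 hk)))

theorem centralizer_singleton_le {y : G} (hy : y ∈ kappaStar M K) (hy1 : y ≠ 1) :
    centralizer ({y} : Set G) ≤ M := by
  obtain ⟨p, hp, hd⟩ := Nat.exists_prime_and_dvd
    (fun h1 => hy1 (orderOf_eq_one_iff.1 h1) : orderOf y ≠ 1)
  have ho : orderOf (y ^ (orderOf y / p)) = p :=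
    orderOf_pow_orderOf_div (orderOf_pos y).ne' hd
  refine le_trans ?_ (h.centralizer_unique hG (X := zpowers (y ^ (orderOf y / p)))
    (zpowers_le.2 (pow_mem hy _)) (by rwa [Nat.card_zpowers, ho])).1
  intro c hc
  rw [Cfsg.Agent.S1416.centralizer_zpowers_eq hG, mem_centralizer_singleton_iff]
  exact ((show Commute c y from mem_centralizer_singleton_iff.1 hc).pow_right _).eq

/-- A maximal subgroup `L` over `N(⟨k⟩)`: its Hall `κ`-subgroup contains `K*`. -/
theorem exists_partner {k : G} (hk : k ∈ K) (hkp : (orderOf k).Prime) :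
    ∃ L K' : Subgroup G, IsKappaPair L K' ∧ kappaStar M K ≤ K' ∧ k ∈ kappaStar L K' := by
  have hk1 : k ≠ 1 := fun h1 => Nat.not_prime_one (by rwa [h1, orderOf_one] at hkp)
  haveI := Fact.mk hkp
  set X := zpowers k with hXdef
  have hX : Nat.card X = orderOf k := Nat.card_zpowers k
  have hXK : X ≤ K := zpowers_le.2 hk
  obtain ⟨L, hL, hNL⟩ := exists_isCoatom_ge (normalizer_ne_top hG (ne_bot_of_prime_card hX)
    (isPGroup_ne_top hG (isPGroup_of_prime_card hX)))
  obtain ⟨-, -, hXN⟩ := Cfsg.Agent.S1430.result hG M h.max K h.hall h.ne_bot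
  have hXσ : X ≤ Cfsg.sigmaCore L := (hXN X hXK (hX ▸ hkp)).2.2 L hL hNL
  have hkL : k ∈ Cfsg.sigmaCore L := hXσ (mem_zpowers k)
  have hpσ : orderOf k ∈ Cfsg.sigma L :=
    sigma_of_dvd_sigmaCore hkp (orderOf_dvd_card_of_mem hkL)
  have hpM : orderOf k ∉ Cfsg.sigma M := h.not_sigma hkp (orderOf_dvd_card_of_mem hk)
  have hdisj : ∀ q, q ∈ Cfsg.sigma M → q ∉ Cfsg.sigma L := fun q h1 h2 => hpM (by
    obtain ⟨g, hg⟩ := (Cfsg.Agent.S1378.result hG).2 M L h.max hL ⟨q, h1, h2⟩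
    rwa [hg, sigma_conj] at hpσ)
  have hSL : kappaStar M K ≤ L := fun y hy => hNL (centralizer_le_normalizer _
    (centralizer_le (hXK) hy.2))
  have key : ∀ y ∈ kappaStar M K, y ≠ 1 → ∀ q : ℕ, q.Prime → q ∣ orderOf y → q ∈ Cfsg.kappa L := by
    intro y hy hy1
    have hσy : ∀ q : ℕ, q.Prime → q ∣ orderOf y → q ∉ Cfsg.sigma L := fun q hq hd =>
      hdisj q (h.primes_kappaStar hq (hd.trans (orderOf_dvd_card_of_mem hy)))
    rcases Cfsg.Agent.S1432.result hG L hL k hkL hk1 y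
      ⟨hSL hy, mem_centralizer_singleton_iff.2 (hy.2 k hk).symm⟩ hy1 hσy with
      ⟨hκ, -⟩ | ⟨-, -, -, huniq⟩
    · exact hκ
    · exfalso
      exact hpM ((huniq M h.max (h.centralizer_singleton_le hG hy hy1)) ▸ hpσ)
  haveI := isSolvable_of_ne_top hG hL.1
  obtain ⟨K', hK', hle⟩ := exists_isPiHallOf_ge (π := Cfsg.kappa L) ‹_› hSL fun q hq hd => by
    haveI := Fact.mk hq
    obtain ⟨y, hy⟩ := exists_prime_orderOf_dvd_card' q hd
    rw [← Subgroup.orderOf_coe] at hy
    exact key y y.2 (fun h1 => hq.one_lt.ne (by rw [← hy, h1, orderOf_one])) q hq (dvd_of_eq hy.symm)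
  have h' : IsKappaPair L K' := ⟨hL, hK', fun hb =>
    h.kappaStar_ne_bot hG (le_bot_iff.1 (hle.trans hb.le))⟩
  refine ⟨L, K', h', hle, ?_⟩
  obtain ⟨y, hy, hy1⟩ : ∃ y ∈ kappaStar M K, y ≠ 1 := by
    by_contra hcon
    push Not at hcon
    exact h.kappaStar_ne_bot hG ((Subgroup.eq_bot_iff_forall _).2 hcon)
  obtain ⟨hprime, -, -⟩ := Cfsg.Agent.S1430.result hG L hL K' hK' h'.ne_bot
  show k ∈ kappaStar L K'
  rw [kappaStar, ← hprime y (hle hy) hy1]
  exact ⟨hkL, mem_centralizer_singleton_iff.2 (hy.2 k hk)⟩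

theorem cyclic_kappaStar : IsCyclic ↥(kappaStar M K) := by
  obtain ⟨k, hk, hkp⟩ := h.exists_prime_order hG
  obtain ⟨L, K', h', hle, -⟩ := h.exists_partner hG hk hkp
  haveI := h'.cyclic hG
  exact isCyclic_of_injective (inclusion hle) (inclusion_injective hle)

theorem cyclic_zsub : IsCyclic ↥(K ⊔ kappaStar M K) := by
  haveI := h.cyclic hG
  haveI := h.cyclic_kappaStar hG
  exact isCyclic_sup_of_coprime h.coprime_card h.le_centralizer_star

theorem zsub_le : K ⊔ kappaStar M K ≤ M :=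
  sup_le h.hall.1 (inf_le_left.trans (piCoreOf_le _ _))

theorem commute {a b : G} (ha : a ∈ K ⊔ kappaStar M K) (hb : b ∈ K ⊔ kappaStar M K) :
    Commute a b := by
  haveI := h.cyclic_zsub hG
  exact congrArg Subtype.val
    (IsCyclic.commGroup.mul_comm (⟨a, ha⟩ : ↥(K ⊔ kappaStar M K)) ⟨b, hb⟩)

omit h in
/-- A pair and its partner generate the same `Z`. -/
theorem zsub_eq {L K' : Subgroup G} (h : IsKappaPair M K) (h' : IsKappaPair L K')
    (hle : kappaStar M K ≤ K') {k : G} (hk : k ∈ K) (hk1 : k ≠ 1) (hk' : k ∈ kappaStar L K') :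
    K' ⊔ kappaStar L K' = K ⊔ kappaStar M K := by
  obtain ⟨y, hy, hy1⟩ : ∃ y ∈ kappaStar M K, y ≠ 1 := by
    by_contra hcon
    push Not at hcon
    exact h.kappaStar_ne_bot hG ((Subgroup.eq_bot_iff_forall _).2 hcon)
  refine le_antisymm ?_ (sup_le (fun x hx => ?_) (hle.trans le_sup_left))
  · intro x hx
    rw [← h.inf_centralizer hG hk hk1]
    refine ⟨h.centralizer_singleton_le hG hy hy1 (mem_centralizer_singleton_iff.2
      (h'.commute hG hx (mem_sup_left (hle hy))).eq), mem_centralizer_singleton_iff.2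
      (h'.commute hG hx (mem_sup_right hk')).eq⟩
  · rw [← h'.inf_centralizer hG (hle hy) hy1]
    refine ⟨h'.centralizer_singleton_le hG hk' hk1 (mem_centralizer_singleton_iff.2
      (h.commute hG (mem_sup_left hx) (mem_sup_left hk)).eq), mem_centralizer_singleton_iff.2
      (h.commute hG (mem_sup_left hx) (mem_sup_right hy)).eq⟩

/-- A maximal subgroup with `y ∈ L_σ ∩ K*` is `M`. -/
theorem eq_of_mem {y : G} (hy : y ∈ kappaStar M K) (hy1 : y ≠ 1) {L : Subgroup G}
    (hL : IsCoatom L) (hyL : y ∈ Cfsg.sigmaCore L) : L = M := by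
  obtain ⟨q, hq, hd⟩ := Nat.exists_prime_and_dvd
    (fun h1 => hy1 (orderOf_eq_one_iff.1 h1) : orderOf y ≠ 1)
  obtain ⟨g, rfl⟩ := (Cfsg.Agent.S1378.result hG).2 M L h.max hL
    ⟨q, h.primes_kappaStar hq (hd.trans (orderOf_dvd_card_of_mem hy)),
      sigma_of_dvd_sigmaCore hq (hd.trans (orderOf_dvd_card_of_mem hyL))⟩
  have hgy : g⁻¹ * y * g⁻¹⁻¹ ∈ M := by
    rw [inv_inv]
    exact mem_map_conj_iff.1 (piCoreOf_le _ _ hyL)
  obtain ⟨m, hm, c, hc, hmc⟩ :=
    exists_mul_centralizer_of_sigma hG h.max hy.1 hy1 (g := g⁻¹) hgy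
  have hgM : g ∈ M := inv_mem_iff.1 (hmc ▸ mul_mem hm (h.centralizer_singleton_le hG hy hy1 hc))
  exact mem_normalizer_iff_map_conj_eq.1 (le_normalizer hgM)

/-- Every maximal subgroup meeting `Z` in its core is a member of a pair with the same `Z`. -/
theorem exists_member {L : Subgroup G} (hL : IsCoatom L) {z : G}
    (hz : z ∈ K ⊔ kappaStar M K) (hz1 : z ≠ 1) (hzL : z ∈ Cfsg.sigmaCore L) :
    ∃ K' : Subgroup G, IsKappaPair L K' ∧ K' ⊔ kappaStar L K' = K ⊔ kappaStar M K := by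
  obtain ⟨q, hq, hd⟩ := Nat.exists_prime_and_dvd
    (fun h1 => hz1 (orderOf_eq_one_iff.1 h1) : orderOf z ≠ 1)
  set w := z ^ (orderOf z / q)
  have hwo : orderOf w = q := orderOf_pow_orderOf_div (orderOf_pos z).ne' hd
  have hw1 : w ≠ 1 := fun h1 => hq.one_lt.ne (by rw [← hwo, h1, orderOf_one])
  have hwZ : w ∈ K ⊔ kappaStar M K := pow_mem hz _
  have hwL : w ∈ Cfsg.sigmaCore L := pow_mem hzL _
  by_cases hqσ : q ∈ Cfsg.sigma M
  · have hwS : w ∈ kappaStar M K := h.mem_kappaStar hwZ fun s hs hsd => by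
      rw [hwo] at hsd
      rwa [(Nat.prime_dvd_prime_iff_eq hs hq).1 hsd]
    obtain rfl := h.eq_of_mem hG hwS hw1 hL hwL
    exact ⟨K, h, rfl⟩
  · have hwK : w ∈ K := h.mem_of_coprime hwZ (by
      rw [hwo]
      exact (hq.coprime_iff_not_dvd.2 fun hd' => hqσ (h.primes_kappaStar hq hd')).symm)
    obtain ⟨L₁, K₁, h₁, hle, hw⟩ := h.exists_partner hG hwK (hwo.symm ▸ hq)
    obtain rfl := h₁.eq_of_mem hG hw hw1 hL hwL
    exact ⟨K₁, h₁, zsub_eq hG h h₁ hle hwK hw1 hw⟩

end IsKappaPair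

end CfsgLib.OddOrder
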