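import Cfsg.Agent.Lib.OddOrder.SigmaSupport
import Cfsg.Agent.Lib.OddOrder.SigmaConj

/-!
The groups `R(x)` of BG 14.4 as `Cfsg.supportR`, and the size of `tildeOf M M_σ^#` (BG 14.6).
-/

set_option autoImplicit false
set_option linter.style.haveILetI false

namespace CfsgLib.OddOrder

open Subgroup

universe u

variable {G : Type u} [Group G] [Finite G] (hG : Cfsg.IsMinSimpleOddOrder G)
  (hdisj : ∀ M N : Subgroup G, IsCoatom M → IsCoatom N →
    (Cfsg.sigma M ∩ Cfsg.sigma N).Nonempty → ∃ g : G, N = M.map (MulAut.conj g).toMonoidHom)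
  (hdich : ∀ (M : Subgroup G), IsCoatom M → ∀ x ∈ Cfsg.sigmaCore M, x ≠ 1 →
    ∀ x' ∈ M ⊓ Subgroup.centralizer ({x} : Set G), x' ≠ 1 →
    (∀ p : ℕ, p.Prime → p ∣ orderOf x' → p ∉ Cfsg.sigma M) →
    ((∀ p : ℕ, p.Prime → p ∣ orderOf x' → p ∈ Cfsg.kappa M) ∧
        Subgroup.centralizer ({x} : Set G) ≤ M) ∨
      ((∀ p : ℕ, p.Prime → p ∣ orderOf x' → p ∈ Cfsg.tau2 M) ∧
        (∃ L : Subgroup G, IsCoatom L ∧
          ∀ p : ℕ, p.Prime → p ∣ orderOf x' → p ∈ Cfsg.sigma L) ∧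
        (Subgroup.centralizer ({x'} : Set G) ≤ M ∧ ∀ L : Subgroup G, IsCoatom L →
          Subgroup.centralizer ({x'} : Set G) ≤ L → L = M)))

omit [Finite G] in
theorem supportR_eq_bot {M : Subgroup G} {x : G} (h : centralizer ({x} : Set G) ≤ M) :
    Cfsg.supportR M x = ⊥ :=
  dif_neg fun h' => h'.1 h

omit [Finite G] in
theorem supportR_eq {M L : Subgroup G} {x : G} (hxM : ¬ centralizer ({x} : Set G) ≤ M)
    (hL : IsCoatom L) (hCL : centralizer ({x} : Set G) ≤ L)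
    (hu : ∀ L' : Subgroup G, IsCoatom L' → centralizer ({x} : Set G) ≤ L' → L' = L)
    (hF : Cfsg.sigmaCore L = Cfsg.fittingHallOf L) :
    Cfsg.supportR M x = Cfsg.sigmaCore L ⊓ centralizer ({x} : Set G) := by
  have h : ¬ centralizer ({x} : Set G) ≤ M ∧
      ∃! L : Subgroup G, IsCoatom L ∧ centralizer ({x} : Set G) ≤ L :=
    ⟨hxM, L, ⟨hL, hCL⟩, fun L' h' => hu L' h'.1 h'.2⟩
  rw [Cfsg.supportR, dif_pos h, hF,
    hu _ (Classical.choose_spec h.2.exists).1 (Classical.choose_spec h.2.exists).2]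

include hG hdisj hdich

/-- `R(x)` is a normal complement to `C_M(x)` in `C(x)`. -/
theorem supportR_spec {M : Subgroup G} (hM : IsCoatom M) {x : G} (hx : x ∈ Cfsg.sigmaCore M)
    (hx1 : x ≠ 1) :
    centralizer ({x} : Set G) ≤ normalizer (Cfsg.supportR M x : Set G) ∧
      Cfsg.IsComplIn (M ⊓ centralizer ({x} : Set G)) (Cfsg.supportR M x)
        (centralizer ({x} : Set G)) := by
  by_cases hxM : centralizer ({x} : Set G) ≤ M
  · rw [supportR_eq_bot hxM]
    refine ⟨?_, inf_le_right, bot_le, inf_bot_eq _,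
      fun c hc => ⟨c, ⟨hxM hc, hc⟩, 1, one_mem _, (mul_one c).symm⟩⟩
    rw [normalizer_eq_top]
    exact le_top
  · obtain ⟨L, ⟨hL, hCL⟩, hu, hF, -, -, hE, -⟩ :=
      supporting_structure hG hM hdisj hdich hx hx1 hxM
    rw [supportR_eq hxM hL hCL hu hF]
    obtain ⟨hn, hR, -⟩ := centralizer_split hG hM (piCoreOf_le _ _ hx) hL hCL hE
    exact ⟨hn, hR⟩

theorem supportR_conj {M : Subgroup G} (hM : IsCoatom M) {x : G} (hx : x ∈ Cfsg.sigmaCore M)
    (hx1 : x ≠ 1) (g : G) :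
    Cfsg.supportR (M.map (MulAut.conj g).toMonoidHom) (g * x * g⁻¹) =
      (Cfsg.supportR M x).map (MulAut.conj g).toMonoidHom := by
  have hci : Function.Injective (MulAut.conj g).toMonoidHom := (MulAut.conj g).injective
  have hC := centralizer_singleton_conj x g
  by_cases hxM : centralizer ({x} : Set G) ≤ M
  · rw [supportR_eq_bot hxM, supportR_eq_bot (hC ▸ Subgroup.map_mono hxM), Subgroup.map_bot]
  · obtain ⟨L, ⟨hL, hCL⟩, hu, hF, -, -, -, -⟩ :=
      supporting_structure hG hM hdisj hdich hx hx1 hxM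
    have hgx : g * x * g⁻¹ ∈ Cfsg.sigmaCore (M.map (MulAut.conj g).toMonoidHom) := by
      rw [sigmaCore_conj]; exact mem_map_of_mem _ hx
    have hgxM : ¬ centralizer ({g * x * g⁻¹} : Set G) ≤ M.map (MulAut.conj g).toMonoidHom := by
      rw [hC, Subgroup.map_le_map_iff_of_injective hci]; exact hxM
    obtain ⟨L', ⟨hL', hCL'⟩, hu', hF', -, -, -, -⟩ :=
      supporting_structure hG (isCoatom_conj hM g) hdisj hdich hgx (fun h => hx1 (conj_eq_one_iff.1 h)) hgxM
    have he : L.map (MulAut.conj g).toMonoidHom = L' :=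
      hu' _ (isCoatom_conj hL g) (hC ▸ Subgroup.map_mono hCL)
    rw [supportR_eq hgxM hL' hCL' hu' hF', supportR_eq hxM hL hCL hu hF, ← he, sigmaCore_conj, hC,
      Subgroup.map_inf _ _ _ hci]

/-- `R(x)` does not depend on the conjugate of `M` containing `x`. -/
theorem supportR_conjugate_eq {M : Subgroup G} (hM : IsCoatom M) {x : G}
    (hx : x ∈ Cfsg.sigmaCore M) (hx1 : x ≠ 1) {g : G}
    (hg : x ∈ M.map (MulAut.conj g).toMonoidHom) :
    x ∈ Cfsg.sigmaCore (M.map (MulAut.conj g).toMonoidHom) ∧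
      Cfsg.supportR (M.map (MulAut.conj g).toMonoidHom) x = Cfsg.supportR M x := by
  obtain ⟨hn, hR⟩ := supportR_spec hG hdisj hdich hM hx hx1
  obtain ⟨r, ⟨hr, hMr⟩, -⟩ := existsUnique_conj hG hM hx hx1 hR g hg
  have hfix : r * x * r⁻¹ = x := by
    rw [mem_centralizer_singleton_iff.1 (hR.2.1 hr), mul_inv_cancel_right]
  refine ⟨?_, ?_⟩
  · rw [← hMr, sigmaCore_conj, ← hfix]
    exact mem_map_of_mem _ hx
  · rw [← hMr]
    conv_lhs => rw [← hfix]
    rw [supportR_conj hG hdisj hdich hM hx hx1 r]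
    have h := hn (hR.2.1 hr)
    rw [mem_normalizer_iff_map_conj_eq] at h
    exact h

/-- BG 14.6. -/
theorem ncard_tildeOf
    (hsep : ∀ (M N : Subgroup G), IsCoatom M → IsCoatom N → ∀ (x y : G),
      x ∈ Cfsg.sigmaCore M → y ∈ Cfsg.sigmaCore N → x ≠ 1 → y ≠ 1 → x ≠ y →
      ∀ r ∈ Cfsg.supportR M x, ∀ s ∈ Cfsg.supportR N y, x * r ≠ y * s)
    {M : Subgroup G} (hM : IsCoatom M) :
    Set.ncard (Cfsg.tildeOf M ((Cfsg.sigmaCore M : Set G) \ {1})) =
      (Nat.card (Cfsg.sigmaCore M) - 1) * M.index := by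
  classical
  set S : Set G := (Cfsg.sigmaCore M : Set G) \ {1} with hS
  have hY : ∀ b : G, ∃ y : G, (∃ z : G, z⁻¹ * b * z ∈ S) → y⁻¹ * b * y ∈ S := fun b => by
    by_cases h : ∃ z : G, z⁻¹ * b * z ∈ S
    · exact ⟨h.choose, fun _ => h.choose_spec⟩
    · exact ⟨1, fun h' => absurd h' h⟩
  choose Y hY using hY
  have key : ∀ (y : G) (b : G), y⁻¹ * b * y ∈ S →
      b ≠ 1 ∧ b ∈ Cfsg.sigmaCore (M.map (MulAut.conj (Y b)).toMonoidHom) ∧
        b ∈ M.map (MulAut.conj y).toMonoidHom ∧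
        b ∈ M.map (MulAut.conj (Y b)).toMonoidHom := by
    intro y b h
    obtain ⟨h1, h2⟩ := hY b ⟨y, h⟩
    refine ⟨fun h3 => h.2 (by simp [h3]), ?_, mem_map_conj_iff.2 (piCoreOf_le _ _ h.1),
      mem_map_conj_iff.2 (piCoreOf_le _ _ h1)⟩
    rw [sigmaCore_conj]
    exact mem_map_conj_iff.2 h1
  have hconj : ∀ y z : G, M.map (MulAut.conj y).toMonoidHom =
      (M.map (MulAut.conj z).toMonoidHom).map (MulAut.conj (y * z⁻¹)).toMonoidHom := fun y z => by
    rw [map_conj_map_conj, inv_mul_cancel_right]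
  have hex : ∀ p : (G ⧸ M) × S, ∃! r : G,
      r ∈ Cfsg.supportR (M.map (MulAut.conj (Y (p.1.out * p.2.1 * p.1.out⁻¹))).toMonoidHom)
          (p.1.out * p.2.1 * p.1.out⁻¹) ∧
        (M.map (MulAut.conj (Y (p.1.out * p.2.1 * p.1.out⁻¹))).toMonoidHom).map
          (MulAut.conj r).toMonoidHom = M.map (MulAut.conj p.1.out).toMonoidHom := by
    intro p
    set y := p.1.out
    set b := y * p.2.1 * y⁻¹ with hb
    obtain ⟨hb1, hbσ, hby, -⟩ := key y b (by
      rw [hb, show y⁻¹ * (y * p.2.1 * y⁻¹) * y = p.2.1 by group]; exact p.2.2)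
    have hM' := isCoatom_conj hM (Y b)
    obtain ⟨-, hR⟩ := supportR_spec hG hdisj hdich hM' hbσ hb1
    have := existsUnique_conj hG hM' hbσ hb1 hR (y * (Y b)⁻¹) (by rwa [← hconj])
    rwa [← hconj] at this
  choose r hr hru using hex
  set f : (G ⧸ M) × S → G := fun p => p.1.out * p.2.1 * p.1.out⁻¹ * r p with hf
  have hpS : ∀ p : (G ⧸ M) × S, p.1.out⁻¹ * (p.1.out * p.2.1 * p.1.out⁻¹) * p.1.out ∈ S :=
    fun p => by
      rw [show p.1.out⁻¹ * (p.1.out * p.2.1 * p.1.out⁻¹) * p.1.out = p.2.1 by group]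
      exact p.2.2
  have hinj : Function.Injective f := by
    intro p q hpq
    obtain ⟨hp1, hpσ, -, -⟩ := key _ _ (hpS p)
    obtain ⟨hq1, hqσ, -, -⟩ := key _ _ (hpS q)
    have hbq : p.1.out * p.2.1 * p.1.out⁻¹ = q.1.out * q.2.1 * q.1.out⁻¹ := by
      by_contra hne
      exact hsep _ _ (isCoatom_conj hM _) (isCoatom_conj hM _) _ _ hpσ hqσ hp1 hq1 hne _ (hr p).1 _
        (hr q).1 hpq
    have hrq : r p = r q := by
      have h : p.1.out * p.2.1 * p.1.out⁻¹ * r p = q.1.out * q.2.1 * q.1.out⁻¹ * r q := hpq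
      rw [hbq] at h
      exact mul_left_cancel h
    have hMq : M.map (MulAut.conj p.1.out).toMonoidHom = M.map (MulAut.conj q.1.out).toMonoidHom := by
      rw [← (hr p).2, ← (hr q).2, hbq, hrq]
    have hmem : p.1.out⁻¹ * q.1.out ∈ M := mem_of_map_conj_eq hG hM (by
      rw [← map_conj_map_conj, ← hMq, map_conj_map_conj, inv_mul_cancel, map_conj_one])
    have h1 : p.1 = q.1 := by
      rw [← p.1.out_eq, ← q.1.out_eq]
      exact QuotientGroup.eq.2 hmem
    refine Prod.ext h1 (Subtype.ext ?_)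
    rw [h1] at hbq
    exact mul_left_cancel (mul_right_cancel hbq)
  have hrange : Cfsg.tildeOf M S = Set.range f := by
    ext g
    constructor
    · rintro ⟨a, ha, r₀, hr₀, y, rfl⟩
      set b := y * a * y⁻¹ with hb
      obtain ⟨hb1, hbσ, hby, -⟩ := key y b (by
        rw [hb, show y⁻¹ * (y * a * y⁻¹) * y = a by group]; exact ha)
      set M₀ := M.map (MulAut.conj (Y b)).toMonoidHom with hM₀
      have hM₀c : IsCoatom M₀ := isCoatom_conj hM (Y b)
      set r' := y * r₀ * y⁻¹ with hr'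
      have hr'R : r' ∈ Cfsg.supportR M₀ b := by
        rw [← (supportR_conjugate_eq hG hdisj hdich hM₀c hbσ hb1 (g := y * (Y b)⁻¹)
          (by rwa [← hconj])).2, ← hconj, hb, supportR_conj hG hdisj hdich hM ha.1 ha.2]
        exact mem_map_of_mem _ hr₀
      have hr'C : r' ∈ centralizer ({b} : Set G) :=
        (supportR_spec hG hdisj hdich hM₀c hbσ hb1).2.2.1 hr'R
      set q : G ⧸ M := QuotientGroup.mk (r' * Y b) with hq
      have hm : (r' * Y b)⁻¹ * q.out ∈ M := QuotientGroup.eq.1 (q.out_eq).symm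
      have hbeq : (r' * Y b)⁻¹ * b * (r' * Y b) = (Y b)⁻¹ * b * Y b := by
        have h := mem_centralizer_singleton_iff.1 hr'C
        calc (r' * Y b)⁻¹ * b * (r' * Y b) = (Y b)⁻¹ * (r'⁻¹ * (b * r')) * Y b := by group
          _ = (Y b)⁻¹ * b * Y b := by rw [← h, inv_mul_cancel_left]
      have haS : q.out⁻¹ * b * q.out ∈ S := by
        set m := (r' * Y b)⁻¹ * q.out with hmdef
        have e : q.out⁻¹ * b * q.out = m⁻¹ * ((Y b)⁻¹ * b * Y b) * m := by
          rw [← hbeq, hmdef]; group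
        obtain ⟨h1, h2⟩ := hY b ⟨y, by
          rw [hb, show y⁻¹ * (y * a * y⁻¹) * y = a by group]; exact ha⟩
        refine ⟨?_, fun h3 => hb1 ?_⟩
        · rw [e]
          have h4 := (mem_normalizer_iff.1 (le_normalizer_piCoreOf (Cfsg.sigma M) M
            (inv_mem hm)) _).1 h1
          rwa [inv_inv] at h4
        · have : b = q.out * (q.out⁻¹ * b * q.out) * q.out⁻¹ := by group
          rw [this, show q.out⁻¹ * b * q.out = 1 from h3]; group
      have hbq : q.out * (q.out⁻¹ * b * q.out) * q.out⁻¹ = b := by group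
      refine ⟨(q, ⟨_, haS⟩), ?_⟩
      have hrr : r' = r (q, ⟨_, haS⟩) := by
        refine hru (q, ⟨_, haS⟩) r' ⟨by rw [hbq]; exact hr'R, ?_⟩
        rw [hbq, map_conj_map_conj]
        show _ = M.map (MulAut.conj q.out).toMonoidHom
        conv_rhs => rw [show q.out = r' * Y b * ((r' * Y b)⁻¹ * q.out) by group,
          ← map_conj_map_conj]
        have h5 := le_normalizer (H := M) hm
        rw [mem_normalizer_iff_map_conj_eq] at h5
        exact congrArg (fun H => H.map (MulAut.conj (r' * Y b)).toMonoidHom) h5.symm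
      show q.out * (q.out⁻¹ * b * q.out) * q.out⁻¹ * r (q, ⟨_, haS⟩) = _
      rw [hbq, ← hrr, hb, hr']
      group
    · rintro ⟨p, rfl⟩
      obtain ⟨hb1, hbσ, -, -⟩ := key _ _ (hpS p)
      set b := p.1.out * p.2.1 * p.1.out⁻¹ with hb
      have ha : (Y b)⁻¹ * b * Y b ∈ S := hY b ⟨_, hpS p⟩
      refine ⟨_, ha, (Y b)⁻¹ * r p * Y b, ?_, Y b, ?_⟩
      · have h := (hr p).1
        have h2 := supportR_conj hG hdisj hdich hM ha.1 ha.2 (Y b)
        rw [show Y b * ((Y b)⁻¹ * b * Y b) * (Y b)⁻¹ = b by group] at h2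
        rw [← hb, h2, mem_map_conj_iff] at h
        exact h
      · show b * r p = _
        group
  rw [hrange, ← Nat.card_coe_set_eq, Nat.card_range_of_injective hinj, Nat.card_prod,
    ← Subgroup.index_eq_card, mul_comm]
  congr 1
  rw [Nat.card_coe_set_eq, hS, Set.ncard_diff_singleton_of_mem (one_mem (Cfsg.sigmaCore M))]
  congr 1

end CfsgLib.OddOrder
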