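import Cfsg.Agent.S1431
import Cfsg.Agent.S1433
import Cfsg.Agent.Lib.OddOrder.KappaPair
import Cfsg.Agent.Lib.OddOrder.SupportR
import Mathlib.Data.Set.Card.Arithmetic

/-!
BG 14.7, the counting argument: the regular part of `Z` and the sets `M̃`.
-/

set_option autoImplicit false
set_option linter.style.haveILetI false

namespace CfsgLib.OddOrder

open Subgroup

variable {G : Type*} [Group G] [Finite G]

/-- The elements of `Z = K K*` lying in no core `L_σ`. -/
def kappaReg (M K : Subgroup G) : Set G :=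
  {z | z ∈ K ⊔ kappaStar M K ∧ ∀ L : Subgroup G, IsCoatom L → z ∉ Cfsg.sigmaCore L}

/-- The union of the conjugates of a set. -/
def conjUnion (T : Set G) : Set G := {a | ∃ g : G, ∃ z ∈ T, a = g * z * g⁻¹}

omit [Finite G] in
theorem kappaStar_le_core (M K : Subgroup G) : kappaStar M K ≤ Cfsg.sigmaCore M := inf_le_left

namespace IsKappaPair

variable {M K : Subgroup G} (h : IsKappaPair M K) (hG : Cfsg.IsMinSimpleOddOrder G)
include h hG

/-- Every element of prime order of `Z` lies in some member's core part. -/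
theorem exists_core_mem {w : G} (hw : w ∈ K ⊔ kappaStar M K) (hwp : (orderOf w).Prime) :
    ∃ L K' : Subgroup G, IsKappaPair L K' ∧ K' ⊔ kappaStar L K' = K ⊔ kappaStar M K ∧
      w ∈ kappaStar L K' := by
  by_cases hqσ : orderOf w ∈ Cfsg.sigma M
  · refine ⟨M, K, h, rfl, h.mem_kappaStar hw fun s hs hsd => ?_⟩
    rwa [(Nat.prime_dvd_prime_iff_eq hs hwp).1 hsd]
  · have hwK : w ∈ K := h.mem_of_coprime hw
      ((hwp.coprime_iff_not_dvd.2 fun hd' => hqσ (h.primes_kappaStar hwp hd')).symm)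
    obtain ⟨L, K', h', hle, hw'⟩ := h.exists_partner hG hwK hwp
    exact ⟨L, K', h', zsub_eq hG h h' hle hwK
      (fun h1 => Nat.not_prime_one (by rwa [h1, orderOf_one] at hwp)) hw', hw'⟩

theorem centralizer_kappaReg {t : G} (ht : t ∈ kappaReg M K) :
    centralizer ({t} : Set G) = K ⊔ kappaStar M K := by
  obtain ⟨htZ, htσ⟩ := ht
  refine le_antisymm ?_ fun c hc => mem_centralizer_singleton_iff.2 (h.commute hG hc htZ).eq
  have ht1 : t ≠ 1 := fun h1 => htσ M h.max (h1 ▸ one_mem _)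
  obtain ⟨q, hq, hd⟩ := Nat.exists_prime_and_dvd
    (fun h1 => ht1 (orderOf_eq_one_iff.1 h1) : orderOf t ≠ 1)
  have hwo : orderOf (t ^ (orderOf t / q)) = q := orderOf_pow_orderOf_div (orderOf_pos t).ne' hd
  obtain ⟨L, K', h', hZ, hwL⟩ := h.exists_core_mem hG (pow_mem htZ (orderOf t / q)) (by rwa [hwo])
  rw [← hZ] at htZ ⊢
  intro c hc
  have hct : Commute c t := mem_centralizer_singleton_iff.1 hc
  have hcL : c ∈ L := h'.centralizer_singleton_le hG hwL
    (fun h1 => hq.one_lt.ne (by rw [← hwo, h1, orderOf_one]))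
    (mem_centralizer_singleton_iff.2 (hct.pow_right _).eq)
  set n := Nat.card ↥(kappaStar L K')
  have htn : t ^ n ≠ 1 := fun h1 => htσ L h'.max (h'.mem_kappaStar htZ fun s hs hsd =>
    h'.primes_kappaStar hs (hsd.trans (orderOf_dvd_of_pow_eq_one h1))).1
  have htK : t ^ n ∈ K' := by
    obtain ⟨a, ha, b, hb, rfl⟩ := (Solvable.mem_sup_of_le_normalizer
      ((inf_le_right : kappaStar L K' ≤ _).trans (centralizer_le_normalizer _))).1 htZ
    rw [(show Commute a b from (h'.le_centralizer_star ha b hb).symm).mul_pow,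
      show b ^ n = 1 from
        congrArg Subtype.val (pow_card_eq_one' (x := (⟨b, hb⟩ : kappaStar L K'))), mul_one]
    exact pow_mem ha _
  rw [← h'.inf_centralizer hG htK htn]
  exact ⟨hcL, mem_centralizer_singleton_iff.2 (hct.pow_right n).eq⟩

theorem conj_mem_zsub {t g : G} (ht : t ∈ kappaReg M K) (htg : g * t * g⁻¹ ∈ kappaReg M K) :
    g ∈ K ⊔ kappaStar M K := by
  have hconj : ∀ z ∈ K ⊔ kappaStar M K, g * z * g⁻¹ ∈ K ⊔ kappaStar M K := by
    intro z hz
    rw [← h.centralizer_kappaReg hG htg, centralizer_singleton_conj,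
      h.centralizer_kappaReg hG ht]
    exact mem_map_of_mem _ hz
  have ho : ∀ z : G, orderOf (g * z * g⁻¹) = orderOf z := fun z =>
    orderOf_injective (MulAut.conj g).toMonoidHom (MulAut.conj g).injective z
  obtain ⟨y, hy, hy1⟩ : ∃ y ∈ kappaStar M K, y ≠ 1 := by
    by_contra hcon
    push Not at hcon
    exact h.kappaStar_ne_bot hG ((Subgroup.eq_bot_iff_forall _).2 hcon)
  have hgy : g * y * g⁻¹ ∈ kappaStar M K :=
    h.mem_kappaStar (hconj y (mem_sup_right hy)) fun s hs hsd => by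
      rw [ho] at hsd
      exact h.primes_kappaStar hs (hsd.trans (orderOf_dvd_card_of_mem hy))
  have hgM : g ∈ M := by
    refine mem_of_map_conj_eq hG h.max
      (h.eq_of_mem hG hgy (fun h1 => hy1 (conj_eq_one_iff.1 h1)) (isCoatom_conj h.max g) ?_)
    rw [sigmaCore_conj]
    exact mem_map_of_mem _ hy.1
  have hgK : g ∈ normalizer (K : Set G) := mem_normalizer_of_map_le (by
    rintro _ ⟨a, ha, rfl⟩
    simp only [MulEquiv.coe_toMonoidHom, MulAut.conj_apply]
    refine h.mem_of_coprime (hconj a (mem_sup_left ha)) ?_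
    rw [ho]
    exact h.coprime_card.symm.coprime_dvd_right (orderOf_dvd_card_of_mem ha))
  obtain ⟨k, hk, hkp⟩ := h.exists_prime_order hG
  obtain ⟨-, -, hN⟩ := Cfsg.Agent.S1430.result hG M h.max K h.hall h.ne_bot
  have := (hN (zpowers k) (zpowers_le.2 hk) (by rwa [Nat.card_zpowers])).2.1
  exact this.le ⟨hgM, hgK⟩

theorem ncard_conjUnion {T : Set G} (hT : T ⊆ kappaReg M K) :
    Set.ncard (conjUnion T) * Nat.card ↥(K ⊔ kappaStar M K) = Nat.card G * Set.ncard T := by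
  set Z := K ⊔ kappaStar M K with hZ
  let f : (G ⧸ Z) × T → conjUnion T := fun x =>
    ⟨x.1.out * x.2.1 * x.1.out⁻¹, x.1.out, x.2.1, x.2.2, rfl⟩
  have hf : Function.Bijective f := by
    refine ⟨fun x x' hxx => ?_, fun a => ?_⟩
    · have he : x.1.out * x.2.1 * x.1.out⁻¹ = x'.1.out * x'.2.1 * x'.1.out⁻¹ :=
        congrArg Subtype.val hxx
      have hg : (x'.1.out⁻¹ * x.1.out) * x.2.1 * (x'.1.out⁻¹ * x.1.out)⁻¹ = x'.2.1 := by
        calc (x'.1.out⁻¹ * x.1.out) * x.2.1 * (x'.1.out⁻¹ * x.1.out)⁻¹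
            = x'.1.out⁻¹ * (x.1.out * x.2.1 * x.1.out⁻¹) * x'.1.out := by group
          _ = x'.2.1 := by rw [he]; group
      have hmem := h.conj_mem_zsub hG (hT x.2.2) (by rw [hg]; exact hT x'.2.2)
      have h1 : x'.1 = x.1 := by
        rw [← QuotientGroup.out_eq' x'.1, ← QuotientGroup.out_eq' x.1]
        exact QuotientGroup.eq.2 hmem
      refine Prod.ext h1.symm (Subtype.ext ?_)
      rw [h1] at he
      exact mul_left_cancel (mul_right_cancel he)
    · obtain ⟨g, z, hz, ha⟩ := a.2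
      refine ⟨(QuotientGroup.mk g, ⟨z, hz⟩), Subtype.ext ?_⟩
      obtain ⟨c, hc⟩ := QuotientGroup.mk_out_eq_mul Z g
      show (QuotientGroup.mk g : G ⧸ Z).out * z * (QuotientGroup.mk g : G ⧸ Z).out⁻¹ = _
      have hcz : Commute (c : G) z := h.commute hG c.2 (hT hz).1
      rw [hc, ha, mul_inv_rev, mul_assoc g, hcz.eq]
      group
  rw [← Nat.card_coe_set_eq, ← Nat.card_coe_set_eq, ← Nat.card_eq_of_bijective f hf,
    Nat.card_prod, mul_right_comm, ← Subgroup.card_eq_card_quotient_mul_card_subgroup]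

/-- An element of the regular part is no `x r`. -/
theorem kappaReg_ne_mul {t : G} (ht : t ∈ kappaReg M K) {H : Subgroup G} (hH : IsCoatom H)
    {x r : G} (hx : x ∈ Cfsg.sigmaCore H) (hx1 : x ≠ 1) (hr : r ∈ Cfsg.supportR H x) :
    t ≠ x * r := by
  intro he
  have hbot : centralizer ({x} : Set G) ≤ H → False := fun hCH => by
    rw [supportR_eq_bot hCH, mem_bot] at hr
    rw [hr, mul_one] at he
    exact ht.2 H hH (he ▸ hx)
  by_cases hCH : centralizer ({x} : Set G) ≤ H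
  · exact hbot hCH
  obtain ⟨L, ⟨hL, hCL⟩, hu, hF, -, hτ, -, -⟩ := supporting_structure hG hH
    (Cfsg.Agent.S1378.result hG).2 (fun M hM x hx hx1 x' hx' hx'1 hσ =>
      Cfsg.Agent.S1432.result hG M hM x hx hx1 x' hx' hx'1 hσ) hx hx1 hCH
  rw [supportR_eq hCH hL hCL hu hF] at hr
  have hco : (orderOf r).Coprime (orderOf x) := Nat.coprime_of_dvd fun s hs h1 h2 =>
    (hτ s hs h2).2.1 (sigma_of_dvd_sigmaCore hs (h1.trans (orderOf_dvd_card_of_mem hr.1)))
  have hxZ : x ∈ K ⊔ kappaStar M K := by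
    refine mem_of_pow_mem_of_coprime hco ?_
    rw [show x ^ orderOf r = t ^ orderOf r by
      rw [he, (show Commute x r from (mem_centralizer_singleton_iff.1 hr.2).symm).mul_pow,
        pow_orderOf_eq_one, mul_one]]
    exact pow_mem ht.1 _
  obtain ⟨K', h', hZ⟩ := h.exists_member hG hH hxZ hx1 hx
  refine hbot (h'.centralizer_singleton_le hG ?_ hx1)
  rw [← h'.zsub_inf_sigmaCore, hZ]
  exact ⟨hxZ, hx⟩

theorem not_mem_tildeOf {a : G} (ha : a ∈ conjUnion (kappaReg M K)) {H : Subgroup G}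
    (hH : IsCoatom H) : a ∉ Cfsg.tildeOf H ((Cfsg.sigmaCore H : Set G) \ {1}) := by
  rintro ⟨x, hx, r, hr, y, rfl⟩
  obtain ⟨g, t, ht, he⟩ := ha
  set u := g⁻¹ * y with hu
  have htu : t = (u * x * u⁻¹) * (u * r * u⁻¹) := by
    calc t = g⁻¹ * (g * t * g⁻¹) * g := by group
      _ = g⁻¹ * (y * (x * r) * y⁻¹) * g := by rw [← he]
      _ = _ := by rw [hu]; group
  refine h.kappaReg_ne_mul hG ht (isCoatom_conj hH u) ?_
    (fun h1 => hx.2 (conj_eq_one_iff.1 h1)) ?_ htu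
  · rw [sigmaCore_conj]
    exact mem_map_of_mem _ hx.1
  · rw [supportR_conj hG (Cfsg.Agent.S1378.result hG).2 (fun M hM x hx hx1 x' hx' hx'1 hσ =>
      Cfsg.Agent.S1432.result hG M hM x hx hx1 x' hx' hx'1 hσ) hH hx.1 hx.2]
    exact mem_map_of_mem _ hr

end IsKappaPair

theorem eq_one_not_mem_tildeOf (hG : Cfsg.IsMinSimpleOddOrder G) {H : Subgroup G}
    (hH : IsCoatom H) : (1 : G) ∉ Cfsg.tildeOf H ((Cfsg.sigmaCore H : Set G) \ {1}) := by
  rintro ⟨x, hx, r, hr, y, he⟩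
  have h1 : x * r = 1 := conj_eq_one_iff.1 he.symm
  obtain ⟨-, hR⟩ := supportR_spec hG (Cfsg.Agent.S1378.result hG).2
    (fun M hM x hx hx1 x' hx' hx'1 hσ =>
      Cfsg.Agent.S1432.result hG M hM x hx hx1 x' hx' hx'1 hσ) hH hx.1 hx.2
  refine hx.2 (mem_bot.1 (hR.2.2.1 ▸ (⟨⟨piCoreOf_le _ _ hx.1, ?_⟩, ?_⟩ :
    x ∈ H ⊓ centralizer ({x} : Set G) ⊓ Cfsg.supportR H x)))
  · exact mem_centralizer_singleton_iff.2 rfl
  · have := inv_mem hr
    rwa [(eq_inv_of_mul_eq_one_left h1).symm] at this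

/-- `tildeOf` sets of non-conjugate maximal subgroups are disjoint. -/
theorem disjoint_tildeOf (hG : Cfsg.IsMinSimpleOddOrder G) {H H' : Subgroup G} (hH : IsCoatom H)
    (hH' : IsCoatom H') (hne : ∀ g : G, H' ≠ H.map (MulAut.conj g).toMonoidHom) :
    Disjoint (Cfsg.tildeOf H ((Cfsg.sigmaCore H : Set G) \ {1}))
      (Cfsg.tildeOf H' ((Cfsg.sigmaCore H' : Set G) \ {1})) := by
  rw [Set.disjoint_left]
  rintro a ⟨x, hx, r, hr, y, rfl⟩ ⟨x', hx', r', hr', y', he⟩
  have hdisj := (Cfsg.Agent.S1378.result hG).2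
  have hdich := fun M hM x hx hx1 x' hx' hx'1 hσ =>
    Cfsg.Agent.S1432.result hG M hM x hx hx1 x' hx' hx'1 hσ
  have h1 : y * x * y⁻¹ ∈ Cfsg.sigmaCore (H.map (MulAut.conj y).toMonoidHom) := by
    rw [sigmaCore_conj]; exact mem_map_of_mem _ hx.1
  have h2 : y' * x' * y'⁻¹ ∈ Cfsg.sigmaCore (H'.map (MulAut.conj y').toMonoidHom) := by
    rw [sigmaCore_conj]; exact mem_map_of_mem _ hx'.1
  have hne1 : y * x * y⁻¹ ≠ 1 := fun e => hx.2 (conj_eq_one_iff.1 e)
  by_cases hxx : y * x * y⁻¹ = y' * x' * y'⁻¹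
  · obtain ⟨q, hq, hd⟩ := Nat.exists_prime_and_dvd
      (fun e => hne1 (orderOf_eq_one_iff.1 e) : orderOf (y * x * y⁻¹) ≠ 1)
    have hq1 := sigma_of_dvd_sigmaCore hq (hd.trans (orderOf_dvd_card_of_mem h1))
    have hq2 := sigma_of_dvd_sigmaCore hq (hd.trans (orderOf_dvd_card_of_mem (hxx ▸ h2)))
    rw [sigma_conj] at hq1 hq2
    obtain ⟨g, hg⟩ := hdisj H H' hH hH' ⟨q, hq1, hq2⟩
    exact hne g hg
  · refine Cfsg.Agent.S1433.result hG _ _ (isCoatom_conj hH y) (isCoatom_conj hH' y') _ _ h1 h2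
      hne1 (fun e => hx'.2 (conj_eq_one_iff.1 e)) hxx (y * r * y⁻¹) ?_ (y' * r' * y'⁻¹) ?_ ?_
    · rw [supportR_conj hG hdisj hdich hH hx.1 hx.2]
      exact mem_map_of_mem _ hr
    · rw [supportR_conj hG hdisj hdich hH' hx'.1 hx'.2]
      exact mem_map_of_mem _ hr'
    · rw [show y * x * y⁻¹ * (y * r * y⁻¹) = y * (x * r) * y⁻¹ by group, he]
      group

end CfsgLib.OddOrder
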