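import Cfsg.Agent.S1430
import Cfsg.Agent.S1429
import Cfsg.Agent.S1446
import Cfsg.Agent.Lib.OddOrder.KappaBasic
import Cfsg.Agent.Lib.OddOrder.ExceptionalTools

/-!
BG 15.2 / 14.7: a nontrivial Hall `κ(M)`-subgroup has prime order when `M` is not of type `P₁`.
-/

set_option autoImplicit false
set_option linter.style.haveILetI false

namespace CfsgLib.OddOrder

open Subgroup

variable {G : Type*} [Group G] [Finite G] (hG : Cfsg.IsMinSimpleOddOrder G) {M : Subgroup G}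
  (hM : IsCoatom M) {K : Subgroup G} (hK : Cfsg.IsPiHallOf (Cfsg.kappa M) K M) (hK1 : K ≠ ⊥)
include hG hM hK hK1

theorem kappa_hall_prime_of_not_typeP1 {q : ℕ} (hq : q.Prime) (hqM : q ∣ Nat.card M)
    (hqσ : q ∉ Cfsg.sigma M) (hqκ : q ∉ Cfsg.kappa M) : (Nat.card K).Prime := by
  haveI := Fact.mk hq
  obtain ⟨hprime, ⟨U, hUc, hU, hKU, hUfpf⟩, -⟩ := Cfsg.Agent.S1430.result hG M hM K hK hK1
  haveI := hUc
  set S := Cfsg.sigmaCore M with hSdef
  have hUM : U ≤ M := hU.1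
  have hUpr : ∀ s : ℕ, s.Prime → s ∣ Nat.card U → s ∉ Cfsg.kappa M ∧ s ∉ Cfsg.sigma M :=
    fun s hs hd => (hU.2.1 s hs hd).2
  -- the Sylow `q`-subgroup of `U` is one of `M`
  obtain ⟨T⟩ : Nonempty (Sylow q U) := inferInstance
  set Q := (T : Subgroup U).map U.subtype with hQdef
  have hQM : Q ≤ M := (map_subtype_le _).trans hUM
  have hidx : ¬ q ∣ (Q.subgroupOf M).index := by
    show ¬ q ∣ Q.relIndex M
    rw [← relIndex_mul_relIndex Q U M (map_subtype_le _) hUM, hq.dvd_mul]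
    rintro (hd | hd)
    · refine T.not_dvd_index ?_
      rwa [relIndex, subgroupOf, comap_map_eq_self_of_injective U.subtype_injective] at hd
    · exact hU.2.2 q hq ⟨hq, hqκ, hqσ⟩ hd
  obtain ⟨T', hT'⟩ : ∃ T' : Sylow q M, (T' : Subgroup M) = Q.subgroupOf M :=
    ⟨((T.2.map _).of_equiv (subgroupOfEquivOfLe hQM).symm).toSylow hidx, rfl⟩
  obtain ⟨-, hfix, hnil⟩ := Cfsg.Agent.S1429.result hG M hM
    (fun hall => hqκ (hall q hq hqM hqσ)) q hqM (fun h => h.elim hqσ hqκ) T'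
  have hSne : S ≠ ⊥ := sigmaCore_ne_bot hG hM
  have hCU : S ⊓ centralizer (U : Set G) = ⊥ := by
    refine le_bot_iff.1 (le_trans (inf_le_inf_left _ ?_) hfix.le)
    refine centralizer_le (closure_le U |>.2 fun x hx => ?_)
    obtain ⟨u, hu, rfl⟩ := hx.1
    rw [SetLike.mem_coe, hT', mem_subgroupOf] at hu
    exact map_subtype_le _ hu
  have hU1 : U ≠ ⊥ := fun h => hSne (le_bot_iff.1 (le_trans (le_inf le_rfl (by
    rw [h]; intro x _ y hy; rw [Subgroup.coe_bot, Set.mem_singleton_iff] at hy; simp [hy]))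
    hCU.le))
  have hsup : U ⊔ K ≤ M := sup_le hUM hK.1
  have hKU' : U ⊓ K = ⊥ := inf_eq_bot_of_coprime (Nat.coprime_of_dvd fun s hs h1 h2 =>
    (hUpr s hs h1).1 (hK.2.1 s hs h2))
  have hcard : Nat.card ↥(U ⊔ K) = Nat.card U * Nat.card K :=
    Solvable.card_sup_of_disjoint hKU (disjoint_iff.2 hKU')
  have hcop : (Nat.card ↥(U ⊔ K)).Coprime (Nat.card S) := by
    refine Nat.coprime_comm.1 (Nat.coprime_of_dvd fun s hs h1 h2 => ?_)
    have hsσ := sigma_of_dvd_sigmaCore hs h1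
    rw [hcard, hs.dvd_mul] at h2
    rcases h2 with hd | hd
    · exact (hUpr s hs hd).2 hsσ
    · exact kappa_not_sigma (hK.2.1 s hs hd) hsσ
  exact (Cfsg.Agent.S1446.result U K S hU1 hK1 hKU' hKU hUfpf
    (isSolvable_of_ne_top hG fun h => hM.1 (top_le_iff.1 (h ▸ hsup)))
    (odd_card_subgroup hG _) hSne hnil (hUM.trans (le_normalizer_piCoreOf _ _))
    (hK.1.trans (le_normalizer_piCoreOf _ _)) hcop hCU hprime).1

end CfsgLib.OddOrder
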