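import Cfsg.Agent.S1431
import Cfsg.Agent.Lib.OddOrder.KappaCount
import Cfsg.Agent.Lib.OddOrder.KappaPrimeOrder
import Cfsg.Agent.Lib.OddOrder.ExceptionalTools
import Mathlib.Algebra.BigOperators.Ring.Finset

/-!
BG 14.7, main part: the partner of `(M, K)` and the two classes of maximal subgroups with nonempty
`κ`.
-/

set_option autoImplicit false
set_option linter.style.haveILetI false

namespace CfsgLib.OddOrder

open Subgroup

variable {G : Type*} [Group G] [Finite G] (hG : Cfsg.IsMinSimpleOddOrder G)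
include hG

namespace IsKappaPair

variable {M K : Subgroup G} (h : IsKappaPair M K)
include h

theorem card_of_typeP1
    (hP : ∀ q : ℕ, q.Prime → q ∣ Nat.card M → q ∉ Cfsg.sigma M → q ∈ Cfsg.kappa M) :
    Nat.card M = Nat.card K * Nat.card (Cfsg.sigmaCore M) := by
  obtain ⟨E, hKE, hE⟩ := exists_complement_ge hG h.max h.hall.1 fun s hs hd => h.not_sigma hs hd
  have hEK : K = E := by
    refine eq_of_le_of_card_ge hKE ?_
    have h1 : Nat.card E = Nat.card K * K.relIndex E := by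
      rw [← relIndex_bot_left K, relIndex_mul_relIndex ⊥ K E bot_le hKE, relIndex_bot_left]
    have h2 : K.relIndex E = 1 := by
      by_contra hne
      obtain ⟨q, hq, hd⟩ := Nat.exists_prime_and_dvd hne
      have hqE : q ∣ Nat.card E := h1 ▸ dvd_mul_of_dvd_right hd _
      refine h.hall.2.2 q hq (hP q hq (hqE.trans (card_dvd_of_le hE.1))
        (complement_prime_not_sigma hG h.max hE hq hqE)) ?_
      rw [← relIndex_mul_relIndex K E M hKE hE.1]
      exact dvd_mul_of_dvd_left hd _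
    rw [h1, h2, mul_one]
  have h3 : Nat.card M = Nat.card (Cfsg.sigmaCore M) * (Cfsg.sigmaCore M).relIndex M := by
    rw [← relIndex_bot_left (Cfsg.sigmaCore M),
      relIndex_mul_relIndex ⊥ (Cfsg.sigmaCore M) M bot_le (piCoreOf_le _ _), relIndex_bot_left]
  rw [h3, ← card_eq_relIndex_of_isComplIn hE, ← hEK, mul_comm]

theorem three_mul_card_le :
    3 * Nat.card ↥(kappaStar M K) ≤ Nat.card (Cfsg.sigmaCore M) := by
  obtain ⟨d, hd⟩ := card_dvd_of_le (inf_le_left : kappaStar M K ≤ Cfsg.sigmaCore M)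
  have hodd : Odd d := (odd_card_subgroup hG _).of_dvd_nat (hd ▸ dvd_mul_left d _)
  have hne : d ≠ 1 := fun h1 => by
    have he : kappaStar M K = Cfsg.sigmaCore M :=
      eq_of_le_of_card_ge inf_le_left (by rw [hd, h1, mul_one])
    obtain ⟨p, hp, hpd⟩ := Nat.exists_prime_and_dvd
      (fun h2 => h.kappaStar_ne_bot hG (Subgroup.card_eq_one.1 h2) :
        Nat.card ↥(kappaStar M K) ≠ 1)
    haveI := Fact.mk hp
    obtain ⟨S⟩ : Nonempty (Sylow p ↥(Cfsg.sigmaCore M)) := inferInstance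
    refine ((Cfsg.Agent.S1431.result hG M h.max K h.hall h.ne_bot).2.2.1 p hp hpd S).2.2 ?_
    exact (map_subtype_le _).trans he.ge
  have h3 : 3 ≤ d := by
    rcases hodd with ⟨m, rfl⟩
    omega
  calc 3 * Nat.card ↥(kappaStar M K) ≤ d * Nat.card ↥(kappaStar M K) :=
        Nat.mul_le_mul_right _ h3
    _ = _ := by rw [hd, mul_comm]

theorem ne_of_mem_kappaStar {L K' : Subgroup G} (h' : IsKappaPair L K') {k : G} (hk : k ∈ K)
    (hk1 : k ≠ 1) (hk' : k ∈ kappaStar L K') : L ≠ M := by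
  rintro rfl
  have : k ∈ K ⊓ kappaStar L K := by
    refine ⟨hk, hk'.1, fun a ha => ?_⟩
    exact (h.commute hG (mem_sup_left ha) (mem_sup_left hk)).eq
  rw [h.inf_eq_bot, mem_bot] at this
  exact hk1 this

/-- Members are not conjugate. -/
theorem eq_of_conj {L K' : Subgroup G} (h' : IsKappaPair L K')
    (hZ : K' ⊔ kappaStar L K' = K ⊔ kappaStar M K) {g : G}
    (hg : L = M.map (MulAut.conj g).toMonoidHom) : L = M := by
  obtain ⟨y, hy, hy1⟩ : ∃ y ∈ kappaStar M K, y ≠ 1 := by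
    by_contra hcon
    push Not at hcon
    exact h.kappaStar_ne_bot hG ((Subgroup.eq_bot_iff_forall _).2 hcon)
  refine h.eq_of_mem hG hy hy1 h'.max (h'.mem_kappaStar (hZ ▸ mem_sup_right hy) fun s hs hsd => ?_).1
  rw [hg, sigma_conj]
  exact h.primes_kappaStar hs (hsd.trans (orderOf_dvd_card_of_mem hy))

/-- BG 14.7: some member is not of type `P₁`. -/
theorem exists_not_typeP1 :
    ∃ L K' : Subgroup G, IsKappaPair L K' ∧ K' ⊔ kappaStar L K' = K ⊔ kappaStar M K ∧
      ∃ q : ℕ, q.Prime ∧ q ∣ Nat.card L ∧ q ∉ Cfsg.sigma L ∧ q ∉ Cfsg.kappa L := by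
  classical
  by_contra hcon
  push Not at hcon
  set Z := K ⊔ kappaStar M K with hZdef
  set mem : Set (Subgroup G) := {L | IsCoatom L ∧ ∃ z ∈ Z, z ≠ 1 ∧ z ∈ Cfsg.sigmaCore L}
  set F := (Set.toFinite mem).toFinset with hF
  have hpair : ∀ L ∈ F, ∃ K', IsKappaPair L K' ∧ K' ⊔ kappaStar L K' = Z := fun L hL => by
    obtain ⟨hLc, z, hz, hz1, hzL⟩ := (Set.Finite.mem_toFinset _).1 hL
    exact h.exists_member hG hLc hz hz1 hzL
  set zs : Subgroup G → ℕ := fun L => Nat.card ↥(Z ⊓ Cfsg.sigmaCore L) with hzs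
  -- at least two members
  have h2 : 2 ≤ F.card := by
    obtain ⟨k, hk, hkp⟩ := h.exists_prime_order hG
    have hk1 : k ≠ 1 := fun h1 => Nat.not_prime_one (by rwa [h1, orderOf_one] at hkp)
    obtain ⟨L, K', h', -, hk'⟩ := h.exists_partner hG hk hkp
    obtain ⟨y, hy, hy1⟩ : ∃ y ∈ kappaStar M K, y ≠ 1 := by
      by_contra hy
      push Not at hy
      exact h.kappaStar_ne_bot hG ((Subgroup.eq_bot_iff_forall _).2 hy)
    refine Finset.one_lt_card.2 ⟨L, (Set.Finite.mem_toFinset _).2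
      ⟨h'.max, k, mem_sup_left hk, hk1, hk'.1⟩, M, (Set.Finite.mem_toFinset _).2
      ⟨h.max, y, mem_sup_right hy, hy1, hy.1⟩, h.ne_of_mem_kappaStar hG h' hk hk1 hk'⟩
  -- distinct members meet `Z` in different primes
  have hsep : ∀ L ∈ F, ∀ L' ∈ F, L ≠ L' →
      ∀ g : G, L' ≠ L.map (MulAut.conj g).toMonoidHom := by
    intro L hL L' hL' hne g hg
    obtain ⟨K₁, h₁, hZ₁⟩ := hpair L hL
    obtain ⟨K₂, h₂, hZ₂⟩ := hpair L' hL'
    exact hne (h₁.eq_of_conj hG h₂ (hZ₂.trans hZ₁.symm) hg).symm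
  -- the partition of `Z`
  have hpart : Set.ncard (kappaReg M K) + 1 + ∑ L ∈ F, (zs L - 1) = Nat.card Z := by
    set U : Set G := ⋃ L : {L // L ∈ F}, ((Z ⊓ Cfsg.sigmaCore L.1 : Subgroup G) : Set G) \ {1}
    have hU : Set.ncard U = ∑ L ∈ F, (zs L - 1) := by
      rw [Set.ncard_iUnion_of_finite (fun L => Set.toFinite _) ?_, finsum_eq_sum_of_fintype,
        ← Finset.sum_coe_sort F (fun L => zs L - 1)]
      · refine Finset.sum_congr rfl fun L _ => ?_
        rw [Set.ncard_sdiff_singleton_of_mem (one_mem _)]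
        rfl
      · intro L L' hne
        rw [Function.onFun, Set.disjoint_left]
        rintro z ⟨hz, hz1⟩ ⟨hz', -⟩
        obtain ⟨q, hq, hd⟩ := Nat.exists_prime_and_dvd
          (fun e => hz1 (orderOf_eq_one_iff.1 e) : orderOf z ≠ 1)
        obtain ⟨g, hg⟩ := (Cfsg.Agent.S1378.result hG).2 L.1 L'.1
          ((Set.Finite.mem_toFinset _).1 L.2).1 ((Set.Finite.mem_toFinset _).1 L'.2).1
          ⟨q, sigma_of_dvd_sigmaCore hq (hd.trans (orderOf_dvd_card_of_mem hz.2)),
            sigma_of_dvd_sigmaCore hq (hd.trans (orderOf_dvd_card_of_mem hz'.2))⟩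
        exact hsep L.1 L.2 L'.1 L'.2 (fun e => hne (Subtype.ext e)) g hg
    have hZeq : (Z : Set G) = insert 1 (kappaReg M K ∪ U) := by
      ext z
      constructor
      · intro hz
        by_cases hz1 : z = 1
        · exact Or.inl hz1
        refine Or.inr ?_
        by_cases hL : ∃ L, IsCoatom L ∧ z ∈ Cfsg.sigmaCore L
        · obtain ⟨L, hL, hzL⟩ := hL
          exact Or.inr (Set.mem_iUnion.2
            ⟨⟨L, (Set.Finite.mem_toFinset _).2 ⟨hL, z, hz, hz1, hzL⟩⟩, ⟨hz, hzL⟩, hz1⟩)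
        · push Not at hL
          exact Or.inl ⟨hz, hL⟩
      · rintro (rfl | hz | hz)
        · exact one_mem _
        · exact hz.1
        · obtain ⟨L, hzL, -⟩ := Set.mem_iUnion.1 hz
          exact hzL.1
    have h1 : (1 : G) ∉ kappaReg M K ∪ U := by
      rintro (h1 | h1)
      · exact h1.2 M h.max (one_mem _)
      · obtain ⟨L, -, h2⟩ := Set.mem_iUnion.1 h1
        exact h2 rfl
    have hdisjU : Disjoint (kappaReg M K) U := Set.disjoint_left.2 fun z hz hzU => by
      obtain ⟨L, hzL, -⟩ := Set.mem_iUnion.1 hzU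
      exact hz.2 L.1 ((Set.Finite.mem_toFinset _).1 L.2).1 hzL.2
    rw [← hU, ← SetLike.coe_sort_coe Z, Nat.card_coe_set_eq, hZeq,
      Set.ncard_insert_of_notMem h1, Set.ncard_union_eq hdisjU]
    ring
  -- the disjoint subsets of `G`
  set C := conjUnion (kappaReg M K)
  have hcount : Set.ncard C + ∑ L ∈ F, (Nat.card (Cfsg.sigmaCore L) - 1) * L.index + 1 ≤
      Nat.card G := by
    set U : Set G := ⋃ L : {L // L ∈ F},
      Cfsg.tildeOf L.1 ((Cfsg.sigmaCore L.1 : Set G) \ {1})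
    have hU : Set.ncard U = ∑ L ∈ F, (Nat.card (Cfsg.sigmaCore L) - 1) * L.index := by
      rw [Set.ncard_iUnion_of_finite (fun L => Set.toFinite _) ?_, finsum_eq_sum_of_fintype,
        ← Finset.sum_coe_sort F (fun L => (Nat.card (Cfsg.sigmaCore L) - 1) * L.index)]
      · refine Finset.sum_congr rfl fun L _ => ?_
        exact ncard_tildeOf hG (Cfsg.Agent.S1378.result hG).2 (fun M hM x hx hx1 x' hx' hx'1 hσ =>
          Cfsg.Agent.S1432.result hG M hM x hx hx1 x' hx' hx'1 hσ)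
          (fun M N hM hN x y hx hy hx1 hy1 hxy =>
            Cfsg.Agent.S1433.result hG M N hM hN x y hx hy hx1 hy1 hxy)
          ((Set.Finite.mem_toFinset _).1 L.2).1
      · intro L L' hne
        exact disjoint_tildeOf hG ((Set.Finite.mem_toFinset _).1 L.2).1
          ((Set.Finite.mem_toFinset _).1 L'.2).1
          (hsep L.1 L.2 L'.1 L'.2 fun e => hne (Subtype.ext e))
    have hdisjU : Disjoint C U := Set.disjoint_left.2 fun a ha haU => by
      obtain ⟨L, haL⟩ := Set.mem_iUnion.1 haU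
      exact h.not_mem_tildeOf hG ha ((Set.Finite.mem_toFinset _).1 L.2).1 haL
    have h1 : (1 : G) ∉ C ∪ U := by
      rintro (⟨g, t, ht, he⟩ | h1)
      · exact ht.2 M h.max (by rw [conj_eq_one_iff.1 he.symm]; exact one_mem _)
      · obtain ⟨L, hL⟩ := Set.mem_iUnion.1 h1
        exact eq_one_not_mem_tildeOf hG ((Set.Finite.mem_toFinset _).1 L.2).1 hL
    rw [← hU, ← Set.ncard_union_eq hdisjU, ← Set.ncard_insert_of_notMem h1, ← Set.ncard_univ]
    exact Set.ncard_le_ncard (Set.subset_univ _)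
  have hC : Set.ncard C * Nat.card Z = Nat.card G * Set.ncard (kappaReg M K) :=
    h.ncard_conjUnion hG le_rfl
  -- the members are of type `P₁`
  have hterm : ∀ L ∈ F, Nat.card (Cfsg.sigmaCore L) * L.index * Nat.card Z =
      Nat.card G * zs L ∧ 3 * (L.index * Nat.card Z) ≤ Nat.card G := by
    intro L hL
    obtain ⟨K', h', hZ'⟩ := hpair L hL
    have hz : zs L = Nat.card ↥(kappaStar L K') := by
      show Nat.card ↥(Z ⊓ Cfsg.sigmaCore L) = _
      rw [← hZ', h'.zsub_inf_sigmaCore]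
    have hc := card_of_typeP1 hG h' fun q hq hd hσ => by_contra fun hκ => hκ (hcon L K' h' hZ' q hq hd hσ)
    have he : Nat.card (Cfsg.sigmaCore L) * L.index * Nat.card Z = Nat.card G * zs L := by
      rw [← hZ', h'.card_zsub, hz, ← L.card_mul_index, hc]
      ring
    refine ⟨he, Nat.le_of_mul_le_mul_left ?_ (Nat.card_pos (α := ↥(Cfsg.sigmaCore L)))⟩
    calc Nat.card (Cfsg.sigmaCore L) * (3 * (L.index * Nat.card Z))
        = Nat.card G * (3 * zs L) := by rw [mul_left_comm, ← mul_assoc (Nat.card _), he]; ring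
      _ ≤ Nat.card G * Nat.card (Cfsg.sigmaCore L) :=
          Nat.mul_le_mul_left _ (hz ▸ three_mul_card_le hG h')
      _ = _ := mul_comm _ _
  have hsum1 : ∑ L ∈ F, (Nat.card (Cfsg.sigmaCore L) - 1) * L.index * Nat.card Z
      + ∑ L ∈ F, L.index * Nat.card Z = Nat.card G * ∑ L ∈ F, zs L := by
    rw [Finset.mul_sum, ← Finset.sum_add_distrib]
    refine Finset.sum_congr rfl fun L hL => ?_
    rw [← (hterm L hL).1, ← add_mul, ← Nat.succ_mul]
    congr 2
    exact Nat.succ_pred_eq_of_pos Nat.card_pos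
  have hsum2 : ∑ L ∈ F, (zs L - 1) + F.card = ∑ L ∈ F, zs L := by
    rw [Finset.card_eq_sum_ones, ← Finset.sum_add_distrib]
    exact Finset.sum_congr rfl fun L _ => Nat.sub_add_cancel Nat.card_pos
  have hsum3 : 3 * ∑ L ∈ F, L.index * Nat.card Z ≤ F.card * Nat.card G := by
    rw [Finset.mul_sum, ← smul_eq_mul, ← Finset.sum_const]
    exact Finset.sum_le_sum fun L hL => (hterm L hL).2
  have hzpos : 0 < Nat.card Z := Nat.card_pos
  have hgpos : 0 < Nat.card G := Nat.card_pos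
  have h4 := Nat.mul_le_mul_right (Nat.card Z) hcount
  rw [add_mul, add_mul, one_mul, Finset.sum_mul, hC] at h4
  nlinarith

/-- BG 14.7: the partner of `(M, K)` is a maximal subgroup with Hall `κ`-subgroup `K*`. -/
theorem exists_dual :
    ∃ L : Subgroup G, IsKappaPair L (kappaStar M K) ∧ kappaStar L (kappaStar M K) = K ∧ L ≠ M ∧
      ((∃ q : ℕ, q.Prime ∧ q ∣ Nat.card M ∧ q ∉ Cfsg.sigma M ∧ q ∉ Cfsg.kappa M) ∨
        ∃ q : ℕ, q.Prime ∧ q ∣ Nat.card L ∧ q ∉ Cfsg.sigma L ∧ q ∉ Cfsg.kappa L) := by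
  obtain ⟨L, K', h', hZ, q, hq, hd, hσ, hκ⟩ := h.exists_not_typeP1 hG
  have hpr := kappa_hall_prime_of_not_typeP1 hG h'.max h'.hall h'.ne_bot hq hd hσ hκ
  have hcardZ : Nat.card K' * Nat.card ↥(kappaStar L K') =
      Nat.card K * Nat.card ↥(kappaStar M K) := by
    rw [← h'.card_zsub, ← h.card_zsub, hZ]
  by_cases hLM : L = M
  · subst hLM
    obtain ⟨k, hk, hkp⟩ := h.exists_prime_order hG
    have hKp : (Nat.card K).Prime :=
      kappa_hall_prime_of_not_typeP1 hG h.max h.hall h.ne_bot hq hd hσ hκ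
    have hKz : zpowers k = K := eq_of_le_of_card_ge (zpowers_le.2 hk) (by
      rw [Nat.card_zpowers,
        (Nat.prime_dvd_prime_iff_eq hkp hKp).1 (orderOf_dvd_card_of_mem hk)])
    obtain ⟨L₁, K₁, h₁, hle, hk₁⟩ := h.exists_partner hG hk hkp
    have hk1 : k ≠ 1 := fun h1 => Nat.not_prime_one (by rwa [h1, orderOf_one] at hkp)
    have hle2 : K ≤ kappaStar L₁ K₁ := hKz ▸ zpowers_le.2 hk₁
    have hc : Nat.card K₁ * Nat.card ↥(kappaStar L₁ K₁) =
        Nat.card K * Nat.card ↥(kappaStar L K) := by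
      rw [← h₁.card_zsub, ← h.card_zsub, zsub_eq hG h h₁ hle hk hk1 hk₁]
    have h1 := Nat.le_of_dvd Nat.card_pos (card_dvd_of_le hle)
    have h2 := Nat.le_of_dvd Nat.card_pos (card_dvd_of_le hle2)
    have hpos : 0 < Nat.card K := Nat.card_pos
    have hpos' : 0 < Nat.card ↥(kappaStar L K) := Nat.card_pos
    have e1 : kappaStar L K = K₁ := eq_of_le_of_card_ge hle (by
      by_contra hlt
      nlinarith [Nat.lt_of_not_le hlt, h2])
    subst e1
    refine ⟨L₁, h₁, (eq_of_le_of_card_ge hle2 ?_).symm, h.ne_of_mem_kappaStar hG h₁ hk hk1 hk₁,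
      Or.inl ⟨q, hq, hd, hσ, hκ⟩⟩
    exact (Nat.eq_of_mul_eq_mul_left hpos' (by rw [hc, mul_comm])).le
  · have hsub : kappaStar M K ≤ K' := fun y hy => by
      refine h'.mem_of_coprime (hZ ▸ mem_sup_right hy) ?_
      refine Nat.coprime_of_dvd fun s hs h1 h2 => hLM ?_
      obtain ⟨g, hg⟩ := (Cfsg.Agent.S1378.result hG).2 M L h.max h'.max
        ⟨s, h.primes_kappaStar hs (h2.trans (orderOf_dvd_card_of_mem hy)),
          h'.primes_kappaStar hs h1⟩
      exact h.eq_of_conj hG h' hZ hg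
    have e1 : kappaStar M K = K' := eq_of_le_of_card_ge hsub (by
      rcases (Nat.dvd_prime hpr).1 (card_dvd_of_le hsub) with hd1 | hd1
      · exact absurd (Subgroup.card_eq_one.1 hd1) (h.kappaStar_ne_bot hG)
      · exact hd1.ge)
    subst e1
    have hc : Nat.card ↥(kappaStar L (kappaStar M K)) = Nat.card K :=
      Nat.eq_of_mul_eq_mul_left (Nat.card_pos (α := ↥(kappaStar M K))) (hcardZ.trans (mul_comm _ _))
    refine ⟨L, h', (eq_of_le_of_card_ge (fun a ha => ?_) hc.le).symm, hLM,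
      Or.inr ⟨q, hq, hd, hσ, hκ⟩⟩
    refine h'.mem_kappaStar (hZ.ge (mem_sup_left ha)) fun s hs hsd => ?_
    have h1 : s ∣ Nat.card ↥(kappaStar L (kappaStar M K)) :=
      hc.symm ▸ hsd.trans (orderOf_dvd_card_of_mem ha)
    exact h'.primes_kappaStar hs h1

end IsKappaPair

end CfsgLib.OddOrder
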