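import Cfsg.Agent.Lib.OddOrder.Tau3Complement

/-!
The maximal subgroups over the normalizers of the elements of prime order of a complement around a
`τ₃` line with fixed points: each is `L_σ Z`, `Z = C_{M_σ}(u) E`.
-/

set_option autoImplicit false
set_option linter.style.haveILetI false

open scoped commutatorElement Pointwise

namespace CfsgLib.OddOrder

open Subgroup

variable {G : Type*} [Group G] [Finite G] (hG : Cfsg.IsMinSimpleOddOrder G)
include hG

/-- A complement of `L_σ` all of whose `τ₃` lines fix points, around an element `x` of order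
`r ∈ τ₁(L) ∪ τ₃(L)` with `N(⟨x⟩) ≤ M`, lies in `M`. -/
theorem complement_le_of_fixed {M L F : Subgroup G} (hL : IsCoatom L) {r : ℕ}
    [hr : Fact r.Prime] {x : G} (hF : Cfsg.IsComplIn F (Cfsg.sigmaCore L) L) (hxF : x ∈ F)
    (hxo : orderOf x = r) (hr13 : r ∈ Cfsg.tau1 L ∨ r ∈ Cfsg.tau3 L)
    (hNx : normalizer (zpowers x : Set G) ≤ M) (hτ2 : ∀ s, s ∉ Cfsg.tau2 L)
    (hfix : ∀ v ∈ F, (orderOf v).Prime →
      Cfsg.sigmaCore L ⊓ centralizer ({v} : Set G) ≠ ⊥) : F ≤ M := by
  rcases hr13 with hr1 | hr3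
  swap
  · exact (complement_le_normalizer hG hL hr3 (hF.1 hxF) hxo hF hxF).trans hNx
  haveI hFs := isSolvable_of_ne_top hG (H := F) fun h => hL.1 (top_le_iff.1 (h ▸ hF.1))
  refine le_trans ?_ ((centralizer_le_normalizer _).trans hNx)
  obtain ⟨F₁, hF₁, hxF₁, hF₁c⟩ := exists_tau1_hall_ge hG hL hF (zpowers_le.2 hxF) fun s hs hd => by
    rw [Nat.card_zpowers, hxo, Nat.prime_dvd_prime_iff_eq hs hr.out] at hd
    exact hd ▸ hr1
  obtain ⟨F₃, hF₃, -⟩ := exists_isPiHallOf_ge (π := Cfsg.tau3 L) hFs (bot_le : (⊥ : Subgroup G) ≤ F)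
    fun s hs hd => absurd (Subgroup.card_bot (G := G) ▸ hd) hs.not_dvd_one
  obtain ⟨hF₃c, -, hF₃n⟩ := tau3_hall hG hL hF hF₃
  haveI := hF₁c
  haveI := hF₃c
  have hk3 : F₃ ≤ centralizer (zpowers x : Set G) := by
    refine le_centralizer_iff.1 (Solvable.le_centralizer_of_fix_prime_order
      (zpowers_le.2 (hF₃n hxF)) ?_ fun v hv hvp c hc => ?_)
    · rw [Nat.card_zpowers, hxo]
      exact hr.out.coprime_iff_not_dvd.2 fun hd =>
        hr1.2.2.2.1 (hF₃.2.1 r hr.out hd).2.2.1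
    · haveI := Fact.mk hvp
      have hv3 : orderOf v ∈ Cfsg.tau3 L := hF₃.2.1 _ hvp (orderOf_dvd_card_of_mem hv)
      have hvF : v ∈ F := hF₃.1 hv
      obtain ⟨Hv, hHv, hNv⟩ := exists_isCoatom_ge (normalizer_ne_top hG
        (ne_bot_of_prime_card (Nat.card_zpowers v))
        (isPGroup_ne_top hG (isPGroup_of_prime_card (Nat.card_zpowers v))))
      obtain ⟨i, rfl⟩ := mem_zpowers_iff.1 hc
      exact ((tau1_commute_of_pair hG hL hv3 (hF.1 hvF) rfl (hfix v hvF hvp) hHv hNv hr1 (hF.1 hxF)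
        hxo (complement_le_normalizer hG hL hv3 (hF.1 hvF) rfl hF hvF hxF)).zpow_left i).eq
  refine le_of_sylows_le fun s hs hsF => ?_
  haveI := Fact.mk hs
  rcases tau_cases_of_not_sigma hG hL hs (hsF.trans (card_dvd_of_le hF.1))
    (complement_prime_not_sigma hG hL hF hs hsF) with h' | h' | h'
  · obtain ⟨S, hS⟩ := exists_sylow_le_hall hF₁ h'
    exact ⟨S, fun v hv z hz => setLike_mul_comm (hxF₁ hz) (hS hv)⟩
  · exact absurd h' (hτ2 s)
  · obtain ⟨S, hS⟩ := exists_sylow_le_hall hF₃ h'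
    exact ⟨S, hS.trans hk3⟩

variable {M : Subgroup G} (hM : IsCoatom M)
  {q : ℕ} [hq : Fact q.Prime] (h3 : q ∈ Cfsg.tau3 M) {u : G} (huM : u ∈ M)
  (huo : orderOf u = q) (hW : Cfsg.sigmaCore M ⊓ centralizer ({u} : Set G) ≠ ⊥)
  {H : Subgroup G} (hH : IsCoatom H) (hN : normalizer (zpowers u : Set G) ≤ H)
  {E : Subgroup G} (hE : Cfsg.IsComplIn E (Cfsg.sigmaCore M) M) (huE : u ∈ E)
include hM h3 huM huo hW hH hN hE huE

/-- The maximal subgroup over the normalizer of an element of prime order of the complement. -/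
theorem pair_member {t : ℕ} [ht : Fact t.Prime] {k : G} (hk : k ∈ E) (hko : orderOf k = t)
    {L : Subgroup G} (hL : IsCoatom L) (hNL : normalizer (zpowers k : Set G) ≤ L) :
    k ∈ Cfsg.sigmaCore L ∧ centralizer ({k} : Set G) ≤ L ∧
      (Cfsg.sigmaCore M ⊓ centralizer ({u} : Set G)) ⊔ E ≤ L ∧
      L ≤ Cfsg.sigmaCore L ⊔ ((Cfsg.sigmaCore M ⊓ centralizer ({u} : Set G)) ⊔ E) := by
  obtain ⟨hneH, hMH, hqH, huH, heqH, -⟩ := pair_facts hG hM h3 huM huo hW hH hN
  obtain ⟨heq, hEk, htσ, ht1⟩ :=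
    complement_prime_facts hG hM h3 huM huo hW hH hN hE huE hk hko
  have hku := complement_prime_commute hG hM h3 huM huo hW hH hN hE huE hk hko
  have hEC := complement_centralizes hG hM h3 huM huo hW hH hN hE huE
  set W := Cfsg.sigmaCore M ⊓ centralizer ({u} : Set G) with hWdef
  have hkM : k ∈ M := hE.1 hk
  have hWk : Cfsg.sigmaCore M ⊓ centralizer ({k} : Set G) ≠ ⊥ := heq ▸ hW
  have hkc : Nat.card (zpowers k) = t := by rw [Nat.card_zpowers, hko]
  have htL := mem_sigma_of_prime_fixed hG hM hko hkM htσ ht1 hWk hL hNL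
  have hkL : k ∈ Cfsg.sigmaCore L := le_sigmaCore_of_pgroup hG hL htL (isPGroup_of_prime_card hkc)
    (le_normalizer.trans hNL) (mem_zpowers k)
  have hk1 : k ≠ 1 := fun h => ht.out.ne_one (by rw [← hko, h, orderOf_one])
  have hCk : centralizer ({k} : Set G) ≤ L := by
    rw [← centralizer_zpowers_singleton]
    exact (centralizer_le_normalizer _).trans hNL
  have hEL : E ≤ L := hEk.trans hNL
  have hWL : W ≤ L := (heq.ge.trans inf_le_right).trans hCk
  refine ⟨hkL, hCk, sup_le hWL hEL, ?_⟩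
  have hML : ∀ g : G, M.map (MulAut.conj g).toMonoidHom ≠ L := fun g hg =>
    htσ (by rwa [← hg, sigma_conj] at htL)
  have hcores := sigmaCore_inf_eq_bot hG hM hL hML
  -- an element of prime order of `W`
  obtain ⟨r, hr, hrd⟩ := Nat.exists_prime_and_dvd fun h => hW (card_eq_one.1 h)
  haveI := Fact.mk hr
  obtain ⟨x', hx'o⟩ := exists_prime_orderOf_dvd_card' r hrd
  set x : G := (x' : G)
  have hxo : orderOf x = r := by rw [orderOf_coe, hx'o]
  have hx1 : x ≠ 1 := fun h => hr.ne_one (by rw [← hxo, h, orderOf_one])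
  have hxσ : x ∈ Cfsg.sigmaCore M := x'.2.1
  have hxM : x ∈ M := piCoreOf_le _ _ hxσ
  have hxu : Commute x u := mem_centralizer_singleton_iff.1 x'.2.2
  have hxk : Commute x k := mem_centralizer_singleton_iff.1 (heq.ge x'.2).2
  have hrσ : r ∈ Cfsg.sigma M := sigma_of_dvd_sigmaCore hr (hxo ▸ orderOf_dvd_card_of_mem hxσ)
  have hrL : r ∉ Cfsg.sigma L := sigma_disjoint hG hM hL hML hrσ
  have hxL : x ∈ L := hWL x'.2
  have hCx := centralizer_le_of_prime_fixed hG hM huo huM h3.2.1 h3.2.2.2 hxσ hx1 hxu.symm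
  have hXc : Nat.card (zpowers x) = r := by rw [Nat.card_zpowers, hxo]
  have hNx : normalizer (zpowers x : Set G) ≤ M :=
    normalizer_le_of_centralizer_le hG hM hrσ (isPGroup_of_prime_card hXc)
      (ne_bot_of_prime_card hXc) (zpowers_le.2 hxM) (by rwa [centralizer_zpowers_singleton])
  have hneL : L ≠ M := fun h => hML 1 (by rw [h, map_conj_one])
  have hrκ : r ∈ Cfsg.kappa L :=
    mem_kappa_of_fixed hG hM hL hneL.symm hkL hk1 hxL hxo hxk hrL hCx
  -- the mover of `u`
  obtain ⟨p, E₁, y, hp, hp1, hE₁, -, hyE₁, hyp, hyu, hpH⟩ :=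
    exists_sigma_mover hG hM h3 huM huo hW hH hN hE huE
  haveI := Fact.mk hp
  have hyE : y ∈ E := hE₁.1 hyE₁
  have hQ : Nat.card (zpowers u) = q := by rw [Nat.card_zpowers, huo]
  have huL : u ∈ L := hEL huE
  have hyL : y ∈ L := hEL hyE
  have hpq : p ≠ q := fun e => hp1.2.2.2.1 (e.symm ▸ h3.2.2.1)
  -- a complement around `x` whose lines fix points
  have hgood : ∃ F : Subgroup G, Cfsg.IsComplIn F (Cfsg.sigmaCore L) L ∧ x ∈ F ∧
      (∀ s, s ∉ Cfsg.tau2 L) ∧
      ∀ v ∈ F, (orderOf v).Prime → Cfsg.sigmaCore L ⊓ centralizer ({v} : Set G) ≠ ⊥ := by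
    by_cases hqL : q ∈ Cfsg.sigma L
    · -- `L_σ` is not nilpotent
      have hpL : p ∈ Cfsg.sigma L := by
        obtain ⟨g, hg⟩ := (Cfsg.Agent.S1378.result hG).2 H L hH hL ⟨q, hqH, hqL⟩
        rw [hg, sigma_conj]
        exact hpH
      have hnil : ¬ Group.IsNilpotent (Cfsg.sigmaCore L) := fun h => hyu
        (commute_of_nilpotent_coprime h (le_sigmaCore_of_pgroup hG hL hpL hyp (zpowers_le.2 hyL)
          (mem_zpowers y)) (le_sigmaCore_of_pgroup hG hL hqL (isPGroup_of_prime_card hQ)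
          (zpowers_le.2 huL) (mem_zpowers u)) hpq hyp (isPGroup_of_prime_card hQ))
      obtain ⟨F, hxF, hF⟩ := exists_complement_ge hG hL (zpowers_le.2 hxL) fun s hs hd => by
        rw [hXc, Nat.prime_dvd_prime_iff_eq hs hr] at hd
        exact hd ▸ hrL
      refine ⟨F, hF, hxF (mem_zpowers x), fun s hs => ?_, fun v hv hvp h => ?_⟩
      · haveI := Fact.mk hs.1
        obtain ⟨A, hAL, hA, hA2⟩ := exists_elementary_two hs.2.2.2
        exact hnil (tau2_facts hG hL hs hAL hA hA2).1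
      · exact hnil (isNilpotent_of_prime_fpf hvp (pow_orderOf_eq_one v)
          (le_normalizer_piCoreOf _ _ (hF.1 hv)) h)
    · -- `(L, u)` is a pair with partner `H`
      have huH' : centralizer ({u} : Set G) ≤ H := by
        rw [← centralizer_zpowers_singleton]
        exact (centralizer_le_normalizer _).trans hN
      have hLH : H ≠ L := fun h => hqL (h ▸ hqH)
      have hqκ : q ∈ Cfsg.kappa L :=
        mem_kappa_of_fixed hG hH hL hLH hkL hk1 huL huo hku.symm hqL huH'
      have hyN : y ∈ normalizer (zpowers u : Set G) :=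
        complement_le_normalizer hG hM h3 huM huo hE huE hyE
      have hqd : q ∣ Nat.card ↥⁅L, L⁆ := by
        set c := ⁅u, y⁆ with hc
        have hcu : c ∈ zpowers u := by
          rw [hc, commutatorElement_def, mul_assoc u, mul_assoc u]
          exact mul_mem (mem_zpowers u) ((mem_normalizer_iff.1 hyN u⁻¹).1 (inv_mem (mem_zpowers u)))
        have hc1 : c ≠ 1 := fun e => hyu (commutatorElement_eq_one_iff_mul_comm.1 e).symm
        have h1 : zpowers u ≤ ⁅L, L⁆ := by
          rw [← eq_zpowers_of_mem_of_ne_one huo hcu hc1, zpowers_le]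
          exact commutator_mem_commutator huL hyL
        exact hQ ▸ card_dvd_of_le h1
      have hq3 : q ∈ Cfsg.tau3 L :=
        (kappa_tau13 hG hL hqκ).resolve_left fun h => h.2.2.2.1 hqd
      have hWu : Cfsg.sigmaCore L ⊓ centralizer ({u} : Set G) ≠ ⊥ := fun h => hk1 (mem_bot.1 (h ▸
        (⟨hkL, mem_centralizer_singleton_iff.2 hku.eq⟩ :
          k ∈ Cfsg.sigmaCore L ⊓ centralizer ({u} : Set G))))
      obtain ⟨F, hle, hF⟩ := exists_complement_ge hG hL
        (sup_le (zpowers_le.2 huL) (zpowers_le.2 hxL) : zpowers u ⊔ zpowers x ≤ L) fun s hs hd => by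
          rcases hs.dvd_mul.1 (hd.trans (card_sup_dvd_mul_of_le_normalizer (zpowers_le.2
            (centralizer_le_normalizer _ (mem_centralizer_zpowers_of_commute hxu.symm))))) with h | h
          · rw [hQ, Nat.prime_dvd_prime_iff_eq hs hq.out] at h
            exact h ▸ hqL
          · rw [hXc, Nat.prime_dvd_prime_iff_eq hs hr] at h
            exact h ▸ hrL
      have huF : u ∈ F := hle (mem_sup_left (mem_zpowers u))
      have hFC := complement_centralizes hG hL hq3 huL huo hWu hH hN hF huF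
      refine ⟨F, hF, hle (mem_sup_right (mem_zpowers x)),
        tau2_empty_of_pair hG hL hq3 huL huo hWu, fun v hv _ h => hWu (le_bot_iff.1 ?_)⟩
      refine le_trans (fun w hw => ?_) h.le
      exact ⟨hw.1, mem_centralizer_singleton_iff.2 (hFC hv w hw)⟩
  obtain ⟨F, hF, hxF, hτ2, hfix⟩ := hgood
  have hFM : F ≤ M :=
    complement_le_of_fixed hG hL hF hxF hxo (kappa_tau13 hG hL hrκ) hNx hτ2 hfix
  intro g hg
  obtain ⟨f, hf, s, hs, rfl⟩ := hF.2.2.2 g hg
  refine mul_mem (mem_sup_right ?_) (mem_sup_left hs)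
  obtain ⟨e, he, z, hz, hfe⟩ := hE.2.2.2 f (hFM hf)
  rw [hfe]
  refine mul_mem (mem_sup_right he) (mem_sup_left ?_)
  have hzL : z ∈ L := by
    rw [show z = e⁻¹ * f by rw [hfe]; group]
    exact mul_mem (inv_mem (hEL he)) (hF.1 hf)
  have hzk : Commute z k := commute_of_sigma_cores hcores hz hzL hkL hkM
  rw [← heq]
  exact ⟨hz, mem_centralizer_singleton_iff.2 hzk.eq⟩

end CfsgLib.OddOrder
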