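import Cfsg.Agent.Lib.OddOrder.Transitivity
import Mathlib.Data.Nat.Prime.Basic

/-!
Transitivity of maximal invariant `q`-subgroups passes up subnormal `π(A)`-overgroups.
-/

set_option autoImplicit false
set_option linter.style.haveILetI false

open scoped Pointwise commutatorElement

namespace CfsgLib.OddOrder

open Subgroup

variable {G : Type*} [Group G] [Finite G]

/-- Transitivity of `И*(B; q)` under `O_{n'}(C(B))`. -/
def IsTransAt (B : Subgroup G) (n q : ℕ) : Prop :=
  ∀ Q₁ ∈ Cfsg.maxInvSubgroups ⊤ B {q}, ∀ Q₂ ∈ Cfsg.maxInvSubgroups ⊤ B {q},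
    ConjBy (coreCent B n) Q₁ Q₂

theorem coreCent_le_centralizer (B : Subgroup G) (n : ℕ) :
    coreCent B n ≤ centralizer (B : Set G) := piCoreOf_le _ _

theorem normalizer_le_normalizer_coreCent (B : Subgroup G) (n : ℕ) :
    normalizer (B : Set G) ≤ normalizer (coreCent B n : Set G) := by
  refine le_trans ?_ (normalizer_le_normalizer_piCoreOf _ _)
  intro g hg
  rw [mem_normalizer_iff''] at hg
  have key : ∀ g : G, (∀ b, b ∈ B ↔ g⁻¹ * b * g ∈ B) → ∀ x ∈ centralizer (B : Set G),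
      g * x * g⁻¹ ∈ centralizer (B : Set G) := by
    intro g hg x hx b hb
    have := mem_centralizer_iff.1 hx _ ((hg b).1 hb)
    calc b * (g * x * g⁻¹) = g * ((g⁻¹ * b * g) * x) * g⁻¹ := by group
      _ = g * (x * (g⁻¹ * b * g)) * g⁻¹ := by rw [this]
      _ = (g * x * g⁻¹) * b := by group
  rw [mem_normalizer_iff]
  refine fun x => ⟨key g hg x, fun hx => ?_⟩
  have := key g⁻¹ (fun b => by
    rw [inv_inv]
    constructor
    · intro hb
      refine (hg _).2 ?_
      simpa [mul_assoc] using hb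
    · intro hb
      have := (hg _).1 hb
      simpa [mul_assoc] using this) _ hx
  simpa [mul_assoc] using this

section Hypothesis

variable (hG : Cfsg.IsMinSimpleOddOrder G) {A : Subgroup G} (hA : Cfsg.TransitivityHypothesis A)
include hG hA

/-- `O_{π(A)'}(C(B)) = O_{π(A)'}(C(A)) ∩ C(B)` for an overgroup `B` of `A`. -/
theorem coreCent_inf_centralizer {B P : Subgroup G} (hAB : A ≤ B) (hBP : B ≤ P) :
    coreCent B (Nat.card A) ⊓ centralizer (P : Set G) = coreCent P (Nat.card A) := by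
  refine le_antisymm (piCoreOf_inf_le _ (centralizer_le hBP)) (le_inf ?_ (coreCent_le_centralizer P _))
  have hC : centralizer (B : Set G) ≤ centralizer (A : Set G) := centralizer_le hAB
  have h1 : coreCent A (Nat.card A) ⊓ centralizer (B : Set G) ≤ coreCent B (Nat.card A) :=
    piCoreOf_inf_le _ hC
  refine le_trans (le_inf ?_ ?_) h1
  · exact le_coreCent hG hA (piCoreOf_isPiSubgroup _ _)
      ((coreCent_le_centralizer P _).trans (centralizer_le (hAB.trans hBP)))
  · exact (coreCent_le_centralizer P _).trans (centralizer_le hBP)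

variable {q : ℕ} [hq : Fact q.Prime] (hqA : ¬ q ∣ Nat.card A)
include hqA

/-- The inductive step: from `B` to an overgroup `B'` normalizing it. -/
theorem transAt_step {B B' : Subgroup G} (hAB : A ≤ B) (hBB' : B ≤ B')
    (hn : B' ≤ normalizer (B : Set G)) (hB' : B' ≠ ⊤)
    (hπ : ∀ r : ℕ, r.Prime → r ∣ Nat.card B' → r ∣ Nat.card A)
    (htr : IsTransAt B (Nat.card A) q) :
    IsTransAt B' (Nat.card A) q ∧
      Cfsg.maxInvSubgroups ⊤ B' {q} ⊆ Cfsg.maxInvSubgroups ⊤ B {q} := by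
  set π := Cfsg.primesNotDvd (Nat.card A)
  set K := coreCent B (Nat.card A) with hK
  have hB'K : B' ≤ normalizer (K : Set G) := hn.trans (normalizer_le_normalizer_coreCent B _)
  have hcop := coprime_of_piSubgroup_primesNotDvd hπ (piCoreOf_isPiSubgroup π (centralizer (B : Set G)))
  have hsol : Group.IsSolvable B' ∨ Group.IsSolvable K := Or.inl (isSolvable_of_ne_top hG hB')
  -- a member of `И*(B; q)` fixed by `B'`
  have hfix : ∃ Q ∈ Cfsg.maxInvSubgroups ⊤ B {q}, B' ≤ normalizer (Q : Set G) := by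
    refine Solvable.exists_invariant_subgroup_of_transitive hB'K hcop hsol ?_ ?_ ?_ ?_
    · obtain ⟨Q, hQ, -⟩ := exists_maxInvSubgroup_ge (bot_mem_invSubgroups B ({q} : Set ℕ))
      exact ⟨Q, hQ⟩
    · intro b hb Q hQ
      rw [Solvable.conj_smul_eq_map]
      have hmap : ∀ c ∈ normalizer (B : Set G), ∀ R ∈ Cfsg.invSubgroups ⊤ B {q},
          R.map (MulAut.conj c).toMonoidHom ∈ Cfsg.invSubgroups ⊤ B {q} := by
        intro c hc R hR
        refine ⟨le_top, IsPiSubgroup.map hR.2.1 _, ?_⟩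
        have h := Subgroup.map_mono (f := (MulAut.conj c).toMonoidHom) hR.2.2
        rw [mem_normalizer_iff_map_conj_eq] at hc
        rw [show B.map (MulAut.conj c).toMonoidHom = B from hc] at h
        exact h.trans (le_normalizer_map _)
      refine ⟨hmap b (hn hb) Q hQ.1, fun R hR hle => ?_⟩
      have h := hQ.2 _ (hmap b⁻¹ (inv_mem (hn hb)) R hR) ?_
      · rw [← h, map_conj_map_conj, mul_inv_cancel, map_conj_one]
      · have := Subgroup.map_mono (f := (MulAut.conj b⁻¹).toMonoidHom) hle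
        rwa [map_conj_map_conj, inv_mul_cancel, map_conj_one] at this
    · intro k hk Q hQ
      rw [Solvable.conj_smul_eq_map]
      exact mem_maxInv_map_conj (coreCent_le_centralizer B _ hk) hQ
    · intro Q₁ h₁ Q₂ h₂
      obtain ⟨k, hk, rfl⟩ := htr Q₁ h₁ Q₂ h₂
      exact ⟨k, hk, Solvable.conj_smul_eq_map _ _⟩
  have hsub : Cfsg.maxInvSubgroups ⊤ B' {q} ⊆ Cfsg.maxInvSubgroups ⊤ B {q} := by
    intro R hR
    obtain ⟨Q, hQ, hRQ⟩ := exists_maxInvSubgroup_ge
      (show R ∈ Cfsg.invSubgroups ⊤ B {q} from ⟨le_top, hR.1.2.1, hBB'.trans hR.1.2.2⟩)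
    by_cases hR1 : R = ⊥
    · obtain ⟨Q₀, hQ₀, hfix₀⟩ := hfix
      exact (hR.2 Q₀ ⟨le_top, hQ₀.1.2.1, hfix₀⟩ (hR1 ▸ bot_le)) ▸ hQ₀
    rcases hRQ.eq_or_lt with h | h
    · exact h ▸ hQ
    exfalso
    set H := normalizer (R : Set G) with hHdef
    have hRp : IsPGroup q R := isPiSubgroup_singleton.1 hR.1.2.1
    have hQp : IsPGroup q Q := isPiSubgroup_singleton.1 hQ.1.2.1
    have hH : H ≠ ⊤ := normalizer_ne_top hG hR1 (isPGroup_ne_top hG hRp)
    have hB'H : B' ≤ H := hR.1.2.2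
    set L := Cfsg.piCoreOf π H with hL
    have hQL : Q ⊓ H ≤ L := inv_le_piCoreOf hA hH (hAB.trans (hBB'.trans hB'H)) inf_le_right
      (IsPiSubgroup.anti (piSubgroup_primesNotDvd_of_singleton hq.out hqA hQ.1.2.1) inf_le_left)
      (le_normalizer_inf_of_le (hAB.trans hQ.1.2.2)
        ((hAB.trans (hBB'.trans hB'H)).trans le_normalizer))
    have hRL : R ≤ L := (le_inf hRQ le_normalizer).trans hQL
    obtain ⟨S, hRS, hBS⟩ := Solvable.exists_invariant_sylow_ge
      (hB'H.trans (le_normalizer_piCoreOf π H))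
      (coprime_of_piSubgroup_primesNotDvd hπ (piCoreOf_isPiSubgroup π H))
      (Or.inl (isSolvable_of_ne_top hG hB')) q hRL hRp hR.1.2.2
    have hS : (S : Subgroup L).map L.subtype = R :=
      hR.2 _ ⟨le_top, isPiSubgroup_singleton.2 (S.2.map _), hBS⟩ hRS
    have hlt := Set.Finite.card_lt_card (Set.toFinite _) (lt_inf_normalizer hQp h)
    obtain ⟨T, hT⟩ :=
      ((hQp.to_le (inf_le_left : Q ⊓ H ≤ Q)).of_equiv (subgroupOfEquivOfLe hQL).symm).exists_le_sylow
    have h1 : Nat.card ↥(Q ⊓ H) ≤ Nat.card R := by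
      rw [← hS, Subgroup.card_map_of_injective L.subtype_injective,
        ← Nat.card_congr (subgroupOfEquivOfLe hQL).toEquiv, S.card_eq_multiplicity,
        ← T.card_eq_multiplicity]
      exact Subgroup.card_le_of_le hT
    exact absurd hlt (not_lt.2 h1)
  refine ⟨fun Q₁ h₁ Q₂ h₂ => ?_, hsub⟩
  obtain ⟨k, hk, hkQ⟩ := htr Q₁ (hsub h₁) Q₂ (hsub h₂)
  obtain ⟨c, hc, hcQ⟩ := Solvable.exists_centralizer_conj_eq_of_invariant hB'K hcop hsol h₁.1.2.2
    h₂.1.2.2 hk (by rw [Solvable.conj_smul_eq_map]; exact hkQ.symm)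
  refine ⟨c, coreCent_inf_centralizer hG hA hAB hBB' ▸ hc, ?_⟩
  rw [← hcQ, Solvable.conj_smul_eq_map]

/-- Transitivity passes to a subnormal overgroup. -/
theorem transAt_of_subnormal {P : Subgroup G} (hP : P ≠ ⊤)
    (hπ : ∀ r : ℕ, r.Prime → r ∣ Nat.card P → r ∣ Nat.card A) (hAP : A ≤ P)
    (hsn : (A.subgroupOf P).IsSubnormal) (htr : IsTransAt A (Nat.card A) q) :
    IsTransAt P (Nat.card A) q ∧
      Cfsg.maxInvSubgroups ⊤ P {q} ⊆ Cfsg.maxInvSubgroups ⊤ A {q} := by
  have key : ∀ H : Subgroup P, H.IsSubnormal → A ≤ H.map P.subtype →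
      IsTransAt (H.map P.subtype) (Nat.card A) q →
      IsTransAt P (Nat.card A) q ∧
        Cfsg.maxInvSubgroups ⊤ P {q} ⊆ Cfsg.maxInvSubgroups ⊤ (H.map P.subtype) {q} := by
    intro H hH
    induction hH with
    | top =>
      intro _ h
      have e : ((⊤ : Subgroup P).map P.subtype) = P := by
        rw [← MonoidHom.range_eq_map, range_subtype]
      rw [e] at h ⊢
      exact ⟨h, subset_rfl⟩
    | step H K hle _ hN ih =>
      intro hAH h
      have hKP : K.map P.subtype ≤ P := map_subtype_le _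
      have hn : K.map P.subtype ≤ normalizer ((H.map P.subtype : Subgroup G) : Set G) :=
        (Subgroup.map_mono ((normal_subgroupOf_iff_le_normalizer hle).1 hN)).trans
          (le_normalizer_map _)
      obtain ⟨h', hs'⟩ := transAt_step hG hA hqA hAH (Subgroup.map_mono hle) hn
        (fun e => hP (eq_top_iff.2 (e ▸ hKP)))
        (fun r hr hd => hπ r hr (hd.trans (Subgroup.card_dvd_of_le hKP))) h
      obtain ⟨h'', hs''⟩ := ih (hAH.trans (Subgroup.map_mono hle)) h'
      exact ⟨h'', hs''.trans hs'⟩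
  have e : (A.subgroupOf P).map P.subtype = A := map_subgroupOf_eq_of_le hAP
  have := key _ hsn (le_of_eq e.symm)
  rw [e] at this
  exact this htr

omit hqA in
/-- The consequences for the normalizer of `P`. -/
theorem normalizer_factor {P Q : Subgroup G} (htr : IsTransAt P (Nat.card A) q)
    (hQ : Q ∈ Cfsg.maxInvSubgroups ⊤ P {q}) :
    normalizer (P : Set G) =
      coreCent P (Nat.card A) ⊔ (normalizer (P : Set G) ⊓ normalizer (Q : Set G)) := by
  refine le_antisymm (fun n hn => ?_) (sup_le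
    ((coreCent_le_centralizer P _).trans (centralizer_le_normalizer _)) inf_le_left)
  have hmap : ∀ c ∈ normalizer (P : Set G), ∀ R ∈ Cfsg.invSubgroups ⊤ P {q},
      R.map (MulAut.conj c).toMonoidHom ∈ Cfsg.invSubgroups ⊤ P {q} := by
    intro c hc R hR
    refine ⟨le_top, IsPiSubgroup.map hR.2.1 _, ?_⟩
    have h := Subgroup.map_mono (f := (MulAut.conj c).toMonoidHom) hR.2.2
    rw [mem_normalizer_iff_map_conj_eq] at hc
    rw [show P.map (MulAut.conj c).toMonoidHom = P from hc] at h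
    exact h.trans (le_normalizer_map _)
  have hQn : Q.map (MulAut.conj n).toMonoidHom ∈ Cfsg.maxInvSubgroups ⊤ P {q} := by
    refine ⟨hmap n hn Q hQ.1, fun R hR hle => ?_⟩
    have h := hQ.2 _ (hmap n⁻¹ (inv_mem hn) R hR) ?_
    · rw [← h, map_conj_map_conj, mul_inv_cancel, map_conj_one]
    · have := Subgroup.map_mono (f := (MulAut.conj n⁻¹).toMonoidHom) hle
      rwa [map_conj_map_conj, inv_mul_cancel, map_conj_one] at this
  obtain ⟨k, hk, hkQ⟩ := htr Q hQ _ hQn
  have hkP : k ∈ normalizer (P : Set G) :=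
    centralizer_le_normalizer _ (coreCent_le_centralizer P _ hk)
  have : k⁻¹ * n ∈ normalizer (P : Set G) ⊓ normalizer (Q : Set G) := by
    refine mem_inf.2 ⟨mul_mem (inv_mem hkP) hn, ?_⟩
    rw [mem_normalizer_iff_map_conj_eq]
    change Q.map (MulAut.conj (k⁻¹ * n)).toMonoidHom = Q
    rw [← map_conj_map_conj, hkQ, map_conj_map_conj, inv_mul_cancel, map_conj_one]
  simpa using mul_mem (mem_sup_left hk) (mem_sup_right this :
    k⁻¹ * n ∈ coreCent P (Nat.card A) ⊔ (normalizer (P : Set G) ⊓ normalizer (Q : Set G)))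

omit [Finite G] hG hA hqA in
/-- A commutator subgroup modulo a normal subgroup `K` is carried by a supplement `U`. -/
theorem commutator_le_sup {N K U : Subgroup G} (hK : N ≤ normalizer (K : Set G)) (hUN : U ≤ N)
    (hKN : K ≤ N) (hN : N = K ⊔ U) : ⁅N, N⁆ ≤ K ⊔ ⁅U, U⁆ := by
  set W := K ⊔ ⁅U, U⁆ with hW
  have hUW : U ≤ normalizer (W : Set G) := by
    refine le_trans (le_inf (hUN.trans hK) ?_) (normalizer_inf_normalizer_le_normalizer_sup _ _)
    exact Solvable.le_normalizer_commutator_left U U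
  have hKW : K ≤ normalizer (W : Set G) := le_trans le_sup_left le_normalizer
  have hNW : N ≤ normalizer (W : Set G) := hN ▸ sup_le hKW hUW
  have hK1 : ∀ k ∈ K, ∀ b ∈ N, ⁅k, b⁆ ∈ W := by
    intro k hk b hb
    refine mem_sup_left ?_
    have := mul_mem hk ((mem_normalizer_iff.1 (hK hb) _).1 (inv_mem hk))
    simpa [commutatorElement_def, mul_assoc] using this
  have hK2 : ∀ b ∈ N, ∀ k ∈ K, ⁅b, k⁆ ∈ W := fun b hb k hk => by
    simpa [commutatorElement_inv] using inv_mem (hK1 k hk b hb)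
  rw [commutator_le]
  intro a ha b hb
  rw [hN] at ha hb
  obtain ⟨k, hk, u, hu, rfl⟩ := (Solvable.mem_sup_of_le_normalizer (hUN.trans hK)).1 ha
  obtain ⟨k', hk', u', hu', rfl⟩ := (Solvable.mem_sup_of_le_normalizer (hUN.trans hK)).1 hb
  have h1 : ⁅u, k' * u'⁆ ∈ W := by
    rw [show ⁅u, k' * u'⁆ = ⁅u, k'⁆ * (k' * ⁅u, u'⁆ * k'⁻¹) by simp [commutatorElement_def]; group]
    exact mul_mem (hK2 u (hUN hu) k' hk') ((mem_normalizer_iff.1 (hKW hk') _).1
      (mem_sup_right (commutator_mem_commutator hu hu')))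
  rw [show ⁅k * u, k' * u'⁆ = (k * ⁅u, k' * u'⁆ * k⁻¹) * ⁅k, k' * u'⁆ by
    simp [commutatorElement_def]; group]
  exact mul_mem ((mem_normalizer_iff.1 (hKW hk) _).1 h1) (hK1 k hk _ (mul_mem (hKN hk') (hUN hu')))

omit hqA in
theorem inf_commutator_le {P Q : Subgroup G}
    (hπ : ∀ r : ℕ, r.Prime → r ∣ Nat.card P → r ∣ Nat.card A)
    (htr : IsTransAt P (Nat.card A) q) (hQ : Q ∈ Cfsg.maxInvSubgroups ⊤ P {q}) :
    P ⊓ ⁅normalizer (P : Set G), normalizer (P : Set G)⁆ ≤
      ⁅normalizer (Q : Set G), normalizer (Q : Set G)⁆ := by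
  set K := coreCent P (Nat.card A) with hK
  set U := normalizer (P : Set G) ⊓ normalizer (Q : Set G) with hU
  intro x hx
  have hx2 := commutator_le_sup (normalizer_le_normalizer_coreCent P _) inf_le_left
    ((coreCent_le_centralizer P _).trans (centralizer_le_normalizer _))
    (normalizer_factor hG hA htr hQ) hx.2
  have hU'U : ⁅U, U⁆ ≤ U := Solvable.commutator_le_of_normalizes le_normalizer
  have hKn : ⁅U, U⁆ ≤ normalizer (K : Set G) :=
    hU'U.trans (inf_le_left.trans (normalizer_le_normalizer_coreCent P _))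
  obtain ⟨k, hk, u, hu, rfl⟩ := (Solvable.mem_sup_of_le_normalizer hKn).1 hx2
  have hkU : k ∈ U := (U.mul_mem_cancel_right (hU'U hu)).1
    ⟨le_normalizer hx.1, hQ.1.2.2 hx.1⟩
  have hkn : k ∈ normalizer ((⁅U, U⁆ : Subgroup G) : Set G) := Solvable.le_normalizer_commutator_left U U hkU
  suffices h : k * u ∈ ⁅U, U⁆ from commutator_mono inf_le_right inf_le_right h
  have hp : ∀ n : ℕ, ∃ w ∈ ⁅U, U⁆, (k * u) ^ n = k ^ n * w := by
    intro n
    induction n with
    | zero => exact ⟨1, one_mem _, by simp⟩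
    | succ n ih =>
      obtain ⟨w, hw, e⟩ := ih
      refine ⟨k⁻¹ * w * k * u, mul_mem ?_ hu, ?_⟩
      · exact (mem_normalizer_iff''.1 hkn _).1 hw
      · rw [pow_succ, e, pow_succ]; group
  obtain ⟨w, hw, e⟩ := hp (Nat.card K)
  have hkK : k ^ Nat.card K = 1 :=
    congrArg (fun z : K => (z : G)) (pow_card_eq_one' (x := (⟨k, hk⟩ : K)))
  rw [hkK, one_mul] at e
  have hcop : (orderOf (k * u)).Coprime (Nat.card K) := by
    refine (coprime_of_piSubgroup_primesNotDvd hπ
      (piCoreOf_isPiSubgroup _ (centralizer (P : Set G)))).coprime_dvd_left ?_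
    rw [← Subgroup.orderOf_mk _ hx.1]
    exact orderOf_dvd_natCard _
  obtain ⟨j, hj⟩ := exists_pow_eq_self_of_coprime hcop.symm
  rw [← hj, e]
  exact pow_mem hw j

end Hypothesis

end CfsgLib.OddOrder
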