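import Cfsg.Agent.Lib.OddOrder.PLengthOne
import Cfsg.Agent.Lib.OddOrder.TransitivityCriteria
import Cfsg.Agent.Lib.OddOrder.TransitivityUp
import Cfsg.Agent.Lib.OddOrder.NarrowAction
import Cfsg.Agent.Lib.OddOrder.RankTwoAction

/-!
BG 10.10: maximal elementary subgroups of order `p²` and their invariant `q`-subgroups.
-/

set_option autoImplicit false
set_option linter.style.haveILetI false

open scoped commutatorElement

namespace CfsgLib.OddOrder

open Subgroup

variable {G : Type*} [Group G] [Finite G] (hG : Cfsg.IsMinSimpleOddOrder G)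
include hG

/-- BG 10.10 (a), (b). -/
theorem exists_sylow_normalizer_factor {p q : ℕ} [hp : Fact p.Prime] [hq : Fact q.Prime]
    (hpq : p ≠ q) {A Q : Subgroup G} (hAe : Cfsg.IsElementaryAbelian p A)
    (hA2 : Nat.card A = p ^ 2)
    (hAmax : ∀ B : Subgroup G, Cfsg.IsElementaryAbelian p B → A ≤ B → B = A)
    (hqC : q ∣ Nat.card (centralizer (A : Set G)))
    (hQ : Q ∈ Cfsg.maxInvSubgroups ⊤ A {q}) :
    ∃ P : Sylow p G, A ≤ P ∧
      (P : Subgroup G) ≤ normalizer (Q : Set G) ∧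
      normalizer ((P : Subgroup G) : Set G) =
        Cfsg.piCoreOf (Cfsg.primesNotDvd p) (centralizer ((P : Subgroup G) : Set G)) ⊔
          (normalizer ((P : Subgroup G) : Set G) ⊓ normalizer (Q : Set G)) ∧
      (P : Subgroup G) ≤ ⁅normalizer (Q : Set G), normalizer (Q : Set G)⁆ := by
  have hAp : IsPGroup p A := isPGroup_of_exp hAe.2
  have hpA : p ∣ Nat.card A := hA2 ▸ dvd_pow_self p two_ne_zero
  have hpG : p ∣ Nat.card G := hpA.trans (card_subgroup_dvd_card A)
  have hfix : ∀ x ∈ centralizer (A : Set G), x ^ p = 1 → x ∈ A := fun x hx hxp => by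
    have h := hAmax _ (elementary_sup_zpowers hAe hx hxp) le_sup_left
    exact h ▸ mem_sup_right (mem_zpowers x)
  have hT := transitivityHypothesis_of_elementary hG hpG hAp hAe.1 hfix
    fun H hH => pLengthLE_proper hG p hH
  have hinf : A ⊓ centralizer (A : Set G) = A :=
    inf_eq_left.2 (le_centralizer_iff_isMulCommutative.2 hAe.1)
  have hZ : ¬ Cfsg.RankLE 1 ↥(A ⊓ centralizer (A : Set G)) := by
    rw [hinf]
    exact fun h => not_pRankLE_of_elementary (le_refl A) hAe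
      (by rw [hA2]; exact Nat.pow_lt_pow_right hp.out.one_lt one_lt_two) (h p hp.out)
  have hqA : ¬ q ∣ Nat.card A := fun h => hpq
    ((Nat.prime_dvd_prime_iff_eq hq.out hp.out).1 (hq.out.dvd_of_dvd_pow (hA2 ▸ h))).symm
  have htrA : IsTransAt A (Nat.card A) q := conjBy_of_rank_two hG hT hZ hqA hqC
  obtain ⟨P₀, hAP₀⟩ := hAp.exists_le_sylow
  haveI : Group.IsNilpotent (P₀ : Subgroup G) := P₀.2.isNilpotent
  have hπ : ∀ P : Sylow p G, ∀ r : ℕ, r.Prime → r ∣ Nat.card (P : Subgroup G) → r ∣ Nat.card A := by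
    intro P r hr hd
    obtain ⟨n, hn⟩ := P.2.exists_card_eq
    rw [(Nat.prime_dvd_prime_iff_eq hr hp.out).1 (hr.dvd_of_dvd_pow (hn ▸ hd))]
    exact hpA
  obtain ⟨-, hsub⟩ := transAt_of_subnormal hG hT hqA (isPGroup_ne_top hG P₀.2) (hπ P₀) hAP₀
    (isSubnormal_of_nilpotent _) htrA
  obtain ⟨Q₁, hQ₁, -⟩ := exists_maxInvSubgroup_ge
    (bot_mem_invSubgroups (P₀ : Subgroup G) ({q} : Set ℕ))
  obtain ⟨k, hk, hQk⟩ := htrA Q₁ (hsub hQ₁) Q hQ
  have hkA : k ∈ centralizer (A : Set G) := coreCent_le_centralizer A _ hk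
  let P : Sylow p G := k • P₀
  have hPk : (P : Subgroup G) = (P₀ : Subgroup G).map (MulAut.conj k).toMonoidHom := rfl
  have hAP : A ≤ P := by
    intro a ha
    rw [hPk]
    exact ⟨a, hAP₀ ha, by simp [MulAut.conj_apply, ← mem_centralizer_iff.1 hkA a ha]⟩
  have hPQ : (P : Subgroup G) ≤ normalizer (Q : Set G) := by
    rw [hPk, hQk]
    exact (map_mono hQ₁.1.2.2).trans (le_normalizer_map _)
  haveI : Group.IsNilpotent (P : Subgroup G) := P.2.isNilpotent
  obtain ⟨htrP, -⟩ := transAt_of_subnormal hG hT hqA (isPGroup_ne_top hG P.2) (hπ P) hAP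
    (isSubnormal_of_nilpotent _) htrA
  have hQP : Q ∈ Cfsg.maxInvSubgroups ⊤ (P : Subgroup G) {q} :=
    ⟨⟨le_top, hQ.1.2.1, hPQ⟩, fun R hR hle =>
      hQ.2 R ⟨le_top, hR.2.1, hAP.trans hR.2.2⟩ hle⟩
  refine ⟨P, hAP, hPQ, ?_, ?_⟩
  · rw [← primesNotDvd_prime_pow (p := p) two_ne_zero, ← hA2]
    exact normalizer_factor hG hT htrP hQP
  · exact le_trans (le_inf le_rfl (sylow_le_commutator_normalizer hG P))
      (inf_commutator_le hG hT (hπ P) htrP hQP)

omit hG in
/-- A `p`-subgroup of the derived subgroup of an odd solvable group acting on a narrow `q`-group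
centralizes it. -/
theorem le_centralizer_of_narrow {p q : ℕ} [hp : Fact p.Prime] [hq : Fact q.Prime] (hpq : p ≠ q)
    (hq2 : q ≠ 2) {N P Q : Subgroup G} (hNs : Group.IsSolvable N) (hodd : Odd (Nat.card N))
    (hQ : IsPGroup q Q) (hQn : Cfsg.IsNarrow q Q) (hQN : Q ≤ N)
    (hNQ : N ≤ normalizer (Q : Set G))
    (hP : IsPGroup p P) (hPN : P ≤ ⁅N, N⁆) : P ≤ centralizer (Q : Set G) := by
  intro g hg
  have hgN' : g ∈ (commutator N).map N.subtype := by
    rw [map_subtype_commutator]; exact hPN hg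
  obtain ⟨a, ha, rfl⟩ := hgN'
  have hco : (orderOf a).Coprime q := by
    obtain ⟨n, hn⟩ := hP ⟨_, hg⟩
    have h1 : orderOf (a : G) ∣ p ^ n := orderOf_dvd_of_pow_eq_one (congrArg Subtype.val hn)
    rw [Subgroup.orderOf_coe] at h1
    exact Nat.Coprime.coprime_dvd_left h1 (((Nat.coprime_primes hp.out hq.out).2 hpq).pow_left n)
  by_cases hr : Cfsg.PRankLE q 2 Q
  · haveI := hNs
    haveI : (Q.subgroupOf N).Normal := normal_subgroupOf_of_le_normalizer hNQ
    exact mem_centralizer_of_subgroupOf hQN (mem_centralizer_of_mem_commutator hodd hq2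
      (hQ.of_equiv (subgroupOfEquivOfLe hQN).symm) (pRankLE_subgroupOf hQN hr) ha hco)
  · let φ : N →* MulAut Q := Q.normalizerMonoidHom.comp (inclusion hNQ)
    have h1 : φ a = 1 := Operator.trivial_of_narrow hq2 hQ hQn hr a
      (hco.coprime_dvd_left (orderOf_map_dvd φ a)) (Or.inl ha)
    intro x hx
    have h2 : (a : G) * x * (a : G)⁻¹ = x :=
      congrArg (fun u : MulAut Q => ((u ⟨x, hx⟩ : Q) : G)) h1
    exact (mul_inv_eq_iff_eq_mul.1 h2).symm

/-- BG 10.10 (c). -/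
theorem sylow_le_centralizer_of_narrow {p q : ℕ} [hp : Fact p.Prime] [hq : Fact q.Prime]
    (hpq : p ≠ q) {Q : Subgroup G} (hQ : IsPGroup q Q) (hQn : Cfsg.IsNarrow q Q) (P : Sylow p G)
    (hP : (P : Subgroup G) ≤ ⁅normalizer (Q : Set G), normalizer (Q : Set G)⁆) :
    (P : Subgroup G) ≤ centralizer (Q : Set G) := by
  by_cases hQ1 : Q = ⊥
  · subst hQ1
    intro g _ x hx
    rw [Subgroup.coe_bot, Set.mem_singleton_iff] at hx
    subst hx
    simp
  have hqQ : q ∣ Nat.card Q := by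
    obtain ⟨n, hn⟩ := hQ.exists_card_eq
    rcases n with _ | n
    · exact absurd (card_eq_one.1 (hn.trans (pow_zero q))) hQ1
    · exact hn ▸ dvd_pow_self q n.succ_ne_zero
  exact le_centralizer_of_narrow hpq (prime_ne_two_of_dvd_card hG hqQ)
    (isSolvable_of_ne_top hG (normalizer_ne_top hG hQ1 (isPGroup_ne_top hG hQ)))
    (odd_card_subgroup hG _) hQ hQn le_normalizer le_rfl P.2 hP

end CfsgLib.OddOrder
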