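import Cfsg.Agent.Lib.OddOrder.Section12
import Cfsg.Agent.Lib.CN.Nilpotent
import Cfsg.Agent.Lib.Solvable.Hall

/-!
The normaliser of a nilpotent Hall subgroup controls its fusion.
-/

set_option autoImplicit false
set_option linter.style.haveILetI false

open scoped Pointwise commutatorElement

namespace CfsgLib.OddOrder

open Subgroup

/-- In a group of `p`-length one a `p'`-element centralising a Sylow `p`-subgroup lies in `O_{p'}`. -/
theorem mem_pPrimeCore_of_centralize_sylow {Y : Type*} [Group Y] [Finite Y] [Group.IsSolvable Y]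
    {p : ℕ} [hp : Fact p.Prime] (hpl : Cfsg.PLengthLE p 1 Y) (S : Sylow p Y) {x : Y}
    (hx : (orderOf x).Coprime p) (hxS : ∀ s ∈ (S : Subgroup Y), x * s = s * x) :
    x ∈ Cfsg.pPrimeCore p Y := by
  have hf := barHom_surjective (Y := Y) (p := p)
  have hSR : ∀ s ∈ (S : Subgroup Y), barHom Y p s ∈
      Cfsg.pCore p (Y ⧸ Cfsg.piCore (Cfsg.primesNotDvd p) Y) := fun s hs => by
    have h := mem_pPrimePCore_of_plength_one hpl (S.2.to_le (zpowers_le.2 hs))
    rwa [pPrimePCore_eq_comap_barHom, mem_comap] at h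
  have hc : barHom Y p x ∈ centralizer
      (Cfsg.pCore p (Y ⧸ Cfsg.piCore (Cfsg.primesNotDvd p) Y) : Set _) := by
    intro r hr
    have h := Solvable.pCore_le_sylow (S.mapSurjective hf) hr
    rw [Sylow.coe_mapSurjective] at h
    obtain ⟨s, hs, rfl⟩ := h
    rw [← map_mul, ← map_mul, hxS s hs]
  have h1 := centralizer_pCore_bar_le hc
  refine mem_pPrimeCore_of_barHom_eq_one (orderOf_eq_one_iff.1 ?_)
  obtain ⟨n, hn⟩ := (Solvable.pCore_isPGroup p
    (Y ⧸ Cfsg.piCore (Cfsg.primesNotDvd p) Y)).exists_card_eq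
  exact Nat.eq_one_of_dvd_coprimes (hx.pow_right n) (orderOf_map_dvd _ x)
    (hn ▸ orderOf_dvd_card_of_mem h1)

/-- In a solvable group of `p`-length one for all primes of a nilpotent Hall subgroup `H`, elements of
`H` conjugate in the group are conjugate in `N(H)`. -/
theorem exists_normalizer_conj_of_solvable {Y : Type*} [Group Y] [Finite Y] [Group.IsSolvable Y]
    (H : Subgroup Y) (hHn : Group.IsNilpotent H) (hH : (Nat.card H).Coprime H.index)
    (hpl : ∀ p : ℕ, p.Prime → Cfsg.PLengthLE p 1 Y) {x m : Y} (hx : x ∈ H)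
    (hmx : m * x * m⁻¹ ∈ H) :
    ∃ n ∈ normalizer (H : Set Y), n * x * n⁻¹ = m * x * m⁻¹ := by
  classical
  let π : Set ℕ := {p | p.Prime ∧ p ∣ Nat.card H}
  let D : Subgroup Y := ⨅ p : π, Cfsg.pPrimePCore p.1 Y
  let T : Subgroup Y := ⨅ p : π, Cfsg.pPrimeCore p.1 Y
  haveI : D.Normal := normal_iInf_normal fun p => by
    haveI := Fact.mk p.2.1
    rw [pPrimePCore_eq_comap_barHom]
    exact (Solvable.pCore_normal p.1 _).comap _
  haveI : T.Normal := normal_iInf_normal fun p => Solvable.pPrimeCore_normal p.1 Y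
  have hTD : T ≤ D := le_iInf fun p => (iInf_le _ p).trans (by
    haveI := Fact.mk p.2.1
    rw [pPrimePCore_eq_comap_barHom, ← barHom_ker, ← MonoidHom.comap_bot]
    exact Subgroup.comap_mono bot_le)
  have hHT : H ⊓ T = ⊥ := by
    refine card_eq_one.1 (Nat.eq_one_iff_not_exists_prime_dvd.2 fun p hp hd => ?_)
    have hpH : p ∣ Nat.card H := hd.trans (card_dvd_of_le inf_le_left)
    have h1 : p ∣ Nat.card (Cfsg.pPrimeCore p Y) :=
      hd.trans (card_dvd_of_le (inf_le_right.trans (iInf_le _ (⟨p, hp, hpH⟩ : π))))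
    exact hp.ne_one (Nat.eq_one_of_dvd_coprimes (Solvable.pPrimeCore_card_coprime p Y) h1 dvd_rfl)
  have hHD : H ≤ D := by
    intro h hh
    refine CN.mem_of_pElem_pow fun s k hs hu => ?_
    haveI := Fact.mk hs
    set u := h ^ k
    have huH : u ∈ H := pow_mem hh k
    refine mem_iInf.2 fun p => ?_
    haveI := Fact.mk p.2.1
    by_cases hsp : s = p.1
    · obtain ⟨j, hj⟩ := hu
      obtain ⟨i, -, hi⟩ := (Nat.dvd_prime_pow hs).1 (orderOf_dvd_of_pow_eq_one hj)
      exact mem_pPrimePCore_of_plength_one (hpl p.1 p.2.1)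
        (IsPGroup.of_card (n := i) (by rw [Nat.card_zpowers, hi, hsp]))
    obtain ⟨S₀⟩ : Nonempty (Sylow p.1 H) := inferInstance
    have hidx : ¬ p.1 ∣ ((S₀ : Subgroup H).map H.subtype).index := by
      intro hd
      rw [← relIndex_mul_index (map_subtype_le (S₀ : Subgroup H))] at hd
      rcases p.2.1.dvd_mul.1 hd with h1 | h1
      · rw [relIndex, subgroupOf, comap_map_eq_self_of_injective H.subtype_injective] at h1
        exact S₀.not_dvd_index h1
      · exact p.2.1.ne_one (Nat.eq_one_of_dvd_coprimes hH p.2.2 h1)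
    let S := (S₀.2.map H.subtype).toSylow hidx
    have hcore : u ∈ Cfsg.pPrimeCore p.1 Y := by
      refine mem_pPrimeCore_of_centralize_sylow (hpl p.1 p.2.1) S ?_ fun w hw => ?_
      · exact Nat.coprime_of_dvd fun t ht h1 h2 => hsp
          ((hu.orderOf_dvd ht h1).symm.trans ((Nat.prime_dvd_prime_iff_eq ht p.2.1).1 h2))
      · rw [IsPGroup.toSylow_coe] at hw
        exact CN.commute_of_nilpotent hsp hHn huH (map_subtype_le _ hw) hu
          (CN.pElem_of_mem (S₀.2.map H.subtype) hw)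
    have hle : Cfsg.pPrimeCore p.1 Y ≤ Cfsg.pPrimePCore p.1 Y := by
      rw [pPrimePCore_eq_comap_barHom, ← barHom_ker, ← MonoidHom.comap_bot]
      exact Subgroup.comap_mono bot_le
    exact hle hcore
  have hDH : D = T ⊔ H := by
    refine le_antisymm ?_ (sup_le hTD hHD)
    refine relIndex_eq_one.1 (Nat.eq_one_iff_not_exists_prime_dvd.2 fun s hs hd => ?_)
    haveI := Fact.mk hs
    by_cases hsH : s ∣ Nat.card H
    · exact hs.ne_one (Nat.eq_one_of_dvd_coprimes hH hsH
        ((hd.trans (relIndex_dvd_index_of_le (sup_le hTD hHD))).trans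
          (index_dvd_of_le le_sup_right)))
    obtain ⟨S⟩ : Nonempty (Sylow s D) := inferInstance
    refine S.not_dvd_index (hd.trans (index_dvd_of_le fun u hu => mem_subgroupOf.2 ?_))
    refine mem_sup_left (mem_iInf.2 fun p => ?_)
    haveI := Fact.mk p.2.1
    have hsp : s ≠ p.1 := fun e => hsH (e ▸ p.2.2)
    have h1 : (u : Y) ∈ Cfsg.pPrimePCore p.1 Y := mem_iInf.1 u.2 p
    rw [pPrimePCore_eq_comap_barHom, mem_comap] at h1
    refine mem_pPrimeCore_of_barHom_eq_one (orderOf_eq_one_iff.1 ?_)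
    obtain ⟨n, hn⟩ := (Solvable.pCore_isPGroup p.1
      (Y ⧸ Cfsg.piCore (Cfsg.primesNotDvd p.1) Y)).exists_card_eq
    refine Nat.eq_one_of_dvd_coprimes (Nat.Coprime.pow_right n ?_) (orderOf_map_dvd _ (u : Y))
      (hn ▸ orderOf_dvd_card_of_mem h1)
    have hu' : CN.PElem s (u : Y) := by
      obtain ⟨k, hk⟩ := CN.pElem_of_mem S.2 hu
      exact ⟨k, by rw [← SubgroupClass.coe_pow, hk, OneMemClass.coe_one]⟩
    exact Nat.coprime_of_dvd fun t ht h2 h3 => hsp
      ((hu'.orderOf_dvd ht h2).symm.trans ((Nat.prime_dvd_prime_iff_eq ht p.2.1).1 h3))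
  -- Frattini: `m ∈ T N(H)`
  have hHD' : Cfsg.IsPiHall π (H.subgroupOf D) := by
    refine ⟨fun s hs hd => ⟨hs, ?_⟩, fun s hs hsπ hd => ?_⟩
    · rwa [Nat.card_congr (subgroupOfEquivOfLe hHD).toEquiv] at hd
    · exact hs.ne_one (Nat.eq_one_of_dvd_coprimes hH hsπ.2
        (hd.trans (relIndex_dvd_index_of_le hHD)))
  set H' := H.map (MulAut.conj m).toMonoidHom with hH'
  have hH'D : H' ≤ D := by
    rintro _ ⟨h, hh, rfl⟩
    exact (inferInstance : D.Normal).conj_mem h (hHD hh) m
  obtain ⟨d, hd⟩ := Solvable.exists_conj_le_isPiHall hHD' (K := H'.subgroupOf D) fun s hs hdiv => by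
    refine ⟨hs, ?_⟩
    rwa [Nat.card_congr (subgroupOfEquivOfLe hH'D).toEquiv, hH',
      card_map_of_injective (MulAut.conj m).injective] at hdiv
  have hn₀ : (d : Y) * m ∈ normalizer (H : Set Y) := by
    refine mem_normalizer_of_map_le ?_
    rintro _ ⟨h, hh, rfl⟩
    have h1 := mem_subgroupOf.1 (hd (smul_mem_pointwise_smul _ _ _
      (mem_subgroupOf.2 (mem_map_of_mem _ hh) :
        (⟨MulAut.conj m h, hH'D (mem_map_of_mem _ hh)⟩ : D) ∈ H'.subgroupOf D)))
    simpa [mul_assoc] using h1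
  obtain ⟨t, ht, h, hh, hth⟩ := (Solvable.mem_sup_of_le_normalizer
    (le_top.trans (normalizer_eq_top T).ge)).1 (hDH ▸ inv_mem d.2 : (d : Y)⁻¹ ∈ T ⊔ H)
  refine ⟨h * ((d : Y) * m), mul_mem (le_normalizer hh) hn₀, ?_⟩
  set n := h * ((d : Y) * m) with hn
  have hm : m = t * n := by
    rw [hn, ← mul_assoc, hth]; group
  have hy : n * x * n⁻¹ ∈ H :=
    (mem_normalizer_iff.1 (mul_mem (le_normalizer hh) hn₀) x).1 hx
  have h1 : t * (n * x * n⁻¹) * t⁻¹ * (n * x * n⁻¹)⁻¹ ∈ H ⊓ T := by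
    refine ⟨H.mul_mem (by rwa [show t * (n * x * n⁻¹) * t⁻¹ = m * x * m⁻¹ by rw [hm]; group])
      (H.inv_mem hy), ?_⟩
    rw [mul_assoc t, mul_assoc t]
    exact T.mul_mem ht ((inferInstance : T.Normal).conj_mem _ (T.inv_mem ht) _)
  rw [hHT, mem_bot, mul_inv_eq_one] at h1
  rw [hm]
  conv_lhs => rw [← h1]
  group

section MinSimple

variable {G : Type*} [Group G] [Finite G] (hG : Cfsg.IsMinSimpleOddOrder G)
include hG

/-- In a minimal simple group of odd order the normaliser of a nilpotent Hall subgroup controls its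
fusion. -/
theorem exists_normalizer_conj {H : Subgroup G} (hHn : Group.IsNilpotent H)
    (hHall : (Nat.card H).Coprime H.index) {x g : G} (hx : x ∈ H) (hgx : g * x * g⁻¹ ∈ H) :
    ∃ n ∈ normalizer (H : Set G), n * x * n⁻¹ = g * x * g⁻¹ := by
  by_cases hx1 : x = 1
  · exact ⟨1, one_mem _, by subst hx1; group⟩
  by_cases hab : IsMulCommutative H
  · haveI := hab
    set y := g * x * g⁻¹ with hy
    set C := centralizer ({y} : Set G)
    have hCt : C ≠ ⊤ := centralizer_singleton_ne_top hG fun h => hx1 (by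
      have h' : x = g⁻¹ * y * g := by rw [hy]; group
      rw [h', h]; group)
    haveI := isSolvable_of_ne_top hG hCt
    have hHC : H ≤ C := fun a ha => mem_centralizer_singleton_iff.2 (setLike_mul_comm ha hgx)
    set H' := H.map (MulAut.conj g).toMonoidHom with hH'
    have hH'C : H' ≤ C := by
      rintro _ ⟨a, ha, rfl⟩
      refine mem_centralizer_singleton_iff.2 ?_
      show g * a * g⁻¹ * y = y * (g * a * g⁻¹)
      rw [hy]
      have h1 := setLike_mul_comm (s := H) ha hx
      calc g * a * g⁻¹ * (g * x * g⁻¹) = g * (a * x) * g⁻¹ := by group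
        _ = g * (x * a) * g⁻¹ := by rw [h1]
        _ = _ := by group
    set π : Set ℕ := {p | p.Prime ∧ p ∣ Nat.card H}
    have hπ : Cfsg.IsPiHall π (H.subgroupOf C) := by
      refine ⟨fun s hs hd => ⟨hs, ?_⟩, fun s hs hsπ hd => ?_⟩
      · rwa [Nat.card_congr (subgroupOfEquivOfLe hHC).toEquiv] at hd
      · exact hs.ne_one (Nat.eq_one_of_dvd_coprimes hHall hsπ.2
          (hd.trans (relIndex_dvd_index_of_le hHC)))
    obtain ⟨c, hc⟩ := Solvable.exists_conj_le_isPiHall hπ (K := H'.subgroupOf C) fun s hs hd => by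
      refine ⟨hs, ?_⟩
      rwa [Nat.card_congr (subgroupOfEquivOfLe hH'C).toEquiv, hH',
        card_map_of_injective (MulAut.conj g).injective] at hd
    refine ⟨(c : G) * g, mem_normalizer_of_map_le ?_, ?_⟩
    · rintro _ ⟨a, ha, rfl⟩
      have h1 := mem_subgroupOf.1 (hc (smul_mem_pointwise_smul _ _ _
        (mem_subgroupOf.2 (mem_map_of_mem _ ha) :
          (⟨MulAut.conj g a, hH'C (mem_map_of_mem _ ha)⟩ : C) ∈ H'.subgroupOf C)))
      simpa [mul_assoc] using h1
    · have h1 : (c : G) * y = y * c := mem_centralizer_singleton_iff.1 c.2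
      calc (c : G) * g * x * ((c : G) * g)⁻¹ = (c : G) * y * (c : G)⁻¹ := by rw [hy]; group
        _ = y := by rw [h1]; group
  suffices h : ∃ X : Subgroup G, X ≠ ⊤ ∧ H ≤ X ∧ ∃ m ∈ X, m * x * m⁻¹ = g * x * g⁻¹ by
    obtain ⟨X, hX, hHX, m, hm, he⟩ := h
    haveI := isSolvable_of_ne_top hG hX
    have hH' : (Nat.card (H.subgroupOf X)).Coprime (H.subgroupOf X).index := by
      rw [Nat.card_congr (subgroupOfEquivOfLe hHX).toEquiv]
      exact hHall.coprime_dvd_right (relIndex_dvd_index_of_le hHX)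
    obtain ⟨n, hn, hne⟩ := exists_normalizer_conj_of_solvable (H.subgroupOf X)
      (Group.nilpotent_of_mulEquiv (subgroupOfEquivOfLe hHX).symm) hH'
      (fun p hp => by haveI := Fact.mk hp; exact pLengthLE_proper hG p hX)
      (x := ⟨x, hHX hx⟩) (m := ⟨m, hm⟩) (mem_subgroupOf.2 hx)
      (mem_subgroupOf.2 (show m * x * m⁻¹ ∈ H from he ▸ hgx))
    refine ⟨n, ?_, (congrArg Subtype.val hne).trans he⟩
    have h1 := mem_map_of_mem X.subtype hn
    have h2 := le_normalizer_map (H := H.subgroupOf X) X.subtype h1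
    rwa [map_subgroupOf_eq_of_le hHX] at h2
  have hx1' : Subgroup.zpowers x ≠ ⊥ := fun h => hx1 (zpowers_eq_bot.1 h)
  -- a nonabelian Sylow subgroup `S` of `H`
  obtain ⟨p, hp, S₀, hS⟩ : ∃ p : ℕ, p.Prime ∧ ∃ S₀ : Sylow p H, ¬ IsMulCommutative (S₀ : Subgroup H) := by
    by_contra hcon
    push Not at hcon
    refine hab ⟨⟨fun a b => ?_⟩⟩
    suffices h : (centralizer ({b} : Set H)) = ⊤ from
      mem_centralizer_singleton_iff.1 (h ▸ mem_top a)
    refine eq_top_iff.2 fun a _ => ?_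
    refine CN.mem_of_pElem_pow fun s k hs hu => ?_
    haveI := Fact.mk hs
    refine mem_centralizer_singleton_iff.2 ?_
    suffices h : b ∈ centralizer ({a ^ k} : Set H) from (mem_centralizer_singleton_iff.1 h).symm
    refine CN.mem_of_pElem_pow fun t l ht hv => ?_
    haveI := Fact.mk ht
    refine mem_centralizer_singleton_iff.2 ?_
    by_cases hts : t = s
    · subst hts
      obtain ⟨T⟩ : Nonempty (Sylow t H) := inferInstance
      haveI : (T : Subgroup H).Normal :=
        ((Group.isNilpotent_of_finite_tfae (G := H)).out 0 3 rfl rfl).mp hHn t ‹_› T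
      haveI := hcon t hs T
      have hmem : ∀ u : H, CN.PElem t u → u ∈ (T : Subgroup H) := fun u hu => by
        obtain ⟨j, hj⟩ := hu
        obtain ⟨i, -, hi⟩ := (Nat.dvd_prime_pow hs).1 (orderOf_dvd_of_pow_eq_one hj)
        obtain ⟨R, hR⟩ := (IsPGroup.of_card (n := i) (by rw [Nat.card_zpowers, hi]) :
          IsPGroup t (zpowers u)).exists_le_sylow
        obtain ⟨c, hc⟩ := MulAction.exists_smul_eq H R T
        have h1 : (R : Subgroup H) = T := by
          have h2 := congrArg Sylow.toSubgroup hc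
          rw [Sylow.coe_subgroup_smul] at h2
          rw [← Normal.conj_smul_eq_self c⁻¹ (T : Subgroup H), ← h2, smul_smul, ← map_mul,
            inv_mul_cancel, map_one, one_smul]
        exact h1 ▸ hR (mem_zpowers u)
      exact setLike_mul_comm (hmem _ hv) (hmem _ hu)
    · exact CN.commute_of_nilpotent (G := H) (N := ⊤) hts inferInstance (mem_top _) (mem_top _)
        hv hu
  haveI := Fact.mk hp
  set S := (S₀ : Subgroup H).map H.subtype with hS'
  have hSH : S ≤ H := map_subtype_le _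
  have hSp : IsPGroup p S := S₀.2.map _
  have hSna : ¬ IsMulCommutative S := fun h => hS ⟨⟨fun a b => Subtype.ext (Subtype.ext
    (setLike_mul_comm (s := S) (mem_map_of_mem H.subtype a.2) (mem_map_of_mem H.subtype b.2)))⟩⟩
  have hSU := nonabelian_inUniqueMaximal hG hSp hSna
  obtain ⟨M, ⟨hM, hSM⟩, huniq⟩ := hSU
  have hle : ∀ K : Subgroup G, K ≠ ⊤ → S ≤ K → K ≤ M := fun K hK hSK =>
    le_of_inUniqueMaximal ⟨M, ⟨hM, hSM⟩, huniq⟩ hM hSM hK hSK
  have hS1 : S ≠ ⊥ := fun h => hSna (h ▸ inferInstance)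
  have hHN : ∀ (q : ℕ) [Fact q.Prime] (Q : Sylow q H),
      H ≤ normalizer ((Q : Subgroup H).map H.subtype : Set G) := by
    intro q _ Q
    haveI : (Q : Subgroup H).Normal :=
      ((Group.isNilpotent_of_finite_tfae (G := H)).out 0 3 rfl rfl).mp hHn q ‹_› Q
    refine le_trans (le_of_eq ?_) (le_normalizer_map (H := (Q : Subgroup H)) H.subtype)
    rw [normalizer_eq_top, ← MonoidHom.range_eq_map, range_subtype]
  have hHM : H ≤ M := (hHN p S₀).trans (hle _ (normalizer_ne_top hG hS1 (isPGroup_ne_top hG hSp))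
    le_normalizer)
  have hmax : ∀ (q : ℕ) [Fact q.Prime] (Q : Sylow q H), q ∣ Nat.card H →
      IsMaxPIn q ⊤ ((Q : Subgroup H).map H.subtype) := by
    intro q _ Q hq
    refine ⟨le_top, Q.2.map _, fun R hR hle' _ => (eq_of_le_of_card_ge hle' ?_).symm⟩
    obtain ⟨i, hi⟩ := hR.exists_card_eq
    rw [card_map_of_injective H.subtype_injective, Q.card_eq_multiplicity, hi]
    refine Nat.pow_le_pow_right (Fact.out : q.Prime).pos
      (((Fact.out : q.Prime).pow_dvd_iff_le_factorization Nat.card_pos.ne').1 ?_)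
    have h1 : q ^ i ∣ Nat.card H * H.index := by
      rw [card_mul_index, ← hi]; exact card_subgroup_dvd_card R
    refine (Nat.Coprime.dvd_mul_right ?_).1 h1
    exact ((Fact.out : q.Prime).coprime_iff_not_dvd.2 fun hd =>
      (Fact.out : q.Prime).ne_one (Nat.eq_one_of_dvd_coprimes hHall hq hd)).pow_left i
  have hσ : ∀ q : ℕ, q.Prime → q ∣ Nat.card H → q ∈ Cfsg.sigma M := by
    intro q hq hd
    haveI := Fact.mk hq
    obtain ⟨Q⟩ : Nonempty (Sylow q H) := inferInstance
    set Q' := (Q : Subgroup H).map H.subtype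
    have hQ'M : Q' ≤ M := (map_subtype_le _).trans hHM
    obtain ⟨R, hR⟩ := ((hmax q Q hd).of_le le_top hQ'M).exists_sylow
    have hQ1 : Q' ≠ ⊥ := fun h => Q.ne_bot_of_dvd_card hd (by
      rwa [map_eq_bot_iff_of_injective _ H.subtype_injective] at h)
    refine ⟨hq, hd.trans (card_dvd_of_le hHM), R, ?_⟩
    rw [hR]
    exact hle _ (normalizer_ne_top hG hQ1 (isPGroup_ne_top hG (Q.2.map _)))
      (hSH.trans (hHN q Q))
  refine ⟨M, hM.1, hHM, ?_⟩
  by_cases hxp : ∀ q : ℕ, q.Prime → q ∣ orderOf x → q = p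
  · have hpd : p ∣ Nat.card H := by
      obtain ⟨q, hq, hqd⟩ := Nat.exists_prime_and_dvd (n := orderOf x)
        (mt orderOf_eq_one_iff.1 hx1)
      exact hxp q hq hqd ▸ hqd.trans (orderOf_dvd_card_of_mem hx)
    have hxP : IsPGroup p (zpowers x) := IsPGroup.of_card (n := (orderOf x).primeFactorsList.length) (by
      rw [Nat.card_zpowers]
      exact Nat.eq_prime_pow_of_unique_prime_dvd (orderOf_pos x).ne' fun {d} hd hdd => hxp d hd hdd)
    obtain ⟨m, hm, c, hc, rfl⟩ := exists_eq_mul_centralizer hG hM (hσ p hp hpd) hxP hx1'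
      (zpowers_le.2 (hHM hx)) (g := g) (by
        rw [MonoidHom.map_zpowers, zpowers_le]; exact hHM hgx)
    refine ⟨m, hm, ?_⟩
    have h1 : c * x = x * c := (hc x (mem_zpowers x)).symm
    calc m * x * m⁻¹ = m * (c * x * c⁻¹) * m⁻¹ := by rw [h1]; group
      _ = _ := by group
  · push Not at hxp
    obtain ⟨q, hq, hqd, hqp⟩ := hxp
    haveI := Fact.mk hq
    set y := x ^ (orderOf x / q) with hy
    have hyo : orderOf y = q := orderOf_pow_orderOf_div (orderOf_pos x).ne' hqd
    have hyH : y ∈ H := pow_mem hx _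
    have hy1 : y ≠ 1 := fun h => hq.ne_one (by rw [← hyo, h, orderOf_one])
    have hyP : IsPGroup q (zpowers y) :=
      IsPGroup.of_card (n := 1) (by rw [Nat.card_zpowers, hyo, pow_one])
    have hC : centralizer (zpowers y : Set G) ≤ M := by
      refine hle _ (centralizer_ne_top hG (fun h => hy1 (zpowers_eq_bot.1 h))) fun w hw z hz => ?_
      obtain ⟨i, rfl⟩ := mem_zpowers_iff.1 hz
      exact ((show Commute y w from CN.commute_of_nilpotent hqp hHn hyH (hSH hw)
        (CN.pElem_of_orderOf_eq hyo) (CN.pElem_of_mem hSp hw)).zpow_left i).eq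
    obtain ⟨m, hm, c, hc, rfl⟩ := exists_eq_mul_centralizer hG hM
      (hσ q hq (hqd.trans (orderOf_dvd_card_of_mem hx))) hyP
      (fun h => hy1 (zpowers_eq_bot.1 h)) (zpowers_le.2 (hHM hyH)) (g := g) (by
        rw [MonoidHom.map_zpowers, zpowers_le]
        show g * y * g⁻¹ ∈ M
        rw [hy, ← conj_pow]
        exact hHM (pow_mem hgx _))
    exact ⟨m * c, mul_mem hm (hC hc), rfl⟩

end MinSimple

end CfsgLib.OddOrder
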