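import Cfsg.Agent.Lib.Linear.SL2
import Mathlib.GroupTheory.SchurZassenhaus

/-!
Finite subgroups of odd order of `GL₂` in characteristic `p`: if `p` divides the order then there is
an invariant line. The proof counts elements in the centralisers, without solvability.
-/

set_option autoImplicit false

open scoped commutatorElement

namespace CfsgLib.OddOrder

section Counting

variable {H : Type*} [Group H] [Finite H]

theorem ncard_conj_set (C N : Subgroup H) (hN : ∀ n ∈ N, ∀ y ∈ C, n * y * n⁻¹ ∈ C)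
    (hti : ∀ g : H, ∀ y ∈ C, y ≠ 1 → g * y * g⁻¹ ∈ C → g ∈ N) :
    {z : H | ∃ g : H, ∃ y ∈ C, y ≠ 1 ∧ g * y * g⁻¹ = z}.ncard = N.index * (Nat.card C - 1) := by
  classical
  set S : Set H := {y | y ∈ C ∧ y ≠ 1}
  have hS : Nat.card S = Nat.card C - 1 := by
    rw [Nat.card_coe_set_eq, show S = (C : Set H) \ {1} by ext y; simp [S],
      Set.ncard_diff_singleton_of_mem (one_mem C)]
    rfl
  let f : (H ⧸ N) × S → {z : H | ∃ g : H, ∃ y ∈ C, y ≠ 1 ∧ g * y * g⁻¹ = z} :=
    fun x => ⟨x.1.out * x.2 * x.1.out⁻¹, x.1.out, x.2, x.2.2.1, x.2.2.2, rfl⟩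
  have hf : Function.Bijective f := by
    constructor
    · rintro ⟨q, y, hyC, hy1⟩ ⟨q', y', hyC', hy1'⟩ h
      have h' : q.out * y * q.out⁻¹ = q'.out * y' * q'.out⁻¹ := congrArg Subtype.val h
      have hk : (q.out⁻¹ * q'.out) * y' * (q.out⁻¹ * q'.out)⁻¹ = y := by
        calc _ = q.out⁻¹ * (q'.out * y' * q'.out⁻¹) * q.out := by group
          _ = y := by rw [← h']; group
      have hkN := hti _ y' hyC' hy1' (by rw [hk]; exact hyC)
      have hq : q = q' := by
        rw [← Quotient.out_eq q, ← Quotient.out_eq q']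
        exact QuotientGroup.eq.mpr hkN
      subst hq
      simp only [inv_mul_cancel, one_mul, inv_one, mul_one] at hk
      subst hk
      rfl
    · rintro ⟨z, g, y, hy, hy1, rfl⟩
      obtain ⟨n, hn⟩ := QuotientGroup.mk_out_eq_mul N g
      refine ⟨(⟦g⟧, ⟨(n : H)⁻¹ * y * n, ?_, ?_⟩), Subtype.ext ?_⟩
      · simpa using hN _ (inv_mem n.2) y hy
      · intro h
        apply hy1
        calc y = (n : H) * ((n : H)⁻¹ * y * n) * (n : H)⁻¹ := by group
          _ = 1 := by rw [h]; group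
      · show (QuotientGroup.mk g : H ⧸ N).out * ((n : H)⁻¹ * y * n) *
          (QuotientGroup.mk g : H ⧸ N).out⁻¹ = g * y * g⁻¹
        rw [hn]; group
  rw [← Nat.card_coe_set_eq, ← Nat.card_congr (Equiv.ofBijective f hf), Nat.card_prod, hS]
  rfl

variable {p : ℕ} [Fact p.Prime]

/-- A counting criterion for the normality of a Sylow `p`-subgroup in an odd-order group with
abelian centralisers. -/
theorem sylow_normal_of_abelian_centralizers (hodd : Odd (Nat.card H))
    (hcomm : ∀ x : H, x ≠ 1 → ∀ y z : H, Commute y x → Commute z x → Commute y z)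
    (hss : ∀ x g : H, x ^ p ≠ 1 → Commute (g * x * g⁻¹) x → Commute g x)
    (huni : ∀ x y : H, x ≠ 1 → x ^ p = 1 → Commute y x → y ^ p = 1)
    (hab : ∀ x g g' : H, x ≠ 1 → x ^ p = 1 → Commute (g * x * g⁻¹) x → Commute (g' * x * g'⁻¹) x →
      Commute ⁅g, g'⁆ x)
    (P : Sylow p H) : (P : Subgroup H).Normal := by
  classical
  have hp : p.Prime := Fact.out
  by_cases hall : ∀ z : H, z ^ p = 1
  · have htop : (P : Subgroup H) = ⊤ := by
      have hH : IsPGroup p (⊤ : Subgroup H) :=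
        fun z => ⟨1, Subtype.ext (by simpa using hall z)⟩
      exact (P.3 hH le_top).symm
    rw [htop]; infer_instance
  push Not at hall
  obtain ⟨x₀, hx₀⟩ := hall
  by_cases hP1 : (P : Subgroup H) = ⊥
  · rw [hP1]; infer_instance
  haveI : Nontrivial (P : Subgroup H) := (Subgroup.nontrivial_iff_ne_bot _).mpr hP1
  haveI hZ : Nontrivial (Subgroup.center (P : Subgroup H)) := P.2.center_nontrivial
  obtain ⟨⟨v, hv⟩, hv1⟩ := exists_ne (1 : Subgroup.center (P : Subgroup H))
  obtain ⟨n₀, hn₀⟩ := IsPGroup.iff_orderOf.mp P.2 v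
  have hn₀1 : n₀ ≠ 0 := by
    rintro rfl
    rw [pow_zero, orderOf_eq_one_iff] at hn₀
    exact hv1 (Subtype.ext hn₀)
  obtain ⟨m, rfl⟩ := Nat.exists_eq_succ_of_ne_zero hn₀1
  set u : H := (v : H) ^ p ^ m with hu
  have hup : u ^ p = 1 := by
    rw [hu, ← pow_mul, ← pow_succ, ← hn₀, ← Subgroup.orderOf_coe, pow_orderOf_eq_one]
  have hu1 : u ≠ 1 := by
    intro h
    have h' := orderOf_dvd_of_pow_eq_one h
    rw [Subgroup.orderOf_coe, hn₀] at h'
    exact absurd (Nat.le_of_dvd (pow_pos hp.pos _) h')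
      (not_le.mpr (Nat.pow_lt_pow_right hp.one_lt (Nat.lt_succ_self m)))
  have huP : u ∈ (P : Subgroup H) := pow_mem v.2 _
  -- the centraliser of `x`
  let C : H → Subgroup H := fun x => Subgroup.centralizer {x}
  have memC : ∀ x y, y ∈ C x ↔ Commute y x := fun x y =>
    ⟨fun h => (Subgroup.mem_centralizer_iff.mp h x rfl).symm,
     fun h => Subgroup.mem_centralizer_iff.mpr fun z hz => by rw [hz]; exact h.eq.symm⟩
  have hPC : ∀ y, y ∈ (P : Subgroup H) ↔ Commute y u := by
    have h1 : (P : Subgroup H) ≤ C u := fun y hy => (memC u y).mpr (by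
      have := Subgroup.mem_center_iff.mp hv ⟨y, hy⟩
      exact (show Commute y (v : H) from congrArg Subtype.val this).pow_right _)
    have h2 : IsPGroup p (C u) := fun z =>
      ⟨1, Subtype.ext (by simpa using huni u z hu1 hup ((memC u z).mp z.2))⟩
    intro y
    rw [← P.3 h2 h1, memC]
  have hcong : ∀ x y : H, x ≠ 1 → y ≠ 1 → Commute y x → ∀ z, (Commute z x ↔ Commute z y) :=
    fun x y hx hy h z => ⟨fun hz => hcomm x hx z y hz h, fun hz => hcomm y hy z x hz h.symm⟩
  have hconj1 : ∀ g y : H, y ≠ 1 → g * y * g⁻¹ ≠ 1 := by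
    intro g y hy h; exact hy (conj_eq_one_iff.mp h)
  -- p-elements
  set N := Subgroup.normalizer ((P : Subgroup H) : Set H) with hN
  have hPti : ∀ g : H, ∀ y ∈ (P : Subgroup H), y ≠ 1 → g * y * g⁻¹ ∈ (P : Subgroup H) → g ∈ N := by
    intro g y hy hy1 hgy
    rw [hN, Subgroup.mem_normalizer_iff]
    intro z
    rw [hPC, hPC, hcong u y hu1 hy1 ((hPC y).mp hy), hcong u _ hu1 (hconj1 g y hy1) ((hPC _).mp hgy)]
    exact ⟨fun h => h.map (MulAut.conj g).toMonoidHom, fun h => by
      have := h.map (MulAut.conj g⁻¹).toMonoidHom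
      simpa [mul_assoc] using this⟩
  have hΩP : {z : H | z ^ p = 1 ∧ z ≠ 1}.ncard = N.index * (Nat.card (P : Subgroup H) - 1) := by
    rw [← ncard_conj_set (P : Subgroup H) N
      (fun n hn y hy => (Subgroup.mem_normalizer_iff.mp hn y).mp hy) hPti]
    congr 1
    ext z
    constructor
    · rintro ⟨hz, hz1⟩
      have hzp : IsPGroup p (Subgroup.zpowers z) := by
        rintro ⟨w, k, rfl⟩
        refine ⟨1, Subtype.ext ?_⟩
        simp only [pow_one, SubgroupClass.coe_pow, OneMemClass.coe_one]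
        rw [← zpow_natCast, ← zpow_mul, mul_comm k, zpow_mul, zpow_natCast, hz, one_zpow]
      obtain ⟨Q, hQ⟩ := hzp.exists_le_sylow
      obtain ⟨g, hg⟩ := MulAction.exists_smul_eq H P Q
      have hzQ := hQ (Subgroup.mem_zpowers z)
      rw [← hg, Sylow.coe_subgroup_smul, Subgroup.mem_smul_pointwise_iff_exists] at hzQ
      obtain ⟨y, hy, rfl⟩ := hzQ
      refine ⟨g, y, hy, ?_, rfl⟩
      rintro rfl
      simp at hz1
    · rintro ⟨g, y, hy, hy1, rfl⟩
      refine ⟨?_, hconj1 g y hy1⟩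
      rw [conj_pow, huni u y hu1 hup ((hPC y).mp hy)]
      simp
  -- semisimple elements
  have hxne : ∀ x : H, x ^ p ≠ 1 → x ≠ 1 := fun x hx h => hx (by rw [h, one_pow])
  have hΩ : ∀ x, x ^ p ≠ 1 → {z : H | ∃ g, ∃ y ∈ C x, y ≠ 1 ∧ g * y * g⁻¹ = z}.ncard =
      (C x).index * (Nat.card (C x) - 1) := by
    intro x hx
    refine ncard_conj_set _ _ (fun n hn y hy => mul_mem (mul_mem hn hy) (inv_mem hn)) ?_
    intro g y hy hy1 hgy
    rw [memC] at hy hgy ⊢
    apply hss x g hx
    rw [hcong x _ (hxne x hx) (hconj1 g y hy1) hgy]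
    exact (hy.symm).map (MulAut.conj g).toMonoidHom
  have hoddC : ∀ x, x ^ p ≠ 1 → 3 ≤ Nat.card (C x) := by
    intro x hx
    have h2 : 1 < Nat.card (C x) := by
      rw [Subgroup.one_lt_card_iff_ne_bot]
      intro h
      exact hxne x hx (Subgroup.mem_bot.mp (h ▸ (memC x x).mpr (Commute.refl x)))
    obtain ⟨r, hr⟩ := hodd.of_dvd_nat (Subgroup.card_subgroup_dvd_card (C x))
    omega
  have hdisj : ∀ x, x ^ p ≠ 1 →
      Disjoint {z : H | ∃ g, ∃ y ∈ C x, y ≠ 1 ∧ g * y * g⁻¹ = z} {z : H | z ^ p = 1 ∧ z ≠ 1} := by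
    intro x hx
    rw [Set.disjoint_left]
    rintro z ⟨g, y, hy, hy1, rfl⟩ ⟨hzp, -⟩
    rw [conj_pow, mul_inv_eq_one, mul_eq_left] at hzp
    exact hx (huni y x hy1 hzp ((memC x y).mp hy).symm)
  -- the complement of `P` in its normaliser
  obtain ⟨K, hK⟩ := Subgroup.exists_right_complement'_of_coprime
    (N := (P : Subgroup H).subgroupOf N) (by
      obtain ⟨e, he⟩ := IsPGroup.iff_card.mp
        (IsPGroup.comap_of_injective P.2 N.subtype N.subtype_injective)
      rw [show Nat.card ((P : Subgroup H).subgroupOf N) = p ^ e from he]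
      refine Nat.Coprime.pow_left _ (hp.coprime_iff_not_dvd.mpr ?_)
      exact (P.subtype Subgroup.le_normalizer).not_dvd_index)
  set k := Nat.card K with hkdef
  have hPN : Nat.card N = Nat.card (P : Subgroup H) * k := by
    rw [← hK.card_mul, Nat.card_congr (Subgroup.subgroupOfEquivOfLe Subgroup.le_normalizer).toEquiv]
  have hKcomm : ∀ g g' : N, g ∈ K → g' ∈ K → Commute g g' := by
    intro g g' hg hg'
    rw [← commutatorElement_eq_one_iff_commute]
    refine Subgroup.disjoint_def.mp hK.disjoint ?_ (by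
      rw [commutatorElement_def]
      exact mul_mem (mul_mem (mul_mem hg hg') (inv_mem hg)) (inv_mem hg'))
    rw [Subgroup.mem_subgroupOf, ← Subgroup.coe_subtype, map_commutatorElement N.subtype g g', hPC]
    exact hab u g g' hu1 hup ((hPC _).mp ((Subgroup.mem_normalizer_iff.mp g.2 u).mp huP))
      ((hPC _).mp ((Subgroup.mem_normalizer_iff.mp g'.2 u).mp huP))
  have hKss : ∀ g : N, g ∈ K → g ≠ 1 → (g : H) ^ p ≠ 1 := by
    intro g hg hg1 hgp
    have hord : orderOf (g : H) = p :=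
      orderOf_eq_prime hgp (fun h => hg1 (Subtype.ext h))
    have hdvd : p ∣ k := by
      rw [← hord, Subgroup.orderOf_coe]
      exact Subgroup.orderOf_dvd_natCard K hg
    refine (P.subtype (Subgroup.le_normalizer (H := (P : Subgroup H)))).not_dvd_index ?_
    rwa [Sylow.coe_subtype, ← hK.card_right]
  obtain ⟨x, hx, hkdvd⟩ : ∃ x : H, x ^ p ≠ 1 ∧ k ∣ Nat.card (C x) := by
    by_cases hK1 : K = ⊥
    · exact ⟨x₀, hx₀, by rw [hkdef, hK1, Subgroup.card_bot]; exact one_dvd _⟩
    obtain ⟨g, hg, hg1⟩ := (K.bot_or_exists_ne_one).resolve_left hK1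
    refine ⟨g, hKss g hg hg1, ?_⟩
    have hle : K.map N.subtype ≤ C g := by
      rintro _ ⟨g', hg', rfl⟩
      exact (memC _ _).mpr ((hKcomm g' g hg' hg).map N.subtype)
    rw [hkdef, ← Subgroup.card_map_of_injective (K := K) N.subtype_injective]
    exact Subgroup.card_dvd_of_le hle
  set Ω := {z : H | ∃ g, ∃ y ∈ C x, y ≠ 1 ∧ g * y * g⁻¹ = z} with hΩdef
  set A := (C x).index
  set a := Nat.card (C x)
  have hAa : A * a = Nat.card H := (C x).index_mul_card
  have hall' : ∀ z : H, z ^ p ≠ 1 → z ∈ Ω := by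
    intro z hz
    by_contra hzΩ
    set Ω' := {w : H | ∃ g, ∃ y ∈ C z, y ≠ 1 ∧ g * y * g⁻¹ = w}
    have hd : Disjoint Ω Ω' := by
      rw [Set.disjoint_left]
      rintro w ⟨g, y, hy, hy1, rfl⟩ ⟨g', y', hy', hy1', he⟩
      rw [memC] at hy hy'
      apply hzΩ
      refine ⟨g'⁻¹ * g, (g'⁻¹ * g)⁻¹ * z * (g'⁻¹ * g), ?_, ?_, by group⟩
      · rw [memC, hcong x y (hxne x hx) hy1 hy]
        have h1 := hy'.symm.map (MulAut.conj (g'⁻¹ * g)⁻¹).toMonoidHom
        have hy'' : (g'⁻¹ * g)⁻¹ * y' * (g'⁻¹ * g) = y := by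
          calc _ = g⁻¹ * (g' * y' * g'⁻¹) * g := by group
            _ = y := by rw [he]; group
        simp only [MulEquiv.coe_toMonoidHom, MulAut.conj_apply, inv_inv] at h1
        rwa [hy''] at h1
      · intro h
        apply hxne z hz
        calc z = (g'⁻¹ * g) * ((g'⁻¹ * g)⁻¹ * z * (g'⁻¹ * g)) * (g'⁻¹ * g)⁻¹ := by group
          _ = 1 := by rw [h]; group
    have h1 : Ω.ncard + Ω'.ncard ≤ Nat.card H := by
      rw [← Set.ncard_union_eq hd, ← Set.ncard_univ]
      exact Set.ncard_le_ncard (Set.subset_univ _)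
    rw [hΩdef, hΩ x hx, hΩ z hz] at h1
    change A * (a - 1) + _ ≤ _ at h1
    have e1 := hAa
    have e2 := (C z).index_mul_card
    have b1 := hoddC x hx
    have b2 := hoddC z hz
    have b3 : 0 < Nat.card H := Nat.card_pos
    rw [Nat.mul_sub_one, Nat.mul_sub_one] at h1
    have c1 : A * 3 ≤ A * a := Nat.mul_le_mul_left _ b1
    have c2 : (C z).index * 3 ≤ (C z).index * Nat.card (C z) := Nat.mul_le_mul_left _ b2
    omega
  have htot : Nat.card H = 1 + A * (a - 1) + N.index * (Nat.card (P : Subgroup H) - 1) := by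
    rw [← hΩ x hx, ← hΩP, ← Set.ncard_univ, ← Set.ncard_singleton (1 : H),
      ← Set.ncard_union_eq, ← Set.ncard_union_eq]
    · congr 1
      ext z
      simp only [Set.mem_univ, Set.mem_union, Set.mem_singleton_iff, Set.mem_setOf_eq, true_iff]
      by_cases hz : z ^ p = 1
      · by_cases hz1 : z = 1
        · exact Or.inl (Or.inl hz1)
        · exact Or.inr ⟨hz, hz1⟩
      · exact Or.inl (Or.inr (hall' z hz))
    · rw [Set.disjoint_union_left, Set.disjoint_singleton_left]
      exact ⟨fun h => h.2 rfl, hdisj x hx⟩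
    · rw [Set.disjoint_singleton_left]
      rintro ⟨g, y, hy, hy1, he⟩
      exact hconj1 g y hy1 he
  -- arithmetic
  obtain ⟨t, ht⟩ := hkdvd
  have ht' : a = k * t := ht
  have hBn : N.index * Nat.card N = Nat.card H := N.index_mul_card
  rw [← Subgroup.normalizer_eq_top_iff, ← hN, ← Subgroup.index_eq_one]
  set B := N.index
  set U := Nat.card (P : Subgroup H)
  have hU : 3 ≤ U := by
    have h1 : 1 < U := Finite.one_lt_card
    obtain ⟨r, hr⟩ := hodd.of_dvd_nat (Subgroup.card_subgroup_dvd_card (P : Subgroup H))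
    change U = 2 * r + 1 at hr
    omega
  have hk0 : 0 < k := Nat.card_pos
  have hB0 : 0 < B := Nat.pos_of_ne_zero Subgroup.index_ne_zero_of_finite
  have htodd : Odd t := (hodd.of_dvd_nat (Subgroup.card_subgroup_dvd_card (C x))).of_dvd_nat
    ⟨k, by rw [mul_comm]; exact ht'⟩
  rw [hPN] at hBn
  have h1 : A = 1 + B * (U - 1) := by
    have hA1 : A ≤ A * a := Nat.le_mul_of_pos_right _ (by have := hoddC x hx; omega)
    rw [Nat.mul_sub_one, Nat.mul_sub_one, ← hAa] at htot
    rw [Nat.mul_sub_one]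
    have hU1 : B ≤ B * U := Nat.le_mul_of_pos_right _ (by omega)
    omega
  have h2 : A * t = B * U := by
    have : (A * t) * k = (B * U) * k := by
      calc _ = A * (k * t) := by ring
        _ = Nat.card H := by rw [← ht', hAa]
        _ = _ := by rw [← hBn]; ring
    exact Nat.eq_of_mul_eq_mul_right hk0 this
  rcases eq_or_ne t 1 with h | h
  · subst h
    rw [mul_one, h1, Nat.mul_sub_one] at h2
    have hU1 : B ≤ B * U := Nat.le_mul_of_pos_right _ (by omega)
    omega
  · exfalso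
    have ht3 : 3 ≤ t := by obtain ⟨r, hr⟩ := htodd; omega
    have h4 : A * 3 ≤ B * U := h2 ▸ Nat.mul_le_mul_left A ht3
    have hU1 : B * 3 ≤ B * U := Nat.mul_le_mul_left _ hU
    rw [h1, Nat.mul_sub_one] at h4
    omega

end Counting

section SL2

open Matrix
open scoped MatrixGroups

variable {F : Type*} [Field F] {p : ℕ} [Fact p.Prime] [CharP F p]

theorem not_scalar_of_odd {x : SL(2, F)} {m : ℕ} (hm : Odd m) (hxm : x ^ m = 1) (hx : x ≠ 1) :
    x.1 0 1 ≠ 0 ∨ x.1 1 0 ≠ 0 ∨ x.1 0 0 ≠ x.1 1 1 := by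
  by_contra! hc
  obtain ⟨h1, h2, h3⟩ := hc
  have hd := CfsgLib.Linear.SL2_det_eq x
  have hsq : x * x = 1 := by
    apply Subtype.ext
    ext i j
    fin_cases i <;> fin_cases j <;>
      simp [CfsgLib.Linear.SL2_mul_apply, h1, h2, h3] <;>
      linear_combination hd - x.1 1 1 * h3 + x.1 1 0 * h1
  obtain ⟨r, rfl⟩ := hm
  rw [pow_succ, pow_mul, pow_two, hsq, one_pow, one_mul] at hxm
  exact hx hxm

/-- In characteristic `p` an element of `SL₂` has order dividing `p` iff its trace is two. -/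
theorem pow_prime_eq_one_iff_trace (x : SL(2, F)) :
    x ^ p = 1 ↔ x.1 0 0 + x.1 1 1 = 2 := by
  have hd := CfsgLib.Linear.SL2_det_eq x
  have hcomm : Commute x.1 (1 : Matrix (Fin 2) (Fin 2) F) := Commute.one_right _
  have hpow : (x.1 - 1) ^ p = (x ^ p).1 - 1 := by
    rw [sub_pow_char_of_commute (R := Matrix (Fin 2) (Fin 2) F) p hcomm, one_pow,
      Matrix.SpecialLinearGroup.coe_pow]
  constructor
  · intro h
    rw [h, Matrix.SpecialLinearGroup.coe_one, sub_self] at hpow
    have h0 := congrArg Matrix.det hpow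
    rw [det_pow, det_zero] at h0
    have h1 := eq_zero_of_pow_eq_zero h0
    simp [det_fin_two] at h1
    linear_combination -h1 + hd
  · intro h
    have hsq : (x.1 - 1) * (x.1 - 1) = 0 := by
      ext i j
      fin_cases i <;> fin_cases j <;>
        simp [mul_apply, Fin.sum_univ_two] <;>
        first
          | linear_combination (x.1 0 0) * h - hd
          | linear_combination (x.1 1 1) * h - hd
          | linear_combination (x.1 0 1) * h
          | linear_combination (x.1 1 0) * h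
    have h0 : (x.1 - 1) ^ p = 0 := by
      obtain ⟨r, hr⟩ := Nat.exists_eq_add_of_le (Fact.out : p.Prime).two_le
      rw [hr, pow_add, pow_two, hsq, zero_mul]
    rw [h0] at hpow
    apply Subtype.ext
    rw [Matrix.SpecialLinearGroup.coe_one]
    exact sub_eq_zero.mp hpow.symm

theorem sylow_normal_SL2 (hp : p ≠ 2) (H : Subgroup SL(2, F)) [Finite H] (hodd : Odd (Nat.card H))
    (P : Sylow p H) : (P : Subgroup H).Normal := by
  have h2 : (2 : F) ≠ 0 := by
    intro h
    rw [show (2 : F) = ((2 : ℕ) : F) by norm_num, CharP.cast_eq_zero_iff F p] at h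
    exact hp ((Nat.prime_dvd_prime_iff_eq Fact.out Nat.prime_two).mp h)
  have hns : ∀ x : H, x ≠ 1 → (x : SL(2, F)).1 0 1 ≠ 0 ∨ (x : SL(2, F)).1 1 0 ≠ 0 ∨
      (x : SL(2, F)).1 0 0 ≠ (x : SL(2, F)).1 1 1 := fun x hx =>
    not_scalar_of_odd hodd (by rw [← Subgroup.coe_pow, pow_card_eq_one']; rfl)
      (fun h => hx (Subtype.ext h))
  have hm1 : ∀ y : H, (y : SL(2, F)).1 0 0 + (y : SL(2, F)).1 1 1 ≠ -2 := by
    intro y hy
    have hd := CfsgLib.Linear.SL2_det_eq (y : SL(2, F))
    have hyp : (-(y : SL(2, F))) ^ p = 1 := by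
      rw [pow_prime_eq_one_iff_trace (p := p)]
      simp
      linear_combination -hy
    rw [((Fact.out : p.Prime).odd_of_ne_two hp).neg_pow, neg_eq_iff_eq_neg] at hyp
    have h1 : (y ^ p : H) ^ Nat.card H = 1 := pow_card_eq_one'
    have h3 := congrArg (fun z : H => (z : SL(2, F))) h1
    simp only [Subgroup.coe_pow, hyp, hodd.neg_pow, one_pow, OneMemClass.coe_one] at h3
    have h4 : (-1 : SL(2, F)).1 0 0 = (1 : SL(2, F)).1 0 0 := by rw [h3]
    simp at h4
    exact h2 (by linear_combination -h4)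
  have hlin : ∀ x y : H, x ≠ 1 → Commute y x → ∃ a b : F,
      (y : SL(2, F)).1 = a • (1 : Matrix (Fin 2) (Fin 2) F) + b • (x : SL(2, F)).1 :=
    fun x y hx h => CfsgLib.Linear.exists_eq_smul_one_add_of_commute (hns x hx)
      (congrArg Subtype.val h.eq)
  have hcomm : ∀ x : H, x ≠ 1 → ∀ y z : H, Commute y x → Commute z x → Commute y z := by
    intro x hx y z hy hz
    obtain ⟨a, b, hab⟩ := hlin x y hx hy
    obtain ⟨c, d, hcd⟩ := hlin x z hx hz
    apply Subtype.ext
    apply Subtype.ext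
    show (y : SL(2, F)).1 * (z : SL(2, F)).1 = (z : SL(2, F)).1 * (y : SL(2, F)).1
    rw [hab, hcd]
    simp only [add_mul, mul_add, smul_mul_assoc, mul_smul_comm, one_mul, mul_one, smul_smul]
    module
  refine sylow_normal_of_abelian_centralizers hodd hcomm ?_ ?_ ?_ P
  · intro x g hx hg
    have hx1 : x ≠ 1 := fun h => hx (by rw [h, one_pow])
    obtain ⟨a, b, hab⟩ := hlin x (g * x * g⁻¹) hx1 hg
    set X := (x : SL(2, F)).1 with hX
    have hxt : X 0 0 + X 1 1 ≠ 2 := by
      rw [Ne, hX, ← pow_prime_eq_one_iff_trace (p := p)]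
      intro h
      exact hx (Subtype.ext (by simpa using h))
    have hd := CfsgLib.Linear.SL2_det_eq (x : SL(2, F))
    have hd' := CfsgLib.Linear.SL2_det_eq ((g * x * g⁻¹ : H) : SL(2, F))
    have htr : ((g * x * g⁻¹ : H) : SL(2, F)).1.trace = X.trace := by
      show ((g : SL(2, F)).1 * X * ((g⁻¹ : H) : SL(2, F)).1).trace = _
      rw [Matrix.trace_mul_comm, ← mul_assoc]
      have : ((g⁻¹ : H) : SL(2, F)).1 * (g : SL(2, F)).1 = 1 :=
        congrArg (fun z : H => (z : SL(2, F)).1) (inv_mul_cancel g)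
      rw [this, one_mul]
    rw [hab] at hd' htr
    simp [trace_fin_two] at hd' htr
    rw [← hX] at hd
    have hb : b = 1 ∨ b = -1 := by
      set t := X 0 0 + X 1 1 with ht
      have h0 : (1 - b * b) * ((t - 2) * (t + 2)) = 0 := by
        have ha : 2 * a = t * (1 - b) := by linear_combination htr
        have hq : a * a + a * b * t + b * b = 1 := by linear_combination hd' - b * b * hd
        linear_combination 4 * hq - (2 * a + t * (1 - b) + 2 * b * t) * ha
      have hne : (t - 2) * (t + 2) ≠ 0 :=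
        mul_ne_zero (sub_ne_zero.mpr hxt) (fun h => hm1 x (eq_neg_of_add_eq_zero_left h))
      have hb2 : b * b = 1 := (sub_eq_zero.mp ((mul_eq_zero.mp h0).resolve_right hne)).symm
      exact sq_eq_one_iff.mp (by rw [sq]; exact hb2)
    have hsq : Commute (g ^ 2) x := by
      have key : g ^ 2 * x * (g ^ 2)⁻¹ = x := by
        apply Subtype.ext
        apply Subtype.ext
        have hgm : ∀ z : H, (((g * z * g⁻¹ : H)) : SL(2, F)).1 =
            (g : SL(2, F)).1 * (z : SL(2, F)).1 * ((g⁻¹ : H) : SL(2, F)).1 := fun z => rfl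
        have hgi : (g : SL(2, F)).1 * ((g⁻¹ : H) : SL(2, F)).1 = 1 :=
          congrArg (fun z : H => (z : SL(2, F)).1) (mul_inv_cancel g)
        rw [show g ^ 2 * x * (g ^ 2)⁻¹ = g * (g * x * g⁻¹) * g⁻¹ by rw [pow_two]; group, hgm, hab,
          mul_add, add_mul, mul_smul_comm, mul_smul_comm, smul_mul_assoc, smul_mul_assoc, mul_one,
          hgi, hX, ← hgm, hab, ← hX, smul_add, smul_smul, smul_smul, ← add_assoc, ← add_smul]
        have hab2 : a + b * a = 0 ∧ b * b = 1 := by
          rcases hb with rfl | rfl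
          · have : a = 0 := mul_left_cancel₀ h2 (by linear_combination htr)
            simp [this]
          · simp
        rw [hab2.1, hab2.2, zero_smul, zero_add, one_smul]
      exact mul_inv_eq_iff_eq_mul.mp key
    obtain ⟨r, hr⟩ := hodd
    have hg2 : g = (g ^ 2) ^ (r + 1) := by
      rw [← pow_mul, show 2 * (r + 1) = (2 * r + 1) + 1 by ring, pow_succ, ← hr, pow_card_eq_one',
        one_mul]
    rw [hg2]
    exact hsq.pow_left _
  · intro x y hx1 hxp hyx
    obtain ⟨a, b, hab⟩ := hlin x y hx1 hyx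
    have hxp' : (x : SL(2, F)) ^ p = 1 := by rw [← Subgroup.coe_pow, hxp]; rfl
    have ht := (pow_prime_eq_one_iff_trace (p := p) (x : SL(2, F))).mp hxp'
    have hd := CfsgLib.Linear.SL2_det_eq (x : SL(2, F))
    have hd' := CfsgLib.Linear.SL2_det_eq (y : SL(2, F))
    rw [hab] at hd'
    simp at hd'
    have hs : (a + b) * (a + b) = 1 := by linear_combination hd' - a * b * ht - b * b * hd
    apply Subtype.ext
    rw [Subgroup.coe_pow, OneMemClass.coe_one, pow_prime_eq_one_iff_trace (p := p), hab]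
    simp
    rcases mul_self_eq_one_iff.mp hs with h | h
    · linear_combination b * ht + 2 * h
    · exfalso
      apply hm1 y
      rw [hab]; simp
      linear_combination b * ht + 2 * h
  · intro x g g' hx1 hxp hg hg'
    have key : ∀ h k : H, Commute (h * x * h⁻¹) x → Commute (k * x * k⁻¹) x → ∀ a b c d : F,
        ((h * x * h⁻¹ : H) : SL(2, F)).1 = a • 1 + b • (x : SL(2, F)).1 →
        ((k * x * k⁻¹ : H) : SL(2, F)).1 = c • 1 + d • (x : SL(2, F)).1 →
        (((h * k) * x * (h * k)⁻¹ : H) : SL(2, F)).1 = (c + a * d) • 1 + (d * b) • (x : SL(2, F)).1 := by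
      intro h k _ _ a b c d e1 e2
      have hgm : ∀ z : H, (((h * z * h⁻¹ : H)) : SL(2, F)).1 =
          (h : SL(2, F)).1 * (z : SL(2, F)).1 * ((h⁻¹ : H) : SL(2, F)).1 := fun z => rfl
      have hgi : (h : SL(2, F)).1 * ((h⁻¹ : H) : SL(2, F)).1 = 1 :=
        congrArg (fun z : H => (z : SL(2, F)).1) (mul_inv_cancel h)
      rw [show h * k * x * (h * k)⁻¹ = h * (k * x * k⁻¹) * h⁻¹ by group, hgm, e2, mul_add, add_mul,
        mul_smul_comm, mul_smul_comm, smul_mul_assoc, smul_mul_assoc, mul_one, hgi, ← hgm, e1]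
      module
    obtain ⟨a, b, e1⟩ := hlin x _ hx1 hg
    obtain ⟨c, d, e2⟩ := hlin x _ hx1 hg'
    have hxp' : (x : SL(2, F)) ^ p = 1 := by rw [← Subgroup.coe_pow, hxp]; rfl
    have ht := (pow_prime_eq_one_iff_trace (p := p) (x : SL(2, F))).mp hxp'
    have hsum : ∀ (h : H) (a b : F), ((h * x * h⁻¹ : H) : SL(2, F)).1 = a • 1 + b • (x : SL(2, F)).1 →
        a + b = 1 := by
      intro h a b e
      have hp' : ((h * x * h⁻¹ : H) : SL(2, F)) ^ p = 1 := by
        rw [← Subgroup.coe_pow, conj_pow, hxp]; simp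
      have := (pow_prime_eq_one_iff_trace (p := p) _).mp hp'
      rw [e] at this
      simp at this
      refine mul_left_cancel₀ h2 ?_
      linear_combination this - b * ht
    have ha1 := hsum g a b e1
    have hc1 := hsum g' c d e2
    have heq : (g * g') * x * (g * g')⁻¹ = (g' * g) * x * (g' * g)⁻¹ := by
      apply Subtype.ext
      apply Subtype.ext
      rw [key g g' hg hg' a b c d e1 e2, key g' g hg' hg c d a b e2 e1]
      rw [show c + a * d = a + c * b by linear_combination d * ha1 - b * hc1 + hc1 - ha1,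
        mul_comm d b]
    set z := (g' * g) * x * (g' * g)⁻¹ with hz
    have hz1 : z ≠ 1 := fun h => hx1 (by
      calc x = (g' * g)⁻¹ * z * (g' * g) := by rw [hz]; group
        _ = 1 := by rw [h]; group)
    have hzx : Commute z x := by
      have e3 := key g' g hg' hg c d a b e2 e1
      apply Subtype.ext
      apply Subtype.ext
      show (z : SL(2, F)).1 * (x : SL(2, F)).1 = (x : SL(2, F)).1 * (z : SL(2, F)).1
      rw [hz, e3]
      simp [add_mul, mul_add]
    have hcz : Commute ⁅g, g'⁆ z := by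
      apply mul_inv_eq_iff_eq_mul.mp
      calc ⁅g, g'⁆ * z * ⁅g, g'⁆⁻¹ = (g * g') * x * (g * g')⁻¹ := by
            rw [hz, commutatorElement_def]; group
        _ = z := by rw [heq]
    exact hcomm z hz1 ⁅g, g'⁆ x hcz hzx.symm

end SL2

section GL2

open Matrix
open scoped MatrixGroups

variable {F : Type*} [Field F] {p : ℕ} [Fact p.Prime] [CharP F p]

/-- A finite odd-order subgroup of `GL₂` of order divisible by the characteristic fixes a line. -/
theorem exists_invariant_line (hp : p ≠ 2) (H : Subgroup (GL (Fin 2) F)) [Finite H]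
    (hodd : Odd (Nat.card H)) (hdvd : p ∣ Nat.card H) :
    ∃ v : Fin 2 → F, v ≠ 0 ∧
      ∀ g ∈ H, (g : Matrix (Fin 2) (Fin 2) F).mulVec v ∈ Submodule.span F {v} := by
  obtain ⟨a, ha⟩ := exists_prime_orderOf_dvd_card' p hdvd
  set A : Matrix (Fin 2) (Fin 2) F := ((a : GL (Fin 2) F) : Matrix (Fin 2) (Fin 2) F) with hA
  have hap : A ^ p = 1 := by
    rw [hA, ← Units.val_pow_eq_pow_val, ← Subgroup.coe_pow, ← ha, pow_orderOf_eq_one]; rfl
  have hdet : A.det = 1 := by
    have h1 : A.det ^ p = 1 := by rw [← det_pow, hap, det_one]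
    have h3 : (A.det - 1) ^ p = 0 := by rw [sub_pow_char, h1, one_pow, sub_self]
    exact sub_eq_zero.mp (eq_zero_of_pow_eq_zero h3)
  let a₀ : SL(2, F) := ⟨A, hdet⟩
  set H₁ : Subgroup SL(2, F) := H.comap (Matrix.SpecialLinearGroup.toGL) with hH₁
  let ι : H₁ →* H := (Matrix.SpecialLinearGroup.toGL.comp H₁.subtype).codRestrict H fun z => z.2
  have hι : Function.Injective ι := fun z w h => Subtype.ext
    (Matrix.SpecialLinearGroup.toGL_injective (congrArg Subtype.val h))
  haveI : Finite H₁ := Finite.of_injective ι hι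
  have hodd₁ : Odd (Nat.card H₁) := hodd.of_dvd_nat (Subgroup.card_dvd_of_injective ι hι)
  have ha₀ : a₀ ∈ H₁ := by
    show Matrix.SpecialLinearGroup.toGL a₀ ∈ H
    convert a.2 using 1
    exact Units.ext rfl
  have ha₀p : (⟨a₀, ha₀⟩ : H₁) ^ p = 1 := Subtype.ext (Subtype.ext (by
    rw [Subgroup.coe_pow, Matrix.SpecialLinearGroup.coe_pow]; exact hap))
  have ha₀1 : (⟨a₀, ha₀⟩ : H₁) ≠ 1 := by
    intro h
    have h1 : A = 1 := congrArg (fun z : H₁ => (z : SL(2, F)).1) h
    have h3 : a = 1 := Subtype.ext (Units.ext h1)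
    rw [h3, orderOf_one] at ha
    exact (Fact.out : p.Prime).one_lt.ne ha
  have ht : A 0 0 + A 1 1 = 2 :=
    (pow_prime_eq_one_iff_trace (p := p) a₀).mp (congrArg Subtype.val ha₀p)
  set Nm : Matrix (Fin 2) (Fin 2) F := A - 1 with hNm
  have hN0 : Nm ≠ 0 := fun h => ha₀1 (Subtype.ext (Subtype.ext (sub_eq_zero.mp h)))
  obtain ⟨P, hPle⟩ := (show IsPGroup p (Subgroup.zpowers (⟨a₀, ha₀⟩ : H₁)) by
    rintro ⟨w, k, rfl⟩
    refine ⟨1, Subtype.ext ?_⟩
    simp only [pow_one, SubgroupClass.coe_pow, OneMemClass.coe_one]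
    rw [← zpow_natCast, ← _root_.zpow_mul, mul_comm k, _root_.zpow_mul, zpow_natCast, ha₀p,
      _root_.one_zpow]).exists_le_sylow
  have hPn := sylow_normal_SL2 hp H₁ hodd₁ P
  haveI : Subsingleton (Sylow p H₁) := (Sylow.unique_of_normal P hPn).instSubsingleton
  have hallP : ∀ z : H₁, z ^ p = 1 → z ∈ (P : Subgroup H₁) := by
    intro z hz
    obtain ⟨Q, hQ⟩ := (show IsPGroup p (Subgroup.zpowers z) by
      rintro ⟨w, k, rfl⟩
      refine ⟨1, Subtype.ext ?_⟩
      simp only [pow_one, SubgroupClass.coe_pow, OneMemClass.coe_one]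
      rw [← zpow_natCast, ← _root_.zpow_mul, mul_comm k, _root_.zpow_mul, zpow_natCast, hz,
        _root_.one_zpow]).exists_le_sylow
    rw [Subsingleton.elim P Q]
    exact hQ (Subgroup.mem_zpowers z)
  haveI : Nontrivial (P : Subgroup H₁) :=
    ⟨⟨⟨_, hPle (Subgroup.mem_zpowers _)⟩, 1, fun h => ha₀1 (congrArg Subtype.val h)⟩⟩
  haveI := P.2.center_nontrivial
  obtain ⟨⟨z, hz⟩, hz1⟩ := exists_ne (1 : Subgroup.center (P : Subgroup H₁))
  have hz1' : (z : H₁) ≠ 1 := fun h => hz1 (Subtype.ext (Subtype.ext h))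
  have hns := not_scalar_of_odd (x := a₀) hodd₁
    (by
      have : (⟨a₀, ha₀⟩ : H₁) ^ Nat.card H₁ = 1 := pow_card_eq_one'
      exact congrArg Subtype.val this) (fun h => ha₀1 (Subtype.ext h))
  have hzns := not_scalar_of_odd (x := (z : H₁).1) hodd₁
    (by
      have : (z : H₁) ^ Nat.card H₁ = 1 := pow_card_eq_one'
      exact congrArg Subtype.val this) (fun h => hz1' (Subtype.ext h))
  have hPc : ∀ y w : H₁, y ∈ (P : Subgroup H₁) → w ∈ (P : Subgroup H₁) →
      (y : SL(2, F)) * w = w * y := by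
    intro y w hy hw
    obtain ⟨c, d, e1⟩ := CfsgLib.Linear.exists_eq_smul_one_add_of_commute hzns
      (congrArg (fun s : (P : Subgroup H₁) => ((s : H₁) : SL(2, F)))
        (Subgroup.mem_center_iff.mp hz ⟨y, hy⟩))
    obtain ⟨c', d', e2⟩ := CfsgLib.Linear.exists_eq_smul_one_add_of_commute hzns
      (congrArg (fun s : (P : Subgroup H₁) => ((s : H₁) : SL(2, F)))
        (Subgroup.mem_center_iff.mp hz ⟨w, hw⟩))
    apply Subtype.ext
    show (y : SL(2, F)).1 * (w : SL(2, F)).1 = (w : SL(2, F)).1 * (y : SL(2, F)).1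
    rw [e1, e2]
    simp only [add_mul, mul_add, smul_mul_assoc, mul_smul_comm, one_mul, mul_one, smul_smul]
    module
  obtain ⟨w, hw⟩ : ∃ w, Nm.mulVec w ≠ 0 := by
    by_contra! h
    exact hN0 (Matrix.ext_iff_mulVec.mpr fun w => by rw [h, Matrix.zero_mulVec])
  refine ⟨Nm.mulVec w, hw, fun g hg => ?_⟩
  set G₁ : Matrix (Fin 2) (Fin 2) F := (g : Matrix (Fin 2) (Fin 2) F)
  set Gi : Matrix (Fin 2) (Fin 2) F := ((g⁻¹ : GL (Fin 2) F) : Matrix (Fin 2) (Fin 2) F)
  have hgg : G₁ * Gi = 1 := g.mul_inv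
  have hgg' : Gi * G₁ = 1 := g.inv_mul
  have hdc : (G₁ * A * Gi).det = 1 := by
    rw [det_mul, det_mul, hdet, mul_one, ← det_mul, hgg, det_one]
  let c₀ : SL(2, F) := ⟨G₁ * A * Gi, hdc⟩
  have hc₀ : c₀ ∈ H₁ := by
    show Matrix.SpecialLinearGroup.toGL c₀ ∈ H
    convert mul_mem (mul_mem hg a.2) (inv_mem hg) using 1
    exact Units.ext rfl
  have hc₀p : (⟨c₀, hc₀⟩ : H₁) ^ p = 1 := by
    apply Subtype.ext
    rw [Subgroup.coe_pow, OneMemClass.coe_one, pow_prime_eq_one_iff_trace (p := p)]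
    show (G₁ * A * Gi) 0 0 + (G₁ * A * Gi) 1 1 = 2
    rw [← trace_fin_two, Matrix.trace_mul_comm, ← mul_assoc, hgg', one_mul, trace_fin_two]
    exact ht
  obtain ⟨c, d, he⟩ := CfsgLib.Linear.exists_eq_smul_one_add_of_commute hns
    (hPc _ _ (hallP _ hc₀p) (hallP _ ha₀p))
  change G₁ * A * Gi = c • 1 + d • A at he
  have hcd : c + d = 1 := by
    have h2 : (2 : F) ≠ 0 := by
      intro h
      rw [show (2 : F) = ((2 : ℕ) : F) by norm_num, CharP.cast_eq_zero_iff F p] at h
      exact hp ((Nat.prime_dvd_prime_iff_eq Fact.out Nat.prime_two).mp h)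
    have h := (pow_prime_eq_one_iff_trace (p := p) c₀).mp (congrArg Subtype.val hc₀p)
    change (G₁ * A * Gi) 0 0 + (G₁ * A * Gi) 1 1 = 2 at h
    rw [he] at h
    simp at h
    exact mul_left_cancel₀ h2 (by linear_combination h - d * ht)
  have hGN : G₁ * Nm = d • (Nm * G₁) := by
    have h1 : G₁ * A = c • G₁ + d • (A * G₁) := by
      calc G₁ * A = (G₁ * A * Gi) * G₁ := by rw [mul_assoc _ Gi, hgg', mul_one]
        _ = _ := by rw [he, add_mul, smul_mul_assoc, smul_mul_assoc, one_mul]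
    rw [hNm, mul_sub, sub_mul, mul_one, one_mul, h1, smul_sub,
      show c = 1 - d from eq_sub_of_add_eq hcd, sub_smul, one_smul]
    abel
  rw [Matrix.mulVec_mulVec, hGN, Matrix.smul_mulVec, ← Matrix.mulVec_mulVec]
  refine Submodule.smul_mem _ _ ?_
  set u := G₁.mulVec w
  set n := Nm.mulVec w
  have hn : Nm 1 1 = -Nm 0 0 := by simp [hNm]; linear_combination ht
  have hd0 : Nm 0 0 * Nm 1 1 - Nm 0 1 * Nm 1 0 = 0 := by
    have h1 := hdet
    rw [det_fin_two] at h1
    simp [hNm]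
    linear_combination h1 - ht
  have hpar : (Nm.mulVec u) 0 * n 1 - (Nm.mulVec u) 1 * n 0 = 0 := by
    simp [n, mulVec, dotProduct, Fin.sum_univ_two]
    linear_combination (u 0 * w 1 - u 1 * w 0) * hd0
  rw [Submodule.mem_span_singleton]
  rcases (show n 0 ≠ 0 ∨ n 1 ≠ 0 by
    by_contra! h
    exact hw (funext fun i => by fin_cases i <;> simp [n] at h ⊢ <;> tauto)) with h | h
  · refine ⟨(Nm.mulVec u) 0 / n 0, funext (Fin.forall_fin_two.mpr ⟨?_, ?_⟩)⟩
    · simp [div_mul_cancel₀ _ h]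
    · simp only [Pi.smul_apply, smul_eq_mul]
      rw [div_mul_eq_mul_div, div_eq_iff h]
      linear_combination hpar
  · refine ⟨(Nm.mulVec u) 1 / n 1, funext (Fin.forall_fin_two.mpr ⟨?_, ?_⟩)⟩
    · simp only [Pi.smul_apply, smul_eq_mul]
      rw [div_mul_eq_mul_div, div_eq_iff h]
      linear_combination -hpar
    · simp [div_mul_cancel₀ _ h]

end GL2

end CfsgLib.OddOrder
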