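import Cfsg.Agent.Lib.OddOrder.OperatorPrimeThree
import Cfsg.Agent.Lib.PGroup.Basic

/-!
Operators on a `p`-group with a chain of invariant subgroups with steps of order at most `p`.
-/

set_option autoImplicit false
set_option linter.style.haveILetI false

namespace CfsgLib.OddOrder.Operator

open Subgroup
open scoped commutatorElement

universe u v

variable {Γ : Type v} {Q : Type u} [Group Γ] [Group Q] [Finite Q] {φ : Γ →* MulAut Q}
  {p : ℕ} [hp : Fact p.Prime]

/-- The restriction of the operators to an invariant subgroup. -/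
noncomputable def restrict (φ : Γ →* MulAut Q) (S : Subgroup Q) (hS : Inv φ S) :
    Γ →* MulAut S where
  toFun a :=
    { toFun := fun x => ⟨φ a x, hS a x x.2⟩
      invFun := fun x => ⟨(φ a).symm x, hS.symm_mem (a := a) (by simpa using x.2)⟩
      left_inv := fun x => Subtype.ext (by simp)
      right_inv := fun x => Subtype.ext (by simp)
      map_mul' := fun x y => Subtype.ext (by simp) }
  map_one' := by ext x; simp
  map_mul' a b := by ext x; simp [MulAut.mul_apply]

theorem restrict_apply (S : Subgroup Q) (hS : Inv φ S) (a : Γ) (x : S) :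
    ((restrict φ S hS a x : S) : Q) = φ a x := rfl

omit hp in
/-- An automorphism of order prime to `p` fixing `N` and a coset of `N` fixes its elements. -/
theorem fix_of_fix_quot {p : ℕ} [Fact p.Prime] (hQ : IsPGroup p Q) {b : MulAut Q}
    (hb : (orderOf b).Coprime p) {N : Subgroup Q} (hfix : ∀ x ∈ N, b x = x) {x : Q}
    (hx : x⁻¹ * b x ∈ N) : b x = x := by
  set n := x⁻¹ * b x with hn
  have hit : ∀ m : ℕ, (b ^ m) x = x * n ^ m := by
    intro m
    induction m with
    | zero => simp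
    | succ m ih =>
      rw [pow_succ', MulAut.mul_apply, ih, map_mul, map_pow, hfix n hx, pow_succ']
      calc b x * n ^ m = x * (x⁻¹ * b x) * n ^ m := by group
        _ = x * (n * n ^ m) := by rw [← hn, mul_assoc]
  have h := hit (orderOf b)
  rw [pow_orderOf_eq_one, MulAut.one_apply, left_eq_mul] at h
  obtain ⟨k, hk⟩ := IsPGroup.iff_orderOf.1 hQ n
  have h1 : orderOf n = 1 :=
    Nat.eq_one_of_dvd_coprimes (hb.pow_right k) (orderOf_dvd_of_pow_eq_one h) (dvd_of_eq hk)
  have h2 := orderOf_eq_one_iff.1 h1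
  rw [hn, inv_mul_eq_one] at h2
  exact h2.symm

omit hp in
/-- At most `|N| |C_D(x)|` elements of `D` commute with `x` modulo `N`. -/
theorem card_comm_mod_le (D N : Subgroup Q) [N.Normal] (x : Q) :
    Nat.card (D ⊓ (Subgroup.centralizer {QuotientGroup.mk' N x}).comap (QuotientGroup.mk' N) :
      Subgroup Q) ≤ Nat.card N * Nat.card (D ⊓ Subgroup.centralizer {x} : Subgroup Q) := by
  set M := D ⊓ (Subgroup.centralizer {QuotientGroup.mk' N x}).comap (QuotientGroup.mk' N) with hM
  set C := (Subgroup.centralizer {x}).subgroupOf M with hC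
  have hmem : ∀ d : M, ⁅(d : Q), x⁆ ∈ N := fun d => (QuotientGroup.eq_one_iff _).1 (by
    show QuotientGroup.mk' N ⁅(d : Q), x⁆ = 1
    rw [map_commutatorElement, commutatorElement_eq_one_iff_mul_comm]
    exact mem_centralizer_singleton_iff.1 d.2.2)
  have hinj : Function.Injective fun q : M ⧸ C => (⟨_, hmem q.out⟩ : N) := by
    intro q q' h
    rw [← QuotientGroup.out_eq' q, ← QuotientGroup.out_eq' q']
    refine QuotientGroup.eq.2 ?_
    have h' : ⁅(q.out : Q), x⁆ = ⁅(q'.out : Q), x⁆ := congrArg Subtype.val h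
    refine mem_subgroupOf.2 (mem_centralizer_singleton_iff.2 ?_)
    simp only [commutatorElement_def, mul_left_inj] at h'
    push_cast
    calc (q.out : Q)⁻¹ * q'.out * x
        = (q.out : Q)⁻¹ * ((q'.out : Q) * x * (q'.out : Q)⁻¹) * q'.out := by group
      _ = (q.out : Q)⁻¹ * ((q.out : Q) * x * (q.out : Q)⁻¹) * q'.out := by rw [h']
      _ = x * ((q.out : Q)⁻¹ * q'.out) := by group
  rw [← C.card_mul_index, mul_comm]
  refine Nat.mul_le_mul (Nat.card_le_card_of_injective _ hinj) ?_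
  refine Nat.card_le_card_of_injective
    (fun c => (⟨((c : M) : Q), (c : M).2.1, mem_subgroupOf.1 c.2⟩ :
      (D ⊓ Subgroup.centralizer {x} : Subgroup Q))) fun c c' h => ?_
  exact Subtype.ext (Subtype.ext (congrArg (fun y : (D ⊓ Subgroup.centralizer {x} : Subgroup Q) => (y : Q)) h))

/-- If `x` has at most `p` fixed points on `D`, the normal subgroups inside `D` are determined by
their orders. -/
theorem eq_of_card_eq_of_normal (hQ : IsPGroup p Q) {D : Subgroup Q} {x : Q}
    (hx : Nat.card (D ⊓ Subgroup.centralizer {x} : Subgroup Q) ≤ p) {N₁ N₂ : Subgroup Q}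
    [N₁.Normal] [N₂.Normal] (h₁ : N₁ ≤ D) (h₂ : N₂ ≤ D) (hc : Nat.card N₁ = Nat.card N₂) :
    N₁ = N₂ := by
  by_contra hne
  set N := N₁ ⊓ N₂ with hN
  haveI : N.Normal := Subgroup.normal_inf_normal N₁ N₂
  have hlt1 : N < N₁ := lt_of_le_of_ne inf_le_left fun h =>
    hne (eq_of_le_of_card_ge (inf_eq_left.1 h) hc.ge)
  have hlt2 : N < N₂ := lt_of_le_of_ne inf_le_right fun h =>
    hne (eq_of_le_of_card_ge (inf_eq_right.1 h) hc.le).symm
  obtain ⟨y, hy1, hyN, hyp, hyg⟩ := CfsgLib.PGroup.exists_step hQ N N₁ hlt1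
  obtain ⟨w, hw2, hwN, -, hwg⟩ := CfsgLib.PGroup.exists_step hQ N N₂ hlt2
  set M := D ⊓ (Subgroup.centralizer {QuotientGroup.mk' N x}).comap (QuotientGroup.mk' N) with hM
  have hmem : ∀ u, u ∈ D → ⁅u, x⁆ ∈ N → u ∈ M := fun u hu h => ⟨hu, by
    show QuotientGroup.mk' N u ∈ Subgroup.centralizer {QuotientGroup.mk' N x}
    rw [mem_centralizer_singleton_iff,
      ← commutatorElement_eq_one_iff_mul_comm, ← map_commutatorElement]
    exact (QuotientGroup.eq_one_iff _).2 h⟩
  have hle : N ⊔ zpowers y ≤ M := sup_le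
    (fun u hu => hmem u (h₁ hu.1) (by
      rw [show ⁅u, x⁆ = u * (x * u⁻¹ * x⁻¹) by rw [commutatorElement_def]; group]
      exact mul_mem hu ((inferInstance : N.Normal).conj_mem _ (inv_mem hu) x)))
    (zpowers_le.2 (hmem y (h₁ hy1) (hyg x)))
  have heq := eq_of_le_of_card_ge hle (by
    rw [CfsgLib.PGroup.card_sup_zpowers hyN hyp]
    refine (card_comm_mod_le D N x).trans ?_
    rw [mul_comm p]
    exact Nat.mul_le_mul_left _ hx)
  refine hwN ⟨?_, hw2⟩
  have : w ∈ N ⊔ zpowers y := heq.symm ▸ hmem w (h₂ hw2) (hwg x)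
  exact (sup_le inf_le_left (zpowers_le.2 hy1) : N ⊔ zpowers y ≤ N₁) this

/-- On an invariant step of order at most `p` the commutators and the `(p-1)`-st powers act
trivially. -/
theorem triv_step (hQ : IsPGroup p Q) {N N' : Subgroup Q} [N.Normal] [N'.Normal] (hN : Inv φ N)
    (hN' : Inv φ N') (hle : N ≤ N') (hcard : Nat.card N' ≤ p * Nat.card N) :
    (∀ a ∈ commutator Γ, ∀ x ∈ N', x⁻¹ * φ a x ∈ N) ∧
      ∀ a : Γ, ∀ x ∈ N', x⁻¹ * φ (a ^ (p - 1)) x ∈ N := by
  rcases eq_or_lt_of_le hle with rfl | hlt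
  · exact ⟨fun a _ x hx => mul_mem (inv_mem hx) (hN a x hx),
      fun a x hx => mul_mem (inv_mem hx) (hN _ x hx)⟩
  obtain ⟨y, hy, hyN, hyp, -⟩ := CfsgLib.PGroup.exists_step hQ N N' hlt
  have hgen : N ⊔ zpowers y = N' := eq_of_le_of_card_ge (sup_le hle (zpowers_le.2 hy))
    (by rw [CfsgLib.PGroup.card_sup_zpowers hyN hyp]; exact hcard)
  set f := QuotientGroup.mk' N with hf
  have hS : N'.map f = zpowers (f y) := by
    rw [← hgen, Subgroup.map_sup, hf, QuotientGroup.map_mk'_self, bot_sup_eq, MonoidHom.map_zpowers]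
  have hinv : Inv (quot φ N hN) (zpowers (f y)) := hS ▸ inv_map_quot hN hN'
  have hord : orderOf (f y) = p := orderOf_eq_prime
    (by rw [← map_pow]; exact (QuotientGroup.eq_one_iff _).2 hyp)
    fun h => hyN ((QuotientGroup.eq_one_iff _).1 h)
  let θ := restrict (quot φ N hN) (zpowers (f y)) hinv
  have hcomm : ∀ u v : MulAut (zpowers (f y)), u * v = v * u := fun u v =>
    (IsCyclic.mulAutMulEquiv _).injective (by rw [map_mul, map_mul, mul_comm])
  have htriv : ∀ a, θ a = 1 → ∀ x ∈ N', x⁻¹ * φ a x ∈ N := fun a ha x hx => by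
    refine (QuotientGroup.eq_one_iff _).1 ?_
    show f (x⁻¹ * φ a x) = 1
    have h1 : f x ∈ zpowers (f y) := hS ▸ mem_map_of_mem f hx
    have h2 := congrArg (fun u : MulAut (zpowers (f y)) => ((u ⟨f x, h1⟩ : zpowers (f y)) : Q ⧸ N)) ha
    simp only [θ, restrict_apply, MulAut.one_apply] at h2
    rw [map_mul, map_inv, ← quot_mk N hN, h2, inv_mul_cancel]
  refine ⟨fun a ha => htriv a ?_, fun a => htriv _ ?_⟩
  · have hle : commutator Γ ≤ θ.ker := by
      rw [_root_.commutator_def, commutator_le]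
      intro u _ v _
      rw [MonoidHom.mem_ker, map_commutatorElement, commutatorElement_eq_one_iff_mul_comm]
      exact hcomm _ _
    exact hle ha
  · rw [map_pow]
    haveI : Finite (MulAut (zpowers (f y))) := Finite.of_injective _ DFunLike.coe_injective
    have h := pow_card_eq_one' (x := θ a)
    rwa [IsCyclic.card_mulAut, Nat.card_zpowers, hord, Nat.totient_prime hp.out] at h

/-- Operators preserving a characteristic faithful `D₀` with `|D₀ : D₁| ≤ p` such that some element
has at most `p` fixed points on `D₁`. -/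
theorem trivial_of_few_fixed (hQ : IsPGroup p Q) (D₀ D₁ : Subgroup Q) [D₀.Normal] [D₁.Normal]
    (h₀ : Inv φ D₀) (h₁ : Inv φ D₁) (hle : D₁ ≤ D₀) (hidx : Nat.card D₀ ≤ p * Nat.card D₁)
    (hfaith : ∀ b : MulAut Q, (orderOf b).Coprime p → (∀ x ∈ D₀, b x = x) → b = 1) (x : Q)
    (hx : Nat.card (D₁ ⊓ Subgroup.centralizer {x} : Subgroup Q) ≤ p) (a : Γ)
    (hcop : (orderOf (φ a)).Coprime p)
    (ha : a ∈ commutator Γ ∨ ∃ a', a = a' ^ (p - 1)) : φ a = 1 := by
  have hinv : ∀ (N : Subgroup Q) [N.Normal], N ≤ D₁ → Inv φ N := by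
    intro N _ hN b y hy
    haveI : (N.map (φ b).toMonoidHom).Normal :=
      Subgroup.Normal.map inferInstance _ (φ b).surjective
    have he := eq_of_card_eq_of_normal hQ hx
      (show N.map (φ b).toMonoidHom ≤ D₁ from map_le_iff_le_comap.2 fun z hz => h₁ b z (hN hz)) hN
      (card_map_of_injective (φ b).injective)
    exact he ▸ ⟨y, hy, rfl⟩
  have hstep : ∀ (N N' : Subgroup Q) [N.Normal] [N'.Normal], Inv φ N → Inv φ N' → N ≤ N' →
      Nat.card N' ≤ p * Nat.card N → ∀ y ∈ N', y⁻¹ * φ a y ∈ N := by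
    intro N N' _ _ hN hN' hle' hc
    rcases ha with ha | ⟨a', rfl⟩
    · exact (triv_step hQ hN hN' hle' hc).1 a ha
    · exact (triv_step hQ hN hN' hle' hc).2 a'
  have hfix : ∀ (i : ℕ) (N : Subgroup Q) [N.Normal], N ≤ D₁ → Nat.card N = p ^ i →
      ∀ y ∈ N, φ a y = y := by
    intro i
    induction i with
    | zero =>
      intro N _ _ hc y hy
      rw [Subgroup.card_eq_one.1 (hc.trans (pow_zero p)), mem_bot] at hy
      rw [hy, map_one]
    | succ i ih =>
      intro N _ hN hc y hy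
      obtain ⟨B, hBn, hBN, hBc⟩ := CfsgLib.PGroup.exists_normal_card_le hQ i (i + 1) N hc
        (Nat.le_succ i)
      exact fix_of_fix_quot hQ hcop (ih B (hBN.trans hN) hBc)
        (hstep B N (hinv B (hBN.trans hN)) (hinv N hN) hBN (by rw [hc, hBc, pow_succ']) y hy)
  obtain ⟨k, hk⟩ := (hQ.to_subgroup D₁).exists_card_eq
  refine hfaith _ hcop fun y hy => ?_
  exact fix_of_fix_quot hQ hcop (hfix k D₁ le_rfl hk) (hstep D₁ D₀ h₁ h₀ hle hidx y hy)

end CfsgLib.OddOrder.Operator
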