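import Cfsg.Prelude.Def_OddOrderLocal
import Mathlib.Order.OrderIsoNat
import Mathlib.Data.Finite.Defs
import Cfsg.Agent.Lib.PGroup.Basic

/-! The Puig series. -/

set_option autoImplicit false

namespace CfsgLib.OddOrder

variable {G : Type*} [Group G]

theorem puigStep_anti {X Y : Subgroup G} (h : X ≤ Y) : Cfsg.puigStep Y ≤ Cfsg.puigStep X :=
  sSup_le_sSup fun _ hA => ⟨hA.1, h.trans hA.2⟩

theorem le_puigStep {X A : Subgroup G} (hA : IsMulCommutative A)
    (hX : X ≤ Subgroup.normalizer (A : Set G)) : A ≤ Cfsg.puigStep X :=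
  le_sSup ⟨hA, hX⟩

theorem puigStep_bot : Cfsg.puigStep (⊥ : Subgroup G) = ⊤ := by
  refine eq_top_iff.mpr fun x _ => ?_
  exact le_puigStep (A := Subgroup.zpowers x) inferInstance bot_le (Subgroup.mem_zpowers x)

theorem puigSeq_zero : Cfsg.puigSeq G 0 = ⊥ := rfl

theorem puigSeq_one : Cfsg.puigSeq G 1 = ⊤ := puigStep_bot

theorem puigSeq_succ (n : ℕ) : Cfsg.puigSeq G (n + 1) = Cfsg.puigStep (Cfsg.puigSeq G n) := rfl

theorem puigSeq_interlace : ∀ k : ℕ, Cfsg.puigSeq G (2 * k) ≤ Cfsg.puigSeq G (2 * k + 1) ∧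
    Cfsg.puigSeq G (2 * k + 2) ≤ Cfsg.puigSeq G (2 * k + 1)
  | 0 => by
    simp only [Nat.mul_zero, Nat.zero_add, puigSeq_one]
    exact ⟨le_top, le_top⟩
  | k + 1 => by
    have h := (puigSeq_interlace k).2
    have h1 : Cfsg.puigSeq G (2 * k + 2) ≤ Cfsg.puigSeq G (2 * k + 3) := puigStep_anti h
    refine ⟨h1, ?_⟩
    exact puigStep_anti h1

theorem puigSeq_even_mono : Monotone fun n => Cfsg.puigSeq G (2 * n) := by
  refine monotone_nat_of_le_succ fun n => ?_
  induction n with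
  | zero => simp [puigSeq_zero]
  | succ n ih => exact puigStep_anti (puigStep_anti ih)

theorem puigSeq_odd_anti : Antitone fun n => Cfsg.puigSeq G (2 * n + 1) := by
  refine antitone_nat_of_succ_le fun n => ?_
  exact puigStep_anti (puigSeq_even_mono (Nat.le_succ n))

theorem puigSeq_even_le_odd (n m : ℕ) :
    Cfsg.puigSeq G (2 * n) ≤ Cfsg.puigSeq G (2 * m + 1) :=
  (puigSeq_even_mono (le_max_left n m)).trans
    ((puigSeq_interlace (max n m)).1.trans (puigSeq_odd_anti (le_max_right n m)))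

theorem puigLower_le_puigSubgroup : Cfsg.puigLower G ≤ Cfsg.puigSubgroup G :=
  iSup_le fun n => le_iInf fun m => puigSeq_even_le_odd n m

theorem puig_stabilizes [Finite G] : ∃ k : ℕ, ∀ n, k ≤ n →
    Cfsg.puigSeq G (2 * n) = Cfsg.puigLower G ∧
      Cfsg.puigSeq G (2 * n + 1) = Cfsg.puigSubgroup G := by
  obtain ⟨k, hk⟩ := WellFoundedGT.monotone_chain_condition
    (OrderHom.mk (fun n => Cfsg.puigSeq G (2 * n)) puigSeq_even_mono)
  have hk' : ∀ n, k ≤ n → Cfsg.puigSeq G (2 * k) = Cfsg.puigSeq G (2 * n) := hk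
  refine ⟨k, fun n hn => ?_⟩
  have he : Cfsg.puigLower G = Cfsg.puigSeq G (2 * n) := by
    refine le_antisymm (iSup_le fun m => ?_) (le_iSup (fun n => Cfsg.puigSeq G (2 * n)) n)
    refine le_trans (puigSeq_even_mono (le_max_left m n)) (le_of_eq ?_)
    exact (hk' _ (hn.trans (le_max_right m n))).symm.trans (hk' n hn)
  refine ⟨he.symm, le_antisymm (le_iInf fun m => ?_) (iInf_le (fun n => Cfsg.puigSeq G (2 * n + 1)) n)⟩
  refine le_trans (le_of_eq ?_) (puigSeq_odd_anti (le_max_left m n))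
  show Cfsg.puigStep (Cfsg.puigSeq G (2 * n)) = Cfsg.puigStep (Cfsg.puigSeq G (2 * max m n))
  rw [← hk' n hn, ← hk' _ (hn.trans (le_max_right m n))]

theorem puigStep_puigLower [Finite G] :
    Cfsg.puigStep (Cfsg.puigLower G) = Cfsg.puigSubgroup G := by
  obtain ⟨k, hk⟩ := puig_stabilizes (G := G)
  rw [← (hk k le_rfl).1, ← (hk k le_rfl).2]
  rfl

theorem puigStep_puigSubgroup [Finite G] :
    Cfsg.puigStep (Cfsg.puigSubgroup G) = Cfsg.puigLower G := by
  obtain ⟨k, hk⟩ := puig_stabilizes (G := G)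
  rw [← (hk k le_rfl).2, ← (hk (k + 1) k.le_succ).1]
  rfl

theorem normal_abelian_le_puigStep {A : Subgroup G} [A.Normal] (hA : IsMulCommutative A)
    (X : Subgroup G) : A ≤ Cfsg.puigStep X :=
  le_puigStep hA (by rw [Subgroup.normalizer_eq_top]; exact le_top)

theorem exists_self_centralizing [Finite G] {p : ℕ} [Fact p.Prime] (hG : IsPGroup p G) :
    ∃ A : Subgroup G, A.Normal ∧ IsMulCommutative A ∧ Subgroup.centralizer (A : Set G) = A := by
  obtain ⟨A, ⟨hAn, hAc⟩, hmax⟩ :=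
    (Set.toFinite {A : Subgroup G | A.Normal ∧ IsMulCommutative A}).exists_maximal
      ⟨⊥, inferInstance, inferInstance⟩
  refine ⟨A, hAn, hAc, CfsgLib.PGroup.centralizer_eq_of_maximal_normal_abelian hG A hAc ?_⟩
  exact fun B hB hBc hAB => le_antisymm (hmax ⟨hB, hBc⟩ hAB) hAB

theorem centralizer_puigStep_le [Finite G] {p : ℕ} [Fact p.Prime] (hG : IsPGroup p G)
    (X : Subgroup G) :
    Subgroup.centralizer (Cfsg.puigStep X : Set G) ≤ Cfsg.puigStep X := by
  obtain ⟨A, hAn, hAc, hA⟩ := exists_self_centralizing hG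
  have h := normal_abelian_le_puigStep hAc X
  calc Subgroup.centralizer (Cfsg.puigStep X : Set G)
      ≤ Subgroup.centralizer (A : Set G) := Subgroup.centralizer_le h
    _ = A := hA
    _ ≤ _ := h

theorem puigStep_ne_bot [Finite G] [Nontrivial G] {p : ℕ} [Fact p.Prime] (hG : IsPGroup p G)
    (X : Subgroup G) : Cfsg.puigStep X ≠ ⊥ := by
  intro h
  have := centralizer_puigStep_le hG X
  rw [h, le_bot_iff, Subgroup.eq_bot_iff_forall] at this
  obtain ⟨x, hx⟩ := exists_ne (1 : G)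
  exact hx (this x (Subgroup.mem_centralizer_iff.mpr fun y hy => by
    rw [SetLike.mem_coe, Subgroup.mem_bot] at hy
    simp [hy]))

end CfsgLib.OddOrder
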