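import Cfsg.Agent.Lib.OddOrder.Puig

/-! The Puig series of a subgroup, viewed inside the ambient group. -/

set_option autoImplicit false
set_option linter.style.haveILetI false

namespace CfsgLib.OddOrder

open Subgroup

variable {G : Type*} [Group G]

/-- The subgroup generated by the abelian subgroups of `D` normalized by `X`. -/
def puigIn (D X : Subgroup G) : Subgroup G :=
  sSup {A : Subgroup G | A ≤ D ∧ IsMulCommutative A ∧ X ≤ normalizer (A : Set G)}

/-- The Puig series of `D`, viewed inside `G`. -/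
def puigSeqOf (D : Subgroup G) : ℕ → Subgroup G
  | 0 => ⊥
  | n + 1 => puigIn D (puigSeqOf D n)

/-- The Puig subgroup `L(D)`, viewed inside `G`. -/
def puigOf (D : Subgroup G) : Subgroup G := (Cfsg.puigSubgroup ↥D).map D.subtype

/-- The subgroup `L_*(D)`, viewed inside `G`. -/
def puigLowerOf (D : Subgroup G) : Subgroup G := (Cfsg.puigLower ↥D).map D.subtype

theorem puigIn_le (D X : Subgroup G) : puigIn D X ≤ D := sSup_le fun _ h => h.1

theorem le_puigIn {D X A : Subgroup G} (hA : A ≤ D) (hc : IsMulCommutative A)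
    (hn : X ≤ normalizer (A : Set G)) : A ≤ puigIn D X := le_sSup ⟨hA, hc, hn⟩

theorem puigIn_top (X : Subgroup G) : puigIn ⊤ X = Cfsg.puigStep X :=
  congrArg sSup (Set.ext fun _ => ⟨fun h => h.2, fun h => ⟨le_top, h⟩⟩)

theorem puigIn_map {H : Type*} [Group H] {f : G →* H} (hf : Function.Injective f)
    (D X : Subgroup G) : puigIn (D.map f) (X.map f) = (puigIn D X).map f := by
  refine le_antisymm (sSup_le ?_) (map_le_iff_le_comap.2 (sSup_le ?_))
  · rintro B ⟨hBD, hBc, hXB⟩
    have hB : (B.comap f).map f = B := map_comap_eq_self (hBD.trans (map_le_range f D))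
    rw [← hB]
    refine map_mono (le_puigIn ?_ ?_ ?_)
    · intro y hy
      obtain ⟨z, hz, hzy⟩ := hBD hy
      exact hf hzy ▸ hz
    · refine le_centralizer_iff_isMulCommutative.1 fun y hy z hz => hf ?_
      rw [map_mul, map_mul]
      exact mem_centralizer_iff.1 (le_centralizer_iff_isMulCommutative.2 hBc hy) _ hz
    · intro x hx
      rw [mem_normalizer_iff]
      intro z
      rw [mem_comap, mem_comap, map_mul, map_mul, map_inv]
      exact mem_normalizer_iff.1 (hXB ⟨x, hx, rfl⟩) _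
  · rintro A ⟨hAD, hAc, hXA⟩
    haveI := hAc
    rw [← map_le_iff_le_comap]
    exact le_puigIn (map_mono hAD) (map_isMulCommutative A (f := f))
      ((map_mono hXA).trans (le_normalizer_map f))

theorem puigSeqOf_map {H : Type*} [Group H] {f : G →* H} (hf : Function.Injective f)
    (D : Subgroup G) : ∀ n, puigSeqOf (D.map f) n = (puigSeqOf D n).map f
  | 0 => (Subgroup.map_bot f).symm
  | n + 1 => by
    show puigIn (D.map f) (puigSeqOf (D.map f) n) = (puigIn D (puigSeqOf D n)).map f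
    rw [puigSeqOf_map hf D n, puigIn_map hf]

theorem puigSeqOf_top : ∀ n, puigSeqOf (⊤ : Subgroup G) n = Cfsg.puigSeq G n
  | 0 => rfl
  | n + 1 => by
    show puigIn ⊤ (puigSeqOf (⊤ : Subgroup G) n) = Cfsg.puigStep (Cfsg.puigSeq G n)
    rw [puigSeqOf_top n, puigIn_top]

theorem puigSeqOf_eq_map (D : Subgroup G) (n : ℕ) :
    puigSeqOf D n = (Cfsg.puigSeq ↥D n).map D.subtype := by
  rw [← puigSeqOf_top, ← puigSeqOf_map D.subtype_injective, ← MonoidHom.range_eq_map, range_subtype]

theorem puigSeqOf_one (D : Subgroup G) : puigSeqOf D 1 = D := by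
  rw [puigSeqOf_eq_map, puigSeq_one, ← MonoidHom.range_eq_map, range_subtype]

theorem normalizer_le_normalizer_puigSeqOf (D : Subgroup G) (n : ℕ) :
    normalizer (D : Set G) ≤ normalizer (puigSeqOf D n : Set G) := by
  intro g hg
  rw [mem_normalizer_iff_map_conj_eq] at hg ⊢
  have h := puigSeqOf_map (f := (MulAut.conj g).toMonoidHom) (MulAut.conj g).injective D n
  rw [show D.map (MulAut.conj g).toMonoidHom = D from hg] at h
  exact h.symm

theorem puigIn_anti {D X Y : Subgroup G} (h : X ≤ Y) : puigIn D Y ≤ puigIn D X :=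
  sSup_le_sSup fun _ hA => ⟨hA.1, hA.2.1, h.trans hA.2.2⟩

variable [Finite G]

theorem puigOf_stabilizes (D : Subgroup G) : ∃ k : ℕ, ∀ n, k ≤ n →
    puigSeqOf D (2 * n) = puigLowerOf D ∧ puigSeqOf D (2 * n + 1) = puigOf D := by
  obtain ⟨k, hk⟩ := puig_stabilizes (G := ↥D)
  exact ⟨k, fun n hn => ⟨by rw [puigSeqOf_eq_map, (hk n hn).1, puigLowerOf],
    by rw [puigSeqOf_eq_map, (hk n hn).2, puigOf]⟩⟩

theorem puigLowerOf_eq_puigIn (D : Subgroup G) : puigLowerOf D = puigIn D (puigOf D) := by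
  obtain ⟨k, hk⟩ := puigOf_stabilizes D
  rw [← (hk (k + 1) k.le_succ).1, ← (hk k le_rfl).2]
  rfl

theorem puigOf_eq_puigIn (D : Subgroup G) : puigOf D = puigIn D (puigLowerOf D) := by
  obtain ⟨k, hk⟩ := puigOf_stabilizes D
  rw [← (hk k le_rfl).2, ← (hk k le_rfl).1]
  rfl

theorem puigOf_le (D : Subgroup G) : puigOf D ≤ D := map_subtype_le _

theorem puigLowerOf_le_puigOf (D : Subgroup G) : puigLowerOf D ≤ puigOf D :=
  map_mono puigLower_le_puigSubgroup

theorem puigOf_map {H : Type*} [Group H] [Finite H] {f : G →* H} (hf : Function.Injective f)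
    (D : Subgroup G) : puigOf (D.map f) = (puigOf D).map f := by
  obtain ⟨k, hk⟩ := puigOf_stabilizes D
  obtain ⟨l, hl⟩ := puigOf_stabilizes (D.map f)
  rw [← (hk (max k l) (le_max_left k l)).2, ← (hl (max k l) (le_max_right k l)).2, puigSeqOf_map hf]

theorem normalizer_le_normalizer_puigOf (D : Subgroup G) :
    normalizer (D : Set G) ≤ normalizer (puigOf D : Set G) := by
  obtain ⟨k, hk⟩ := puigOf_stabilizes D
  rw [← (hk k le_rfl).2]
  exact normalizer_le_normalizer_puigSeqOf D _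

/-- `L(R) = L(S)` for `L(S) ≤ R ≤ S`. -/
theorem puigOf_eq_of_le {R S : Subgroup G} (hRS : R ≤ S) (hLR : puigOf S ≤ R) :
    puigOf R = puigOf S := by
  have hlo : puigIn S (puigOf S) ≤ R := by
    rw [← puigLowerOf_eq_puigIn]
    exact (puigLowerOf_le_puigOf S).trans hLR
  have h : ∀ n : ℕ, (puigSeqOf R (2 * n + 1) ≤ puigSeqOf S (2 * n + 1) ∧
      puigOf S ≤ puigSeqOf R (2 * n + 1)) := by
    intro n
    induction n with
    | zero =>
      simp only [Nat.mul_zero, Nat.zero_add, puigSeqOf_one]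
      exact ⟨hRS, hLR⟩
    | succ n ih =>
      have h1 : puigSeqOf S (2 * n + 2) ≤ puigSeqOf R (2 * n + 2) := by
        refine sSup_le fun A hA => le_puigIn ?_ hA.2.1 (ih.1.trans hA.2.2)
        refine le_trans (le_puigIn hA.1 hA.2.1 (le_trans ?_ hA.2.2)) hlo
        exact le_trans ih.2 ih.1
      have h2 : puigSeqOf R (2 * n + 2) ≤ puigIn S (puigOf S) :=
        sSup_le fun A hA => le_puigIn (hA.1.trans hRS) hA.2.1 (ih.2.trans hA.2.2)
      refine ⟨sSup_le fun A hA => le_puigIn (hA.1.trans hRS) hA.2.1 (h1.trans hA.2.2), ?_⟩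
      refine le_of_eq_of_le (puigOf_eq_puigIn S) (sSup_le fun A hA => le_puigIn ?_ hA.2.1 ?_)
      · exact ((le_puigIn hA.1 hA.2.1 hA.2.2).trans (puigOf_eq_puigIn S).ge).trans hLR
      · rw [← puigLowerOf_eq_puigIn] at h2
        exact h2.trans hA.2.2
  obtain ⟨k, hk⟩ := puigOf_stabilizes R
  obtain ⟨l, hl⟩ := puigOf_stabilizes S
  have := h (max k l)
  rw [(hk _ (le_max_left k l)).2, (hl _ (le_max_right k l)).2] at this
  exact le_antisymm this.1 this.2

theorem inf_centralizer_puigIn_le {p : ℕ} [Fact p.Prime] {D : Subgroup G} (hD : IsPGroup p D)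
    {X : Subgroup G} (hX : X ≤ D) :
    D ⊓ centralizer (puigIn D X : Set G) ≤ puigIn D X := by
  have e : puigIn D X = (Cfsg.puigStep (X.subgroupOf D)).map D.subtype := by
    rw [← puigIn_top, ← puigIn_map D.subtype_injective, ← MonoidHom.range_eq_map, range_subtype,
      map_subgroupOf_eq_of_le hX]
  rintro x ⟨hxD, hxC⟩
  rw [e] at hxC ⊢
  refine ⟨⟨x, hxD⟩, centralizer_puigStep_le hD _ (mem_centralizer_iff.2 fun y hy => Subtype.ext ?_), rfl⟩
  exact mem_centralizer_iff.1 hxC _ (mem_map_of_mem D.subtype hy)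

theorem inf_centralizer_puigOf_le {p : ℕ} [Fact p.Prime] {D : Subgroup G} (hD : IsPGroup p D) :
    D ⊓ centralizer (puigOf D : Set G) ≤ puigOf D := by
  rw [puigOf_eq_puigIn]
  exact inf_centralizer_puigIn_le hD ((puigLowerOf_le_puigOf D).trans (puigOf_le D))

theorem inf_centralizer_puigLowerOf_le {p : ℕ} [Fact p.Prime] {D : Subgroup G} (hD : IsPGroup p D) :
    D ⊓ centralizer (puigLowerOf D : Set G) ≤ puigLowerOf D := by
  rw [puigLowerOf_eq_puigIn]
  exact inf_centralizer_puigIn_le hD (puigOf_le D)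

end CfsgLib.OddOrder
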