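import Cfsg.Agent.Lib.OddOrder.Stable
import Cfsg.Agent.Lib.PLocal.ZJTheorem

/-!
Consequences of `p`-stability in solvable groups of odd order (BG Appendices A, B).
-/

set_option autoImplicit false
set_option linter.style.haveILetI false

open scoped commutatorElement

namespace CfsgLib.OddOrder

open Subgroup

variable {G : Type*} [Group G] [Finite G] {p : ℕ} [hp : Fact p.Prime]

omit [Finite G] in
/-- A normalizer of an abelian subgroup `B` is acted on quadratically by the elements of `B`. -/
theorem commute_commutator_of_mem_abelian {B : Subgroup G} (hBc : IsMulCommutative B) {a : G}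
    (ha : a ∈ B) {x : G} (hx : x ∈ normalizer (B : Set G)) : Commute a ⁅a, x⁆ := by
  have h1 : ⁅a, x⁆ ∈ B := by
    rw [commutatorElement_def, mul_assoc, mul_assoc, ← mul_assoc x]
    exact mul_mem ha ((mem_normalizer_iff.1 hx _).1 (inv_mem ha))
  exact congrArg Subtype.val (hBc.is_comm.comm (⟨a, ha⟩ : B) ⟨⁅a, x⁆, h1⟩)

omit [Finite G] in
theorem commute_commutator_of_quad {P A : Subgroup G} (h : ⁅⁅P, A⁆, A⁆ = ⊥) {a : G} (ha : a ∈ A)
    {x : G} (hx : x ∈ P) : Commute a ⁅a, x⁆ := by
  have h1 : ⁅⁅x, a⁆, a⁆ = 1 := by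
    rw [← mem_bot, ← h]
    exact commutator_mem_commutator (commutator_mem_commutator hx ha) ha
  have h2 := (commutatorElement_eq_one_iff_commute.1 h1).symm.inv_right
  rwa [commutatorElement_inv] at h2

theorem two_dvd_of_sylow_ne_bot {S : Subgroup G} (hS : IsPGroup p S) (hne : S ≠ ⊥) :
    p ∣ Nat.card G := by
  obtain ⟨k, hk⟩ := hS.exists_card_eq
  rcases k with _ | k
  · exact absurd (Subgroup.card_eq_one.1 (by simpa using hk)) hne
  exact ((dvd_pow_self p k.succ_ne_zero).trans hk.symm.dvd).trans S.card_subgroup_dvd_card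

theorem ne_two_of_odd (hodd : Odd (Nat.card G)) {S : Subgroup G} (hS : IsPGroup p S) (hne : S ≠ ⊥) :
    p ≠ 2 := fun h => (Nat.not_even_iff_odd.2 hodd)
      (even_iff_two_dvd.2 (h ▸ two_dvd_of_sylow_ne_bot hS hne))

/-- A group of odd order acts `p`-stably on each of its normal `p`-subgroups. -/
theorem pStableNormal_of_odd (hodd : Odd (Nat.card G)) (hp2 : p ≠ 2) : PLoc.PStableNormal p G := by
  intro P _ hP a ha
  exact quad_mk_mem_pCore hodd hp2 hP fun x hx =>
    commute_commutator_of_quad ha (mem_zpowers a) hx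

/-- In a solvable group of odd order an abelian subgroup normal in a Sylow `p`-subgroup lies in
`O_{p',p}`. -/
theorem le_pPrimePCore_of_normal_abelian [Group.IsSolvable G] (hodd : Odd (Nat.card G))
    (S : Sylow p G) (A : Subgroup G) (hA : A ≤ (S : Subgroup G)) (hAc : IsMulCommutative A)
    (hAn : (S : Subgroup G) ≤ normalizer (A : Set G)) : A ≤ Cfsg.pPrimePCore p G := by
  by_cases hS : (S : Subgroup G) = ⊥
  · rw [hS, le_bot_iff] at hA
    rw [hA]
    exact bot_le
  have hp2 := ne_two_of_odd hodd S.isPGroup' hS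
  rw [pPrimePCore_eq_comap_barHom, ← map_le_iff_le_comap]
  rintro _ ⟨a, ha, rfl⟩
  refine mem_pCore_of_quad (Odd.of_dvd_nat hodd (Subgroup.card_quotient_dvd_card _)) hp2
    centralizer_pCore_bar_le fun b hb => ?_
  have hb' : b ∈ (S : Subgroup G).map (barHom G p) := by
    have h := Solvable.pCore_le_sylow (S.mapSurjective (barHom_surjective (Y := G) (p := p))) hb
    rw [Sylow.coe_mapSurjective] at h
    exact h
  obtain ⟨s, hs, rfl⟩ := hb'
  rw [← map_commutatorElement]
  exact (commute_commutator_of_mem_abelian hAc ha (hAn hs)).map _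

/-- `p`-stability inside a normalizer. -/
theorem normalizer_quad_le_pCore (hodd : Odd (Nat.card G)) (hp2 : p ≠ 2) {P A : Subgroup G}
    (hP : IsPGroup p P) (hquad : ⁅⁅P, A⁆, A⁆ = ⊥) :
    (A.subgroupOf (normalizer (P : Set G))).map
        (QuotientGroup.mk' ((centralizer (P : Set G)).subgroupOf (normalizer (P : Set G))))
      ≤ Cfsg.pCore p _ := by
  set N := normalizer (P : Set G) with hN
  haveI : (P.subgroupOf N).Normal := normal_in_normalizer
  have hC : centralizer ((P.subgroupOf N : Subgroup N) : Set N) =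
      (centralizer (P : Set G)).subgroupOf N := by
    ext z
    rw [mem_subgroupOf, mem_centralizer_iff, mem_centralizer_iff]
    exact ⟨fun h x hx => congrArg Subtype.val (h ⟨x, le_normalizer hx⟩ (mem_subgroupOf.2 hx)),
      fun h x hx => Subtype.ext (h _ (mem_subgroupOf.1 hx))⟩
  rintro _ ⟨a, ha, rfl⟩
  have h := quad_mk_mem_pCore (B := P.subgroupOf N)
    (Odd.of_dvd_nat hodd N.card_subgroup_dvd_card) hp2
    (hP.comap_of_injective N.subtype N.subtype_injective) (a := a)
    (fun x hx => by
      have h1 := commute_commutator_of_quad hquad (mem_subgroupOf.1 ha) (mem_subgroupOf.1 hx)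
      refine Subtype.ext ?_
      simpa [commutatorElement_def] using h1.eq)
  rw [← mem_comap] at h ⊢
  convert h using 1
  exact PLoc.comap_pCore_congr (QuotientGroup.mk'_surjective _) (QuotientGroup.mk'_surjective _)
    (by rw [QuotientGroup.ker_mk', QuotientGroup.ker_mk', hC])

/-- In a solvable group with `O_{p'} = 1` and `O_p ∩ C(P) ≤ P` the preimage of
`O_p(G / C(P))` is `O_p`. -/
theorem comap_pCore_centralizer_le [Group.IsSolvable G] (hO : Cfsg.pPrimeCore p G = ⊥)
    (P : Subgroup G) [P.Normal]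
    (hC : Cfsg.pCore p G ⊓ centralizer (P : Set G) ≤ P) :
    (Cfsg.pCore p (G ⧸ centralizer (P : Set G))).comap
        (QuotientGroup.mk' (centralizer (P : Set G))) ≤ Cfsg.pCore p G := by
  set C := centralizer (P : Set G) with hCdef
  haveI : C.Normal := Subgroup.normal_centralizer
  have hOC : Cfsg.pPrimeCore p C = ⊥ := by
    have h1 := Solvable.map_subtype_pPrimeCore_eq (p := p) C
    rw [hO, bot_inf_eq] at h1
    exact (map_eq_bot_iff_of_injective _ C.subtype_injective).1 h1
  have hCp : IsPGroup p C := by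
    have h1 := centralizer_pCore_le hOC
    have h2 : centralizer (Cfsg.pCore p C : Set C) = ⊤ := by
      refine eq_top_iff.2 fun y _ => mem_centralizer_iff.2 fun z hz => Subtype.ext ?_
      have hz' : (z : G) ∈ Cfsg.pCore p G ⊓ C := by
        rw [← Solvable.map_subtype_pCore_eq C]
        exact ⟨z, hz, rfl⟩
      exact mem_centralizer_iff.1 y.2 _ (hC hz')
    rw [h2, top_le_iff] at h1
    intro z
    obtain ⟨k, hk⟩ := Solvable.pCore_isPGroup p C ⟨z, h1 ▸ mem_top z⟩
    exact ⟨k, congrArg Subtype.val hk⟩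
  refine Solvable.le_pCore ((Solvable.pCore_normal p _).comap _) ?_
  refine IsPGroup.comap_of_ker_isPGroup (Solvable.pCore_isPGroup p _) _ ?_
  rwa [QuotientGroup.ker_mk']

/-- **ZJ** for solvable groups of odd order (elementary abelian Thompson subgroup). -/
theorem centerThompsonOf_sup_normal [Group.IsSolvable G] (hodd : Odd (Nat.card G))
    (S : Sylow p G) :
    (Cfsg.centerThompsonOf p (S : Subgroup G) ⊔ Cfsg.pPrimeCore p G).Normal := by
  haveI := Solvable.pPrimeCore_normal p G
  have hle : PLoc.centerJ p (S : Subgroup G) ≤ (S : Subgroup G) :=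
    inf_le_left.trans (PLoc.joinMaxAb_le p _)
  rw [PLoc.centerThompsonOf_eq]
  by_cases hS : (S : Subgroup G) = ⊥
  · rw [hS, le_bot_iff] at hle
    rw [hS, hle, bot_sup_eq]
    infer_instance
  have hp2 := ne_two_of_odd hodd S.isPGroup' hS
  set N := Cfsg.piCore (Cfsg.primesNotDvd p) G
  set f := barHom G p
  have hodd' : Odd (Nat.card (G ⧸ N)) := Odd.of_dvd_nat hodd (Subgroup.card_quotient_dvd_card N)
  have hn := PLoc.centerJ_normal hp2 centralizer_pCore_bar_le (pStableNormal_of_odd hodd' hp2)
    (e := p) (Or.inr rfl) (S.mapSurjective (barHom_surjective (Y := G) (p := p)))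
  rw [Sylow.coe_mapSurjective] at hn
  have hinj : Function.Injective (f.comp (S : Subgroup G).subtype) := by
    rw [← MonoidHom.ker_eq_bot_iff, eq_bot_iff]
    intro x hx
    have hx' : (x : G) ∈ (S : Subgroup G) ⊓ f.ker := ⟨x.2, hx⟩
    rw [PLoc.disjoint_of_pgroup_coprime S.isPGroup' barHom_ker_coprime, mem_bot] at hx'
    exact mem_bot.2 (Subtype.ext hx')
  have h1 : (PLoc.centerJ p ((S : Subgroup G).map f)) = (PLoc.centerJ p (S : Subgroup G)).map f := by
    have h1 := PLoc.centerJ_map (f.comp (S : Subgroup G).subtype) hinj p ⊤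
    have h2 := PLoc.centerJ_map (S : Subgroup G).subtype (S : Subgroup G).subtype_injective p ⊤
    rw [← MonoidHom.range_eq_map, range_subtype] at h2
    rw [← map_map, ← map_map, ← MonoidHom.range_eq_map, range_subtype, ← h2] at h1
    exact h1
  rw [h1] at hn
  have h3 := hn.comap f
  rwa [comap_map_eq, barHom_ker] at h3

end CfsgLib.OddOrder
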