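import Cfsg.Agent.Lib.OddOrder.PuigRel
import Cfsg.Agent.Lib.OddOrder.StableApps
import Cfsg.Agent.Lib.PLocal.SylowAux

/-! Glauberman's `ZL` theorem for solvable groups of odd order (BG Appendix B). -/

set_option autoImplicit false
set_option linter.style.haveILetI false

namespace CfsgLib.OddOrder

open Subgroup

variable {G : Type*} [Group G] [Finite G] {p : ℕ} [hp : Fact p.Prime]

/-- The centre of `L(D)`, viewed inside `G`. -/
def zPuig (D : Subgroup G) : Subgroup G := puigOf D ⊓ centralizer (puigOf D : Set G)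

omit [Finite G] in
theorem map_center_eq (A : Subgroup G) :
    (center ↥A).map A.subtype = A ⊓ centralizer (A : Set G) := by
  ext x
  constructor
  · rintro ⟨z, hz, rfl⟩
    exact ⟨z.2, mem_centralizer_iff.2 fun a ha =>
      congrArg Subtype.val (mem_center_iff.1 hz ⟨a, ha⟩)⟩
  · rintro ⟨hA, hC⟩
    exact ⟨⟨x, hA⟩, mem_center_iff.2 fun a => Subtype.ext (mem_centralizer_iff.1 hC a a.2), rfl⟩

omit [Finite G] in
theorem map_inf_centralizer {H : Type*} [Group H] {f : G →* H} (hf : Function.Injective f)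
    (A : Subgroup G) :
    (A ⊓ centralizer (A : Set G)).map f = A.map f ⊓ centralizer (A.map f : Set H) := by
  ext y
  constructor
  · rintro ⟨x, ⟨hxA, hxC⟩, rfl⟩
    refine ⟨⟨x, hxA, rfl⟩, mem_centralizer_iff.2 ?_⟩
    rintro _ ⟨a, ha, rfl⟩
    rw [← map_mul, ← map_mul, mem_centralizer_iff.1 hxC a ha]
  · rintro ⟨⟨x, hxA, rfl⟩, hC⟩
    refine ⟨x, ⟨hxA, mem_centralizer_iff.2 fun a ha => hf ?_⟩, rfl⟩
    rw [map_mul, map_mul]
    exact mem_centralizer_iff.1 hC _ ⟨a, ha, rfl⟩

theorem zPuig_map {H : Type*} [Group H] [Finite H] {f : G →* H} (hf : Function.Injective f)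
    (D : Subgroup G) : zPuig (D.map f) = (zPuig D).map f := by
  rw [zPuig, zPuig, puigOf_map hf, map_inf_centralizer hf]

theorem normalizer_le_normalizer_zPuig (D : Subgroup G) :
    normalizer (D : Set G) ≤ normalizer (zPuig D : Set G) := by
  intro g hg
  rw [mem_normalizer_iff_map_conj_eq] at hg ⊢
  have h := zPuig_map (f := (MulAut.conj g).toMonoidHom) (MulAut.conj g).injective D
  rw [show D.map (MulAut.conj g).toMonoidHom = D from hg] at h
  exact h.symm

theorem zPuig_comm (D : Subgroup G) : IsMulCommutative (zPuig D) :=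
  le_centralizer_iff_isMulCommutative.1 (inf_le_right.trans (centralizer_le inf_le_left))

/-- `L_*(S) ≤ L_*(T)` and `L(T) ≤ L(S)` for `T = O_p(G)`, via the series. -/
theorem puigSeqOf_compare [Group.IsSolvable G] (hodd : Odd (Nat.card G)) (hp2 : p ≠ 2)
    (hO : Cfsg.pPrimeCore p G = ⊥) (S : Sylow p G) :
    ∀ n : ℕ, puigSeqOf (S : Subgroup G) (2 * n) ≤ puigSeqOf (Cfsg.pCore p G) (2 * n) ∧
      puigSeqOf (Cfsg.pCore p G) (2 * n + 1) ≤ puigSeqOf (S : Subgroup G) (2 * n + 1) := by
  haveI := Solvable.pCore_normal p G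
  set T := Cfsg.pCore p G with hT
  intro n
  induction n with
  | zero =>
    simp only [Nat.mul_zero, Nat.zero_add, puigSeqOf_one]
    exact ⟨le_of_eq rfl, Solvable.pCore_le_sylow S⟩
  | succ n ih =>
    have h1 : puigSeqOf (S : Subgroup G) (2 * n + 2) ≤ puigSeqOf T (2 * n + 2) := by
      refine sSup_le fun A hA => le_puigIn ?_ hA.2.1 (ih.2.trans hA.2.2)
      set X := puigSeqOf T (2 * n + 1) with hX
      haveI : X.Normal := normalizer_eq_top_iff.1 (top_le_iff.1
        ((normalizer_eq_top T).ge.trans (normalizer_le_normalizer_puigSeqOf T _)))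
      have hXT : X ≤ T := puigIn_le _ _
      have hXn : puigSeqOf T (2 * n) ≤ T := by
        rw [puigSeqOf_eq_map]; exact map_subtype_le _
      have hXC : T ⊓ centralizer (X : Set G) ≤ X :=
        inf_centralizer_puigIn_le (Solvable.pCore_isPGroup p G) hXn
      intro a ha
      exact comap_pCore_centralizer_le hO X hXC
        (quad_mk_mem_pCore hodd hp2 ((Solvable.pCore_isPGroup p G).to_le hXT) fun x hx =>
          commute_commutator_of_mem_abelian hA.2.1 ha ((ih.2.trans hA.2.2) hx))
    exact ⟨h1, sSup_le fun A hA => le_puigIn (hA.1.trans (Solvable.pCore_le_sylow S)) hA.2.1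
      (h1.trans hA.2.2)⟩

theorem puigOf_compare [Group.IsSolvable G] (hodd : Odd (Nat.card G)) (hp2 : p ≠ 2)
    (hO : Cfsg.pPrimeCore p G = ⊥) (S : Sylow p G) :
    puigLowerOf (S : Subgroup G) ≤ puigLowerOf (Cfsg.pCore p G) ∧
      puigOf (Cfsg.pCore p G) ≤ puigOf (S : Subgroup G) := by
  obtain ⟨k, hk⟩ := puigOf_stabilizes (S : Subgroup G)
  obtain ⟨l, hl⟩ := puigOf_stabilizes (Cfsg.pCore p G)
  have := puigSeqOf_compare hodd hp2 hO S (max k l)
  rwa [(hk _ (le_max_left k l)).1, (hk _ (le_max_left k l)).2, (hl _ (le_max_right k l)).1,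
    (hl _ (le_max_right k l)).2] at this

/-- **ZL theorem**: `Z(L(S))` is normal when `O_{p'}(G) = 1`. -/
theorem zPuig_normal [Group.IsSolvable G] (hodd : Odd (Nat.card G)) (hp2 : p ≠ 2)
    (hO : Cfsg.pPrimeCore p G = ⊥) (S : Sylow p G) : (zPuig (S : Subgroup G)).Normal := by
  haveI := Solvable.pCore_normal p G
  set T := Cfsg.pCore p G with hT
  obtain ⟨hlow, hup⟩ := puigOf_compare hodd hp2 hO S
  set Z := zPuig (S : Subgroup G) with hZ
  set Y := zPuig T with hY
  haveI hYn : Y.Normal := normalizer_eq_top_iff.1 (top_le_iff.1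
    ((normalizer_eq_top T).ge.trans (normalizer_le_normalizer_zPuig T)))
  have hSZ : (S : Subgroup G) ≤ normalizer (Z : Set G) :=
    le_normalizer.trans (normalizer_le_normalizer_zPuig _)
  have hZS : Z ≤ (S : Subgroup G) := inf_le_left.trans (puigOf_le _)
  have hZT : Z ≤ T := by
    intro a ha
    exact mem_pCore_of_quad hodd hp2 (centralizer_pCore_le hO) fun b hb =>
      commute_commutator_of_mem_abelian (zPuig_comm _) ha (hSZ (Solvable.pCore_le_sylow S hb))
  have hZY : Z ≤ Y := by
    have h : Z ≤ T ⊓ centralizer (puigOf T : Set G) :=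
      le_inf hZT (inf_le_right.trans (centralizer_le hup))
    exact le_inf (h.trans (inf_centralizer_puigOf_le (Solvable.pCore_isPGroup p G)))
      (h.trans inf_le_right)
  have hYS : Y ≤ puigLowerOf (S : Subgroup G) := by
    rw [puigLowerOf_eq_puigIn]
    refine le_puigIn ((inf_le_left.trans (puigOf_le _)).trans (Solvable.pCore_le_sylow S))
      (zPuig_comm _) ?_
    rw [normalizer_eq_top]
    exact le_top
  set C := centralizer (Y : Set G) with hC
  haveI : C.Normal := Subgroup.normal_centralizer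
  set K := (Cfsg.pCore p (G ⧸ C)).comap (QuotientGroup.mk' C) with hK
  haveI : K.Normal := (Solvable.pCore_normal p _).comap _
  have hLK : puigOf (S : Subgroup G) ≤ K := by
    rw [puigOf_eq_puigIn]
    refine sSup_le fun A hA a ha => quad_mk_mem_pCore (B := Y) hodd hp2
      ((Solvable.pCore_isPGroup p G).to_le (inf_le_left.trans (puigOf_le _))) fun y hy =>
        commute_commutator_of_mem_abelian hA.2.1 ha (hA.2.2 (hYS hy))
  have hKS : K ≤ (S : Subgroup G) ⊔ C := by
    intro x hx
    have h1 := Solvable.pCore_le_sylow (S.mapSurjective (QuotientGroup.mk'_surjective C)) hx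
    rw [Sylow.coe_mapSurjective] at h1
    obtain ⟨s, hs, hsx⟩ := h1
    have : s⁻¹ * x ∈ C := QuotientGroup.eq.1 hsx
    rw [show x = s * (s⁻¹ * x) by group]
    exact mul_mem (mem_sup_left hs) (mem_sup_right this)
  have hfr : K ⊔ normalizer (((S : Subgroup G) ⊓ K : Subgroup G) : Set G) = ⊤ :=
    PLocal.frattini_inf S K
  have heq : puigOf ((S : Subgroup G) ⊓ K) = puigOf (S : Subgroup G) :=
    puigOf_eq_of_le inf_le_left (le_inf (puigOf_le _) hLK)
  have hN : normalizer (((S : Subgroup G) ⊓ K : Subgroup G) : Set G) ≤ normalizer (Z : Set G) := by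
    have h := normalizer_le_normalizer_zPuig ((S : Subgroup G) ⊓ K)
    rwa [show zPuig ((S : Subgroup G) ⊓ K) = Z by rw [hZ, zPuig, zPuig, heq]] at h
  rw [← normalizer_eq_top_iff, eq_top_iff, ← hfr]
  exact sup_le (hKS.trans (sup_le hSZ ((centralizer_le hZY).trans (centralizer_le_normalizer _)))) hN

/-- `G = O_{p'}(G) N_G(Z(L(S)))`. -/
theorem pPrimeCore_sup_normalizer_zPuig [Group.IsSolvable G] (hodd : Odd (Nat.card G))
    (hp2 : p ≠ 2) (S : Sylow p G) :
    Cfsg.pPrimeCore p G ⊔ normalizer (zPuig (S : Subgroup G) : Set G) = ⊤ := by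
  set N := Cfsg.piCore (Cfsg.primesNotDvd p) G
  set f := barHom G p with hf
  haveI : Group.IsSolvable (G ⧸ N) :=
    Group.isSolvable_of_surjective (QuotientGroup.mk'_surjective _)
  have hinj : Function.Injective (f.comp (S : Subgroup G).subtype) := by
    rw [← MonoidHom.ker_eq_bot_iff, eq_bot_iff]
    intro x hx
    have hx' : (x : G) ∈ (S : Subgroup G) ⊓ f.ker := ⟨x.2, hx⟩
    rw [PLoc.disjoint_of_pgroup_coprime S.isPGroup' barHom_ker_coprime, mem_bot] at hx'
    exact mem_bot.2 (Subtype.ext hx')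
  have h1 : zPuig ((S : Subgroup G).map f) = (zPuig (S : Subgroup G)).map f := by
    have h1 := zPuig_map hinj ⊤
    have h2 := zPuig_map (S : Subgroup G).subtype_injective ⊤
    rw [← MonoidHom.range_eq_map, range_subtype] at h2
    rw [← map_map, ← map_map, ← MonoidHom.range_eq_map, range_subtype, ← h2] at h1
    exact h1
  have hn : (zPuig ((S : Subgroup G).map f)).Normal := by
    have h := zPuig_normal (Odd.of_dvd_nat hodd (Subgroup.card_quotient_dvd_card N)) hp2
      (barHom_pPrimeCore (Y := G) (p := p)) (S.mapSurjective (barHom_surjective (Y := G) (p := p)))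
    rwa [Sylow.coe_mapSurjective] at h
  have hZp : IsPGroup p ↥(zPuig (S : Subgroup G)) :=
    S.2.to_le (inf_le_left.trans (puigOf_le _))
  rw [h1, ← normalizer_eq_top_iff,
    PLoc.normalizer_map_eq barHom_surjective barHom_ker_coprime hZp] at hn
  have h3 := congrArg (comap f) hn
  rw [comap_map_eq, comap_top, barHom_ker] at h3
  rwa [sup_comm]

end CfsgLib.OddOrder
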