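import Cfsg.Agent.Lib.OddOrder.SCNUniqueCriterion

/-!
BG 9.5: an `SCN₃` subgroup of a minimal simple group of odd order has a unique maximal overgroup.
-/

set_option autoImplicit false
set_option linter.style.haveILetI false

open scoped commutatorElement

namespace CfsgLib.OddOrder

open Subgroup

variable {G : Type*} [Group G] [Finite G]

omit [Finite G] in
theorem le_normalizer_of_commutator_le {M X : Subgroup G} (hXM : X ≤ M) (h : ⁅M, M⁆ ≤ X) :
    M ≤ normalizer (X : Set G) := by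
  rw [le_normalizer_iff]
  intro g hg x hx
  have h1 := mul_mem (h (commutator_mem_commutator hg (hXM hx))) hx
  rwa [commutatorElement_def, inv_mul_cancel_right] at h1

variable (hG : Cfsg.IsMinSimpleOddOrder G) {p : ℕ} [hp : Fact p.Prime] {A Ω : Subgroup G}
  (D : RankThreeData p A Ω)
include hG D

/-- In the case of small cores, invariant subgroups for the largest prime are cores. -/
theorem inv_le_piCoreOf_of_max {r : ℕ} [hr : Fact r.Prime] (hrp : r ≠ p)
    (hmax : ∀ s : ℕ, s.Prime → s ≠ p → (∃ Y : Subgroup G, IsPGroup s Y ∧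
      A ≤ normalizer (Y : Set G) ∧ Y ≠ ⊥) → s ≤ r)
    {M : Subgroup G} (hM : IsCoatom M) (hAM : A ≤ M)
    (hsmall : ∀ s : ℕ, s.Prime → Cfsg.PRankLE s 2 ↥(Cfsg.piCoreOf {s} M))
    {T : Subgroup G} (hT : IsPGroup r T) (hAT : A ≤ normalizer (T : Set G)) (hTM : T ≤ M) :
    T ≤ Cfsg.piCoreOf {r} M := by
  set F := Cfsg.fittingOf M with hF
  set F' := Cfsg.piCoreOf {s | s.Prime ∧ s ∉ ({r} : Set ℕ)} F with hF'
  set O := Cfsg.piCoreOf {r} M with hO
  have hFn := fittingOf_isNilpotent M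
  have hF'le : F' ≤ F := piCoreOf_le _ _
  haveI hMs : Group.IsSolvable M := isSolvable_of_ne_top hG hM.1
  have hTF' : T ≤ centralizer (F' : Set G) := by
    rw [le_centralizer_iff]
    refine le_of_components (isNilpotent_of_subgroup_le hFn hF'le) fun s hs hsd => ?_
    haveI := Fact.mk hs
    have hsr : s ≠ r := fun h => ((piCoreOf_isPiSubgroup _ F s hs hsd).2) h
    refine (piCoreOf_le_piCoreOf_of_nilpotent hFn hF'le {s}).trans ?_
    rw [piCoreOf_singleton_fittingOf, le_centralizer_iff]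
    set Os := Cfsg.piCoreOf {s} M with hOs
    have hOsp : IsPGroup s Os := piCoreOf_singleton_isPGroup s M
    by_cases hsp : s = p
    · have h1 : T ≤ Cfsg.piCoreOf (Cfsg.primesNotDvd p) M :=
        D.inv_le_core hrp hM.1 hAM hTM hT hAT
      refine h1.trans (piCoreOf_le_centralizer_piCoreOf M fun t ht ht' _ => ?_)
      rw [Set.mem_singleton_iff, hsp] at ht'
      exact ht.2 (ht' ▸ dvd_rfl)
    by_cases hOs1 : Os = ⊥
    · rw [hOs1]
      intro x _ y hy
      rw [Subgroup.coe_bot, Set.mem_singleton_iff] at hy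
      rw [hy, one_mul, mul_one]
    have hsle : s < r := lt_of_le_of_ne
      (hmax s hs hsp ⟨Os, hOsp, hAM.trans (le_normalizer_piCoreOf _ _), hOs1⟩) hsr
    have hs2 : s ≠ 2 := prime_ne_two_of_dvd_card hG (H := Os) (by
      obtain ⟨n, hn⟩ := hOsp.exists_card_eq
      rcases n with _ | n
      · exact absurd (Subgroup.card_eq_one.1 (hn.trans (pow_zero s))) hOs1
      · exact hn ▸ dvd_pow_self s n.succ_ne_zero)
    intro x hx
    refine mem_centralizer_of_primes_gt hs2 hOsp (hsmall s hs)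
      (le_normalizer_piCoreOf _ _ (hTM hx)) fun t ht htx => ?_
    obtain ⟨n, hn⟩ := hT.exists_card_eq
    have := (htx.trans (orderOf_dvd_card_of_mem hx))
    rw [hn] at this
    rwa [(Nat.prime_dvd_prime_iff_eq ht hr.out).1 (ht.dvd_of_dvd_pow this)]
  set P₁ := T ⊔ O with hP₁
  have hP₁p : IsPGroup r P₁ := IsPGroup.to_sup_of_normal_right' hT
    (piCoreOf_singleton_isPGroup r M) (hTM.trans (le_normalizer_piCoreOf _ _))
  have hOF' : O ≤ centralizer (F' : Set G) := by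
    rw [hO, ← piCoreOf_singleton_fittingOf]
    exact piCoreOf_le_centralizer_piCoreOf F fun t ht ht' _ => ht'.2 ht
  set X₂ := P₁ ⊔ F' with hX₂
  have hP₁F : P₁ ≤ Cfsg.fittingOf X₂ := le_fittingOf le_sup_left
    (sup_le le_normalizer ((le_centralizer_iff.1 (sup_le hTF' hOF')).trans
      (centralizer_le_normalizer _))) hP₁p.isNilpotent
  have hF'F : F' ≤ Cfsg.fittingOf X₂ := le_fittingOf le_sup_right
    (sup_le ((sup_le hTF' hOF').trans (centralizer_le_normalizer _)) le_normalizer)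
    (isNilpotent_of_subgroup_le hFn hF'le)
  have hFX₂ : F ≤ X₂ := by
    refine (le_sup_piCoreOf_of_nilpotent hFn {r}).trans (sup_le ?_ le_sup_right)
    rw [piCoreOf_singleton_fittingOf]
    exact le_sup_right.trans le_sup_left
  have hn : Group.IsNilpotent ↥(T ⊔ F) := isNilpotent_of_subgroup_le (fittingOf_isNilpotent X₂)
    ((sup_le (le_sup_left.trans le_sup_left) hFX₂).trans (sup_le hP₁F hF'F))
  have hXM : T ⊔ F ≤ M := sup_le hTM (fittingOf_le M)
  have hTF : T ≤ F := le_sup_left.trans (le_fittingOf hXM (le_normalizer_of_commutator_le hXM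
    ((commutator_le_fittingOf (odd_card_subgroup hG M) hsmall).trans le_sup_right)) hn)
  rw [hO, ← piCoreOf_singleton_fittingOf]
  intro x hx
  refine mem_piCoreOf_of_nilpotent hFn (hTF hx) fun t ht htx => ?_
  obtain ⟨n, hn⟩ := hT.exists_card_eq
  have := (htx.trans (orderOf_dvd_card_of_mem hx))
  rw [hn] at this
  exact (Nat.prime_dvd_prime_iff_eq ht hr.out).1 (ht.dvd_of_dvd_pow this)

theorem inUniqueMaximal_of_small
    (hsmall : ∀ M : Subgroup G, IsCoatom M → A ≤ M →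
      ∀ s : ℕ, s.Prime → Cfsg.PRankLE s 2 ↥(Cfsg.piCoreOf {s} M)) :
    Cfsg.InUniqueMaximal A := by
  set P := {s : ℕ | s.Prime ∧ s ≠ p ∧
    ∃ Y : Subgroup G, IsPGroup s Y ∧ A ≤ normalizer (Y : Set G) ∧ Y ≠ ⊥} with hP
  by_cases hne : P.Nonempty
  swap
  · obtain ⟨M, hM, hAM⟩ := exists_isCoatom_ge D.ne_top
    refine D.inUniqueMaximal_of_le hG hM hAM fun r hr hrp Y hY hAY => ?_
    by_cases hY1 : Y = ⊥
    · exact hY1 ▸ bot_le
    exact absurd ⟨r, hr, hrp, Y, hY, hAY, hY1⟩ hne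
  have hfin : P.Finite := (Set.finite_le_nat (Nat.card G)).subset fun s hs => by
    obtain ⟨hs1, -, Y, hY, -, hY1⟩ := hs
    haveI := Fact.mk hs1
    obtain ⟨n, hn⟩ := hY.exists_card_eq
    rcases n with _ | n
    · exact absurd (Subgroup.card_eq_one.1 (hn.trans (pow_zero s))) hY1
    · exact Nat.le_of_dvd Nat.card_pos
        ((hn ▸ dvd_pow_self s n.succ_ne_zero).trans (Subgroup.card_subgroup_dvd_card Y))
  obtain ⟨r, ⟨hr, hrp, Y₀, hY₀, hAY₀, hY₀1⟩, hrmax⟩ := Set.exists_max_image P id hfin hne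
  haveI := Fact.mk hr
  have hmax : ∀ s : ℕ, s.Prime → s ≠ p → (∃ Y : Subgroup G, IsPGroup s Y ∧
      A ≤ normalizer (Y : Set G) ∧ Y ≠ ⊥) → s ≤ r := fun s h1 h2 h3 => hrmax s ⟨h1, h2, h3⟩
  obtain ⟨S, hS, hY₀S⟩ := exists_maxInvSubgroup_ge (A := A) (π := ({r} : Set ℕ)) (Y := Y₀)
    ⟨le_top, isPiSubgroup_singleton.2 hY₀, hAY₀⟩
  have hSp : IsPGroup r S := isPiSubgroup_singleton.1 hS.1.2.1
  have hS1 : S ≠ ⊥ := fun h => hY₀1 (le_bot_iff.1 (h ▸ hY₀S))
  have hAS : A ≤ normalizer (S : Set G) := hS.1.2.2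
  obtain ⟨H, hH, hne'⟩ := D.exists_line_not_le hrp hSp hAS (W := ⊥) fun h => hS1 (le_bot_iff.1 h)
  -- every `C(b)`, `b ∈ H`, lies in `N(S)`
  have key : ∀ b ∈ H, b ≠ 1 → ∃ M : Subgroup G, IsCoatom M ∧ normalizer (S : Set G) = M ∧
      centralizer ({b} : Set G) ≤ M := by
    intro b hb hb1
    obtain ⟨M, hM, hCM⟩ := exists_isCoatom_ge (centralizer_singleton_ne_top hG hb1)
    have hbΩ : b ∈ Ω := hH.1 hb
    have hAM : A ≤ M := (D.le_centralizer_singleton hbΩ).trans hCM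
    have hcore : ∀ T : Subgroup G, IsPGroup r T → A ≤ normalizer (T : Set G) → T ≤ M →
        T ≤ Cfsg.piCoreOf {r} M := fun T h1 h2 h3 =>
      inv_le_piCoreOf_of_max hG D hrp hmax hM hAM (hsmall M hM hAM) h1 h2 h3
    set O := Cfsg.piCoreOf {r} M with hO
    have hOp : IsPGroup r O := piCoreOf_singleton_isPGroup r M
    have hAO : A ≤ normalizer (O : Set G) := hAM.trans (le_normalizer_piCoreOf _ _)
    have hSH : S ⊓ centralizer (H : Set G) ≤ O := hcore _ (hSp.to_le inf_le_left)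
      (D.le_normalizer_inf (fun x hx => D.le (hH.1 hx)) hAS)
      ((inf_le_right.trans (Subgroup.centralizer_le (Set.singleton_subset_iff.2 hb))).trans hCM)
    have hO1 : O ≠ ⊥ := fun h => hne' (hSH.trans h.le)
    have hOS : O ≤ S := by
      obtain ⟨c, hc, hle⟩ := D.exists_conj_ge hrp hS hOp hAO
      have hcM : c ∈ M := hCM (D.cent_le_singleton hbΩ hc)
      intro x hx
      obtain ⟨t, ht, htx⟩ := hle ((mem_normalizer_iff.1 (le_normalizer_piCoreOf _ _ hcM) x).1 hx)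
      have : t = x := (MulAut.conj c).injective (by simpa using htx)
      exact this ▸ ht
    have hOeq : O = S := by
      by_contra hne''
      have h1 := lt_inf_normalizer hSp (lt_of_le_of_ne hOS hne'')
      rw [normalizer_eq_of_isCoatom_of_le hG hM hO1 (piCoreOf_le _ _)
        (le_normalizer_piCoreOf _ _)] at h1
      exact h1.not_ge (hcore _ (hSp.to_le inf_le_left)
        (le_normalizer_inf_of_le hAS (hAM.trans le_normalizer)) inf_le_right)
    refine ⟨M, hM, ?_, hCM⟩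
    rw [← hOeq]
    exact normalizer_eq_of_isCoatom_of_le hG hM hO1 (piCoreOf_le _ _) (le_normalizer_piCoreOf _ _)
  obtain ⟨b₀, hb₀, hb₀1⟩ := D.line_ne_one hH
  obtain ⟨M₀, hM₀, hN₀, hC₀⟩ := key b₀ hb₀ hb₀1
  have hAM₀ : A ≤ M₀ := (D.le_centralizer_singleton (hH.1 hb₀)).trans hC₀
  have hp2 : p < p ^ 2 := by
    calc p = p ^ 1 := (pow_one p).symm
      _ < p ^ 2 := Nat.pow_lt_pow_right hp.out.one_lt one_lt_two
  have hHe := elementary_anti D.elem hH.1
  have hHU : Cfsg.InUniqueMaximal H := inUniqueMaximal_of_elementary hG hM₀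
    ((hH.1.trans D.le).trans hAM₀) hHe
    (elementary_not_isCyclic hHe (hp2.trans_le (D.line_card hH))) (Or.inl fun b hb hb1 => by
      obtain ⟨M, -, hN, hC⟩ := key b hb hb1
      exact hN₀ ▸ hN ▸ hC)
  have hΩU : Cfsg.InUniqueMaximal Ω := inUniqueMaximal_of_commute hG hHU
    ((le_centralizer_iff_isMulCommutative.2 D.elem.1).trans (Subgroup.centralizer_le hH.1)) D.elem
    (by rw [D.card]; exact hp2.trans (Nat.pow_lt_pow_right hp.out.one_lt (by norm_num)))
  exact inUniqueMaximal_mono hΩU D.le D.ne_top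

/-- The main step. -/
theorem inUniqueMaximal_of_module {q : ℕ} [hq : Fact q.Prime] (hqp : q ≠ p) {L U : Subgroup G}
    (hU : UModule q L U) (hAL : A ≤ L)
    (hfit : ∀ M : Subgroup G, IsCoatom M → Cfsg.PRankLE p 2 ↥(Cfsg.piCoreOf {p} M)) :
    Cfsg.InUniqueMaximal A := by
  by_cases hall : ∀ r : ℕ, r.Prime → r ≠ p → ∀ Y : Subgroup G, IsPGroup r Y →
      A ≤ normalizer (Y : Set G) → Y ≤ L
  · exact D.inUniqueMaximal_of_le hG hU.coatom hAL hall
  exfalso
  push Not at hall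
  obtain ⟨r, hr, hrp, Y₀, hY₀, hAY₀, hY₀L⟩ := hall
  haveI := Fact.mk hr
  have hrq : r ≠ q := by
    rintro rfl
    exact hY₀L (inv_sylow_le hG D hqp hU hAL hY₀ hAY₀)
  obtain ⟨Q, hQ, hY₀Q⟩ := exists_maxInvSubgroup_ge (A := A) (π := ({r} : Set ℕ)) (Y := Y₀)
    ⟨le_top, isPiSubgroup_singleton.2 hY₀, hAY₀⟩
  have hQp : IsPGroup r Q := isPiSubgroup_singleton.1 hQ.1.2.1
  have hQL : ¬ Q ≤ L := fun h => hY₀L (hY₀Q.trans h)
  have hAQ : A ≤ normalizer (Q : Set G) := hQ.1.2.2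
  have hQ1 : Q ≠ ⊥ := fun h => hQL (h ▸ bot_le)
  obtain ⟨M₂, hM₂, hNQ⟩ := exists_isCoatom_ge (normalizer_ne_top hG hQ1 (isPGroup_ne_top hG hQp))
  have hAM₂ : A ≤ M₂ := hAQ.trans hNQ
  have hQM₂ : Q ≤ M₂ := le_normalizer.trans hNQ
  have hM₂L : M₂ ≠ L := fun h => hQL (h ▸ hQM₂)
  have hAU : A ≤ normalizer (U : Set G) := hAL.trans hU.norm
  by_cases hsmall : ∀ s : ℕ, s.Prime → Cfsg.PRankLE s 2 ↥(Cfsg.piCoreOf {s} M₂)
  · -- small cores
    set R := Cfsg.piCoreOf {r} M₂ with hR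
    haveI : Group.IsSolvable M₂ := isSolvable_of_ne_top hG hM₂.1
    have hr2 : r ≠ 2 := prime_ne_two_of_dvd_card hG (H := Q) (by
      obtain ⟨n, hn⟩ := hQp.exists_card_eq
      rcases n with _ | n
      · exact absurd (Subgroup.card_eq_one.1 (hn.trans (pow_zero r))) hQ1
      · exact hn ▸ dvd_pow_self r n.succ_ne_zero)
    obtain ⟨u, huΩ, hu1, huR⟩ := exists_ne_one_mem_centralizer hr2 hrp
      (piCoreOf_singleton_isPGroup r M₂) (hsmall r hr)
      ((D.le.trans hAM₂).trans (le_normalizer_piCoreOf _ _)) D.elem D.card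
    have huo : orderOf u = p := orderOf_eq_prime (D.elem.2 u huΩ) hu1
    have huQ : u ∈ centralizer (Q : Set G) := by
      refine mem_centralizer_iff.2 fun x hx => (?_ : Commute u x).eq.symm
      have hux : u * x * u⁻¹ ∈ Q := (mem_normalizer_iff.1 (hAQ (D.le huΩ)) x).1 hx
      have hcQ : u * x * u⁻¹ * x⁻¹ ∈ Q := mul_mem hux (inv_mem hx)
      have hcF : u * x * u⁻¹ * x⁻¹ ∈ Cfsg.fittingOf M₂ :=
        commutator_le_fittingOf (odd_card_subgroup hG M₂) hsmall
          (by rw [← commutatorElement_def]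
              exact commutator_mem_commutator (hAM₂ (D.le huΩ)) (hQM₂ hx))
      have hdiv : ∀ t : ℕ, t.Prime → t ∣ orderOf (u * x * u⁻¹ * x⁻¹) → t = r := fun t ht htd => by
        obtain ⟨n, hn⟩ := hQp.exists_card_eq
        have h1 := htd.trans (orderOf_dvd_card_of_mem hcQ)
        rw [hn] at h1
        exact (Nat.prime_dvd_prime_iff_eq ht hr).1 (ht.dvd_of_dvd_pow h1)
      have hcR : u * x * u⁻¹ * x⁻¹ ∈ R := by
        rw [hR, ← piCoreOf_singleton_fittingOf]
        exact mem_piCoreOf_of_nilpotent (fittingOf_isNilpotent M₂) hcF hdiv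
      refine commute_of_conj_mem (show Commute u _ from (mem_centralizer_iff.1 huR _ hcR).symm) ?_
      rw [huo]
      exact hp.out.coprime_iff_not_dvd.2 fun h => hrp (hdiv p hp.out h).symm
    have huL : ¬ centralizer ({u} : Set G) ≤ L := fun h => hQL (le_trans
      (fun x hx => mem_centralizer_singleton_iff.2 (mem_centralizer_iff.1 huQ x hx)) h)
    obtain ⟨H, hH, hHu⟩ := D.exists_line_not_le hqp hU.pgroup hAU
      (W := centralizer ({u} : Set G)) fun h => huL (hU.le_of_noncyclic hG le_rfl hU.noncyclic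
        (centralizer_singleton_ne_top hG hu1) h)
    haveI := D.elem.1
    refine hQL (Solvable.le_of_cyclic_quotient_centralizer_le (A := Ω) (D.le.trans hAQ)
      (D.coprime_of_isPGroup hrp (D.pgroup.to_le D.le) hQp) fun B hB hc => ?_)
    obtain ⟨b, ⟨hbB, hbH⟩, hb1⟩ := D.line_inf ⟨hB, hc⟩ hH
    have hle : Q ⊓ centralizer (B : Set G) ≤ centralizer ({b} : Set G) :=
      inf_le_right.trans (Subgroup.centralizer_le (Set.singleton_subset_iff.2 hbB))
    by_cases hbL : centralizer ({b} : Set G) ≤ L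
    · exact hle.trans hbL
    refine inv_le_of_cent hG D hqp hU hAL (hB hbB) hb1 huΩ hbL ?_ hrp hrq ?_
      (hQp.to_le inf_le_left)
      (D.le_normalizer_inf (fun x hx => D.le (hB hx)) hAQ) hle
    · exact fun h => hHu ((inf_le_inf_left U
        (Subgroup.centralizer_le (Set.singleton_subset_iff.2 hbH))).trans h)
    · intro T hT hAT _
      obtain ⟨c, hc', hTQ⟩ := D.exists_conj_ge hrp hQ hT hAT
      refine mem_centralizer_iff.2 fun t ht => ?_
      obtain ⟨x, hx, hxt⟩ := hTQ ht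
      have h1 : Commute u c := (mem_centralizer_iff.1 hc' u (D.le huΩ))
      have h2 : Commute u x := (mem_centralizer_iff.1 huQ x hx).symm
      rw [← hxt]
      exact (((h1.mul_right h2).mul_right h1.inv_right)).eq.symm
  · -- a second module
    push Not at hsmall
    obtain ⟨t, ht, hrank⟩ := hsmall
    haveI := Fact.mk ht
    have htp : t ≠ p := by
      rintro rfl
      exact hrank (hfit M₂ hM₂)
    obtain ⟨U₂, hU₂⟩ := exists_uModule hG hM₂ hrank
    have hAU₂ : A ≤ normalizer (U₂ : Set G) := hAM₂.trans hU₂.norm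
    have hU₂L : ¬ U₂ ≤ L := fun h => hM₂L ((hU.coatom.le_iff_eq hM₂.1).1
      (hU₂.le_of_noncyclic hG le_rfl hU₂.noncyclic hU.coatom.1 h))
    have htq : t ≠ q := fun h => hU₂L
      (inv_sylow_le hG D hqp hU hAL (h ▸ hU₂.pgroup) hAU₂)
    have hUM₂ : ¬ U ≤ M₂ := fun h => hM₂L ((hM₂.le_iff_eq hU.coatom.1).1
      (hU.le_of_noncyclic hG le_rfl hU.noncyclic hM₂.1 h)).symm
    obtain ⟨H, hH, hHM₂⟩ := D.exists_line_not_le hqp hU.pgroup hAU hUM₂
    obtain ⟨K, hK, hKL⟩ := D.exists_line_not_le htp hU₂.pgroup hAU₂ hU₂L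
    obtain ⟨b, ⟨hbH, hbK⟩, hb1⟩ := D.line_inf hH hK
    have hbΩ : b ∈ Ω := hH.1 hbH
    have hUH := inf_le_inf_left U (Subgroup.centralizer_le (Set.singleton_subset_iff.2 hbH)
      : centralizer (H : Set G) ≤ centralizer ({b} : Set G))
    have hU₂K := inf_le_inf_left U₂ (Subgroup.centralizer_le (Set.singleton_subset_iff.2 hbK)
      : centralizer (K : Set G) ≤ centralizer ({b} : Set G))
    have hbL : ¬ centralizer ({b} : Set G) ≤ L := fun h =>
      hKL ((hU₂K.trans inf_le_right).trans h)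
    have hbM₂ : ¬ centralizer ({b} : Set G) ≤ M₂ := fun h =>
      hHM₂ ((hUH.trans inf_le_right).trans h)
    have hK0 : U₂ ⊓ centralizer (K : Set G) ≠ ⊥ := fun h => hKL (h ▸ bot_le)
    have hWK : U₂ ⊓ centralizer (K : Set G) = U₂ ⊓ centralizer ({b} : Set G) :=
      eq_of_le_of_isCyclic hU₂K (fun x hx => hU₂.exp x hx.1)
        (hU₂.isCyclic_of_not_le hG hb1 hbM₂) hK0
    obtain ⟨a, haK, haW⟩ : ∃ a ∈ K,
        ¬ U ⊓ centralizer ({b} : Set G) ≤ centralizer ({a} : Set G) := by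
      by_contra h
      push Not at h
      obtain ⟨z, hz, -, hzM₂⟩ := exists_centralizer_le hG D htp hU₂ hAM₂ hK hK0
      exact hHM₂ ((hUH.trans (h z hz)).trans hzM₂)
    have haΩ : a ∈ Ω := hK.1 haK
    refine hKL (inv_le_of_cent hG D hqp hU hAL hbΩ hb1 haΩ hbL haW htp htq ?_
      (hU₂.pgroup.to_le inf_le_left) (D.le_normalizer_inf (fun x hx => D.le (hK.1 hx)) hAU₂)
      (hU₂K.trans inf_le_right))
    intro T hT hAT hTb
    have hTM₂ : T ≤ M₂ := inv_sylow_le hG D htp hU₂ hAM₂ hT hAT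
    have ha1 : a ≠ 1 := fun h => haW (h ▸ fun x _ => mem_centralizer_singleton_iff.2 (by simp))
    set W₂ := U₂ ⊓ centralizer ({b} : Set G) with hW₂
    have hTW : T ≤ centralizer (W₂ : Set G) := le_centralizer_of_isCyclic hT
      (le_normalizer_inf_of_le (hTM₂.trans hU₂.norm) (hTb.trans le_normalizer))
      (fun x hx => hU₂.exp x hx.1) (hU₂.isCyclic_of_not_le hG hb1 hbM₂)
    have hfix : ∀ x ∈ T, x ^ t = 1 → Commute a x := fun x hx hxt => by
      have h1 := mem_of_line_fact hG D htp hU₂ hAM₂ hbΩ hb1 hbM₂ (fun h => hK0 (hWK.trans h)) (hTM₂ hx) (hTb hx)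
        hxt (hTW hx)
      exact mem_centralizer_iff.1 (hWK.ge h1).2 a haK
    have hall' := commute_of_fix_pow_eq_one (hU₂.ne_two hG) T hT (hAT (D.le haΩ))
      (by rw [orderOf_eq_prime (D.elem.2 a haΩ) ha1]
          exact (Nat.coprime_primes hp.out ht).2 (Ne.symm htp)) hfix
    exact mem_centralizer_iff.2 fun x hx => (hall' x hx).eq.symm

omit D in
/-- BG 9.5. -/
theorem inUniqueMaximal_of_scn (P : Sylow p G) {A : Subgroup G}
    (hA : Cfsg.IsSCN (P : Subgroup G) A) (hA3 : ¬ Cfsg.PRankLE p 2 A) :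
    Cfsg.InUniqueMaximal A := by
  have hA2 : ¬ Cfsg.PRankLE p 1 A := fun h => hA3 fun B hB hBp =>
    (h B hB hBp).trans (Nat.pow_le_pow_right hp.out.pos (by norm_num))
  have hT := transitivityHypothesis_of_scn hG oddPStable hA hA2
  have hAp : IsPGroup p A := P.2.to_le hA.1
  have hAc : IsMulCommutative A := le_centralizer_iff_isMulCommutative.1
    (fun a ha => mem_centralizer_iff.2 fun b hb => isSCN_abelian hA b hb a ha)
  obtain ⟨n, hn⟩ := hAp.exists_card_eq
  have hn0 : n ≠ 0 := fun h0 => hT.1 (Subgroup.card_eq_one.1 (by rw [hn, h0, pow_zero]))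
  have hπ : Cfsg.primesNotDvd (Nat.card A) = Cfsg.primesNotDvd p := by
    rw [hn]; exact primesNotDvd_prime_pow hn0
  obtain ⟨E, hEA, hEe, hEc⟩ := exists_elementary_of_not_pRankLE hA3
  have hEp : IsPGroup p E := isPGroup_of_exp hEe.2
  obtain ⟨Ω, hΩE, hΩc⟩ : ∃ Ω ≤ E, Nat.card Ω = p ^ 3 := by
    obtain ⟨i, hi⟩ := hEp.exists_card_eq
    have h3 : 3 ≤ i := by
      rw [hi] at hEc
      exact (Nat.pow_lt_pow_iff_right hp.out.one_lt).1 hEc
    obtain ⟨K, hK⟩ := Sylow.exists_subgroup_card_pow_prime (G := E) p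
      (n := 3) (by rw [hi]; exact pow_dvd_pow p h3)
    exact ⟨K.map E.subtype, map_subtype_le _, by
      rw [Subgroup.card_map_of_injective E.subtype_injective, hK]⟩
  have hZ : ¬ Cfsg.RankLE 2 ↥(A ⊓ centralizer (A : Set G)) := by
    rw [inf_eq_left.2 (le_centralizer_iff_isMulCommutative.2 hAc)]
    exact not_rankLE_of_not_pRankLE hA3
  have D : RankThreeData p A Ω :=
    { pgroup := hAp, comm := hAc, ne_bot := hT.1, ne_top := hT.2.1
      le := hΩE.trans hEA, elem := elementary_anti hEe hΩE, card := hΩc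
      inv_le := fun H hH hAH Y hYH hY hAY => by
        rw [← hπ]
        refine inv_le_piCoreOf hT hH hAH hYH ?_ hAY
        rw [hπ]
        exact isPiSubgroup_primesNotDvd.2 hY
      conj := fun r hr hrp Q₁ h₁ Q₂ h₂ => by
        haveI := Fact.mk hr
        obtain ⟨k, hk, hkQ⟩ := conjBy_of_rank_three hG hT hZ (q := r) (fun h => hrp (by
          rw [hn] at h
          exact (Nat.prime_dvd_prime_iff_eq hr hp.out).1 (hr.dvd_of_dvd_pow h))) Q₁ h₁ Q₂ h₂
        exact ⟨k, piCoreOf_le _ _ hk, hkQ⟩ }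
  by_cases hf : ∃ M : Subgroup G, IsCoatom M ∧ ¬ Cfsg.PRankLE p 2 ↥(Cfsg.fittingOf M)
  · obtain ⟨M, hM, hF⟩ := hf
    exact inUniqueMaximal_of_fitting_rank hG hM hF hAp hAc hA3
  push Not at hf
  have hfit : ∀ M : Subgroup G, IsCoatom M → Cfsg.PRankLE p 2 ↥(Cfsg.piCoreOf {p} M) := fun M hM =>
    TwoFusion.PRank.pRankLE_mono (le_fittingOf (piCoreOf_le _ _) (le_normalizer_piCoreOf _ _)
      (piCoreOf_singleton_isPGroup p M).isNilpotent) (hf M hM)
  by_cases hsmall : ∀ M : Subgroup G, IsCoatom M → A ≤ M →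
      ∀ s : ℕ, s.Prime → Cfsg.PRankLE s 2 ↥(Cfsg.piCoreOf {s} M)
  · exact inUniqueMaximal_of_small hG D hsmall
  push Not at hsmall
  obtain ⟨L, hL, hAL, q, hq, hrank⟩ := hsmall
  haveI := Fact.mk hq
  have hqp : q ≠ p := by
    rintro rfl
    exact hrank (hfit L hL)
  obtain ⟨U, hU⟩ := exists_uModule hG hL hrank
  exact inUniqueMaximal_of_module hG D hqp hU hAL hfit

end CfsgLib.OddOrder
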