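import Cfsg.Agent.Lib.OddOrder.SCNUniqueBasic

/-!
BG 9.5: the criterion placing the invariant `r`-subgroups of a centraliser in a maximal subgroup.
-/

set_option autoImplicit false
set_option linter.style.haveILetI false

open scoped Pointwise

namespace CfsgLib.OddOrder

open Subgroup

variable {G : Type*} [Group G] [Finite G] (hG : Cfsg.IsMinSimpleOddOrder G)
  {p : ℕ} [hp : Fact p.Prime] {A Ω : Subgroup G} (D : RankThreeData p A Ω)
  {q : ℕ} [hq : Fact q.Prime] (hqp : q ≠ p) {L U : Subgroup G} (hU : UModule q L U) (hAL : A ≤ L)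
include hG D hqp hU hAL

theorem exists_centralizer_le {H : Subgroup G} (hH : IsLine Ω H)
    (hne : U ⊓ centralizer (H : Set G) ≠ ⊥) :
    ∃ z ∈ H, z ≠ 1 ∧ centralizer ({z} : Set G) ≤ L := by
  have hAU : A ≤ normalizer (U : Set G) := hAL.trans hU.norm
  by_cases hUH : U ≤ U ⊓ centralizer (H : Set G)
  · obtain ⟨z, hz, hz1⟩ := D.line_ne_one hH
    exact ⟨z, hz, hz1, hU.le_of_noncyclic hG le_rfl hU.noncyclic
      (centralizer_singleton_ne_top hG hz1)
      ((hUH.trans inf_le_right).trans (Subgroup.centralizer_le (Set.singleton_subset_iff.2 hz)))⟩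
  obtain ⟨H', hH', hne'⟩ := D.exists_line_not_le hqp hU.pgroup hAU hUH
  obtain ⟨z, ⟨hzH, hzH'⟩, hz1⟩ := D.line_inf hH hH'
  refine ⟨z, hzH, hz1, ?_⟩
  by_contra hzL
  have hc := hU.isCyclic_of_not_le hG hz1 hzL
  have h1 : U ⊓ centralizer (H : Set G) = U ⊓ centralizer ({z} : Set G) := eq_of_le_of_isCyclic
    (inf_le_inf_left _ (Subgroup.centralizer_le (Set.singleton_subset_iff.2 hzH)))
    (fun x hx => hU.exp x hx.1) hc hne
  exact hne' (h1 ▸ inf_le_inf_left _ (Subgroup.centralizer_le (Set.singleton_subset_iff.2 hzH')))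

theorem centralizer_le_coatom : centralizer (A : Set G) ≤ L := by
  obtain ⟨H, hH, hne⟩ := D.exists_line_not_le hqp hU.pgroup (hAL.trans hU.norm) (W := ⊥) fun h =>
    hU.noncyclic (by rw [le_bot_iff.1 h]; exact isCyclic_of_subsingleton)
  obtain ⟨z, hz, -, hzL⟩ := exists_centralizer_le hG D hqp hU hAL hH fun h => hne h.le
  exact (D.cent_le_singleton (hH.1 hz)).trans hzL

theorem inv_sylow_le {Y : Subgroup G} (hY : IsPGroup q Y) (hAY : A ≤ normalizer (Y : Set G)) :
    Y ≤ L := by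
  obtain ⟨Q, hQ, hUQ⟩ := exists_maxInvSubgroup_ge (A := A) (π := ({q} : Set ℕ)) (Y := U)
    ⟨le_top, isPiSubgroup_singleton.2 hU.pgroup, hAL.trans hU.norm⟩
  obtain ⟨c, hc, hYc⟩ := D.exists_conj_ge hqp hQ hY hAY
  have hQL : Q ≤ L := hU.le_of_noncyclic hG le_rfl hU.noncyclic
    (isPGroup_ne_top hG (isPiSubgroup_singleton.1 hQ.1.2.1)) hUQ
  have hcL := centralizer_le_coatom hG D hqp hU hAL hc
  refine hYc.trans ?_
  rintro _ ⟨x, hx, rfl⟩
  exact mul_mem (mul_mem hcL (hQL hx)) (inv_mem hcL)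

/-- Elements of order `q` of `C(b) ∩ L` commuting with `C_U(b)` lie in it. -/
theorem mem_of_line_fact {b : G} (hb : b ∈ Ω) (hb1 : b ≠ 1)
    (hbL : ¬ centralizer ({b} : Set G) ≤ L) (hne : U ⊓ centralizer ({b} : Set G) ≠ ⊥) {x : G}
    (hxL : x ∈ L) (hxb : x ∈ centralizer ({b} : Set G)) (hxq : x ^ q = 1)
    (hxW : x ∈ centralizer ((U ⊓ centralizer ({b} : Set G) : Subgroup G) : Set G)) :
    x ∈ U ⊓ centralizer ({b} : Set G) := by
  set W := U ⊓ centralizer ({b} : Set G) with hW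
  by_contra hxW'
  have hWc := hU.isCyclic_of_not_le hG hb1 hbL
  have hWe : Cfsg.IsElementaryAbelian q W := by
    haveI := hWc
    exact ⟨inferInstance, fun w hw => hU.exp w hw.1⟩
  set X := W ⊔ zpowers x with hX
  have hXe : Cfsg.IsElementaryAbelian q X := elementary_sup_zpowers hWe hxW hxq
  have hXb : X ≤ centralizer ({b} : Set G) := sup_le inf_le_right (zpowers_le.2 hxb)
  have hXL : X ≤ L := sup_le (inf_le_left.trans hU.le) (zpowers_le.2 hxL)
  have hXc : q < Nat.card X := by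
    have h1 : W < X := lt_of_le_of_ne le_sup_left fun h =>
      hxW' (h ▸ mem_sup_right (mem_zpowers x))
    have h2 : q ≤ Nat.card W := by
      obtain ⟨n, hn⟩ := (isPGroup_of_exp hWe.2).exists_card_eq
      rcases n with _ | n
      · exact absurd (Subgroup.card_eq_one.1 (hn.trans (pow_zero q))) hne
      · rw [hn]; exact Nat.le_self_pow n.succ_ne_zero q
    exact h2.trans_lt (lt_of_le_of_ne (Subgroup.card_le_of_le h1.le)
      fun h => h1.ne (Subgroup.eq_of_le_of_card_ge h1.le h.ge))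
  have hXp : IsPGroup q X := isPGroup_of_exp hXe.2
  have hbo : (Nat.card (zpowers b)).Coprime q := by
    rw [Nat.card_zpowers, orderOf_eq_prime (D.elem.2 b hb) hb1]
    exact (Nat.coprime_primes hp.out hq.out).2 (Ne.symm hqp)
  have h := Solvable.thompson_pxq (P := X) (Q := zpowers b) (U := U) hXp hbo hU.pgroup
    (le_centralizer_iff.1 (zpowers_le.2 fun y hy => mem_centralizer_singleton_iff.1 (hXb hy)))
    (hXL.trans hU.norm) (zpowers_le.2 (hU.norm (hAL (D.le hb)))) (by
      rintro y ⟨hyU, hyX⟩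
      by_contra hyb
      have hyb' : y ∉ X := fun h => hyb fun z hz => by
        obtain ⟨i, rfl⟩ := mem_zpowers_iff.1 hz
        exact ((show Commute y b from mem_centralizer_singleton_iff.1 (hXb h)).symm.zpow_left i).eq
      have hlt : q ^ 2 < Nat.card ↥(X ⊔ zpowers y) := by
        obtain ⟨i, hi⟩ := hXp.exists_card_eq
        rw [hi] at hXc
        have h2 : 1 < i := (Nat.pow_lt_pow_iff_right hq.out.one_lt).1 (by rwa [pow_one])
        calc q ^ 2 ≤ q ^ i := Nat.pow_le_pow_right hq.out.pos h2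
          _ = Nat.card X := hi.symm
          _ < _ := lt_of_le_of_ne (Subgroup.card_le_of_le le_sup_left) fun h => hyb' (by
            rw [Subgroup.eq_of_le_of_card_ge le_sup_left h.ge]
            exact mem_sup_right (mem_zpowers y))
      refine hbL (le_of_inUniqueMaximal
        (hU.mem_of_rank X hXp (elementary_not_isCyclic hXe (by
          obtain ⟨i, hi⟩ := hXp.exists_card_eq
          exact hXc)) ?_) hU.coatom hXL (centralizer_singleton_ne_top hG hb1) hXb)
      exact not_pRankLE_of_elementary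
        (sup_le (le_centralizer_iff_isMulCommutative.2 hXe.1) (zpowers_le.2 hyX))
        (elementary_sup_zpowers hXe hyX (hU.exp y hyU)) hlt)
  have hUW : U ≤ centralizer ({b} : Set G) := fun u hu => mem_centralizer_singleton_iff.2
    (mem_centralizer_iff.1 (h (mem_zpowers b)) u hu)
  refine hU.noncyclic ?_
  rw [← inf_eq_left.2 hUW]
  exact hWc

/-- The criterion. -/
theorem inv_le_of_cent {b a : G} (hb : b ∈ Ω) (hb1 : b ≠ 1) (ha : a ∈ Ω)
    (hbL : ¬ centralizer ({b} : Set G) ≤ L)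
    (haW : ¬ U ⊓ centralizer ({b} : Set G) ≤ centralizer ({a} : Set G))
    {r : ℕ} [hr : Fact r.Prime] (hrp : r ≠ p) (hrq : r ≠ q)
    (hcent : ∀ T : Subgroup G, IsPGroup r T → A ≤ normalizer (T : Set G) →
      T ≤ centralizer ({b} : Set G) → a ∈ centralizer (T : Set G))
    {Y : Subgroup G} (hY : IsPGroup r Y) (hAY : A ≤ normalizer (Y : Set G))
    (hYb : Y ≤ centralizer ({b} : Set G)) : Y ≤ L := by
  classical
  set Cb := centralizer ({b} : Set G) with hCb
  set W := U ⊓ Cb with hWdef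
  have hACb : A ≤ Cb := D.le_centralizer_singleton hb
  have hWc : IsCyclic W := hU.isCyclic_of_not_le hG hb1 hbL
  have hWne : W ≠ ⊥ := fun h => haW (h ▸ bot_le)
  have hWexp : ∀ x ∈ W, x ^ q = 1 := fun x hx => hU.exp x hx.1
  have hWq : IsPGroup q W := isPGroup_of_exp hWexp
  have hAW : A ≤ normalizer (W : Set G) :=
    le_normalizer_inf_of_le (hAL.trans hU.norm) (hACb.trans le_normalizer)
  have hCbtop : Cb ≠ ⊤ := centralizer_singleton_ne_top hG hb1
  set K := Cfsg.piCoreOf (Cfsg.primesNotDvd p) Cb with hK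
  have hKCb : K ≤ Cb := piCoreOf_le _ _
  have hAK : A ≤ normalizer (K : Set G) := hACb.trans (le_normalizer_piCoreOf _ _)
  have hcopK : (Nat.card A).Coprime (Nat.card K) := by
    obtain ⟨n, hn⟩ := D.pgroup.exists_card_eq
    rw [hn]; exact (piCoreOf_primesNotDvd_coprime Cb).symm.pow_left n
  haveI := D.pgroup.isNilpotent
  have hsolv : Group.IsSolvable A ∨ Group.IsSolvable K := Or.inl inferInstance
  haveI : Group.IsSolvable K :=
    isSolvable_of_ne_top hG fun h => hCbtop (top_le_iff.1 (h ▸ hKCb))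
  have hWK : W ≤ K := D.inv_le_core hqp hCbtop hACb inf_le_right hWq hAW
  have hYK : Y ≤ K := D.inv_le_core hrp hCbtop hACb hYb hY hAY
  obtain ⟨S, hYS, hAS⟩ := Solvable.exists_invariant_sylow_ge hAK hcopK hsolv r hYK hY hAY
  set T := (S : Subgroup K).map K.subtype with hT
  have haT : a ∈ centralizer (T : Set G) :=
    hcent T (S.2.map _) hAS ((map_subtype_le _).trans hKCb)
  set N := Cfsg.piCoreOf (Cfsg.primesNotDvd r) K with hN
  have haA : a ∈ A := D.le ha
  have hAN : A ≤ normalizer (N : Set G) := hAK.trans (normalizer_le_normalizer_piCoreOf _ _)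
  have hkerN : ∀ k : K, barHom K r k = 1 ↔ (k : G) ∈ N := fun k => by
    rw [hN, ← map_pPrimeCore_subtype]
    refine ⟨fun h => mem_map_of_mem _ (mem_pPrimeCore_of_barHom_eq_one h), ?_⟩
    rintro ⟨x, hx, hxk⟩
    rw [← (K.subtype_injective hxk : x = k), ← MonoidHom.mem_ker, barHom_ker]
    exact hx
  -- a nontrivial element of `[W, a]` lies in `N`
  obtain ⟨w, hw, hwa⟩ := SetLike.not_le_iff_exists.1 haW
  set c := a * w * a⁻¹ * w⁻¹ with hc
  have hw' : a * w * a⁻¹ ∈ W := (mem_normalizer_iff.1 (hAW haA) w).1 hw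
  have hcW : c ∈ W := mul_mem hw' (inv_mem hw)
  have hc1 : c ≠ 1 := fun h => hwa (mem_centralizer_singleton_iff.2 (by
    rw [hc, mul_inv_eq_one, mul_inv_eq_iff_eq_mul] at h
    exact h.symm))
  have hWz : zpowers c = W :=
    eq_of_le_of_isCyclic (zpowers_le.2 hcW) hWexp hWc fun h => hc1 (zpowers_eq_bot.1 h)
  have hWN : W ≤ N := by
    rw [← hWz, zpowers_le]
    set c' : K := ⟨c, hWK hcW⟩ with hc'
    refine (hkerN c').1 ?_
    set f := barHom K r with hf
    set R := Cfsg.pCore r (K ⧸ Cfsg.piCore (Cfsg.primesNotDvd r) K) with hR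
    haveI : R.Normal := Solvable.pCore_normal r _
    have hRS : R ≤ (S : Subgroup K).map f := by
      have := Solvable.pCore_le_sylow (S.mapSurjective (barHom_surjective (Y := K) (p := r)))
      rwa [Sylow.coe_mapSurjective] at this
    have hcR : f c' ∈ R := by
      refine centralizer_pCore_bar_le (mem_centralizer_iff.2 fun z hz => ?_)
      obtain ⟨t, ht, rfl⟩ := hRS hz
      set w₁ : K := ⟨w, hWK hw⟩
      set w₂ : K := ⟨a * w * a⁻¹, hWK hw'⟩
      have hz' : f (w₁⁻¹ * t * w₁) ∈ R := by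
        have h := Normal.conj_mem inferInstance (f t) hz (f w₁)⁻¹
        rw [inv_inv] at h
        rwa [map_mul, map_mul, map_inv]
      obtain ⟨t', ht', htt⟩ := hRS hz'
      have hn : ((t'⁻¹ * (w₁⁻¹ * t * w₁) : K) : G) ∈ N :=
        (hkerN _).1 (by rw [map_mul, map_inv, htt, inv_mul_cancel])
      have hn' := (mem_normalizer_iff.1 (hAN haA) _).1 hn
      have hat : ∀ u ∈ (S : Subgroup K), a * (u : G) = (u : G) * a := fun u hu =>
        (mem_centralizer_iff.1 haT _ (mem_map_of_mem K.subtype hu)).symm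
      have e : a * ((t'⁻¹ * (w₁⁻¹ * t * w₁) : K) : G) * a⁻¹ =
          ((t'⁻¹ * (w₂⁻¹ * t * w₂) : K) : G) := by
        simp only [Subgroup.coe_mul, Subgroup.coe_inv, w₁, w₂]
        have e1 : a * (t' : G)⁻¹ = (t' : G)⁻¹ * a :=
          ((show Commute a (t' : G) from hat t' ht').inv_right).eq
        have e2 : (t : G) = a * (t : G) * a⁻¹ := by rw [hat t ht, mul_inv_cancel_right]
        calc a * ((t' : G)⁻¹ * (w⁻¹ * (t : G) * w)) * a⁻¹
            = (a * (t' : G)⁻¹) * w⁻¹ * (t : G) * w * a⁻¹ := by group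
          _ = (t' : G)⁻¹ * ((a * w * a⁻¹)⁻¹ * (a * (t : G) * a⁻¹) * (a * w * a⁻¹)) := by
            rw [e1]; group
          _ = _ := by rw [← e2]
      rw [e] at hn'
      have h2 : f (w₂⁻¹ * t * w₂) = f (w₁⁻¹ * t * w₁) := by
        have h3 := (hkerN _).2 hn'
        rw [map_mul, map_inv, inv_mul_eq_one] at h3
        rw [← h3, htt]
      have hc'' : c' = w₂ * w₁⁻¹ := Subtype.ext (by
        simp only [c', w₁, w₂, hc, Subgroup.coe_mul, Subgroup.coe_inv])
      simp only [map_mul, map_inv] at h2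
      rw [hc'', map_mul, map_inv]
      calc f t * (f w₂ * (f w₁)⁻¹) = f w₂ * ((f w₂)⁻¹ * f t * f w₂) * (f w₁)⁻¹ := by group
        _ = f w₂ * ((f w₁)⁻¹ * f t * f w₁) * (f w₁)⁻¹ := by rw [h2]
        _ = f w₂ * (f w₁)⁻¹ * f t := by group
    obtain ⟨n, hn⟩ := IsPGroup.iff_orderOf.mp (Solvable.pCore_isPGroup r _) ⟨f c', hcR⟩
    rw [Subgroup.orderOf_mk] at hn
    rw [← orderOf_eq_one_iff]
    have h1 : orderOf (f c') ∣ q := (orderOf_map_dvd f c').trans (orderOf_dvd_of_pow_eq_one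
      (Subtype.ext (hWexp c hcW)))
    exact Nat.eq_one_of_dvd_coprimes
      (((Nat.coprime_primes hq.out hr.out).2 (Ne.symm hrq)).pow_right n) h1 (dvd_of_eq hn)
  -- the invariant Sylow `q`-subgroup of `N`
  have hNK : N ≤ K := piCoreOf_le _ _
  have hcopN := hcopK.coprime_dvd_right (Subgroup.card_dvd_of_le hNK)
  obtain ⟨S₂, hWS₂, hAS₂⟩ := Solvable.exists_invariant_sylow_ge hAN hcopN (Or.inl inferInstance) q
    hWN hWq hAW
  set T₁ := (S₂ : Subgroup N).map N.subtype with hT₁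
  have hT₁L : T₁ ≤ L := inv_sylow_le hG D hqp hU hAL (S₂.2.map _) hAS₂
  have hT₁b : T₁ ≤ Cb := (map_subtype_le _).trans (hNK.trans hKCb)
  have hT₁C : T₁ ≤ centralizer (W : Set G) := le_centralizer_of_isCyclic (S₂.2.map _)
    (fun x hx => le_normalizer_inf_of_le (A := zpowers x) ((zpowers_le.2 (hT₁L hx)).trans hU.norm)
      ((zpowers_le.2 (hT₁b hx)).trans le_normalizer) (mem_zpowers x)) hWexp hWc
  have hNT₁ : normalizer (T₁ : Set G) ≤ L := by
    refine le_trans ?_ (hU.normalizer_le hG inf_le_left hWne hWc)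
    intro g hg
    refine mem_normalizer_fintype fun x hx => ?_
    have hgx : g * x * g⁻¹ ∈ T₁ := (mem_normalizer_iff.1 hg x).1 (hWS₂ hx)
    exact mem_of_line_fact hG D hqp hU hAL hb hb1 hbL hWne (hT₁L hgx) (hT₁b hgx)
      (by rw [← MulAut.conj_apply, ← map_pow, hWexp x hx, map_one]) (hT₁C hgx)
  have hKN : K ≤ N ⊔ (K ⊓ L) := by
    intro g hg
    obtain ⟨Q, hQ⟩ := Solvable.conj_smul_map_sylow (le_normalizer_piCoreOf _ _ hg) S₂
    obtain ⟨n, hn⟩ := MulAction.exists_smul_eq N S₂ Q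
    have h := congr_arg (fun R : Sylow q N => (R : Subgroup N).map N.subtype) hn
    change (MulAut.conj n • (S₂ : Subgroup N)).map N.subtype = _ at h
    rw [Solvable.map_conj_smul, hQ] at h
    have hfix : MulAut.conj ((n : G)⁻¹ * g) • T₁ = T₁ := by
      rw [map_mul, mul_smul, hT₁, ← h, ← mul_smul, ← map_mul, Subgroup.coe_subtype, inv_mul_cancel, map_one, one_smul]
    have hm : (n : G)⁻¹ * g ∈ K ⊓ L := ⟨K.mul_mem (K.inv_mem (hNK n.2)) hg,
      hNT₁ (Solvable.conj_smul_eq_self_iff.mp hfix)⟩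
    rw [show g = (n : G) * ((n : G)⁻¹ * g) by group]
    exact mul_mem (mem_sup_left n.2) (mem_sup_right hm)
  -- Sylow `r`-subgroups
  have hAKL : A ≤ normalizer ((K ⊓ L : Subgroup G) : Set G) :=
    le_normalizer_inf_of_le hAK (hAL.trans le_normalizer)
  obtain ⟨S₃, hS₃⟩ := Solvable.exists_invariant_sylow hAKL
    (hcopK.coprime_dvd_right (Subgroup.card_dvd_of_le inf_le_left)) (Or.inl inferInstance) r
  set T₂ := (S₃ : Subgroup ↥(K ⊓ L)).map (K ⊓ L).subtype with hT₂
  have hT₂K : T₂ ≤ K := (map_subtype_le _).trans inf_le_left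
  have hfac : (Nat.card ↥(K ⊓ L)).factorization r = (Nat.card K).factorization r := by
    refine le_antisymm ((Nat.factorization_le_iff_dvd Nat.card_pos.ne' Nat.card_pos.ne').2
      (Subgroup.card_dvd_of_le inf_le_left) r) ?_
    have hdvd : Nat.card K ∣ Nat.card N * Nat.card ↥(K ⊓ L) :=
      (Subgroup.card_dvd_of_le hKN).trans
        (Solvable.card_sup_dvd (inf_le_left.trans (le_normalizer_piCoreOf _ _)))
    have h1 := (Nat.factorization_le_iff_dvd Nat.card_pos.ne'
      (Nat.mul_ne_zero Nat.card_pos.ne' Nat.card_pos.ne')).2 hdvd r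
    rw [Nat.factorization_mul Nat.card_pos.ne' Nat.card_pos.ne', Finsupp.add_apply,
      Nat.factorization_eq_zero_of_not_dvd (n := Nat.card N) (hr.out.coprime_iff_not_dvd.1
        (piCoreOf_primesNotDvd_coprime K).symm), zero_add] at h1
    exact h1
  let S₄ : Sylow r K := Sylow.ofCard (T₂.subgroupOf K) (by
    rw [Nat.card_congr (subgroupOfEquivOfLe hT₂K).toEquiv, hT₂,
      Subgroup.card_map_of_injective (K ⊓ L).subtype_injective, S₃.card_eq_multiplicity, hfac])
  have hS₄ : (S₄ : Subgroup K).map K.subtype = T₂ := map_subgroupOf_eq_of_le hT₂K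
  obtain ⟨k, hk, hkS⟩ := Solvable.exists_invariant_sylow_conj hAK hcopK hsolv S₄ S
    (by rw [hS₄]; exact hS₃) hAS
  refine hYS.trans ?_
  have h := congr_arg (fun R : Sylow r K => (R : Subgroup K).map K.subtype) hkS
  change (MulAut.conj k • (S₄ : Subgroup K)).map K.subtype = _ at h
  rw [Solvable.map_conj_smul, hS₄] at h
  rw [hT, ← h]
  have hkL : (k : G) ∈ L := centralizer_le_coatom hG D hqp hU hAL hk
  rintro _ ⟨x, hx, rfl⟩
  exact mul_mem (mul_mem hkL ((map_subtype_le _).trans inf_le_right hx)) (inv_mem hkL)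

end CfsgLib.OddOrder
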