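import Cfsg.Agent.Lib.OddOrder.Section15Centralizer
import Cfsg.Agent.Lib.Frobenius.SmallFixed
import Cfsg.Agent.Lib.Solvable.CoprimeAction
import Cfsg.Agent.S1420
import Cfsg.Agent.S1365

/-!
BG 15.1 and 15.4: `M'' ≤ F(M) = M_F C_M(M_F)`.
-/

set_option autoImplicit false
set_option maxHeartbeats 400000
set_option linter.style.haveILetI false

open scoped Pointwise commutatorElement

namespace CfsgLib.OddOrder

open Subgroup

variable {G : Type*} [Group G] [Finite G]

omit [Finite G] in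
/-- If `C` is nilpotent modulo a subgroup meeting it centrally it is nilpotent. -/
theorem isNilpotent_of_central_inf {M C D : Subgroup G} {N : Subgroup M} [N.Normal] (hCM : C ≤ M)
    (hDM : D ≤ M) (hD : Group.IsNilpotent D) (hC : C ≤ N.map M.subtype ⊔ D)
    (hcen : C ⊓ N.map M.subtype ≤ centralizer (C : Set G)) : Group.IsNilpotent C := by
  set f := (QuotientGroup.mk' N).comp (Subgroup.inclusion hCM) with hf
  haveI : Group.IsNilpotent ↥(D.subgroupOf M) := by
    haveI := hD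
    exact Group.nilpotent_of_mulEquiv (subgroupOfEquivOfLe hDM).symm
  haveI : Group.IsNilpotent ↥((D.subgroupOf M).map (QuotientGroup.mk' N)) :=
    Group.nilpotent_of_surjective ((QuotientGroup.mk' N).subgroupMap (D.subgroupOf M))
      ((QuotientGroup.mk' N).subgroupMap_surjective (D.subgroupOf M))
  have hle : f.range ≤ (D.subgroupOf M).map (QuotientGroup.mk' N) := by
    rintro _ ⟨c, rfl⟩
    have h1 : C.subgroupOf M ≤ N ⊔ D.subgroupOf M := by
      rw [← map_le_map_iff_of_injective M.subtype_injective, Subgroup.map_sup,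
        map_subgroupOf_eq_of_le hCM, map_subgroupOf_eq_of_le hDM]
      exact hC
    have h2 := map_mono (f := QuotientGroup.mk' N) h1
    rw [Subgroup.map_sup, (Subgroup.map_eq_bot_iff _).2 (QuotientGroup.ker_mk' N).ge, bot_sup_eq] at h2
    exact h2 ⟨_, c.2, rfl⟩
  haveI : Group.IsNilpotent ↥f.range := Group.nilpotent_of_mulEquiv (subgroupOfEquivOfLe hle)
  refine Subgroup.isNilpotent_of_ker_le_center f.rangeRestrict ?_
  rw [MonoidHom.ker_rangeRestrict]
  intro c hc
  rw [hf, MonoidHom.mem_ker, MonoidHom.comp_apply, QuotientGroup.mk'_apply,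
    QuotientGroup.eq_one_iff] at hc
  refine mem_center_iff.2 fun d => Subtype.ext ?_
  exact mem_centralizer_iff.1 (hcen ⟨c.2, ⟨_, hc, rfl⟩⟩) (d : G) d.2

variable (hG : Cfsg.IsMinSimpleOddOrder G) {M : Subgroup G} (hM : IsCoatom M)
include hG hM

/-- `C_M(M_F)` lies in `M_σ` when `M_F ≠ M_σ`. -/
theorem centralizer_fittingHallOf_le_sigmaCore
    (hne : Cfsg.fittingHallOf M ≠ Cfsg.sigmaCore M) :
    M ⊓ centralizer (Cfsg.fittingHallOf M : Set G) ≤ Cfsg.sigmaCore M := by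
  obtain ⟨K, U, hKU⟩ := exists_sigmaDecomposition hG hM
  obtain ⟨hU, -⟩ := Cfsg.Agent.S1437.result hG M hM K U hKU hne
  have hHS := fittingHallOf_le_sigmaCore hG hM
  obtain ⟨X, -, hXτ, hX⟩ := centralizer_hall_split hG hM hHS (fittingHallOf_ne_bot hG hM)
    ((fittingHallOf_coprime_relIndex M).coprime_dvd_right
      (Dvd.intro _ (relIndex_mul_relIndex _ _ M hHS (piCoreOf_le _ M))))
  have hX1 : X = ⊥ := by
    refine card_eq_one.1 (Nat.eq_one_iff_not_exists_prime_dvd.2 fun p hp hd => ?_)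
    haveI := Fact.mk hp
    have hXM : X ≤ M := (le_sup_right.trans hX.ge).trans inf_le_left
    have hτ := hXτ p hp hd
    have hUh := (decomposition_U_hall_compl hG hM hKU).2.2 p hp
      ⟨hτ.2.1, fun hκ => hτ.2.2.2 (kappa_rank_one hκ)⟩
    rw [hU, relIndex_bot_left] at hUh
    exact hUh (hd.trans (card_dvd_of_le hXM))
  rw [hX, hX1, sup_bot_eq]
  exact inf_le_left

/-- `C_M(M_F)` is nilpotent. -/
theorem isNilpotent_centralizer_fittingHallOf :
    Group.IsNilpotent ↥(M ⊓ centralizer (Cfsg.fittingHallOf M : Set G)) := by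
  set H := Cfsg.fittingHallOf M with hH
  set C := M ⊓ centralizer (H : Set G) with hC
  have hHS := fittingHallOf_le_sigmaCore hG hM
  obtain ⟨X, hXc, -, hX⟩ := centralizer_hall_split hG hM hHS (fittingHallOf_ne_bot hG hM)
    ((fittingHallOf_coprime_relIndex M).coprime_dvd_right
      (Dvd.intro _ (relIndex_mul_relIndex _ _ M hHS (piCoreOf_le _ M))))
  by_cases hne : H = Cfsg.sigmaCore M
  · -- `C` is abelian
    refine Solvable.isNilpotent_of_comm fun a b => Subtype.ext ?_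
    have hXC : X ≤ C := le_sup_right.trans hX.ge
    have hgen : C ≤ (Cfsg.sigmaCore M ⊓ centralizer (H : Set G)) ⊔ X := hX.le
    have hSC : Cfsg.sigmaCore M ⊓ centralizer (H : Set G) ≤ centralizer (C : Set G) :=
      fun z hz => mem_centralizer_iff.2 fun c hc =>
        (mem_centralizer_iff.1 hc.2 z (hne ▸ hz.1)).symm
    haveI := hXc
    have hXC' : X ≤ centralizer (C : Set G) := by
      intro x hx
      have : C ≤ centralizer ({x} : Set G) := by
        refine hgen.trans (sup_le (fun z hz => ?_) fun y hy => ?_)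
        · exact mem_centralizer_singleton_iff.2
            (mem_centralizer_iff.1 (hSC hz) x (hXC hx)).symm
        · obtain ⟨gen, hgen'⟩ := IsCyclic.exists_generator (α := X)
          obtain ⟨i, hi⟩ := mem_zpowers_iff.1 (hgen' ⟨x, hx⟩)
          obtain ⟨j, hj⟩ := mem_zpowers_iff.1 (hgen' ⟨y, hy⟩)
          refine mem_centralizer_singleton_iff.2 ?_
          have := (Commute.zpow_zpow_self gen j i).eq
          rw [hi, hj] at this
          exact congrArg Subtype.val this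
      exact mem_centralizer_iff.2 fun c hc => mem_centralizer_singleton_iff.1 (this hc)
    exact (mem_centralizer_iff.1 (hgen.trans (sup_le hSC hXC') b.2) (a : G) a.2)
  obtain ⟨Q, D, hQH, -, hQD, hD, -⟩ := exists_sigmaCore_split hG hM
  refine isNilpotent_of_central_inf (N := Cfsg.fittingHall M) inf_le_left
    (hQD.2.1.trans (piCoreOf_le _ M)) hD (fun c hc => ?_) (fun z hz => ?_)
  · obtain ⟨a, ha, d, hd, rfl⟩ :=
      hQD.2.2.2 c (centralizer_fittingHallOf_le_sigmaCore hG hM hne hc)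
    exact mul_mem (mem_sup_left (hQH ha)) (mem_sup_right hd)
  · exact mem_centralizer_iff.2 fun c hc => (mem_centralizer_iff.1 hc.2 z hz.2).symm

/-- `F(M) = M_F C_M(M_F)`. -/
theorem fittingOf_eq :
    Cfsg.fittingOf M =
      (M ⊓ centralizer (Cfsg.fittingHallOf M : Set G)) ⊔ Cfsg.fittingHallOf M := by
  refine le_antisymm (fittingOf_le_sup_centralizer M) (sup_le ?_ (fittingHallOf_le_fittingOf M))
  refine le_fittingOf inf_le_left ((le_inf le_normalizer ?_).trans inf_normalizer_le_normalizer_inf)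
    (isNilpotent_centralizer_fittingHallOf hG hM)
  intro m hm
  rw [← Solvable.conj_smul_eq_self_iff]
  refine le_antisymm ?_ ?_
  · rintro _ ⟨c, hc, rfl⟩
    refine mem_centralizer_iff.2 fun h hh => ?_
    have h1 := (mem_normalizer_iff.1 (inv_mem (le_normalizer_fittingHallOf M hm)) h).1 hh
    rw [inv_inv] at h1
    show h * (m * c * m⁻¹) = m * c * m⁻¹ * h
    calc h * (m * c * m⁻¹) = m * (m⁻¹ * h * m * c) * m⁻¹ := by group
      _ = m * (c * (m⁻¹ * h * m)) * m⁻¹ := by rw [mem_centralizer_iff.1 hc _ h1]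
      _ = m * c * m⁻¹ * h := by group
  · intro c hc
    refine ⟨m⁻¹ * c * m, mem_centralizer_iff.2 fun h hh => ?_, by simp [mul_assoc]⟩
    have h1 := (mem_normalizer_iff.1 (le_normalizer_fittingHallOf M hm) h).1 hh
    calc h * (m⁻¹ * c * m) = m⁻¹ * (m * h * m⁻¹ * c) * m := by group
      _ = m⁻¹ * (c * (m * h * m⁻¹)) * m := by rw [mem_centralizer_iff.1 hc _ h1]
      _ = m⁻¹ * c * m * h := by group

/-- When `M_F ≠ M_σ`, the derived subgroup of a complement `D` of `Q` centralizes `Q`. -/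
theorem commutator_le_centralizer_of_case {K U Q D : Subgroup G}
    (hKU : Cfsg.IsSigmaDecomposition M K U) (hne : Cfsg.fittingHallOf M ≠ Cfsg.sigmaCore M)
    (hQS : Q ≤ Cfsg.sigmaCore M) (hQn : M ≤ normalizer (Q : Set G))
    (hQD : Cfsg.IsComplIn Q D (Cfsg.sigmaCore M)) (hKD : K ≤ normalizer (D : Set G))
    (hQ0n : M ≤ normalizer ((Q ⊓ centralizer (D : Set G) : Subgroup G) : Set G))
    (hco : (Nat.card Q).Coprime (Nat.card D))
    (hsat : ∀ a ∈ Q, ∀ b ∈ Q,
      a ^ Nat.card ↥(Cfsg.sigmaCore M ⊓ centralizer (K : Set G)) ∈ Q ⊓ centralizer (D : Set G) ∧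
        a * b * a⁻¹ * b⁻¹ ∈ Q ⊓ centralizer (D : Set G))
    (hDq : ¬ Nat.card ↥(Cfsg.sigmaCore M ⊓ centralizer (K : Set G)) ∣ Nat.card D) :
    ⁅D, D⁆ ≤ centralizer (Q : Set G) := by
  obtain ⟨-, -, hKp, hq, -, -⟩ := Cfsg.Agent.S1437.result hG M hM K U hKU hne
  set Kst := Cfsg.sigmaCore M ⊓ centralizer (K : Set G) with hKst
  set q := Nat.card Kst with hq'
  haveI := Fact.mk hq
  have hK1 : K ≠ ⊥ := fun h => hKp.one_lt.ne' (by rw [h, card_bot])
  obtain ⟨hfix, -⟩ := Cfsg.Agent.S1430.result hG M hM K hKU.hall hK1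
  set Q₀ := Q ⊓ centralizer (D : Set G) with hQ₀
  have hSM : Cfsg.sigmaCore M ≤ M := piCoreOf_le _ M
  have hKM : K ≤ M := hKU.hall.1
  have hDM : D ≤ M := hQD.2.1.trans hSM
  have hQM : Q ≤ M := hQS.trans hSM
  have hKq : ¬ q ∣ Nat.card K := fun h => kappa_not_sigma (hKU.hall.2.1 q hq h)
    (sigma_of_dvd_sigmaCore hq (card_dvd_of_le inf_le_left))
  haveI : (Q₀.subgroupOf M).Normal := normal_subgroupOf_of_le_normalizer hQ0n
  set f := QuotientGroup.mk' (Q₀.subgroupOf M) with hf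
  set V := (Q.subgroupOf M).map f
  set DB := (D.subgroupOf M).map f
  set KB := (K.subgroupOf M).map f
  have hker : ∀ {x : M}, f x = 1 ↔ (x : G) ∈ Q₀ := by
    intro x
    rw [hf, QuotientGroup.mk'_apply, QuotientGroup.eq_one_iff, mem_subgroupOf]
  have himg : ∀ {A B : Subgroup G}, A ≤ normalizer (B : Set G) →
      (A.subgroupOf M).map f ≤ normalizer (((B.subgroupOf M).map f : Subgroup _) : Set _) :=
    fun h => (map_mono ((comap_mono h).trans (le_normalizer_comap M.subtype))).trans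
      (le_normalizer_map f)
  have hcardle : ∀ {A : Subgroup G}, A ≤ M → Nat.card ↥((A.subgroupOf M).map f) ∣ Nat.card A :=
    fun h => (card_map_dvd _ f).trans (Nat.card_congr (subgroupOfEquivOfLe h).toEquiv).dvd
  have hDQ₀ : ∀ {d : G}, d ∈ D → d ∈ Q₀ → d = 1 := fun hd hd' => by
    rw [← mem_bot, ← hQD.2.2.1]
    exact mem_inf.2 ⟨hd'.1, hd⟩
  -- it suffices to centralize `V = Q / Q₀`
  suffices hV : ⁅DB, DB⁆ ≤ centralizer (V : Set _) by
    have hA : ⁅D, D⁆ ≤ D := commutator_le_self D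
    have hAQ : ⁅D, D⁆ ≤ normalizer (Q : Set G) := hA.trans (hDM.trans hQn)
    have hcop : (Nat.card ↥⁅D, D⁆).Coprime (Nat.card Q) :=
      (hco.coprime_dvd_right (card_dvd_of_le hA)).symm
    have hsolv : Group.IsSolvable Q :=
      isSolvable_of_ne_top hG fun h => hM.1 (top_le_iff.1 (h ▸ hQM))
    intro a ha
    refine mem_centralizer_iff.2 fun k hk => ?_
    have haM : a ∈ M := hDM (hA ha)
    obtain ⟨c, hc, hkc⟩ := Solvable.exists_fixed_of_fixed_mod (A := ⁅D, D⁆) (K := Q) (N := Q₀) hAQ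
      hcop (Or.inr hsolv) inf_le_left (hQM.trans hQ0n) ((hA.trans hDM).trans hQ0n) hk
      (fun b hb => by
        have hbM : b ∈ M := hDM (hA hb)
        have h1 : f ⟨b, hbM⟩ ∈ ⁅DB, DB⁆ := by
          rw [← map_commutator]
          refine mem_map_of_mem f ?_
          have he : (⁅D.subgroupOf M, D.subgroupOf M⁆).map M.subtype = ⁅D, D⁆ := by
            rw [map_commutator, map_subgroupOf_eq_of_le hDM]
          obtain ⟨y, hy, hyb⟩ := he ▸ hb
          rwa [show (⟨b, hbM⟩ : M) = y from Subtype.ext hyb.symm]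
        have h2 := mem_centralizer_iff.1 (hV h1) (f ⟨k, hQM hk⟩) (mem_map_of_mem f hk)
        refine (hker (x := ⟨b * k * b⁻¹ * k⁻¹,
          mul_mem (mul_mem (mul_mem hbM (hQM hk)) (inv_mem hbM)) (inv_mem (hQM hk))⟩)).1 ?_
        show f (⟨b, hbM⟩ * ⟨k, hQM hk⟩ * ⟨b, hbM⟩⁻¹ * ⟨k, hQM hk⟩⁻¹) = 1
        rw [map_mul, map_mul, map_mul, map_inv, map_inv, ← h2]
        group)
    have hk' : k = c * (k⁻¹ * c)⁻¹ := by group
    rw [hk']
    have hcc : c * a = a * c := (mem_centralizer_iff.1 hc.2 a ha).symm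
    have hz : (k⁻¹ * c)⁻¹ * a = a * (k⁻¹ * c)⁻¹ :=
      (mem_centralizer_iff.1 (inv_mem hkc).2 a (hA ha)).symm
    rw [mul_assoc, hz, ← mul_assoc, hcc, mul_assoc]
  -- the trivial case
  by_cases hD1 : D = ⊥
  · have : DB = ⊥ := by
      rw [Subgroup.map_eq_bot_iff, hD1, bot_subgroupOf]
      exact bot_le
    rw [this]
    exact (commutator_le_self (⊥ : Subgroup _)).trans bot_le
  have hVab : IsMulCommutative V := by
    refine ⟨⟨?_⟩⟩
    rintro ⟨_, a, ha, rfl⟩ ⟨_, b, hb, rfl⟩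
    refine Subtype.ext ?_
    show f a * f b = f b * f a
    rw [← mul_inv_eq_one, ← map_mul, ← map_mul, ← map_inv, ← map_mul, hker]
    have := (hsat _ ha _ hb).2
    convert this using 1
    simp [mul_assoc]
  have hVexp : ∀ v ∈ V, v ^ q = 1 := by
    rintro _ ⟨a, ha, rfl⟩
    rw [← map_pow, hker, Subgroup.coe_pow]
    exact (hsat _ ha _ ha).1
  have hfpf : ∀ r ∈ KB, r ≠ 1 → DB ⊓ centralizer {r} = ⊥ := by
    rintro _ ⟨k, hk, rfl⟩ hk1
    refine (eq_bot_iff_forall _).2 ?_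
    rintro _ ⟨⟨d, hd, rfl⟩, hc⟩
    have hcomm : (k : G) * d * (k : G)⁻¹ * (d : G)⁻¹ ∈ Q₀ := by
      have h1 : f (k * d * k⁻¹ * d⁻¹) = 1 := by
        rw [map_mul, map_mul, map_mul, map_inv, map_inv,
          ← mem_centralizer_singleton_iff.1 hc]
        group
      exact hker.1 h1
    have hone := hDQ₀ (mul_mem ((mem_normalizer_iff.1 (hKD hk) d).1 hd) (inv_mem hd)) hcomm
    have hkne : (k : G) ≠ 1 := fun h => hk1 (by rw [hker, h]; exact one_mem _)
    have hdK : (d : G) ∈ Kst := by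
      rw [hKst, ← hfix k hk hkne]
      refine mem_inf.2 ⟨hQD.2.1 hd, mem_centralizer_singleton_iff.2 ?_⟩
      exact (mul_inv_eq_iff_eq_mul.1 (mul_inv_eq_one.1 hone)).symm
    have hd1 : (d : G) = 1 := by
      rw [← orderOf_eq_one_iff]
      exact Nat.eq_one_of_dvd_coprimes (hq.coprime_iff_not_dvd.2 hDq) (orderOf_dvd_card_of_mem hdK)
        (orderOf_dvd_card_of_mem hd)
    rw [hker, hd1]
    exact one_mem _
  have hKDB : DB ⊓ KB = ⊥ := (disjoint_of_coprime_natCard (Nat.coprime_of_dvd fun s hs h1 h2 =>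
    kappa_not_sigma (hKU.hall.2.1 s hs (h2.trans (hcardle hKM)))
      (sigma_of_dvd_sigmaCore hs ((h1.trans (hcardle hDM)).trans (card_dvd_of_le hQD.2.1))))).eq_bot
  have hKB : (Nat.card KB).Prime := by
    rcases (Nat.dvd_prime hKp).1 (hcardle hKM) with h | h
    · exfalso
      obtain ⟨k, hk, hk1⟩ := (K.bot_or_exists_ne_one).resolve_left hK1
      have h2 : f ⟨k, hKM hk⟩ = 1 := by
        rw [← mem_bot, ← card_eq_one.1 h]
        exact mem_map_of_mem f hk
      have h3 := hker.1 h2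
      refine hk1 ?_
      rw [← mem_bot, ← decomposition_K_inf_sigmaCore hKU]
      exact mem_inf.2 ⟨hk, hQS h3.1⟩
    · rwa [h]
  have hDB : DB ≠ ⊥ := by
    obtain ⟨d, hd, hd1⟩ := (D.bot_or_exists_ne_one).resolve_left hD1
    intro h
    refine hd1 (hDQ₀ hd ((hker (x := ⟨d, hDM hd⟩)).1 ?_))
    rw [← mem_bot, ← h]
    exact mem_map_of_mem f hd
  have hℓ : ¬ q ∣ Nat.card ↥(DB ⊔ KB) := fun h => by
    rcases hq.dvd_mul.1 (h.trans (Solvable.card_sup_dvd (himg hKD))) with h' | h'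
    · exact hDq (h'.trans (hcardle hDM))
    · exact hKq (h'.trans (hcardle hKM))
  have hKV := himg (hKM.trans hQn)
  have hDV := himg (hDM.trans hQn)
  have hCle : Nat.card ↥(V ⊓ centralizer (KB : Set _)) ∣ q := by
    have hsolv : Group.IsSolvable Q :=
      isSolvable_of_ne_top hG fun h => hM.1 (top_le_iff.1 (h ▸ hQM))
    have hcopK : (Nat.card K).Coprime (Nat.card Q) := Nat.coprime_of_dvd fun s hs h1 h2 =>
      kappa_not_sigma (hKU.hall.2.1 s hs h1)
        (sigma_of_dvd_sigmaCore hs (h2.trans (card_dvd_of_le hQS)))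
    refine (card_dvd_of_le (?_ : _ ≤ ((Q ⊓ centralizer (K : Set G)).subgroupOf M).map f)).trans
      ((hcardle (inf_le_left.trans hQM)).trans (card_dvd_of_le (inf_le_inf_right _ hQS)))
    rintro _ ⟨⟨a, ha, rfl⟩, hc⟩
    obtain ⟨c, hc', hac⟩ := Solvable.exists_fixed_of_fixed_mod (A := K) (K := Q) (N := Q₀)
      (hKM.trans hQn) hcopK (Or.inr hsolv) inf_le_left (hQM.trans hQ0n) (hKM.trans hQ0n)
      (k := (a : G)) ha (fun b hb => by
        have h2 := mem_centralizer_iff.1 hc (f ⟨b, hKM hb⟩) (mem_map_of_mem f hb)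
        refine (hker (x := ⟨b, hKM hb⟩ * a * ⟨b, hKM hb⟩⁻¹ * a⁻¹)).1 ?_
        rw [map_mul, map_mul, map_mul, map_inv, map_inv, h2]
        group)
    refine ⟨⟨c, hQM hc'.1⟩, hc', ?_⟩
    symm
    rw [← inv_mul_eq_one, ← map_inv, ← map_mul, hker]
    exact hac
  haveI := hVab
  rcases (Nat.dvd_prime hq).1 hCle with h | h
  · -- no fixed points: `D` centralizes `V`
    have hform := Frobenius.frobenius_fixed_card (ℓ := q) hVab hVexp hDV hKV (himg hKD) hDB
      (fun h' => hKB.one_lt.ne' (card_eq_one.2 h')) hKDB hfpf hℓ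
    have h0 : Nat.card ↥(V ⊓ centralizer ((DB ⊔ KB : Subgroup _) : Set _)) = 1 :=
      Nat.dvd_one.1 (h ▸ card_dvd_of_le (inf_le_inf_left _ (centralizer_le
        (SetLike.coe_subset_coe.2 le_sup_right))))
    rw [h, h0, one_pow, one_mul, one_mul] at hform
    have hVC : V ⊓ centralizer (DB : Set _) = V :=
      eq_of_le_of_card_ge inf_le_left hform.le
    intro x hx
    refine mem_centralizer_iff.2 fun v hv => ?_
    exact ((mem_centralizer_iff.1 (inf_eq_left.1 hVC hv)) x (commutator_le_self DB hx)).symm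
  · exact Frobenius.commutator_le_centralizer_of_card_fixed hVab hVexp hDV hKV (himg hKD) hDB hKB
      hKDB hfpf hℓ h

/-- `M'' ≤ F(M)` (BG 15.1, 15.4). -/
theorem commutator_commutator_le_fittingOf : ⁅⁅M, M⁆, ⁅M, M⁆⁆ ≤ Cfsg.fittingOf M := by
  have hSM : Cfsg.sigmaCore M ≤ M := piCoreOf_le _ M
  set H := Cfsg.fittingHallOf M with hH
  by_cases hne : H = Cfsg.sigmaCore M
  · refine le_trans ?_ (hne.ge.trans (fittingHallOf_le_fittingOf M))
    obtain ⟨E, -, hE⟩ := exists_complement_ge hG hM (K := ⊥) bot_le fun q hq h => by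
      rw [card_bot, Nat.dvd_one] at h
      exact absurd h hq.ne_one
    obtain ⟨-, hab, -⟩ := Cfsg.Agent.S1420.result hG M hM E hE
    set S := Cfsg.sigmaCore M
    have hle : ⁅M, M⁆ ≤ S ⊔ ⁅E, E⁆ :=
      commutator_le_sup_commutator hE.2.1 (le_normalizer_piCoreOf _ M) hE.1 hE.2.2.2
    have hEn : ⁅E, E⁆ ≤ normalizer (S : Set G) :=
      ((commutator_le_self E).trans hE.1).trans (le_normalizer_piCoreOf _ M)
    refine (commutator_mono hle hle).trans ((commutator_le_sup_commutator (E := ⁅E, E⁆) le_sup_left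
      (sup_le le_normalizer hEn) le_sup_right fun m hm => ?_).trans ?_)
    · obtain ⟨a, ha, b, hb, hab'⟩ := (Solvable.mem_sup_of_le_normalizer hEn).1 (inv_mem hm)
      exact ⟨b⁻¹, inv_mem hb, a⁻¹, inv_mem ha, by rw [← mul_inv_rev, hab', inv_inv]⟩
    · rw [commutator_self_eq_bot_iff.2 hab, sup_bot_eq]
  obtain ⟨K, U, hKU⟩ := exists_sigmaDecomposition hG hM
  obtain ⟨-, hS, -, hq, -, -, Q, hQH, hQn, hQp, hQi, hD'⟩ :=
    Cfsg.Agent.S1437.result hG M hM K U hKU hne
  set S := Cfsg.sigmaCore M with hSdef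
  set q := Nat.card ↥(S ⊓ centralizer (K : Set G)) with hqdef
  haveI := Fact.mk hq
  have hHS : H ≤ S := fittingHallOf_le_sigmaCore hG hM
  have hQS : Q ≤ S := hQH.trans hHS
  have hpow : ∀ a : ℕ, a.Prime → a ∣ Nat.card Q → a = q := fun a ha hd => by
    obtain ⟨n, hn⟩ := IsPGroup.iff_card.1 hQp
    rw [hn] at hd
    exact (Nat.prime_dvd_prime_iff_eq ha hq).1 (ha.dvd_of_dvd_pow hd)
  have hSs : Group.IsSolvable S :=
    isSolvable_of_ne_top hG fun h => hM.1 (top_le_iff.1 (h ▸ hSM))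
  have hKS : K ≤ normalizer (S : Set G) := hKU.hall.1.trans (le_normalizer_piCoreOf _ M)
  have hKco : (Nat.card K).Coprime (Nat.card S) := Nat.coprime_of_dvd fun s hs h1 h2 =>
    kappa_not_sigma (hKU.hall.2.1 s hs h1) (sigma_of_dvd_sigmaCore hs h2)
  obtain ⟨D, hDh, hKD⟩ := Solvable.exists_invariant_isPiHallOf hKS hKco hSs {s | s ≠ q}
  have hDq : ¬ q ∣ Nat.card D := fun h => hDh.2.1 q hq h rfl
  have hco : (Nat.card Q).Coprime (Nat.card D) := Nat.coprime_of_dvd fun s hs h1 h2 =>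
    hDq (hpow s hs h1 ▸ h2)
  have hDQn : D ≤ normalizer (Q : Set G) := (hDh.1.trans hSM).trans hQn
  have hsup : Q ⊔ D = S := by
    refine le_antisymm (sup_le hQS hDh.1) (relIndex_eq_one.1 ?_)
    refine Nat.eq_one_iff_not_exists_prime_dvd.2 fun s hs hd => ?_
    by_cases hsq : s = q
    · exact hQi (hsq ▸ hd.trans (relIndex_dvd_of_le_left S le_sup_left))
    · exact hDh.2.2 s hs hsq (hd.trans (relIndex_dvd_of_le_left S le_sup_right))
  have hQD : Cfsg.IsComplIn Q D S := by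
    refine ⟨hQS, hDh.1, (disjoint_of_coprime_natCard hco).eq_bot, fun m hm => ?_⟩
    obtain ⟨a, ha, b, hb, h⟩ := (Solvable.mem_sup_of_le_normalizer hDQn).1 (hsup.ge hm)
    exact ⟨a, ha, b, hb, h.symm⟩
  obtain ⟨hDn, hQ0n, -, -, hsat, -⟩ := hD' D hQD
  have hDC : ⁅D, D⁆ ≤ centralizer (Q : Set G) :=
    commutator_le_centralizer_of_case hG hM hKU hne hQS hQn hQD hKD hQ0n hco hsat hDq
  rw [← hS, fittingOf_eq hG hM]
  refine (commutator_le_sup_commutator hQS (hSM.trans hQn) hDh.1 fun m hm => ?_).trans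
    (sup_le (hQH.trans le_sup_right) fun d hd => ?_)
  · obtain ⟨a, ha, b, hb, h⟩ := (isComplIn_swap hQD).2.2.2 m hm
    exact ⟨a, ha, b, hb, h⟩
  refine mem_of_forall_exists_pow_mem (orderOf_pos d) fun s hs hsd => ?_
  refine ⟨orderOf d / s ^ (orderOf d).factorization s,
    Nat.not_dvd_ordCompl hs (orderOf_pos d).ne', ?_⟩
  set y := d ^ (orderOf d / s ^ (orderOf d).factorization s) with hy
  have hord : orderOf y = s ^ (orderOf d).factorization s :=
    orderOf_pow_orderOf_div (orderOf_pos d).ne' (Nat.ordProj_dvd _ s)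
  have heq : ∀ t : ℕ, t.Prime → t ∣ orderOf y → t = s := fun t ht hd => by
    rw [hord] at hd
    exact (Nat.prime_dvd_prime_iff_eq ht hs).1 (ht.dvd_of_dvd_pow hd)
  have hyD' : y ∈ ⁅D, D⁆ := pow_mem hd _
  have hyD : y ∈ D := commutator_le_self D hyD'
  have hyM : y ∈ M := hSM (hDh.1 hyD)
  set π : Set ℕ := {t | t.Prime ∧ t ∣ Nat.card H} with hπ
  by_cases hsπ : s ∈ π
  · refine mem_sup_right (mem_of_orderOf_coprime_relIndex (le_normalizer_fittingHallOf M) hyM ?_)
    refine Nat.coprime_of_dvd fun t ht h1 h2 => ?_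
    exact Nat.not_coprime_of_dvd_of_dvd ht.one_lt (heq t ht h1 ▸ hsπ.2) h2
      (fittingHallOf_coprime_relIndex M)
  refine mem_sup_left (mem_inf.2 ⟨hyM, mem_centralizer_iff.2 fun h hh => ?_⟩)
  obtain ⟨a, ha, b, hb, rfl⟩ := hQD.2.2.2 h (hHS hh)
  have hbH : b ∈ H := (H.mul_mem_cancel_left (hQH ha)).1 hh
  have hbπ : b ∈ Cfsg.piCoreOf π D := mem_piCoreOf_of_nilpotent hDn hb fun t ht hd =>
    ⟨ht, hd.trans (orderOf_dvd_card_of_mem hbH)⟩
  have hyπ : y ∈ Cfsg.piCoreOf {t | t.Prime ∧ t ∉ π} D :=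
    mem_piCoreOf_of_nilpotent hDn hyD fun t ht hd => heq t ht hd ▸ ⟨hs, hsπ⟩
  have h1 : b * y = y * b := (mem_centralizer_iff.1
    (piCoreOf_le_centralizer_piCoreOf (π := π) (ρ := {t | t.Prime ∧ t ∉ π}) D
      (fun t h1 h2 _ => h2.2 h1) hbπ) y hyπ).symm
  have h2 : a * y = y * a := mem_centralizer_iff.1 (hDC hyD') a ha
  rw [mul_assoc, h1, ← mul_assoc, h2, mul_assoc]

/-- If `κ(M)` is nonempty then `C_M(M_F) ≤ M'`. -/
theorem centralizer_fittingHallOf_le_commutator (hκ : (Cfsg.kappa M).Nonempty) :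
    M ⊓ centralizer (Cfsg.fittingHallOf M : Set G) ≤ ⁅M, M⁆ := by
  have hS := sigmaCore_le_commutator hG hM
  by_cases hne : Cfsg.fittingHallOf M = Cfsg.sigmaCore M
  swap
  · exact (centralizer_fittingHallOf_le_sigmaCore hG hM hne).trans hS
  have hHS := fittingHallOf_le_sigmaCore hG hM
  obtain ⟨X, -, hXτ, hX⟩ := centralizer_hall_split hG hM hHS (fittingHallOf_ne_bot hG hM)
    ((fittingHallOf_coprime_relIndex M).coprime_dvd_right
      (Dvd.intro _ (relIndex_mul_relIndex _ _ M hHS (piCoreOf_le _ M))))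
  obtain ⟨K, U, hKU⟩ := exists_sigmaDecomposition hG hM
  obtain ⟨p, hp⟩ := hκ
  have hK1 : K ≠ ⊥ := fun h => hKU.hall.2.2 p hp.1 hp (by rw [h, relIndex_bot_left]; exact hp.2.1)
  obtain ⟨hder, -⟩ := Cfsg.Agent.S1365.result hG M hM K U hKU hK1
  rw [hX]
  refine sup_le (inf_le_left.trans hS) ?_
  obtain ⟨m, hm, hmU⟩ := exists_conj_le_U hG hM hKU ((le_sup_right.trans hX.ge).trans inf_le_left)
    fun q hq hd => ⟨(hXτ q hq hd).2.1, fun hk => by
      haveI := Fact.mk hq
      exact (hXτ q hq hd).2.2.2 (kappa_rank_one hk)⟩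
  have hn : MulAut.conj m • ⁅M, M⁆ = ⁅M, M⁆ :=
    Solvable.conj_smul_eq_self_iff.2 ((Solvable.le_normalizer_commutator_left M M) hm)
  rw [← pointwise_smul_le_pointwise_smul_iff (a := MulAut.conj m), hn, hder]
  exact hmU.trans le_sup_left

end CfsgLib.OddOrder
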