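import Cfsg.Agent.Lib.OddOrder.Section15Fitting
import Cfsg.Agent.Lib.OddOrder.Section16Frobenius
import Cfsg.Agent.S1354
import Cfsg.Agent.S1356
import Cfsg.Agent.S1357
import Cfsg.Agent.S1363
import Cfsg.Agent.S1364
import Cfsg.Agent.S1365
import Cfsg.Agent.S1370
import Cfsg.Agent.S1372
import Cfsg.Agent.Lib.OddOrder.FittingTIDichotomy

/-!
BG 16.1: the maximal subgroups with `K ≠ 1` are of type P.
-/

set_option autoImplicit false
set_option maxHeartbeats 400000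
set_option linter.style.haveILetI false

open scoped Pointwise

namespace CfsgLib.OddOrder

open Subgroup

variable {G : Type*} [Group G] [Finite G] (hG : Cfsg.IsMinSimpleOddOrder G) {M : Subgroup G}
  (hM : IsCoatom M) {K U : Subgroup G} (hKU : Cfsg.IsSigmaDecomposition M K U) (hK1 : K ≠ ⊥)
include hG hM hKU hK1

/-- `K` is a complement of `M' = U M_σ`. -/
theorem isComplIn_commutator_K : Cfsg.IsComplIn ⁅M, M⁆ K M := by
  obtain ⟨hder, -⟩ := Cfsg.Agent.S1365.result hG M hM K U hKU hK1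
  have hKn : K ≤ normalizer (Cfsg.sigmaCore M : Set G) :=
    hKU.hall.1.trans (le_normalizer_piCoreOf _ _)
  refine ⟨commutator_le_self M, hKU.hall.1, ?_, fun m hm => ?_⟩
  · refine (disjoint_of_coprime_natCard (Nat.coprime_of_dvd fun q hq h1 h2 => ?_)).eq_bot
    rw [hder, sup_comm] at h1
    have hκ := hKU.hall.2.1 q hq h2
    rcases hq.dvd_mul.1 (h1.trans (Solvable.card_sup_dvd
      (hKU.compl.1.trans (le_normalizer_piCoreOf _ M)))) with h | h
    · exact kappa_not_sigma hκ (sigma_of_dvd_sigmaCore hq h)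
    · exact (decomposition_U_primes hG hM hKU hq h).2 hκ
  · obtain ⟨u, hu, b, hb, rfl⟩ := hKU.compl.2.2.2 m hm
    rw [sup_comm] at hb
    obtain ⟨s, hs, k, hk, rfl⟩ := (Solvable.mem_sup_of_le_normalizer hKn).1 hb
    exact ⟨u * s, hder.ge (mul_mem (mem_sup_left hu) (mem_sup_right hs)), k, hk,
      (mul_assoc u s k).symm⟩

/-- The data of type P, for any nilpotent `K`-invariant complement of `M_F` in `M'`. -/
theorem isTypePWith_of_compl {U' : Subgroup G} (hn : Group.IsNilpotent U')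
    (hKn : K ≤ normalizer (U' : Set G))
    (hc : Cfsg.IsComplIn (Cfsg.fittingHallOf M) U' ⁅M, M⁆) :
    Cfsg.IsTypePWith M K U' (Cfsg.sigmaCore M ⊓ centralizer (K : Set G)) := by
  set W := Cfsg.sigmaCore M ⊓ centralizer (K : Set G) with hW
  obtain ⟨hWc, hW1, hWH, hHc⟩ := Cfsg.Agent.S1364.result hG M hM K U hKU hK1
  obtain ⟨hder, hW2⟩ := Cfsg.Agent.S1365.result hG M hM K U hKU hK1
  obtain ⟨hF1, hF2, hF3⟩ := Cfsg.Agent.S1356.result hG M hM
  have hκ : (Cfsg.kappa M).Nonempty := by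
    obtain ⟨q, hq, hd⟩ := Nat.exists_prime_and_dvd (K.one_lt_card_iff_ne_bot.2 hK1).ne'
    exact ⟨q, hKU.hall.2.1 q hq hd⟩
  have hKS := decomposition_K_inf_sigmaCore hKU
  have hKW : K ⊓ W = ⊥ := le_bot_iff.1 (hKS ▸ inf_le_inf_left K inf_le_left)
  have hcomm : ∀ a ∈ K, ∀ b ∈ W, a * b = b * a := fun a ha b hb =>
    mem_centralizer_iff.1 hb.2 a ha
  have hKMc := isComplIn_commutator_K hG hM hKU hK1
  have hWM' : W ≤ ⁅M, M⁆ := inf_le_left.trans (sigmaCore_le_commutator hG hM)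
  obtain ⟨hTI, hNZ⟩ := Cfsg.Agent.S1370.result hG M hM K U hKU hK1
  refine ⟨hK1, hKU.cyclic, ?_, hKMc, hn, hKn, hc, hHc, ?_, ?_, hF3 hκ, le_inf hWH hW2, ?_, ?_⟩
  · exact Nat.coprime_of_dvd fun q hq h1 h2 => hKU.hall.2.2 q hq (hKU.hall.2.1 q hq h1) h2
  · rw [sup_comm, ← hF2]
    exact hF1
  · rw [sup_comm, ← hF2]
  · intro k hk hk1
    have hC := (Cfsg.Agent.S1354.result hG M hM K hKU.cyclic hKU.hall).2 hK1 k hk hk1
    refine le_antisymm (fun x hx => ?_) (le_inf hWM' fun b hb =>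
      mem_centralizer_singleton_iff.2 (hcomm k hk b hb).symm)
    have hxC : x ∈ K ⊔ W := hC ▸ mem_inf.2 ⟨commutator_le_self M hx.1, hx.2⟩
    have hKnW : K ≤ normalizer (W : Set G) := fun a ha => centralizer_le_normalizer _
      (mem_centralizer_iff.2 fun b hb => (hcomm a ha b hb).symm)
    rw [sup_comm] at hxC
    obtain ⟨b, hb, a, ha, rfl⟩ := (Solvable.mem_sup_of_le_normalizer hKnW).1 hxC
    have : a ∈ ⁅M, M⁆ ⊓ K := ⟨((⁅M, M⁆).mul_mem_cancel_left (hWM' hb)).1 hx.1, ha⟩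
    rw [hKMc.2.2.1, mem_bot] at this
    rw [this, mul_one]
    exact hb
  · refine ⟨hK1, hW1, hKW, hcomm, isCyclic_sup_of_commute hKU.cyclic hWc hcomm ?_, fun X hX hXne => ?_⟩
    · exact Nat.coprime_of_dvd fun q hq h1 h2 => kappa_not_sigma (hKU.hall.2.1 q hq h1)
        (sigma_of_dvd_sigmaCore hq (h2.trans (card_dvd_of_le inf_le_left)))
    · haveI : IsCyclic ↥(K ⊔ W) := isCyclic_sup_of_commute hKU.cyclic hWc hcomm
        (Nat.coprime_of_dvd fun q hq h1 h2 => kappa_not_sigma (hKU.hall.2.1 q hq h1)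
          (sigma_of_dvd_sigmaCore hq (h2.trans (card_dvd_of_le inf_le_left))))
      have hab : ∀ a ∈ K ⊔ W, ∀ b ∈ K ⊔ W, a * b = b * a := fun a ha b hb => by
        obtain ⟨z, hz⟩ := IsCyclic.exists_generator (α := ↥(K ⊔ W))
        obtain ⟨i, hi⟩ := mem_zpowers_iff.1 (hz ⟨a, ha⟩)
        obtain ⟨j, hj⟩ := mem_zpowers_iff.1 (hz ⟨b, hb⟩)
        have := (Commute.zpow_zpow_self z i j).eq
        rw [hi, hj] at this
        exact congrArg Subtype.val this
      refine le_antisymm (fun g hg => ?_) fun z hz => ?_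
      · obtain ⟨x, hx⟩ := hXne
        rw [← hNZ]
        by_contra hgN
        have h1 := hTI g hgN x (hX hx) (hX ((hg x).1 hx))
        exact (hX hx).2 (Or.inl (h1 ▸ one_mem K))
      · refine mem_normalizer_fintype fun x hx => ?_
        rw [hab z hz x (hX hx).1, mul_inv_cancel_right]
        exact hx

/-- BG 16.1, `K ≠ 1` and `U ≠ 1`: Type II. -/
theorem isOfTypeII_of_U_ne (hU : U ≠ ⊥) : Cfsg.IsOfTypeII M := by
  have hHS := fittingHallOf_eq_of_U_ne hG hM hKU hU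
  obtain ⟨hUab, hNU⟩ := Cfsg.Agent.S1363.result hG M hM K U hKU hK1
  obtain ⟨hKp, hTI, -⟩ := Cfsg.Agent.S1372.result hG M hM K U hKU hK1 hU
  obtain ⟨hder, -⟩ := Cfsg.Agent.S1365.result hG M hM K U hKU hK1
  have hSn : Group.IsNilpotent (Cfsg.sigmaCore M) := hHS ▸ fittingHallOf_isNilpotent M
  have hUn : U ≤ normalizer (Cfsg.sigmaCore M : Set G) :=
    hKU.compl.1.trans (le_normalizer_piCoreOf _ _)
  have hc : Cfsg.IsComplIn (Cfsg.sigmaCore M) U ⁅M, M⁆ := by
    refine ⟨sigmaCore_le_commutator hG hM, hder ▸ le_sup_left,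
      by rw [inf_comm]; exact decomposition_U_inf_sigmaCore hKU, fun m hm => ?_⟩
    rw [hder, sup_comm] at hm
    obtain ⟨a, ha, b, hb, h⟩ := (Solvable.mem_sup_of_le_normalizer hUn).1 hm
    exact ⟨a, ha, b, hb, h.symm⟩
  have hM'M : ⁅M, M⁆ ≤ M := commutator_le_self M
  have hH' : Cfsg.fittingHallOf ⁅M, M⁆ = Cfsg.sigmaCore M := by
    refine le_antisymm ?_ (le_fittingHallOf (sigmaCore_le_commutator hG hM)
      (hM'M.trans (le_normalizer_piCoreOf _ M)) hSn ?_)
    · rw [← hHS]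
      have hHle := TypeP.fittingHallOf_le ⁅M, M⁆
      refine le_fittingHallOf (hHle.trans hM'M)
        ((Solvable.le_normalizer_commutator_left M M).trans
          (normalizer_le_normalizer_fittingHallOf _)) (fittingHallOf_isNilpotent _) ?_
      rw [← relIndex_mul_relIndex _ _ M hHle hM'M]
      refine Nat.Coprime.mul_right (fittingHallOf_coprime_relIndex _) ?_
      rw [← card_eq_relIndex_of_isComplIn (isComplIn_swap (isComplIn_commutator_K hG hM hKU hK1))]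
      refine Nat.Coprime.coprime_dvd_left (card_dvd_of_le hHle)
        (Nat.coprime_of_dvd fun q hq h1 h2 => ?_)
      rw [hder, sup_comm] at h1
      rcases hq.dvd_mul.1 (h1.trans (Solvable.card_sup_dvd hUn)) with h | h
      · exact kappa_not_sigma (hKU.hall.2.1 q hq h2) (sigma_of_dvd_sigmaCore hq h)
      · exact (decomposition_U_primes hG hM hKU hq h).2 (hKU.hall.2.1 q hq h2)
    · exact (hHS ▸ fittingHallOf_coprime_relIndex M).coprime_dvd_right
        (Dvd.intro _ (relIndex_mul_relIndex _ _ M (sigmaCore_le_commutator hG hM) hM'M))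
  haveI := hUab
  exact ⟨K, U, _, isTypePWith_of_compl hG hM hKU hK1
    (Solvable.isNilpotent_of_comm fun a b => mul_comm' a b) hKU.normal (hHS ▸ hc),
    hU, hKp, hTI, hUab, hNU, isOfTypeF_sigma hG hM hKU hU hM'M hH' hc, hH'.trans hHS.symm⟩

/-- The complement of `M_F` in `M'` when `M_F ≠ M_σ`. -/
theorem exists_compl_of_ne (hne : Cfsg.fittingHallOf M ≠ Cfsg.sigmaCore M) :
    ∃ D : Subgroup G, D ≠ ⊥ ∧ Group.IsNilpotent D ∧ K ≤ normalizer (D : Set G) ∧
      Cfsg.IsComplIn (Cfsg.fittingHallOf M) D ⁅M, M⁆ ∧ normalizer (D : Set G) ≤ M := by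
  obtain ⟨-, hS, -⟩ := Cfsg.Agent.S1437.result hG M hM K U hKU hne
  set S := Cfsg.sigmaCore M with hSdef
  set H := Cfsg.fittingHallOf M with hH
  have hSM : S ≤ M := piCoreOf_le _ M
  have hHS : H ≤ S := fittingHallOf_le_sigmaCore hG hM
  have hKS : K ≤ normalizer (S : Set G) := hKU.hall.1.trans (le_normalizer_piCoreOf _ M)
  have hSs : Group.IsSolvable S :=
    isSolvable_of_ne_top hG fun h => hM.1 (top_le_iff.1 (h ▸ hSM))
  have hKco : (Nat.card K).Coprime (Nat.card S) := Nat.coprime_of_dvd fun s hs h1 h2 =>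
    kappa_not_sigma (hKU.hall.2.1 s hs h1) (sigma_of_dvd_sigmaCore hs h2)
  obtain ⟨D, hDh, hKD⟩ :=
    Solvable.exists_invariant_isPiHallOf hKS hKco hSs {s | ¬ s ∣ Nat.card H}
  have hDM : D ≤ M := hDh.1.trans hSM
  have hDn : D ≤ normalizer (H : Set G) := hDM.trans (le_normalizer_fittingHallOf M)
  have hdis : H ⊓ D = ⊥ := (disjoint_of_coprime_natCard
    (Nat.coprime_of_dvd fun s hs h1 h2 => hDh.2.1 s hs h2 h1)).eq_bot
  have hcoH : (Nat.card H).Coprime (H.relIndex S) :=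
    (fittingHallOf_coprime_relIndex M).coprime_dvd_right
      (Dvd.intro _ (relIndex_mul_relIndex H S M hHS hSM))
  have hsup : H ⊔ D = S := by
    refine le_antisymm (sup_le hHS hDh.1) (relIndex_eq_one.1 ?_)
    refine Nat.eq_one_iff_not_exists_prime_dvd.2 fun s hs hd => ?_
    by_cases hsH : s ∣ Nat.card H
    · exact Nat.not_coprime_of_dvd_of_dvd hs.one_lt hsH
        (hd.trans (relIndex_dvd_of_le_left S le_sup_left)) hcoH
    · exact hDh.2.2 s hs hsH (hd.trans (relIndex_dvd_of_le_left S le_sup_right))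
  have hc : Cfsg.IsComplIn H D ⁅M, M⁆ := by
    rw [← hS]
    refine ⟨hHS, hDh.1, hdis, fun m hm => ?_⟩
    obtain ⟨a, ha, b, hb, h⟩ := (Solvable.mem_sup_of_le_normalizer hDn).1 (hsup.ge hm)
    exact ⟨a, ha, b, hb, h.symm⟩
  have hDnil : Group.IsNilpotent D := by
    obtain ⟨Q, D₀, hQH, -, hQD, hD₀, -⟩ := exists_sigmaCore_split hG hM
    refine isNilpotent_of_central_inf (N := Cfsg.fittingHall M) hDM (hQD.2.1.trans hSM) hD₀
      (fun d hd => ?_) fun z hz => ?_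
    · obtain ⟨a, ha, b, hb, rfl⟩ := hQD.2.2.2 d (hDh.1 hd)
      exact mul_mem (mem_sup_left (hQH ha)) (mem_sup_right hb)
    · have : z ∈ H ⊓ D := ⟨hz.2, hz.1⟩
      rw [hdis, mem_bot] at this
      rw [this]
      exact one_mem _
  have hD1 : D ≠ ⊥ := fun h => hne (by rw [← hsup, h, sup_bot_eq])
  have hND : normalizer (D : Set G) ≤ M := by
    obtain ⟨s, hs, hsD⟩ := Nat.exists_prime_and_dvd (D.one_lt_card_iff_ne_bot.2 hD1).ne'
    haveI := Fact.mk hs
    have hsσ : s ∈ Cfsg.sigma M := sigma_of_dvd_sigmaCore hs (hsD.trans (card_dvd_of_le hDh.1))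
    have hidx : ∀ q : ℕ, q.Prime → q ∈ ({s} : Set ℕ) → ¬ q ∣ D.relIndex M := by
      intro q hq hqs hd
      rw [Set.mem_singleton_iff] at hqs
      subst hqs
      rw [← relIndex_mul_relIndex D S M hDh.1 hSM] at hd
      rcases hq.dvd_mul.1 hd with h | h
      · exact hDh.2.2 q hq (fun h' => hDh.2.1 q hq hsD h') h
      · obtain ⟨hh, -⟩ := hall_of_subset hG hM (π := Cfsg.sigma M) subset_rfl
          fun p _ P hp => sylow_le_sigmaCore hG hM hp P
        exact hh.2.2 q hq hsσ h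
    obtain ⟨T, hT⟩ := exists_sylow_le_hall
      (Solvable.isPiHallOf_trans hDM hidx (piCoreOf_isPiHallOf_of_nilpotent hDnil {s}))
      (Set.mem_singleton s)
    refine (normalizer_le_normalizer_piCoreOf {s} D).trans ?_
    have heq : (T : Subgroup M).map M.subtype = Cfsg.piCoreOf {s} D :=
      ((isMaxPIn_of_sylow T).max _ (piCoreOf_singleton_isPGroup s D) hT
        ((piCoreOf_le _ D).trans hDM)).symm
    rw [← heq]
    exact normalizer_le_of_sigma hsσ (isMaxPIn_of_sylow T)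
  exact ⟨D, hD1, hDnil, hKD, hc, hND⟩

/-- Some data of type P with first member `K`. -/
theorem exists_isTypePWith : ∃ V : Subgroup G,
    Cfsg.IsTypePWith M K V (Cfsg.sigmaCore M ⊓ centralizer (K : Set G)) := by
  by_cases hne : Cfsg.fittingHallOf M = Cfsg.sigmaCore M
  · obtain ⟨hder, -⟩ := Cfsg.Agent.S1365.result hG M hM K U hKU hK1
    have hUn : U ≤ normalizer (Cfsg.sigmaCore M : Set G) :=
      hKU.compl.1.trans (le_normalizer_piCoreOf _ _)
    by_cases hU : U = ⊥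
    · refine ⟨⊥, isTypePWith_of_compl hG hM hKU hK1 (by infer_instance)
        (by rw [normalizer_eq_top]; exact le_top) ?_⟩
      rw [hder, hU, bot_sup_eq, hne]
      exact ⟨le_rfl, bot_le, inf_bot_eq _, fun m hm => ⟨m, hm, 1, one_mem _, (mul_one m).symm⟩⟩
    · haveI := (Cfsg.Agent.S1363.result hG M hM K U hKU hK1).1
      refine ⟨U, isTypePWith_of_compl hG hM hKU hK1
        (Solvable.isNilpotent_of_comm fun a b => mul_comm' a b) hKU.normal ?_⟩
      refine ⟨hne ▸ sigmaCore_le_commutator hG hM, hder ▸ le_sup_left,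
        by rw [hne, inf_comm]; exact decomposition_U_inf_sigmaCore hKU, fun m hm => ?_⟩
      rw [hder, sup_comm] at hm
      obtain ⟨a, ha, b, hb, h⟩ := (Solvable.mem_sup_of_le_normalizer hUn).1 hm
      exact ⟨a, hne.symm ▸ ha, b, hb, h.symm⟩
  · obtain ⟨D, -, hDnil, hKD, hc, -⟩ := exists_compl_of_ne hG hM hKU hK1 hne
    exact ⟨D, isTypePWith_of_compl hG hM hKU hK1 hDnil hKD hc⟩

/-- BG 16.1, `U = 1` and `M_F ≠ M_σ`: Type III or IV. -/
theorem isOfTypeIII_or_IV_of_ne (hne : Cfsg.fittingHallOf M ≠ Cfsg.sigmaCore M) :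
    Cfsg.IsOfTypeIII M ∨ Cfsg.IsOfTypeIV M := by
  obtain ⟨-, hTI, hKp⟩ := Cfsg.Agent.S1357.result hG M hM K U hKU hne
  obtain ⟨D, hD1, hDnil, hKD, hc, hND⟩ := exists_compl_of_ne hG hM hKU hK1 hne
  have hP := isTypePWith_of_compl hG hM hKU hK1 hDnil hKD hc
  by_cases hab : IsMulCommutative D
  · exact Or.inl ⟨K, D, _, hP, hD1, hKp, hTI, hab, hND⟩
  · exact Or.inr ⟨K, D, _, hP, hD1, hKp, hTI, hab, hND⟩

/-- BG 16.1, `U = 1` and `M_F = M_σ`: Type V. -/
theorem isOfTypeV_of_eq (hU : U = ⊥) (hHS : Cfsg.fittingHallOf M = Cfsg.sigmaCore M) :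
    Cfsg.IsOfTypeV M := by
  obtain ⟨hder, -⟩ := Cfsg.Agent.S1365.result hG M hM K U hKU hK1
  rw [hU, bot_sup_eq] at hder
  set H := Cfsg.fittingHallOf M with hH
  have hc : Cfsg.IsComplIn H ⊥ ⁅M, M⁆ := by
    rw [hder, ← hHS]
    exact ⟨le_rfl, bot_le, inf_bot_eq _, fun m hm => ⟨m, hm, 1, one_mem _, (mul_one m).symm⟩⟩
  have hcompl := isComplIn_commutator_K hG hM hKU hK1
  have hP : Cfsg.IsTypePWith M K ⊥ (Cfsg.sigmaCore M ⊓ centralizer (K : Set G)) :=
    isTypePWith_of_compl hG hM hKU hK1 (by infer_instance)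
      (by rw [normalizer_eq_top]; exact le_top) hc
  refine ⟨K, ⊥, _, hP, rfl, ?_⟩
  by_cases hTI : Cfsg.IsTISubset (H : Set G)
  · exact Or.inl hTI
  simp only [Cfsg.IsTISubset, not_forall] at hTI
  obtain ⟨g, hg, x, hx, hgx, hx1⟩ := hTI
  have hgM : g ∉ M := fun h => hg (le_normalizer_fittingHallOf M h)
  have hX : Cfsg.fittingOf M ⊓ (Cfsg.fittingOf M).map (MulAut.conj g).toMonoidHom ≠ ⊥ := by
    intro h
    exact hx1 (conj_eq_one_iff.1 (mem_bot.1 (h.le (mem_inf.2 ⟨fittingHallOf_le_fittingOf M hgx, x,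
      fittingHallOf_le_fittingOf M hx, rfl⟩))))
  obtain ⟨⟨hXH, -⟩, -, h⟩ := fitting_not_ti_structure hG hM hKU g hgM hX
  rcases h with ⟨hK, -⟩ | ⟨p, hp, hXp, -, -, -, hcyc, hexp⟩ |
    ⟨p, hp, hXp, -, -, hcyc, h3, -, -, -, hd⟩
  · exact absurd hK hK1
  · have hpH : p ∣ Nat.card H := hXp ▸ card_dvd_of_le hXH
    refine Or.inr (Or.inl ⟨p, hp, hpH, ?_, hcyc⟩)
    obtain ⟨k, hk⟩ := hKU.cyclic.exists_generator
    rw [← orderOf_eq_card_of_forall_mem_zpowers hk]
    refine Nat.dvd_trans ?_ (hexp p hp hpH)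
    refine Nat.dvd_trans ?_ (Monoid.order_dvd_exponent
      (QuotientGroup.mk' (Cfsg.fittingHall M) ⟨k, hKU.hall.1 k.2⟩))
    refine orderOf_dvd_of_pow_eq_one (Subtype.ext ?_)
    have h1 := pow_orderOf_eq_one (QuotientGroup.mk' (Cfsg.fittingHall M) ⟨k, hKU.hall.1 k.2⟩)
    set n := orderOf (QuotientGroup.mk' (Cfsg.fittingHall M) ⟨k, hKU.hall.1 k.2⟩)
    rw [← map_pow, QuotientGroup.mk'_apply, QuotientGroup.eq_one_iff] at h1
    have h2 : (k : G) ^ n ∈ ⁅M, M⁆ ⊓ K := by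
      refine mem_inf.2 ⟨?_, pow_mem k.2 n⟩
      rw [hder, ← hHS]
      exact ⟨_, h1, by simp⟩
    rw [hcompl.2.2.1, mem_bot] at h2
    rw [SubmonoidClass.coe_pow, h2]
    rfl
  · refine Or.inr (Or.inr ⟨p, hp, hXp ▸ card_dvd_of_le hXH, h3, ?_, hcyc⟩)
    rwa [card_eq_relIndex_of_isComplIn (isComplIn_swap hcompl), hder, ← hHS]

end CfsgLib.OddOrder
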