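import Cfsg.Agent.Lib.OddOrder.UniquenessTheorem
import Cfsg.Agent.Lib.OddOrder.RankTwoTower
import Cfsg.Agent.Lib.Transfer.Focal

/-!
BG §10: the prime sets `σ(M)`, `α(M)`; 10.1 and 10.2.
-/

set_option autoImplicit false
set_option linter.style.haveILetI false

open scoped commutatorElement Pointwise

namespace CfsgLib.OddOrder

open Subgroup

variable {G : Type*} [Group G] [Finite G]

omit [Finite G] in
theorem mem_map_conj_iff {M : Subgroup G} {g x : G} :
    x ∈ M.map (MulAut.conj g).toMonoidHom ↔ g⁻¹ * x * g ∈ M := by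
  rw [Subgroup.mem_map]
  constructor
  · rintro ⟨y, hy, rfl⟩
    simpa [mul_assoc] using hy
  · intro h
    exact ⟨_, h, by simp [mul_assoc]⟩

omit [Finite G] in
theorem sigma_prime {M : Subgroup G} {p : ℕ} (hp : p ∈ Cfsg.sigma M) : p.Prime := hp.1

/-- The normalizer of every Sylow `p`-subgroup of `M`, `p ∈ σ(M)`, lies in `M`. -/
theorem normalizer_le_of_sigma {M : Subgroup G} {p : ℕ} [hp : Fact p.Prime] (h : p ∈ Cfsg.sigma M)
    {T : Subgroup G} (hT : IsMaxPIn p M T) : normalizer (T : Set G) ≤ M := by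
  obtain ⟨-, -, P, hP⟩ := h
  obtain ⟨S, hS⟩ := hT.exists_sylow
  obtain ⟨m, hm⟩ := MulAction.exists_smul_eq M P S
  intro g hg
  have hTm : T = ((P : Subgroup M).map M.subtype).map (MulAut.conj (m : G)).toMonoidHom := by
    rw [← hS, ← hm, Sylow.coe_subgroup_smul, Solvable.map_conj_smul]
    rfl
  have h1 : (m : G)⁻¹ * g * m ∈ M := hP (by
    refine mem_normalizer_fintype fun x hx => ?_
    have hx' : (m : G) * x * (m : G)⁻¹ ∈ T := hTm ▸ mem_map_of_mem _ hx
    have := (mem_normalizer_iff.1 hg _).1 hx'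
    rw [hTm, mem_map_conj_iff] at this
    have e : (m : G)⁻¹ * g * m * x * ((m : G)⁻¹ * g * m)⁻¹ =
        (m : G)⁻¹ * (g * ((m : G) * x * (m : G)⁻¹) * g⁻¹) * m := by group
    rw [e]
    exact this)
  have := mul_mem (mul_mem m.2 h1) (inv_mem m.2)
  rwa [show (m : G) * ((m : G)⁻¹ * g * m) * (m : G)⁻¹ = g by group] at this

/-- A Sylow `p`-subgroup of `M`, `p ∈ σ(M)`, is one of `G`. -/
theorem isMaxPIn_top_of_sigma {M : Subgroup G} {p : ℕ} [hp : Fact p.Prime] (h : p ∈ Cfsg.sigma M)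
    {T : Subgroup G} (hT : IsMaxPIn p M T) : IsMaxPIn p ⊤ T := by
  by_contra hmx
  obtain ⟨S, hS, hTS, hSN⟩ := exists_gt_normalizer_of_not_max le_top hT.pgroup hmx
  exact hTS.ne (hT.max S hS hTS.le
    ((hSN.trans inf_le_right).trans (normalizer_le_of_sigma h hT))).symm

/-- An element of `G` mapping `M` to itself lies in `M`. -/
theorem mem_of_map_conj_eq (hG : Cfsg.IsMinSimpleOddOrder G) {M : Subgroup G} (hM : IsCoatom M)
    {g : G} (hg : M.map (MulAut.conj g).toMonoidHom = M) : g ∈ M := by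
  rw [← normalizer_eq_of_isCoatom hG hM]
  exact mem_normalizer_of_map_conj_le hg.le

/-- `X = O_{p'}(X) N_X(T)` when the Sylow subgroup `T` lies in `O_{p',p}(X)`. -/
theorem le_piCoreOf_sup_normalizer {p : ℕ} [Fact p.Prime] {X T : Subgroup G} (h : IsMaxPIn p X T)
    (hXs : Group.IsSolvable X) (hA : T.subgroupOf X ≤ Cfsg.pPrimePCore p X) :
    X ≤ Cfsg.piCoreOf (Cfsg.primesNotDvd p) X ⊔ (X ⊓ normalizer (T : Set G)) := by
  haveI := hXs
  obtain ⟨S, hS⟩ := h.exists_sylow
  set R₁ := Cfsg.pPrimePCore p X with hR₁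
  haveI : R₁.Normal := by
    rw [hR₁, pPrimePCore_eq_comap_barHom]
    exact (Solvable.pCore_normal p _).comap _
  have hSR : (S : Subgroup X) ≤ R₁ := by
    intro x hx
    exact hA (mem_subgroupOf.2 (hS.le (mem_map_of_mem X.subtype hx)))
  have hR : R₁ ≤ Cfsg.pPrimeCore p X ⊔ (S : Subgroup X) := by
    have h1 := Subgroup.comap_mono (f := barHom X p)
      (Solvable.pCore_le_sylow (S.mapSurjective (barHom_surjective (Y := X) (p := p))))
    rw [Sylow.coe_mapSurjective, comap_map_eq, barHom_ker, sup_comm] at h1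
    rw [hR₁, pPrimePCore_eq_comap_barHom]
    exact h1
  have htop : Cfsg.pPrimeCore p X ⊔ normalizer ((S : Subgroup X) : Set X) = ⊤ := by
    refine top_le_iff.1 ((Sylow.normalizer_sup_eq_top' S hSR).ge.trans ?_)
    exact sup_le le_sup_right (hR.trans (sup_le_sup_left le_normalizer _))
  have h1 := congrArg (Subgroup.map X.subtype) htop
  rw [← MonoidHom.range_eq_map, range_subtype, Subgroup.map_sup, map_pPrimeCore_subtype] at h1
  refine h1.ge.trans (sup_le_sup_left (le_inf (map_subtype_le _) ?_) _)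
  rw [← hS]
  exact le_normalizer_map _

section Conjugacy

variable (hG : Cfsg.IsMinSimpleOddOrder G) {M : Subgroup G} (hM : IsCoatom M)
  {p : ℕ} [hp : Fact p.Prime] (hσ : p ∈ Cfsg.sigma M)
include hG hM hσ

/-- BG 10.1. -/
theorem exists_centralizer_conj : ∀ (n : ℕ) (X : Subgroup G), Nat.card G - Nat.card X = n →
    IsPGroup p X → X ≠ ⊥ → X ≤ M → ∀ g : G, X ≤ M.map (MulAut.conj g).toMonoidHom →
      ∃ c ∈ centralizer (X : Set G),
        M.map (MulAut.conj g).toMonoidHom = M.map (MulAut.conj c).toMonoidHom := by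
  intro n
  induction n using Nat.strong_induction_on with
  | _ n ih =>
  intro X hn hXp hX1 hXM g hXg
  -- the induction hypothesis, for larger subgroups
  have IH : ∀ Y : Subgroup G, IsPGroup p Y → X < Y → Y ≤ M → ∀ g : G,
      Y ≤ M.map (MulAut.conj g).toMonoidHom → ∃ c ∈ centralizer (Y : Set G),
        M.map (MulAut.conj g).toMonoidHom = M.map (MulAut.conj c).toMonoidHom := by
    intro Y hY hXY hYM g hYg
    refine ih _ ?_ Y rfl hY (fun h => hX1 (le_bot_iff.1 (h ▸ hXY.le))) hYM g hYg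
    have h1 : Nat.card X < Nat.card Y := lt_of_le_of_ne (Subgroup.card_le_of_le hXY.le)
      fun h => hXY.ne (Subgroup.eq_of_le_of_card_ge hXY.le h.ge)
    have h2 : Nat.card Y ≤ Nat.card G := Subgroup.card_le_card_group Y
    omega
  set Mg := M.map (MulAut.conj g).toMonoidHom with hMg
  by_cases hXmax : IsMaxPIn p M X
  · refine ⟨1, one_mem _, ?_⟩
    set Y := X.map (MulAut.conj g⁻¹).toMonoidHom with hY
    have hYM : Y ≤ M := by
      have := Subgroup.map_mono (f := (MulAut.conj g⁻¹).toMonoidHom) hXg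
      rwa [map_conj_map_conj, inv_mul_cancel, map_conj_one] at this
    have hYmax : IsMaxPIn p M Y := ⟨hYM, hXp.map _, fun S hS hle hSM => by
      refine (Subgroup.eq_of_le_of_card_ge hle ?_).symm
      rw [hY, Subgroup.card_map_of_injective (MulAut.conj g⁻¹).injective]
      obtain ⟨T, hT, hST⟩ := exists_isMaxPIn_ge hSM hS
      obtain ⟨S₁, hS₁⟩ := hT.exists_sylow
      obtain ⟨S₂, hS₂⟩ := hXmax.exists_sylow
      calc Nat.card S ≤ Nat.card T := Subgroup.card_le_of_le hST
        _ = Nat.card X := by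
          rw [← hS₁, ← hS₂, Subgroup.card_map_of_injective M.subtype_injective,
            Subgroup.card_map_of_injective M.subtype_injective, S₁.card_eq_multiplicity,
            S₂.card_eq_multiplicity]⟩
    obtain ⟨S₁, hS₁⟩ := hYmax.exists_sylow
    obtain ⟨S₂, hS₂⟩ := hXmax.exists_sylow
    obtain ⟨m, hm⟩ := MulAction.exists_smul_eq M S₁ S₂
    have hXm : X = Y.map (MulAut.conj (m : G)).toMonoidHom := by
      rw [← hS₂, ← hS₁, ← hm, Sylow.coe_subgroup_smul, Solvable.map_conj_smul]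
      rfl
    rw [hY, map_conj_map_conj] at hXm
    have h1 := normalizer_le_of_sigma hσ hXmax (mem_normalizer_of_map_conj_le hXm.ge)
    have hgM : g ∈ M := by
      have := mul_mem (inv_mem h1) m.2
      rwa [show ((m : G) * g⁻¹)⁻¹ * (m : G) = g by group] at this
    rw [map_conj_one]
    have h2 : g ∈ normalizer (M : Set G) := le_normalizer hgM
    rw [mem_normalizer_iff_map_conj_eq] at h2
    exact h2
  -- the general case
  set N := normalizer (X : Set G) with hN
  set C := centralizer (X : Set G) with hC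
  have hNC : N ≤ normalizer (C : Set G) := le_normalizer_centralizer_of_le le_rfl
  have hXtop : X ≠ ⊤ := isPGroup_ne_top hG hXp
  have hNtop : N ≠ ⊤ := normalizer_ne_top hG hX1 hXtop
  obtain ⟨R₁, hR₁, hXR₁, hR₁MN⟩ := exists_gt_normalizer_of_not_max hXM hXp hXmax
  obtain ⟨R, hR, hR₁R⟩ := exists_isMaxPIn_ge (hR₁MN.trans inf_le_right) hR₁
  have hXR : X < R := hXR₁.trans_le hR₁R
  obtain ⟨T, hT, -⟩ := exists_isMaxPIn_ge hXM hXp
  obtain ⟨P, hP⟩ := hR.pgroup.exists_le_sylow
  obtain ⟨T₀, hT₀⟩ : ∃ T₀ : Sylow p G, (T₀ : Subgroup G) = T := by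
    have hmx := isMaxPIn_top_of_sigma hσ hT
    exact ⟨⟨T, hT.pgroup, fun {Q} hQ hle => hmx.max Q hQ hle le_top⟩, rfl⟩
  obtain ⟨h, hh⟩ := MulAction.exists_smul_eq G T₀ P
  have hRh : R ≤ M.map (MulAut.conj h).toMonoidHom := by
    refine hP.trans ?_
    rw [← hh, Sylow.coe_subgroup_smul, hT₀]
    exact Subgroup.map_mono hT.le
  obtain ⟨c₁, hc₁, hhc⟩ := IH R₁ hR₁ hXR₁ (hR₁MN.trans inf_le_left) h (hR₁R.trans hRh)
  have hc₁C : c₁ ∈ C := Subgroup.centralizer_le hXR₁.le hc₁
  have hCN : C ≤ N := centralizer_le_normalizer _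
  rw [hhc] at hRh
  set M₁ := M.map (MulAut.conj c₁).toMonoidHom with hM₁
  have hmove : ∀ Y : Subgroup G, X ≤ Y → Y ≤ M₁ →
      X ≤ Y.map (MulAut.conj c₁⁻¹).toMonoidHom ∧ Y.map (MulAut.conj c₁⁻¹).toMonoidHom ≤ M := by
    intro Y hXY hYM
    refine ⟨fun x hx => ?_, ?_⟩
    · rw [mem_map_conj_iff, inv_inv, ← mem_centralizer_iff.1 hc₁C x hx, mul_inv_cancel_right]
      exact hXY hx
    · have := Subgroup.map_mono (f := (MulAut.conj c₁⁻¹).toMonoidHom) hYM
      rwa [hM₁, map_conj_map_conj, inv_mul_cancel, map_conj_one] at this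
  -- `N(X) = C(X) N_M(X)`
  have hfac : ∀ u ∈ N, ∃ c ∈ C, ∃ m ∈ M, u = c * m := by
    have hlift : ∀ v ∈ N, ∀ d ∈ C, c₁⁻¹ * v * c₁ * d ∈ M → ∃ c ∈ C, ∃ m ∈ M, v = c * m := by
      intro v hv d hd hm
      set m := c₁⁻¹ * v * c₁ * d with hmdef
      have hmN : m ∈ N := mul_mem (mul_mem (mul_mem (inv_mem (hCN hc₁C)) hv) (hCN hc₁C)) (hCN hd)
      refine ⟨c₁ * (m * (d⁻¹ * c₁⁻¹) * m⁻¹), mul_mem hc₁C
        ((mem_normalizer_iff.1 (hNC hmN) _).1 (mul_mem (inv_mem hd) (inv_mem hc₁C))), m, hm, ?_⟩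
      rw [hmdef]; group
    by_cases hRr : Cfsg.PRankLE p 2 R
    · -- small rank
      haveI : Group.IsSolvable N := isSolvable_of_ne_top hG hNtop
      have hp2 : p ≠ 2 := prime_ne_two hG (hσ.2.1.trans (Subgroup.card_subgroup_dvd_card M))
      have hNr : Cfsg.PRankLE p 2 N := by
        intro E hEc hEp
        obtain ⟨S, hS⟩ := hR.exists_sylow
        obtain ⟨Q, hQ⟩ := (isPGroup_of_exp hEp).exists_le_sylow
        obtain ⟨k, hk⟩ := MulAction.exists_smul_eq N Q S
        haveI := hEc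
        haveI := map_isMulCommutative E (f := (MulAut.conj k).toMonoidHom)
        haveI := map_isMulCommutative (E.map (MulAut.conj k).toMonoidHom) (f := N.subtype)
        have hle : (E.map (MulAut.conj k).toMonoidHom).map N.subtype ≤ R := by
          rw [← hS, ← hk, Sylow.coe_subgroup_smul]
          exact Subgroup.map_mono (Subgroup.map_mono hQ)
        have h1 := hRr (((E.map (MulAut.conj k).toMonoidHom).map N.subtype).subgroupOf R)
          inferInstance (fun a ha => by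
            obtain ⟨_, ⟨e, he, rfl⟩, hea⟩ := mem_subgroupOf.1 ha
            refine Subtype.ext ?_
            rw [SubgroupClass.coe_pow, ← hea, ← map_pow, ← map_pow, hEp e he, map_one, map_one]
            rfl)
        rwa [Nat.card_congr (subgroupOfEquivOfLe hle).toEquiv,
          Subgroup.card_map_of_injective N.subtype_injective,
          Subgroup.card_map_of_injective (MulAut.conj k).injective] at h1
      obtain ⟨-, hidx, -⟩ := rank_two_structure (odd_card_subgroup hG N) hp2 hNr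
      have hR' : R.subgroupOf N ≤ Cfsg.pPrimePCore p N := by
        haveI : (Cfsg.pPrimePCore p N).Normal := by
          rw [pPrimePCore_eq_comap_barHom]
          exact (Solvable.pCore_normal p _).comap _
        intro x hx
        rw [← QuotientGroup.eq_one_iff (N := Cfsg.pPrimePCore p N), ← orderOf_eq_one_iff]
        obtain ⟨k, hk⟩ := IsPGroup.iff_orderOf.mp
          (hR.pgroup.of_equiv (subgroupOfEquivOfLe hR.le).symm) ⟨x, hx⟩
        rw [Subgroup.orderOf_mk] at hk
        refine Nat.eq_one_of_dvd_coprimes (hidx.pow_right k) ?_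
          ((orderOf_map_dvd (QuotientGroup.mk' _) x).trans (dvd_of_eq hk))
        rw [Subgroup.index_eq_card]
        exact orderOf_dvd_natCard _
      set O := Cfsg.piCoreOf (Cfsg.primesNotDvd p) N
      have hON : O ≤ N := piCoreOf_le _ _
      have hOC : O ≤ C := commute_of_normalize_disjoint hON
        (le_normalizer.trans (le_normalizer_piCoreOf _ _)) (disjoint_iff.2 (by
          rw [inf_comm]
          exact PLoc.disjoint_of_pgroup_coprime hXp (piCoreOf_primesNotDvd_coprime N)))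
      have hNle : N ≤ O ⊔ (N ⊓ normalizer (R : Set G)) :=
        le_piCoreOf_sup_normalizer hR inferInstance hR'
      intro u hu
      have h1 := hNle hu
      rw [← SetLike.mem_coe, Subgroup.coe_mul_of_right_le_normalizer_left _ _
        (inf_le_left.trans (le_normalizer_piCoreOf _ _))] at h1
      obtain ⟨o, ho, v, ⟨hvN, hvR⟩, rfl⟩ := h1
      -- `v` normalises `R`
      set R' := R.map (MulAut.conj c₁⁻¹).toMonoidHom with hR'def
      have hXR' : X < R' := lt_of_le_of_ne (hmove R hXR.le hRh).1 fun hXeq => hXR.ne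
        (Subgroup.eq_of_le_of_card_ge hXR.le (by
          rw [hXeq, hR'def, Subgroup.card_map_of_injective (MulAut.conj c₁⁻¹).injective]))
      obtain ⟨d, hd, hdd⟩ := IH R' (hR.pgroup.map _) hXR' (hmove R hXR.le hRh).2 (c₁⁻¹ * v * c₁)
        (by
          intro x hx
          rw [hR'def, mem_map_conj_iff, inv_inv] at hx
          rw [mem_map_conj_iff]
          have h2 := (mem_normalizer_iff''.1 hvR _).1 hx
          have h3 := mem_map_conj_iff.1 (hRh h2)
          rwa [show (c₁⁻¹ * v * c₁)⁻¹ * x * (c₁⁻¹ * v * c₁) =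
            c₁⁻¹ * (v⁻¹ * (c₁ * x * c₁⁻¹) * v) * c₁ by group])
      have hm : d⁻¹ * (c₁⁻¹ * v * c₁) ∈ M := mem_of_map_conj_eq hG hM (by
        rw [← map_conj_map_conj, hdd, map_conj_map_conj, inv_mul_cancel, map_conj_one])
      have hdC : d ∈ C := Subgroup.centralizer_le hXR'.le hd
      have hdd' : c₁⁻¹ * (c₁ * d⁻¹ * c₁⁻¹ * v) * c₁ * 1 ∈ M := by
        rwa [show c₁⁻¹ * (c₁ * d⁻¹ * c₁⁻¹ * v) * c₁ * 1 = d⁻¹ * (c₁⁻¹ * v * c₁) by group]
      have hz : c₁ * d⁻¹ * c₁⁻¹ ∈ C := mul_mem (mul_mem hc₁C (inv_mem hdC)) (inv_mem hc₁C)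
      obtain ⟨c, hc, m, hm', he⟩ := hlift _ (mul_mem (hCN hz) hvN) 1 (one_mem C) hdd'
      refine ⟨o * ((c₁ * d⁻¹ * c₁⁻¹)⁻¹ * c), mul_mem (hOC ho) (mul_mem (inv_mem hz) hc), m, hm', ?_⟩
      show o * v = _
      calc o * v = o * ((c₁ * d⁻¹ * c₁⁻¹)⁻¹ * (c₁ * d⁻¹ * c₁⁻¹ * v)) := by group
        _ = _ := by rw [he]; group
    · -- large rank
      obtain ⟨E, hER, hEe, hEc⟩ := exists_elementary_of_not_pRankLE hRr
      have hEU := inUniqueMaximal_of_elementary_three hG hEe hEc
      have hNM₁ : N ≤ M₁ := le_of_inUniqueMaximal hEU (isCoatom_conj hM c₁) (hER.trans hRh) hNtop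
        (hER.trans hR.le)
      intro u hu
      refine hlift u hu 1 (one_mem C) ?_
      rw [mul_one]
      exact mem_map_conj_iff.1 (hNM₁ hu)
  have hXg' : X.map (MulAut.conj g⁻¹).toMonoidHom ≤ M := by
    have := Subgroup.map_mono (f := (MulAut.conj g⁻¹).toMonoidHom) hXg
    rwa [map_conj_map_conj, inv_mul_cancel, map_conj_one] at this
  have hnotmax : ¬ IsMaxPIn p M (X.map (MulAut.conj g⁻¹).toMonoidHom) := fun hmax => hXmax (by
    refine ⟨hXM, hXp, fun S hS hle hSM => ?_⟩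
    refine (Subgroup.eq_of_le_of_card_ge hle ?_).symm
    obtain ⟨S', hS', hSS'⟩ := exists_isMaxPIn_ge hSM hS
    obtain ⟨S₁, hS₁⟩ := hS'.exists_sylow
    obtain ⟨S₂, hS₂⟩ := hmax.exists_sylow
    calc Nat.card S ≤ Nat.card S' := Subgroup.card_le_of_le hSS'
      _ = Nat.card (X.map (MulAut.conj g⁻¹).toMonoidHom) := by
        rw [← hS₁, ← hS₂, Subgroup.card_map_of_injective M.subtype_injective,
          Subgroup.card_map_of_injective M.subtype_injective, S₁.card_eq_multiplicity,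
          S₂.card_eq_multiplicity]
      _ = Nat.card X := Subgroup.card_map_of_injective (MulAut.conj g⁻¹).injective)
  obtain ⟨R₀, hR₀, hXR₀, hR₀MN⟩ := exists_gt_normalizer_of_not_max hXg' (hXp.map _) hnotmax
  set R₂ := R₀.map (MulAut.conj g).toMonoidHom with hR₂
  have hXR₂ : X < R₂ := by
    have := (Subgroup.map_lt_map_iff_of_injective
      (f := (MulAut.conj g).toMonoidHom) (MulAut.conj g).injective).2 hXR₀
    rwa [map_conj_map_conj, mul_inv_cancel, map_conj_one] at this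
  have hR₂g : R₂ ≤ Mg := Subgroup.map_mono (hR₀MN.trans inf_le_left)
  have hR₂N : R₂ ≤ N := by
    refine (Subgroup.map_mono (hR₀MN.trans inf_le_right)).trans ((le_normalizer_map _).trans ?_)
    rw [map_conj_map_conj, mul_inv_cancel, map_conj_one]
  obtain ⟨S, hS⟩ := hR.exists_sylow
  obtain ⟨Q, hQ⟩ := ((hR₀.map (MulAut.conj g).toMonoidHom).of_equiv
    (subgroupOfEquivOfLe hR₂N).symm).exists_le_sylow
  obtain ⟨u, hu⟩ := MulAction.exists_smul_eq N Q S
  set R₃ := R₂.map (MulAut.conj (u : G)).toMonoidHom with hR₃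
  have hR₃R : R₃ ≤ R := by
    rw [← hS, ← hu, Sylow.coe_subgroup_smul, Solvable.map_conj_smul, hR₃,
      ← map_subgroupOf_eq_of_le hR₂N]
    exact Subgroup.map_mono (Subgroup.map_mono hQ)
  have hXu : X.map (MulAut.conj (u : G)).toMonoidHom = X := by
    exact mem_normalizer_iff_map_conj_eq.1 (show (u : G) ∈ normalizer (X : Set G) from u.2)
  have hXR₃ : X < R₃ := by
    have := (Subgroup.map_lt_map_iff_of_injective
      (f := (MulAut.conj (u : G)).toMonoidHom) (MulAut.conj (u : G)).injective).2 hXR₂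
    rwa [hXu] at this
  set R₄ := R₃.map (MulAut.conj c₁⁻¹).toMonoidHom with hR₄
  obtain ⟨hXR₄, hR₄M⟩ := hmove R₃ hXR₃.le (hR₃R.trans hRh)
  have hlt : X < R₄ := lt_of_le_of_ne hXR₄ fun hXeq => hXR₃.ne
    (Subgroup.eq_of_le_of_card_ge hXR₃.le (by
      rw [hXeq]
      have hi : Function.Injective ((MulAut.conj c₁⁻¹).toMonoidHom : G → G) :=
        (MulAut.conj c₁⁻¹).injective
      exact (Subgroup.card_map_of_injective (K := R₃) hi).ge))
  have hR₄g : R₄ ≤ M.map (MulAut.conj (c₁⁻¹ * u * g)).toMonoidHom := by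
    refine (Subgroup.map_mono (Subgroup.map_mono hR₂g)).trans_eq ?_
    rw [hMg, map_conj_map_conj, map_conj_map_conj, mul_assoc]
  obtain ⟨d, hd, hdd⟩ := IH R₄ (((hR₀.map _).map _).map _) hlt hR₄M _ hR₄g
  have hdC : d ∈ C := Subgroup.centralizer_le hlt.le hd
  obtain ⟨c, hc, m, hm, hu'⟩ := hfac (u : G)⁻¹ (inv_mem u.2)
  have hmN : m ∈ N := by
    rw [show m = c⁻¹ * (u : G)⁻¹ by rw [hu']; group]
    exact mul_mem (inv_mem (hCN hc)) (inv_mem u.2)
  refine ⟨c * (m * (c₁ * d) * m⁻¹),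
    mul_mem hc ((mem_normalizer_iff.1 (hNC hmN) _).1 (mul_mem hc₁C hdC)), ?_⟩
  have hmM : M.map (MulAut.conj m⁻¹).toMonoidHom = M := by
    have h2 : m⁻¹ ∈ normalizer (M : Set G) := le_normalizer (inv_mem hm)
    rw [mem_normalizer_iff_map_conj_eq] at h2
    exact h2
  calc Mg = M.map (MulAut.conj ((u : G)⁻¹ * c₁ * (c₁⁻¹ * u * g))).toMonoidHom := by
        rw [show (u : G)⁻¹ * c₁ * (c₁⁻¹ * u * g) = g by group]
    _ = M.map (MulAut.conj ((u : G)⁻¹ * c₁ * d)).toMonoidHom := by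
        rw [← map_conj_map_conj, hdd, map_conj_map_conj]
    _ = (M.map (MulAut.conj m⁻¹).toMonoidHom).map
          (MulAut.conj ((u : G)⁻¹ * c₁ * d)).toMonoidHom := by rw [hmM]
    _ = _ := by
        rw [map_conj_map_conj, hu']
        congr 3
        group

/-- BG 10.1, element form. -/
theorem exists_eq_mul_centralizer {X : Subgroup G} (hXp : IsPGroup p X) (hX1 : X ≠ ⊥) (hXM : X ≤ M)
    {g : G} (hg : X.map (MulAut.conj g).toMonoidHom ≤ M) :
    ∃ m ∈ M, ∃ c ∈ centralizer (X : Set G), g = m * c := by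
  have h1 : X ≤ M.map (MulAut.conj g⁻¹).toMonoidHom := fun x hx => by
    rw [mem_map_conj_iff, inv_inv]
    exact hg (mem_map_of_mem _ hx)
  obtain ⟨c, hc, hcc⟩ := exists_centralizer_conj hG hM hσ _ X rfl hXp hX1 hXM g⁻¹ h1
  refine ⟨g * c, mem_of_map_conj_eq hG hM ?_, c⁻¹, inv_mem hc, by group⟩
  rw [← map_conj_map_conj, ← hcc, map_conj_map_conj, mul_inv_cancel, map_conj_one]

/-- Sylow `p`-subgroups of `M`, `p ∈ σ(M)`, lie in `M'`. -/
theorem le_commutator_of_sigma {T : Subgroup G} (hT : IsMaxPIn p M T) : T ≤ ⁅M, M⁆ := by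
  have hmx := isMaxPIn_top_of_sigma hσ hT
  let P : Sylow p G := ⟨T, hT.pgroup, fun {Q} hQ hle => hmx.max Q hQ hle le_top⟩
  have hperf : commutator G = ⊤ := by
    haveI : IsSimpleGroup G := hG.2.1
    refine (eq_bot_or_top_of_normal hG inferInstance).resolve_left fun h => hG.2.2.1 ⟨⟨fun a b => ?_⟩⟩
    have h1 : ⁅a, b⁆ ∈ commutator G := by
      rw [_root_.commutator_def]; exact commutator_mem_commutator (mem_top a) (mem_top b)
    rw [h, mem_bot] at h1
    exact commutatorElement_eq_one_iff_mul_comm.1 h1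
  have h1 := Transfer.commutator_inf_eq_focal_of_coprime (H := (P : Subgroup G))
    (Transfer.coprime_card_quotient_focal (Transfer.coprime_card_index_sylow P))
  rw [hperf, top_inf_eq] at h1
  refine h1.le.trans ((Transfer.focalSubgroup_le_of_controls fun x hx g hgx => ?_).trans
    (commutator_mono hT.le le_rfl))
  by_cases hx1 : x = 1
  · exact ⟨1, one_mem M, by simp [hx1]⟩
  obtain ⟨m, hm, c, hc, rfl⟩ := exists_eq_mul_centralizer hG hM hσ (X := zpowers x)
    (hT.pgroup.to_le (zpowers_le.2 hx)) (fun h => hx1 (zpowers_eq_bot.1 h))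
    (zpowers_le.2 (hT.le hx)) (g := g) (by
      rw [MonoidHom.map_zpowers, zpowers_le]
      exact hT.le hgx)
  refine ⟨m, hm, ?_⟩
  rw [show m * c * x * (m * c)⁻¹ = m * (c * x * c⁻¹) * m⁻¹ by group,
    ← mem_centralizer_iff.1 hc x (mem_zpowers x), mul_inv_cancel_right]

end Conjugacy

section Hall

variable (hG : Cfsg.IsMinSimpleOddOrder G) {M : Subgroup G} (hM : IsCoatom M)
include hG hM

theorem alpha_subset_sigma {p : ℕ} (hp : p ∈ Cfsg.alpha M) : p ∈ Cfsg.sigma M := by
  obtain ⟨hpp, hr⟩ := hp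
  haveI := Fact.mk hpp
  obtain ⟨E, hEM, hEe, hE⟩ := exists_elementary_of_not_pRankLE hr
  have hEU := inUniqueMaximal_of_elementary_three hG hEe hE
  obtain ⟨T, hT, hET⟩ := exists_isMaxPIn_ge hEM (isPGroup_of_exp hEe.2)
  have hT1 : T ≠ ⊥ := fun h => ne_bot_of_inUniqueMaximal hG hEU (le_bot_iff.1 (h ▸ hET))
  obtain ⟨S, hS⟩ := hT.exists_sylow
  refine ⟨hpp, ?_, S, ?_⟩
  · obtain ⟨n, hn⟩ := hT.pgroup.exists_card_eq
    rcases n with _ | n
    · exact absurd (Subgroup.card_eq_one.1 (hn.trans (pow_zero p))) hT1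
    · exact (hn ▸ dvd_pow_self p n.succ_ne_zero).trans (Subgroup.card_dvd_of_le hT.le)
  · rw [hS]
    exact le_of_inUniqueMaximal hEU hM hEM
      (normalizer_ne_top hG hT1 (isPGroup_ne_top hG hT.pgroup)) (hET.trans le_normalizer)

theorem rankLE_two_fitting_quotient :
    Cfsg.RankLE 2 ↥(Cfsg.fittingSubgroup (M ⧸ Cfsg.piCore (Cfsg.alpha M) M)) := by
  intro q hq
  haveI := Fact.mk hq
  set N := Cfsg.piCore (Cfsg.alpha M) M with hN
  set F := Cfsg.fittingSubgroup (M ⧸ N)
  haveI : F.Normal := Solvable.fittingSubgroup_normal _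
  by_cases hqα : q ∈ Cfsg.alpha M
  · have hFn : Group.IsNilpotent F := Solvable.fittingSubgroup_isNilpotent _
    set O := Cfsg.piCoreOf {q} F with hO
    have hO1 : O = ⊥ := by
      refine le_bot_iff.1 ((le_piCore ?_ ?_).trans (piCore_quotient_eq_bot N hN).le)
      · exact normalizer_eq_top_iff.1 (top_le_iff.1
          ((normalizer_eq_top F).ge.trans (normalizer_le_normalizer_piCoreOf _ _)))
      · exact IsPiSubgroup.mono (piCoreOf_isPiSubgroup _ _) (Set.singleton_subset_iff.2 hqα)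
    intro A hA hAq
    have hA1 : A = ⊥ := by
      refine (eq_bot_iff_forall _).2 fun a ha => ?_
      have h1 : (a : M ⧸ N) ∈ O := mem_piCoreOf_of_nilpotent hFn a.2 fun s hs hd => by
        rw [Subgroup.orderOf_coe] at hd
        exact (Nat.prime_dvd_prime_iff_eq hs hq).1 (hd.trans (orderOf_dvd_of_pow_eq_one (hAq a ha)))
      rw [hO1, mem_bot] at h1
      exact Subtype.ext h1
    rw [hA1, Subgroup.card_bot]
    exact Nat.one_le_pow _ _ hq.pos
  · refine TwoFusion.PRank.pRankLE_of_injective _ (subtype_injective _)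
      (pRankLE_of_coprime_ker (QuotientGroup.mk'_surjective N) ?_ ?_)
    · rw [QuotientGroup.ker_mk']
      refine (Nat.coprime_of_dvd fun s hs h1 h2 => ?_)
      exact hqα ((Nat.prime_dvd_prime_iff_eq hs hq).1 h2 ▸ piCore_isPiSubgroup _ _ s hs h1)
    · by_contra h
      exact hqα ⟨hq, h⟩

theorem commutator_quotient_le_fitting :
    commutator (M ⧸ Cfsg.piCore (Cfsg.alpha M) M) ≤
      Cfsg.fittingSubgroup (M ⧸ Cfsg.piCore (Cfsg.alpha M) M) := by
  haveI := isSolvable_of_ne_top hG hM.1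
  haveI : Group.IsSolvable (M ⧸ Cfsg.piCore (Cfsg.alpha M) M) :=
    Group.isSolvable_of_surjective (QuotientGroup.mk'_surjective _)
  exact commutator_le_fittingSubgroup
    (Odd.of_dvd_nat (odd_card_subgroup hG M) (Subgroup.card_quotient_dvd_card _))
    (Or.inr (rankLE_two_fitting_quotient hG hM))

/-- For `p ∈ σ(M)` a Sylow `p`-subgroup of `M` lies in `M'` and so maps into `F(M/M_α)`. -/
theorem sylow_map_le_fitting {p : ℕ} [hp : Fact p.Prime] (hσ : p ∈ Cfsg.sigma M) (S : Sylow p M) :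
    (S : Subgroup M).map (QuotientGroup.mk' (Cfsg.piCore (Cfsg.alpha M) M)) ≤
      Cfsg.fittingSubgroup (M ⧸ Cfsg.piCore (Cfsg.alpha M) M) := by
  have h1 := le_commutator_of_sigma hG hM hσ (isMaxPIn_of_sylow S)
  have h2 : (commutator M).map M.subtype = ⁅M, M⁆ := by
    rw [_root_.commutator_def, map_commutator, ← MonoidHom.range_eq_map, range_subtype]
  rw [← h2] at h1
  refine (Subgroup.map_mono (Subgroup.map_le_map_iff_of_injective M.subtype_injective |>.1 h1)).trans
    (le_trans ?_ (commutator_quotient_le_fitting hG hM))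
  rw [_root_.commutator_def, map_commutator, _root_.commutator_def]
  exact commutator_mono le_top le_top

theorem sylow_le_alphaCore {p : ℕ} [hp : Fact p.Prime] (hα : p ∈ Cfsg.alpha M) (S : Sylow p M) :
    (S : Subgroup M) ≤ Cfsg.piCore (Cfsg.alpha M) M := by
  set N := Cfsg.piCore (Cfsg.alpha M) M with hN
  intro x hx
  have h1 := sylow_map_le_fitting hG hM (alpha_subset_sigma hG hM hα) S (mem_map_of_mem _ hx)
  set F := Cfsg.fittingSubgroup (M ⧸ N)
  haveI : F.Normal := Solvable.fittingSubgroup_normal _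
  have h2 : QuotientGroup.mk' N x ∈ Cfsg.piCoreOf {p} F :=
    mem_piCoreOf_of_nilpotent (Solvable.fittingSubgroup_isNilpotent _) h1 fun s hs hd => by
      obtain ⟨n, hn⟩ := S.2.exists_card_eq
      have h3 := (hd.trans (orderOf_map_dvd _ x)).trans (orderOf_dvd_card_of_mem hx)
      rw [hn] at h3
      exact (Nat.prime_dvd_prime_iff_eq hs hp.out).1 (hs.dvd_of_dvd_pow h3)
  have h3 : Cfsg.piCoreOf {p} F ≤ ⊥ := (le_piCore (normalizer_eq_top_iff.1 (top_le_iff.1
      ((normalizer_eq_top F).ge.trans (normalizer_le_normalizer_piCoreOf _ _))))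
      (IsPiSubgroup.mono (piCoreOf_isPiSubgroup _ _) (Set.singleton_subset_iff.2 hα))).trans
    (piCore_quotient_eq_bot N hN).le
  exact (QuotientGroup.eq_one_iff x).1 (mem_bot.1 (h3 h2))

theorem sylow_le_sigmaCore {p : ℕ} [hp : Fact p.Prime] (hσ : p ∈ Cfsg.sigma M) (S : Sylow p M) :
    (S : Subgroup M) ≤ Cfsg.piCore (Cfsg.sigma M) M := by
  set N := Cfsg.piCore (Cfsg.alpha M) M with hN
  set F := Cfsg.fittingSubgroup (M ⧸ N)
  haveI : F.Normal := Solvable.fittingSubgroup_normal _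
  set O := Cfsg.piCoreOf {p} F with hO
  haveI hOn : O.Normal := normalizer_eq_top_iff.1 (top_le_iff.1
    ((normalizer_eq_top F).ge.trans (normalizer_le_normalizer_piCoreOf _ _)))
  have hle : (S : Subgroup M) ≤ O.comap (QuotientGroup.mk' N) := by
    intro x hx
    refine mem_piCoreOf_of_nilpotent (Solvable.fittingSubgroup_isNilpotent _)
      (sylow_map_le_fitting hG hM hσ S (mem_map_of_mem _ hx)) fun s hs hd => ?_
    obtain ⟨n, hn⟩ := S.2.exists_card_eq
    have h3 := (hd.trans (orderOf_map_dvd _ x)).trans (orderOf_dvd_card_of_mem hx)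
    rw [hn] at h3
    exact (Nat.prime_dvd_prime_iff_eq hs hp.out).1 (hs.dvd_of_dvd_pow h3)
  refine hle.trans (le_piCore inferInstance fun s hs hd => ?_)
  have h1 := Subgroup.card_mul_index
    ((QuotientGroup.mk' N).comp (O.comap (QuotientGroup.mk' N)).subtype).ker
  rw [Subgroup.index_ker, MonoidHom.range_comp, range_subtype] at h1
  rw [← h1] at hd
  rcases hs.dvd_mul.1 hd with h | h
  · refine alpha_subset_sigma hG hM (piCore_isPiSubgroup (Cfsg.alpha M) M s hs (h.trans ?_))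
    rw [← MonoidHom.comap_ker, QuotientGroup.ker_mk']
    exact Subgroup.card_comap_dvd_of_injective _ _ (subtype_injective _)
  · have h2 := piCoreOf_isPiSubgroup {p} F s hs (h.trans (Subgroup.card_dvd_of_le (map_comap_le _ _)))
    rw [Set.mem_singleton_iff] at h2
    exact h2 ▸ hσ

omit hG hM in
theorem not_dvd_relIndex_core {π : Set ℕ} {p : ℕ} [Fact p.Prime] (S : Sylow p M)
    (h : (S : Subgroup M) ≤ Cfsg.piCore π M) :
    ¬ p ∣ ((Cfsg.piCore π M).map M.subtype).relIndex M := by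
  rw [Subgroup.relIndex, subgroupOf, comap_map_eq_self_of_injective M.subtype_injective]
  exact fun hd => S.not_dvd_index (hd.trans (Subgroup.index_dvd_of_le h))

omit hG hM in
theorem map_piCore_le_carrier (π : Set ℕ) :
    Cfsg.IsPiSubgroup π ((Cfsg.piCore π M).map M.subtype) :=
  piCoreOf_isPiSubgroup π M

/-- BG 10.2: Hall cores. -/
theorem hall_of_subset {π : Set ℕ} (hπ : π ⊆ Cfsg.sigma M)
    (h : ∀ (p : ℕ) [Fact p.Prime] (S : Sylow p M), p ∈ π → (S : Subgroup M) ≤ Cfsg.piCore π M) :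
    Cfsg.IsPiHallOf π (Cfsg.piCoreOf π M) M ∧ Cfsg.IsPiHall π (Cfsg.piCoreOf π M) := by
  refine ⟨⟨piCoreOf_le _ _, piCoreOf_isPiSubgroup π M, fun p hp hpπ => ?_⟩,
    piCoreOf_isPiSubgroup π M, fun p hp hpπ => ?_⟩ <;> haveI := Fact.mk hp <;>
    obtain ⟨S⟩ : Nonempty (Sylow p M) := inferInstance
  · exact not_dvd_relIndex_core S (h p S hpπ)
  · have hmx := isMaxPIn_top_of_sigma (hπ hpπ) (isMaxPIn_of_sylow S)
    let P : Sylow p G := ⟨(S : Subgroup M).map M.subtype, S.2.map _,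
      fun {Q} hQ hle => hmx.max Q hQ hle le_top⟩
    have hle : (P : Subgroup G) ≤ Cfsg.piCoreOf π M := Subgroup.map_mono (h p S hpπ)
    exact fun hd => P.not_dvd_index (hd.trans (Subgroup.index_dvd_of_le hle))

theorem eq_sigmaCore_of_hall {N : Subgroup G} (hN : M ≤ normalizer (N : Set G))
    (hNh : Cfsg.IsPiHallOf (Cfsg.sigma M) N M) : N = Cfsg.sigmaCore M := by
  obtain ⟨hNM, hNπ, hNi⟩ := hNh
  have hle : N ≤ Cfsg.sigmaCore M := le_piCoreOf hNM hN hNπ
  refine Subgroup.eq_of_le_of_card_ge hle (Nat.le_of_dvd Nat.card_pos ?_)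
  have h1 : Nat.card ↥(Cfsg.sigmaCore M) ∣ Nat.card N * N.relIndex M := by
    rw [← Subgroup.relIndex_bot_left N, Subgroup.relIndex_mul_relIndex ⊥ N M bot_le hNM,
      Subgroup.relIndex_bot_left]
    exact Subgroup.card_dvd_of_le (piCoreOf_le _ _)
  refine (Nat.Coprime.dvd_of_dvd_mul_right (Nat.coprime_of_dvd fun s hs h2 h3 => ?_) h1)
  exact hNi s hs (piCoreOf_isPiSubgroup _ M s hs h2) h3

/-- BG 10.2, the quotient by `M_α`. -/
theorem rankLE_two_quotient_alphaCore :
    Cfsg.RankLE 2 (↥M ⧸ Cfsg.piCore (Cfsg.alpha M) ↥M) := by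
  intro q hq
  haveI := Fact.mk hq
  set N := Cfsg.piCore (Cfsg.alpha M) M with hN
  by_cases hqα : q ∈ Cfsg.alpha M
  · intro A hA hAq
    obtain ⟨S⟩ : Nonempty (Sylow q M) := inferInstance
    have hidx : ¬ q ∣ N.index := fun hd =>
      S.not_dvd_index (hd.trans (Subgroup.index_dvd_of_le (sylow_le_alphaCore hG hM hqα S)))
    obtain ⟨n, hn⟩ := (isPGroup_of_exp hAq).exists_card_eq
    rcases n with _ | n
    · rw [hn, pow_zero]; exact Nat.one_le_pow _ _ hq.pos
    · refine absurd ?_ hidx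
      rw [Subgroup.index_eq_card]
      exact (hn ▸ dvd_pow_self q n.succ_ne_zero).trans (Subgroup.card_subgroup_dvd_card A)
  · refine pRankLE_of_coprime_ker (QuotientGroup.mk'_surjective N) ?_ (by
      by_contra h
      exact hqα ⟨hq, h⟩)
    rw [QuotientGroup.ker_mk']
    exact Nat.coprime_of_dvd fun s hs h1 h2 =>
      hqα ((Nat.prime_dvd_prime_iff_eq hs hq).1 h2 ▸ piCore_isPiSubgroup _ _ s hs h1)

end Hall

end CfsgLib.OddOrder
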