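import Cfsg.Agent.Lib.OddOrder.PPrime
import Cfsg.Agent.Lib.OddOrder.OmegaFix
import Cfsg.Agent.Lib.PLocal.QuadLinear
import Cfsg.Agent.Lib.Invol.BaerSuzuki
import Cfsg.Agent.Lib.Solvable.CoprimeAction

/-!
p-stability of finite groups of odd order (for odd `p`).
-/

set_option autoImplicit false
set_option linter.style.haveILetI false

open scoped commutatorElement

namespace CfsgLib.OddOrder

open Subgroup

universe u

/-- In a group of odd order, the action on a normal elementary abelian `p`-subgroup is `p`-stable: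
the class of a quadratic element lies in `O_p(Z / C(V))`. -/
theorem quadElt_mk_mem_pCore {Z : Type*} [Group Z] [Finite Z] {p : ℕ} [hp : Fact p.Prime]
    (hodd : Odd (Nat.card Z)) (hp2 : p ≠ 2) {V : Subgroup Z} [V.Normal]
    (hV : Cfsg.IsElementaryAbelian p V) {a : Z} (ha : PLocal.QuadElt V a) :
    QuotientGroup.mk' (centralizer (V : Set Z)) a ∈
      Cfsg.pCore p (Z ⧸ centralizer (V : Set Z)) := by
  have hmem : ∀ h : Z, h ∈ normalizer (V : Set Z) := fun h => by
    rw [normalizer_eq_top V]; exact mem_top h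
  letI : CommGroup V := { (inferInstance : Group V) with
    mul_comm := fun x y => Subtype.ext (PLocal.commute_of_mem_comm hV.1 x.2 y.2).eq }
  have hsmul : ∀ x : Additive V, p • x = 0 := fun x => by
    apply Additive.toMul.injective
    exact Subtype.ext (hV.2 _ (Additive.toMul x).2)
  letI : Module (ZMod p) (Additive V) := AddCommGroup.zmodModule hsmul
  let σ : Z →* AddMonoid.End (Additive V) :=
    { toFun := fun h =>
        { toFun := fun x => Additive.ofMul ⟨h * (Additive.toMul x : V) * h⁻¹,
            (Subgroup.mem_normalizer_iff.mp (hmem h) _).mp (Additive.toMul x).2⟩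
          map_zero' := by apply Additive.toMul.injective; ext; simp
          map_add' := fun x y => by apply Additive.toMul.injective; ext; simp [mul_assoc] }
      map_one' := by
        refine AddMonoidHom.ext fun x => ?_
        apply Additive.toMul.injective
        ext
        show (1 : Z) * (Additive.toMul x : V) * (1 : Z)⁻¹ = (Additive.toMul x : V)
        simp
      map_mul' := fun s t => by
        refine AddMonoidHom.ext fun x => ?_
        apply Additive.toMul.injective
        ext
        show (s * t) * (Additive.toMul x : V) * (s * t)⁻¹ =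
          s * (t * (Additive.toMul x : V) * t⁻¹) * s⁻¹
        simp [mul_assoc] }
  have hσ : ∀ c : Z, PLocal.QuadElt V c → ∀ x, σ c (σ c x - x) = σ c x - x := by
    intro c hc x
    apply Additive.toMul.injective
    ext
    have := hc _ (Additive.toMul x).2
    rw [commutatorElement_def] at this
    show c * (Additive.toMul (σ c x - x) : V) * c⁻¹ = (Additive.toMul (σ c x - x) : V)
    rw [toMul_sub, Subgroup.coe_div, div_eq_mul_inv]
    exact this
  set C := centralizer (V : Set Z) with hC
  have hker : ∀ h : Z, σ h = 1 → QuotientGroup.mk' C h = 1 := by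
    intro h hh
    refine (QuotientGroup.eq_one_iff h).2 (mem_centralizer_iff.2 fun v hv => ?_)
    have h2 : h * v * h⁻¹ = v :=
      congrArg (fun T : AddMonoid.End (Additive V) =>
        ((Additive.toMul (T (Additive.ofMul ⟨v, hv⟩)) : V) : Z)) hh
    exact (mul_inv_eq_iff_eq_mul.mp h2).symm
  obtain ⟨N, hN, hNp, haN⟩ := CfsgLib.Invol.exists_normal_pGroup_of_pairs (p := p)
      (QuotientGroup.mk' C a) (fun g => by
    obtain ⟨g, rfl⟩ := QuotientGroup.mk'_surjective C g
    rw [← map_inv, ← map_mul, ← map_mul]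
    set X := closure ({a, g * a * g⁻¹} : Set Z) with hX
    have hXmap : closure ({QuotientGroup.mk' C a, QuotientGroup.mk' C (g * a * g⁻¹)} : Set (Z ⧸ C)) =
        X.map (QuotientGroup.mk' C) := by
      rw [hX, MonoidHom.map_closure, Set.image_insert_eq, Set.image_singleton]
    rw [hXmap]
    by_contra hnp
    have hgen : closure ({⟨a, subset_closure (by simp)⟩,
        ⟨g * a * g⁻¹, subset_closure (by simp)⟩} : Set X) = ⊤ := by
      apply map_injective X.subtype_injective
      rw [MonoidHom.map_closure, ← MonoidHom.range_eq_map, range_subtype, Set.image_insert_eq,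
        Set.image_singleton]
      rfl
    obtain ⟨φ, hφ, hφa, hφb⟩ := PLocal.exists_hom_sl2_of_end (p := p) (σ.comp X.subtype) hgen
      (hσ a ha) (hσ _ (PLocal.quadElt_conj (hmem g) ha)) (fun hall => hnp fun h => by
        obtain ⟨_, w, hw, rfl⟩ := h
        obtain ⟨k, hk⟩ := hall ⟨w, hw⟩
        refine ⟨k, Subtype.ext ?_⟩
        rw [SubgroupClass.coe_pow, OneMemClass.coe_one]
        show QuotientGroup.mk' C w ^ p ^ k = 1
        rw [← map_pow]
        exact hker _ hk)
    haveI : CharP (AlgebraicClosure (ZMod p)) p :=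
      charP_of_injective_algebraMap (algebraMap (ZMod p) (AlgebraicClosure (ZMod p))).injective p
    haveI : Finite φ.range := Finite.of_surjective φ.rangeRestrict φ.rangeRestrict_surjective
    refine hφ (PLocal.isPGroup_of_odd_sl2 hp2 φ.range (Odd.of_dvd_nat hodd ?_)
      ((fun h => φ.rangeRestrict h) '' {⟨a, subset_closure (by simp)⟩,
        ⟨g * a * g⁻¹, subset_closure (by simp)⟩}) ?_ ?_)
    · exact (Subgroup.card_range_dvd φ).trans (Subgroup.card_subgroup_dvd_card X)
    · rw [← MonoidHom.map_closure, hgen,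
        Subgroup.map_top_of_surjective _ φ.rangeRestrict_surjective]
    · rintro _ ⟨h, hh, rfl⟩
      rcases hh with rfl | rfl
      exacts [Subtype.ext hφa, Subtype.ext hφb])
  exact Solvable.le_pCore hN hNp haN

/-- In a group of odd order, an element `a` with `[a, [a, b]] = 1` for all `b` in a normal `p`-subgroup `B`
has its class in `O_p(G / C(B))`. -/
theorem quad_mk_mem_pCore {G : Type*} [Group G] [Finite G] {p : ℕ} [hp : Fact p.Prime]
    (hodd : Odd (Nat.card G)) (hp2 : p ≠ 2) {B : Subgroup G} [hBn : B.Normal] (hBp : IsPGroup p B)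
    {a : G} (ha : ∀ b ∈ B, Commute a ⁅a, b⁆) :
    QuotientGroup.mk' (centralizer (B : Set G)) a ∈
      Cfsg.pCore p (G ⧸ centralizer (B : Set G)) := by
  set D := (frattini B).map B.subtype with hD
  haveI hDn : D.Normal := inferInstanceAs ((frattini B).map B.subtype).Normal
  set f := QuotientGroup.mk' D with hf
  have hfs : Function.Surjective f := QuotientGroup.mk'_surjective _
  set V := B.map f with hV
  haveI hVn : V.Normal := Subgroup.Normal.map inferInstance f hfs
  have hker : ∀ y, f y = 1 ↔ y ∈ D := fun y => QuotientGroup.eq_one_iff y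
  have hVea : Cfsg.IsElementaryAbelian p V := by
    constructor
    · refine le_centralizer_iff_isMulCommutative.mp ?_
      rintro _ ⟨r, hr, rfl⟩ _ ⟨s, hs, rfl⟩
      rw [← map_mul, ← map_mul]
      refine QuotientGroup.eq_iff_div_mem.2 ?_
      exact ⟨⁅(⟨s, hs⟩ : B), ⟨r, hr⟩⁆,
        commutator_le_frattini_of_isPGroup hBp (commutator_mem_commutator (mem_top _) (mem_top _)),
        by simp [commutatorElement_def, div_eq_mul_inv, mul_assoc]⟩
    · rintro _ ⟨r, hr, rfl⟩
      rw [← map_pow, hker]
      exact ⟨⟨r, hr⟩ ^ p, pow_mem_frattini_of_isPGroup hBp _, rfl⟩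
  have hq : PLocal.QuadElt V (f a) := by
    rintro _ ⟨r, hr, rfl⟩
    rw [commutatorElement_def, ← map_inv, ← map_inv, ← map_mul, ← map_mul, ← map_mul,
      ← commutatorElement_def a r, ← map_mul, ← map_mul, (ha r hr).eq, mul_inv_cancel_right]
  have hodd' : Odd (Nat.card (G ⧸ D)) := Odd.of_dvd_nat hodd (Subgroup.card_quotient_dvd_card D)
  have hmain := quadElt_mk_mem_pCore hodd' hp2 hVea hq
  set g : G →* (G ⧸ D) ⧸ centralizer (V : Set (G ⧸ D)) :=
    (QuotientGroup.mk' (centralizer (V : Set (G ⧸ D)))).comp f with hg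
  set K := (Cfsg.pCore p ((G ⧸ D) ⧸ centralizer (V : Set (G ⧸ D)))).comap g with hK
  haveI hKn : K.Normal := (Solvable.pCore_normal p _).comap g
  -- `p'`-elements acting trivially on the Frattini quotient centralise `B`
  have hp' : ∀ z : G, (orderOf z).Coprime p → f z ∈ centralizer (V : Set (G ⧸ D)) →
      z ∈ centralizer (B : Set G) := by
    intro z hzo hz
    have hzc : zpowers z ≤ centralizer (B : Set G) := by
      refine Solvable.le_centralizer_of_trivial_on_frattini_quotient ?_ ?_
      · rw [Nat.card_zpowers]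
        obtain ⟨n, hn⟩ := (hBp.to_subgroup (frattini B)).exists_card_eq
        rw [hn]
        exact hzo.pow_right n
      · intro w hw r hr
        have hwC : f w ∈ centralizer (V : Set (G ⧸ D)) := by
          obtain ⟨i, rfl⟩ := hw
          show f (z ^ i) ∈ _
          rw [map_zpow]
          exact zpow_mem hz i
        rw [← hD, ← hker, map_mul, map_mul, map_mul, map_inv, map_inv,
          ← mem_centralizer_iff.1 hwC (f r) ⟨r, hr, rfl⟩, mul_inv_cancel_right, mul_inv_cancel]
    exact hzc (mem_zpowers z)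
  refine Solvable.le_pCore (N := K.map (QuotientGroup.mk' (centralizer (B : Set G))))
    (Subgroup.Normal.map inferInstance _ (QuotientGroup.mk'_surjective _)) ?_ ⟨a, hmain, rfl⟩
  rintro ⟨_, y, hy, rfl⟩
  obtain ⟨i, hi⟩ := Solvable.pCore_isPGroup p _ ⟨g y, hy⟩
  have hy' : f (y ^ p ^ i) ∈ centralizer (V : Set (G ⧸ D)) := by
    have := congrArg Subtype.val hi
    simp only [SubgroupClass.coe_pow, OneMemClass.coe_one] at this
    rw [← QuotientGroup.eq_one_iff (N := centralizer (V : Set (G ⧸ D))), map_pow]
    exact this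
  obtain ⟨k, m, hm, hkm⟩ := Nat.exists_eq_pow_mul_and_not_dvd (orderOf_pos (y ^ p ^ i)).ne' p
    hp.out.ne_one
  refine ⟨i + k, Subtype.ext ?_⟩
  rw [SubgroupClass.coe_pow, OneMemClass.coe_one]
  show QuotientGroup.mk' (centralizer (B : Set G)) y ^ p ^ (i + k) = 1
  rw [← map_pow, pow_add, pow_mul]
  refine (QuotientGroup.eq_one_iff _).2 (hp' _ ?_ ?_)
  · rw [orderOf_pow' _ (pow_ne_zero _ hp.out.ne_zero), hkm,
      Nat.gcd_eq_right ⟨m, rfl⟩, Nat.mul_div_cancel_left _ (pow_pos hp.out.pos _)]
    exact (hp.out.coprime_iff_not_dvd.2 hm).symm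
  · rw [map_pow]
    exact pow_mem hy' _

/-- In a group of odd order whose `O_p` contains its centraliser, quadratic elements on `O_p` lie in
`O_p`. -/
theorem mem_pCore_of_quad {G : Type*} [Group G] [Finite G] {p : ℕ} [hp : Fact p.Prime]
    (hodd : Odd (Nat.card G)) (hp2 : p ≠ 2)
    (hC : centralizer (Cfsg.pCore p G : Set G) ≤ Cfsg.pCore p G) {a : G}
    (ha : ∀ b ∈ Cfsg.pCore p G, Commute a ⁅a, b⁆) : a ∈ Cfsg.pCore p G := by
  haveI := Solvable.pCore_normal p G
  have h := quad_mk_mem_pCore hodd hp2 (Solvable.pCore_isPGroup p G) ha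
  have hle : (Cfsg.pCore p (G ⧸ centralizer (Cfsg.pCore p G : Set G))).comap
      (QuotientGroup.mk' (centralizer (Cfsg.pCore p G : Set G))) ≤ Cfsg.pCore p G := by
    refine Solvable.le_pCore ((Solvable.pCore_normal p _).comap _) ?_
    refine IsPGroup.comap_of_ker_isPGroup (Solvable.pCore_isPGroup p _) _ ?_
    rw [QuotientGroup.ker_mk']
    exact (Solvable.pCore_isPGroup p G).to_le hC
  exact hle h

/-- Odd order solvable groups are `p`-stable. -/
theorem oddPStable {p : ℕ} [hp : Fact p.Prime] : OddPStable.{u} p := by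
  intro Y _ _ hYs hodd hO x hxp hquad
  haveI := hYs
  by_cases hp2 : p = 2
  · subst hp2
    obtain ⟨n, hn⟩ := hxp.exists_card_eq
    rw [Nat.card_zpowers] at hn
    rcases n with _ | n
    · rw [pow_zero, orderOf_eq_one_iff] at hn
      exact hn ▸ one_mem _
    · exact absurd (Odd.of_dvd_nat hodd (orderOf_dvd_natCard x))
        (by rw [hn]; exact Nat.not_odd_iff_even.2 (Nat.even_pow.2 ⟨even_two, n.succ_ne_zero⟩))
  refine mem_pCore_of_quad hodd hp2 (centralizer_pCore_le hO) fun b hb => ?_
  have hc := hquad b hb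
  have e : ⁅x, b⁆ = (b * x * b⁻¹ * x⁻¹)⁻¹ := by simp [commutatorElement_def, mul_assoc]
  rw [e]
  exact hc.symm.inv_right

end CfsgLib.OddOrder
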