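import Cfsg.Agent.Lib.OddOrder.TauTwo
import Cfsg.Agent.Lib.OddOrder.MaxTwoElem
import Cfsg.Agent.Lib.OddOrder.LinesFix
import Cfsg.Agent.Lib.Solvable.PrimeActionCore
import Cfsg.Agent.Lib.Solvable.AbelianModule
import Mathlib.GroupTheory.Exponent

/-!
BG 12.11, preparations: `τ₂`-primes with abelian Sylow subgroups.
-/

set_option autoImplicit false
set_option linter.style.haveILetI false

open scoped commutatorElement

namespace CfsgLib.OddOrder

open Subgroup

variable {G : Type*} [Group G] [Finite G] (hG : Cfsg.IsMinSimpleOddOrder G)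
include hG

set_option maxHeartbeats 400000 in
/-- The normalizer of an abelian Sylow subgroup of rank at most two acts on it by an abelian group. -/
theorem commutator_mem_centralizer_sylow {p : ℕ} [hp : Fact p.Prime] (hp2 : p ≠ 2) {P : Subgroup G}
    (hP : IsMaxPIn p ⊤ P) [IsMulCommutative P] (hr : Cfsg.PRankLE p 2 P) {u v : G}
    (hu : u ∈ normalizer (P : Set G)) (hv : v ∈ normalizer (P : Set G)) :
    ⁅u, v⁆ ∈ centralizer (P : Set G) := by
  by_cases hP1 : P = ⊥
  · subst hP1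
    intro x hx
    rw [Subgroup.coe_bot, Set.mem_singleton_iff] at hx
    simp [hx]
  set Y := normalizer (P : Set G)
  haveI : Group.IsSolvable Y :=
    isSolvable_of_ne_top hG (normalizer_ne_top hG hP1 (isPGroup_ne_top hG hP.pgroup))
  set d : Y := ⁅(⟨u, hu⟩ : Y), ⟨v, hv⟩⁆ with hd
  have hdc : d ∈ commutator Y := by
    rw [_root_.commutator_def]
    exact commutator_mem_commutator (mem_top _) (mem_top _)
  show (d : G) ∈ centralizer (P : Set G)
  refine mem_of_forall_exists_pow_mem (orderOf_pos _) fun s hs hsd => ?_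
  haveI := Fact.mk hs
  obtain ⟨k, m, hm, hko⟩ :=
    Nat.exists_eq_pow_mul_and_not_dvd (orderOf_pos (d : G)).ne' s hs.one_lt.ne'
  refine ⟨m, fun hdd => hm hdd, ?_⟩
  have hxm : orderOf ((d : G) ^ m) ∣ s ^ k := by
    refine orderOf_dvd_of_pow_eq_one ?_
    rw [← pow_mul, mul_comm, ← hko, pow_orderOf_eq_one]
  by_cases hsp : s = p
  · rw [hsp] at hxm
    obtain ⟨i, -, hi⟩ := (Nat.dvd_prime_pow hp.out).1 hxm
    have hz : IsPGroup p (zpowers ((d : G) ^ m)) :=
      IsPGroup.of_card (n := i) (by rw [Nat.card_zpowers, hi])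
    have h1 := hP.max (P ⊔ zpowers ((d : G) ^ m))
      (hP.pgroup.to_sup_of_normal_left' hz (zpowers_le.2 (pow_mem d.2 m))) le_sup_left le_top
    exact le_centralizer_iff_isMulCommutative.2 ‹_› (h1.le (mem_sup_right (mem_zpowers _)))
  · haveI : (P.subgroupOf Y).Normal := normal_subgroupOf_of_le_normalizer le_rfl
    have hco : (orderOf (d ^ m)).Coprime p := by
      refine Nat.Coprime.coprime_dvd_left ?_ (((Nat.coprime_primes hs hp.out).2 hsp).pow_left k)
      rwa [← Subgroup.orderOf_coe, SubgroupClass.coe_pow]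
    exact mem_centralizer_of_subgroupOf (X := Y) le_normalizer (mem_centralizer_of_mem_commutator
      (odd_card_subgroup hG Y) hp2
      (hP.pgroup.of_equiv (subgroupOfEquivOfLe (le_normalizer : P ≤ Y)).symm)
      (pRankLE_subgroupOf (le_normalizer : P ≤ Y) hr) (pow_mem hdc m) hco)

variable {M : Subgroup G} (hM : IsCoatom M) {E : Subgroup G}
  (hE : Cfsg.IsComplIn E (Cfsg.sigmaCore M) M) {p : ℕ} [hp : Fact p.Prime] (hpt : p ∈ Cfsg.tau2 M)
include hM hE hpt

/-- A Sylow subgroup of `E` for `p ∈ τ₂(M)` and the elementary subgroup inside it. -/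
theorem exists_tau2_setup (S : Sylow p E) :
    ∃ A A₀ : Subgroup G, A ≤ (S : Subgroup E).map E.subtype ∧ IsExceptional p M A A₀ ∧
      E ≤ normalizer (A : Set G) ∧ Subgroup.centralizer (A : Set G) ≤ E ∧
      IsMulCommutative ↥((S : Subgroup E).map E.subtype) ∧
      (S : Subgroup E).map E.subtype ≤ Subgroup.centralizer (A : Set G) := by
  obtain ⟨A, hAE, hAe, hA2⟩ := exists_elementary_in_complement hG hM hE hpt
  obtain ⟨A₀, h, -⟩ :=
    Cfsg.Agent.S1417.exists_isExceptional hG hM hpt.2.1 (hAE.trans hE.1) hAe hA2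
  obtain ⟨⟨hEA, -⟩, ⟨hCA, hNA, -⟩, -⟩ :=
    Cfsg.Agent.S1418.result hG M hM E hE p hpt A ⟨hAE, hAe, hA2⟩
  have hP := isMaxPIn_complement hG hM hE hpt.2.1 S
  have hAP : A ≤ (S : Subgroup E).map E.subtype := by
    rw [← hP.max ((S : Subgroup E).map E.subtype ⊔ A)
      (hP.pgroup.to_sup_of_normal_right' h.pgroup ((map_subtype_le _).trans hEA)) le_sup_left
      (sup_le hP.le (hAE.trans hE.1))]
    exact le_sup_right
  exact ⟨A, A₀, hAP, h, hEA, hCA.trans hNA.le, h.isMulCommutative_sylow hG hM hP,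
    h.le_centralizer_of_isMaxPIn hG hM hP hAP⟩

variable (hab : ∀ S : Sylow p G, IsMulCommutative (S : Subgroup G))
include hab

theorem isMaxPIn_top_of_abelian (S : Sylow p E) :
    IsMaxPIn p ⊤ ((S : Subgroup E).map E.subtype) := by
  obtain ⟨A, A₀, hAP, h, -, -, -, -⟩ := exists_tau2_setup hG hM hE hpt S
  refine ⟨le_top, S.2.map _, fun R hR hle _ => ?_⟩
  obtain ⟨T, hT⟩ := hR.exists_le_sylow
  haveI := hab T
  refine (isMaxPIn_complement hG hM hE hpt.2.1 S).max R hR hle fun x hx => h.centralizer_le ?_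
  exact fun a ha => setLike_mul_comm (s := (T : Subgroup G)) (hT (hle (hAP ha))) (hT hx)

/-- The Sylow subgroups of `E` for abelian `τ₂`-primes are normal in `E`. -/
theorem complement_le_normalizer_sylow (S : Sylow p E) :
    E ≤ normalizer (((S : Subgroup E).map E.subtype : Subgroup G) : Set G) := by
  obtain ⟨A, A₀, hAP, h, hEA, hCE, hPc, hPC⟩ := exists_tau2_setup hG hM hE hpt S
  haveI := hPc
  set P := (S : Subgroup E).map E.subtype with hPdef
  have hP := isMaxPIn_complement hG hM hE hpt.2.1 S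
  have hPE : P ≤ E := map_subtype_le _
  have hPtop := isMaxPIn_top_of_abelian hG hM hE hpt hab S
  haveI := isSolvable_of_ne_top hG (H := E) fun hb => hM.1 (top_le_iff.1 (hb ▸ hE.1))
  set F := Cfsg.fittingOf E with hF
  have hclaim : ∀ q : ℕ, q.Prime → q ≠ p → P ≤ centralizer (Cfsg.piCoreOf {q} E : Set G) := by
    intro q hq hqp
    haveI := Fact.mk hq
    set Q := Cfsg.piCoreOf {q} E
    have hQ : IsPGroup q Q := piCoreOf_singleton_isPGroup q E
    have hQE : Q ≤ E := piCoreOf_le _ _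
    have hEQ : E ≤ normalizer (Q : Set G) := le_normalizer_piCoreOf _ _
    by_cases hQ1 : Q = ⊥
    · rw [hQ1]
      intro g _ x hx
      rw [Subgroup.coe_bot, Set.mem_singleton_iff] at hx
      simp [hx]
    have hqσ : q ∉ Cfsg.sigma M := complement_prime_not_sigma hG hM hE hq
      ((dvd_card_of_isPGroup hQ hQ1).trans (card_dvd_of_le hQE))
    have hQC : Q ≤ centralizer (A : Set G) := le_centralizer_iff.1
      (h.le_centralizer_of_inv hG hM hqp hqσ hQ (hQE.trans hE.1) ((hAP.trans hPE).trans hEQ))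
    set D := centralizer (A : Set G)
    set Q₀ := Cfsg.piCoreOf {q} D
    have hQQ₀ : Q ≤ Q₀ := le_piCoreOf hQC (hCE.trans hEQ) (piCoreOf_isPiSubgroup _ _)
    have hQ₀p : IsPGroup q Q₀ := piCoreOf_singleton_isPGroup q D
    have hQ₀1 : Q₀ ≠ ⊥ := fun hb => hQ1 (le_bot_iff.1 (hQQ₀.trans hb.le))
    have hr : Cfsg.PRankLE q 2 Q₀ := TwoFusion.PRank.pRankLE_mono
      ((piCoreOf_le _ _).trans h.centralizer_le) (pRankLE_two_of_not_sigma hG hM hq hqσ)
    have hN : normalizer (P : Set G) ≤ normalizer (Q₀ : Set G) :=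
      (h.normalizer_le_normalizer hG hM hP hAP).trans
        ((normalizer_le_normalizer_centralizer A).trans (normalizer_le_normalizer_piCoreOf _ _))
    have hPN : P ≤ ⁅normalizer (Q₀ : Set G), normalizer (Q₀ : Set G)⁆ :=
      le_trans (sylow_le_commutator_normalizer hG
        (⟨P, hPtop.pgroup, fun {R} hR hle => hPtop.max R hR hle le_top⟩ : Sylow p G))
        (commutator_mono hN hN)
    exact (le_centralizer_of_narrow hqp.symm
      (prime_ne_two_of_dvd_card hG (dvd_card_of_isPGroup hQ₀p hQ₀1))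
      (isSolvable_of_ne_top hG (normalizer_ne_top hG hQ₀1 (isPGroup_ne_top hG hQ₀p)))
      (odd_card_subgroup hG _) hQ₀p (Or.inl hr) le_normalizer le_rfl hP.pgroup hPN).trans
      (Subgroup.centralizer_le hQQ₀)
  have hPF : P ≤ F := by
    refine le_trans (le_inf hPE ?_) (inf_centralizer_fittingOf_le ‹_›)
    rw [le_centralizer_iff]
    intro f hf
    refine mem_of_forall_exists_pow_mem (orderOf_pos f) fun q hq hqd => ?_
    haveI := Fact.mk hq
    obtain ⟨k, m, hm, hko⟩ :=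
      Nat.exists_eq_pow_mul_and_not_dvd (orderOf_pos f).ne' q hq.one_lt.ne'
    refine ⟨m, fun hd => hm hd, ?_⟩
    have hxm : f ^ m ∈ Cfsg.piCoreOf {q} E := by
      rw [← piCoreOf_singleton_fittingOf]
      refine mem_piCoreOf_of_nilpotent (fittingOf_isNilpotent E) (pow_mem hf m) fun s hs hsd => ?_
      have h2 : orderOf (f ^ m) ∣ q ^ k := by
        refine orderOf_dvd_of_pow_eq_one ?_
        rw [← pow_mul, mul_comm, ← hko, pow_orderOf_eq_one]
      exact Set.mem_singleton_iff.2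
        ((Nat.prime_dvd_prime_iff_eq hs hq).1 (hs.dvd_of_dvd_pow (hsd.trans h2)))
    by_cases hqp : q = p
    · subst hqp
      have hle : Cfsg.piCoreOf {q} E ≤ P := by
        exact le_sup_right.trans (le_of_eq (hP.max (P ⊔ Cfsg.piCoreOf {q} E)
          (hP.pgroup.to_sup_of_normal_right'
          (piCoreOf_singleton_isPGroup q E) (hPE.trans (le_normalizer_piCoreOf _ _))) le_sup_left
          (sup_le hP.le ((piCoreOf_le _ _).trans hE.1))))
      exact le_centralizer_iff_isMulCommutative.2 hPc (hle hxm)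
    · exact le_centralizer_iff.1 (hclaim q hq hqp) hxm
  have hPeq : P = Cfsg.piCoreOf {p} E := by
    refine (hP.max _ (piCoreOf_singleton_isPGroup p E) (fun x hx => ?_)
      ((piCoreOf_le _ _).trans hE.1)).symm
    rw [← piCoreOf_singleton_fittingOf]
    refine mem_piCoreOf_of_nilpotent (fittingOf_isNilpotent E) (hPF hx) fun s hs hsd => ?_
    obtain ⟨n, hn⟩ := hP.pgroup.exists_card_eq
    exact Set.mem_singleton_iff.2 ((Nat.prime_dvd_prime_iff_eq hs hp.out).1
      (hs.dvd_of_dvd_pow (hn ▸ hsd.trans (orderOf_dvd_card_of_mem hx))))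
  rw [hPeq]
  exact le_normalizer_piCoreOf _ _

omit hab hpt hp in
theorem tau13_of_not_tau2 {r : ℕ} [Fact r.Prime] (hrE : r ∣ Nat.card E) (hr : r ∉ Cfsg.tau2 M) :
    r ∈ Cfsg.tau1 M ∪ Cfsg.tau3 M ∧ Cfsg.PRankLE r 1 M := by
  have hrσ := complement_prime_not_sigma hG hM hE Fact.out hrE
  have h1 : Cfsg.PRankLE r 1 M := by
    by_contra hc
    exact hr ⟨Fact.out, hrσ, pRankLE_two_of_not_sigma hG hM Fact.out hrσ, hc⟩
  refine ⟨?_, h1⟩
  by_cases hd : r ∣ Nat.card ↥⁅M, M⁆
  · exact Or.inr ⟨Fact.out, hrσ, hd, h1⟩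
  · exact Or.inl ⟨Fact.out, hrσ, hrE.trans (card_dvd_of_le hE.1), hd, h1⟩

omit hab hpt in
/-- An element of `E` acts on an abelian `τ₂` Sylow subgroup of `E` fixing one of the lines. -/
theorem exists_fixed_line_tau2 (hpt : p ∈ Cfsg.tau2 M)
    (hall : ∀ (r : ℕ) [Fact r.Prime], r ∈ Cfsg.tau2 M →
      ∀ T : Sylow r G, IsMulCommutative (T : Subgroup G))
    (hfpf : ∀ e ∈ E, e ≠ 1 → (∀ r : ℕ, r.Prime → r ∣ orderOf e → r ∈ Cfsg.tau1 M ∪ Cfsg.tau3 M) →
      Cfsg.sigmaCore M ⊓ centralizer ({e} : Set G) = ⊥)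
    (S : Sylow p E) {A A₀ : Subgroup G} (hAP : A ≤ (S : Subgroup E).map E.subtype)
    (h : IsExceptional p M A A₀) (hEA : E ≤ normalizer (A : Set G)) :
    ∃ y ∈ A, y ≠ 1 ∧ E ≤ normalizer (zpowers y : Set G) := by
  set P := (S : Subgroup E).map E.subtype with hPdef
  have hP := isMaxPIn_complement hG hM hE hpt.2.1 S
  have hPE : P ≤ E := map_subtype_le _
  have hPC : P ≤ centralizer (A : Set G) := h.le_centralizer_of_isMaxPIn hG hM hP hAP
  have hEP := complement_le_normalizer_sylow hG hM hE hpt (hall p hpt) S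
  have hPtop := isMaxPIn_top_of_abelian hG hM hE hpt (hall p hpt) S
  haveI := h.isMulCommutative_sylow hG hM hP
  haveI hAc := h.elem.1
  have hp2 := h.ne_two hG
  have hcomm : ∀ u ∈ E, ∀ v ∈ E, ⁅u, v⁆ ∈ centralizer (A : Set G) := fun u hu v hv =>
    centralizer_le hAP (commutator_mem_centralizer_sylow hG hp2 hPtop
      (TwoFusion.PRank.pRankLE_mono hP.le hpt.2.2.1) (hEP hu) (hEP hv))
  obtain ⟨y₀, hy₀, hy₀1⟩ : ∃ y ∈ A, y ≠ 1 := by
    by_contra hcon
    push Not at hcon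
    have hc := h.card
    rw [(Subgroup.eq_bot_iff_forall A).2 hcon, Subgroup.card_bot] at hc
    exact (Nat.one_lt_pow two_ne_zero hp.out.one_lt).ne hc
  by_contra hno
  push Not at hno
  -- an element fixing one line fixes them all
  have hone : ∀ k ∈ E, ∀ y ∈ A, y ≠ 1 → k ∈ normalizer (zpowers y : Set G) →
      ∀ x ∈ A, k ∈ normalizer (zpowers x : Set G) := by
    intro k hk y hy hy1 hky x hx
    by_contra hkx
    refine hno y hy hy1 fun e he => mem_normalizer_of_commute h.elem h.card hy hy1 hky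
      ⟨x, hx, hkx⟩ (hEA he) ?_ (hcomm k hk e he)
    exact (odd_card_subgroup hG E).of_dvd_nat (orderOf_dvd_card_of_mem he)
  -- an element of prime power order fixing no line
  obtain ⟨k, r, n, hk, hr, hkn, hkfix⟩ : ∃ (k : G) (r n : ℕ), k ∈ E ∧ r.Prime ∧
      orderOf k = r ^ n ∧ ∀ y ∈ A, y ≠ 1 → k ∉ normalizer (zpowers y : Set G) := by
    by_contra hcon
    push Not at hcon
    refine hno y₀ hy₀ hy₀1 fun e he => mem_of_forall_exists_pow_mem (orderOf_pos e) fun q hq hqd => ?_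
    obtain ⟨k, m, hm, hko⟩ :=
      Nat.exists_eq_pow_mul_and_not_dvd (orderOf_pos e).ne' q hq.one_lt.ne'
    refine ⟨m, fun hd => hm hd, ?_⟩
    obtain ⟨i, -, hi⟩ := (Nat.dvd_prime_pow hq).1 (show orderOf (e ^ m) ∣ q ^ k from
      orderOf_dvd_of_pow_eq_one (by rw [← pow_mul, mul_comm, ← hko, pow_orderOf_eq_one]))
    obtain ⟨y, hy, hy1, hky⟩ := hcon (e ^ m) q i (pow_mem he m) hq hi
    exact hone _ (pow_mem he m) y hy hy1 hky y₀ hy₀
  haveI := Fact.mk hr
  have hkA : k ∉ centralizer (A : Set G) := fun hc =>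
    hkfix y₀ hy₀ hy₀1 (mem_normalizer_zpowers_iff.2 (by
      rw [← hc y₀ hy₀, mul_inv_cancel_right]; exact mem_zpowers y₀))
  have hkz : IsPGroup r (zpowers k) := IsPGroup.of_card (n := n) (by rw [Nat.card_zpowers, hkn])
  have hn0 : n ≠ 0 := fun h0 => hkA (by
    rw [h0, pow_zero, orderOf_eq_one_iff] at hkn
    rw [hkn]; exact one_mem _)
  have hrp : r ≠ p := by
    rintro rfl
    have h1 := hP.max (P ⊔ zpowers k) (hP.pgroup.to_sup_of_normal_left' hkz
      (zpowers_le.2 (hEP hk))) le_sup_left (sup_le hP.le (zpowers_le.2 (hE.1 hk)))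
    exact hkA (hPC (h1.le (mem_sup_right (mem_zpowers k))))
  have hrE : r ∣ Nat.card E :=
    (hkn ▸ dvd_pow_self r hn0 : r ∣ orderOf k).trans (orderOf_dvd_card_of_mem hk)
  have hAdis : ∀ {U : Subgroup G}, IsPGroup r U → A ⊓ U = ⊥ := fun hU =>
    inf_eq_bot_of_coprime (h.coprime_card hG hrp hU)
  have hrt : r ∉ Cfsg.tau2 M := fun hrt => by
    obtain ⟨T, hkT⟩ := ((hkz.of_equiv (subgroupOfEquivOfLe (zpowers_le.2 hk)).symm)).exists_le_sylow
    have hTn := complement_le_normalizer_sylow hG hM hE hrt (hall r hrt) T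
    have hc : (T : Subgroup E).map E.subtype ≤ centralizer (A : Set G) :=
      commute_of_normalize_disjoint ((map_subtype_le _).trans hEA)
        ((hAP.trans hPE).trans hTn) (disjoint_iff.2 ((inf_comm _ _).trans (hAdis (T.2.map _))))
    exact hkA (hc ⟨⟨k, hk⟩, hkT (mem_subgroupOf.2 (mem_zpowers k)), rfl⟩)
  obtain ⟨hr13, hr1⟩ := tau13_of_not_tau2 hG hM hE hrE hrt
  have hrσ : r ∉ Cfsg.sigma M := complement_prime_not_sigma hG hM hE hr hrE
  -- the element of order `r` in `⟨k⟩` centralizes `A`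
  obtain ⟨n', rfl⟩ : ∃ n', n = n' + 1 := ⟨n - 1, by omega⟩
  set k₀ := k ^ r ^ n' with hk₀
  have hk₀r : k₀ ^ r = 1 := by
    rw [hk₀, ← pow_mul, ← pow_succ, ← hkn, pow_orderOf_eq_one]
  have hk₀o : orderOf k₀ = r := by
    refine orderOf_eq_prime hk₀r fun h1 => ?_
    have h2 := orderOf_dvd_of_pow_eq_one h1
    rw [hkn, Nat.pow_dvd_pow_iff_le_right hr.one_lt] at h2
    omega
  have hk₀E : k₀ ∈ E := pow_mem hk _
  have hk₀C : k₀ ∈ centralizer (A : Set G) := by
    by_contra hc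
    have hfix : Cfsg.sigmaCore M ⊓ centralizer ({k₀} : Set G) = ⊥ :=
      hfpf k₀ hk₀E (fun h1 => hr.one_lt.ne (by rw [← hk₀o, h1, orderOf_one]))
        fun t ht htd => by
          rw [hk₀o] at htd
          rwa [(Nat.prime_dvd_prime_iff_eq ht hr).1 htd]
    have hmov := Solvable.PrimeAction.commute_of_fpf_nilpotent hp2 hrp.symm
      (h.isNilpotent_sigmaCore hG hM)
      ((hp.out.coprime_iff_not_dvd.2 fun hd =>
        hpt.2.1 (sigma_of_dvd_sigmaCore hp.out hd)).symm)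
      ((hr.coprime_iff_not_dvd.2 fun hd => hrσ (sigma_of_dvd_sigmaCore hr hd)).symm)
      h.pgroup (fun a ha => (mem_normalizer_iff.1 (hEA hk₀E) a).1 ha) hk₀r
      (h.le.trans (le_normalizer_piCoreOf _ _)) (le_normalizer_piCoreOf _ _ (hE.1 hk₀E)) hfix
    set L := A ⊓ centralizer (Cfsg.sigmaCore M : Set G) with hL
    obtain ⟨y, hyL, hy1⟩ : ∃ y ∈ L, y ≠ 1 := by
      by_contra hcon
      push Not at hcon
      refine hc fun a ha => ?_
      have h1 := hcon _ ⟨A.mul_mem (A.inv_mem ha) ((mem_normalizer_iff.1 (hEA hk₀E) a).1 ha), hmov a ha⟩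
      exact (mul_inv_eq_iff_eq_mul.1 (inv_mul_eq_one.1 h1).symm).symm
    have hyeq : zpowers y = L := by
      refine eq_of_le_of_card_ge (zpowers_le.2 hyL) ?_
      rw [Nat.card_zpowers, orderOf_eq_prime (h.elem.2 y hyL.1) hy1]
      obtain ⟨i, hi⟩ := (h.pgroup.to_le (inf_le_left : L ≤ A)).exists_card_eq
      rw [hi]
      by_contra hlt
      have h2 : 1 < i := (Nat.pow_lt_pow_iff_right hp.out.one_lt).1
        ((pow_one p).symm ▸ not_le.1 hlt)
      have hLA : L = A := eq_of_le_of_card_ge inf_le_left (by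
        rw [h.card, hi]; exact Nat.pow_le_pow_right hp.out.pos h2)
      refine sigmaCore_ne_bot hG hM (le_bot_iff.1 ((le_inf le_rfl ?_).trans
        (h.sigmaCore_inf_centralizer hG hM).le))
      exact le_centralizer_iff.1 (hLA ▸ inf_le_right)
    refine hkfix y hyL.1 hy1 ?_
    rw [hyeq]
    exact inf_normalizer_le_normalizer_inf ⟨hEA hk, normalizer_le_normalizer_centralizer _
      (le_normalizer_piCoreOf _ _ (hE.1 hk))⟩
  -- a maximal subgroup over `N(⟨k₀⟩)`
  have hk₀1 : zpowers k₀ ≠ ⊥ := by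
    rw [Ne, zpowers_eq_bot]
    exact fun h1 => hr.one_lt.ne (by rw [← hk₀o, h1, orderOf_one])
  obtain ⟨H, hH, hNH⟩ := exists_isCoatom_ge (normalizer_ne_top hG hk₀1 (isPGroup_ne_top hG
    (IsPGroup.of_card (n := 1) (by rw [Nat.card_zpowers, hk₀o, pow_one]) : IsPGroup r (zpowers k₀))))
  have hX : Nat.card (zpowers k₀) = r := by rw [Nat.card_zpowers, hk₀o]
  have hHM : H ≠ M := fun e =>
    (rank_two_of_normalizer_le hG hM hrσ hX (e ▸ hNH)).1.2 hr1
  have hkH : k ∈ H := hNH (mem_normalizer_zpowers_iff.2 (by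
    rw [hk₀, ← pow_succ', pow_succ, mul_inv_cancel_right]; exact mem_zpowers _))
  have hAH : A ≤ H := fun a ha => hNH (mem_normalizer_zpowers_iff.2 (by
    rw [hk₀C a ha, mul_inv_cancel_right]; exact mem_zpowers _))
  have hkAn : zpowers k ≤ normalizer (A : Set G) := zpowers_le.2 (hEA hk)
  by_cases hrH : r ∈ Cfsg.sigma H
  · by_cases hpH : p ∈ Cfsg.sigma H
    · refine hkA ((le_centralizer_of_sigma hG hH hrp.symm hrH
        (fun hβ => not_idealPrime hG hM hpt.2.2.1 hpt.2.2.2 hβ.2) hkz (zpowers_le.2 hkH)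
        h.pgroup hAH hkAn) (mem_zpowers k))
    · obtain ⟨Z, h', -⟩ := Cfsg.Agent.S1417.exists_isExceptional hG hH hpH hAH h.elem h.card
      have h1 : k₀ ∈ Cfsg.sigmaCore H ⊓ centralizer (A : Set G) :=
        ⟨le_sigmaCore_of_pgroup hG hH hrH hkz (zpowers_le.2 hkH) (pow_mem (mem_zpowers k) _), hk₀C⟩
      rw [h'.sigmaCore_inf_centralizer hG hH, mem_bot] at h1
      exact hk₀1 (by rw [h1, zpowers_one_eq_bot])
  obtain ⟨⟨hrH2, hrH1⟩, -⟩ := rank_two_of_normalizer_le hG hH hrH hX hNH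
  have hrHt : r ∈ Cfsg.tau2 H := ⟨hr, hrH, hrH2, hrH1⟩
  have hBM : ∀ B : Subgroup G, Cfsg.IsElementaryAbelian r B → Nat.card B = r ^ 2 → ¬ B ≤ M :=
    fun B hB hB2 hle => not_pRankLE_of_elementary hle hB
      (by rw [hB2]; exact Nat.pow_lt_pow_right hr.one_lt one_lt_two) hr1
  by_cases hpH : p ∈ Cfsg.sigma H
  · obtain ⟨E', -, hE'⟩ := exists_complement_ge hG hH (zpowers_le.2 hkH) fun t ht htd => by
      rw [Nat.card_zpowers, hkn] at htd
      rw [(Nat.prime_dvd_prime_iff_eq ht hr).1 (ht.dvd_of_dvd_pow htd)]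
      exact hrH
    obtain ⟨B₀, hB₀E, hB₀e, hB₀2⟩ := exists_elementary_in_complement hG hH hE' hrHt
    obtain ⟨Z, h', -⟩ :=
      Cfsg.Agent.S1417.exists_isExceptional hG hH hrH (hB₀E.trans hE'.1) hB₀e hB₀2
    obtain ⟨Q, hQσ, hQ, -, hNQ⟩ := h'.exists_normal_sigma_sylow hG hH hpH
    have hAQ : A ≤ Q := by
      rw [← hQ.max (Q ⊔ A) (hQ.pgroup.to_sup_of_normal_left' h.pgroup (hAH.trans hNQ.ge))
        le_sup_left le_top]
      exact le_sup_right
    haveI := hall p hpt ⟨Q, hQ.pgroup, fun {R} hR hle => hQ.max R hR hle le_top⟩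
    haveI : IsMulCommutative Q := ‹IsMulCommutative _›
    have hHA : H ≤ normalizer (A : Set G) := fun x hx => by
      refine mem_normalizer_of_map_le ?_
      rintro _ ⟨a, ha, rfl⟩
      simp only [MulEquiv.coe_toMonoidHom, MulAut.conj_apply]
      refine h.mem_of_commute hG hM (fun b hb => setLike_mul_comm (s := Q) (hAQ hb) ?_)
        (by rw [conj_pow, h.elem.2 a ha, mul_one, mul_inv_cancel])
      exact (mem_normalizer_iff.1 (hNQ.ge hx) a).1 (hAQ ha)
    obtain ⟨T, hT, hkT⟩ := exists_isMaxPIn_ge (zpowers_le.2 hkH) hkz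
    have hkT' : k ∈ T := hkT (mem_zpowers k)
    haveI := h'.isMulCommutative_sylow hG hH hT
    obtain ⟨B, hBT, hBe, hBc⟩ :=
      exists_elementary_of_not_pRankLE fun h2 => hrH1 (pRankLE_of_isMaxPIn hT h2)
    rw [pow_one] at hBc
    obtain ⟨b, hbB, hbM⟩ : ∃ b ∈ B, b ∉ M := by
      by_contra hcon
      push Not at hcon
      exact not_pRankLE_of_elementary hcon hBe (by rwa [pow_one]) hr1
    have hbr := hBe.2 b hbB
    have hcopT : (Nat.card T).Coprime (Nat.card A) := (h.coprime_card hG hrp hT.pgroup).symm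
    obtain ⟨B₁, hB₁T, ⟨t, ht, htT⟩, hB₁⟩ : ∃ B₁ ≤ T, (∃ t ∈ T, T ≤ B₁ ⊔ zpowers t) ∧
        ¬ A ⊓ centralizer (B₁ : Set G) ≤ ⊥ := by
      by_contra hcon
      push Not at hcon
      have h1 := Solvable.le_of_cyclic_quotient_centralizer_le (hT.le.trans hHA) hcopT
        (W := ⊥) hcon
      exact hy₀1 (mem_bot.1 (h1 hy₀))
    set X := A ⊓ centralizer (B₁ : Set G) with hX'
    have hXA : X = A := by
      obtain ⟨y, hyX, hy1⟩ : ∃ y ∈ X, y ≠ 1 := by
        by_contra hcon
        push Not at hcon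
        exact hB₁ fun w hw => mem_bot.2 (hcon w hw)
      by_contra hne
      refine hkfix y hyX.1 hy1 ?_
      have hyeq : zpowers y = X := by
        refine eq_of_le_of_card_ge (zpowers_le.2 hyX) ?_
        rw [Nat.card_zpowers, orderOf_eq_prime (h.elem.2 y hyX.1) hy1]
        obtain ⟨i, hi⟩ := (h.pgroup.to_le (inf_le_left : X ≤ A)).exists_card_eq
        rw [hi]
        by_contra hlt
        have h2 : 1 < i := (Nat.pow_lt_pow_iff_right hp.out.one_lt).1
          ((pow_one p).symm ▸ not_le.1 hlt)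
        exact hne (eq_of_le_of_card_ge inf_le_left (by
          rw [h.card, hi]; exact Nat.pow_le_pow_right hp.out.pos h2))
      rw [hyeq]
      refine inf_normalizer_le_normalizer_inf ⟨hEA hk, normalizer_le_normalizer_centralizer _ ?_⟩
      exact centralizer_le_normalizer _ fun w hw => setLike_mul_comm (s := T) (hB₁T hw) hkT'
    set T₀ := T ⊓ centralizer (A : Set G) with hT₀
    have hB₁0 : B₁ ≤ T₀ :=
      le_inf hB₁T (le_centralizer_iff.1 (hXA ▸ inf_le_right : A ≤ centralizer (B₁ : Set G)))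
    set f := QuotientGroup.mk' (T₀.subgroupOf T) with hf
    haveI : IsCyclic (T ⧸ T₀.subgroupOf T) := by
      refine ⟨⟨f ⟨t, ht⟩, fun u => ?_⟩⟩
      obtain ⟨⟨x, hx⟩, rfl⟩ := QuotientGroup.mk'_surjective _ u
      obtain ⟨c, hc, z, hz, hcz⟩ := (Solvable.mem_sup_of_le_normalizer (show zpowers t ≤
        normalizer (B₁ : Set G) from zpowers_le.2 (centralizer_le_normalizer _
          fun w hw => setLike_mul_comm (s := T) (hB₁T hw) ht))).1 (htT hx)
      obtain ⟨i, rfl⟩ := hz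
      refine ⟨i, ?_⟩
      show f ⟨t, ht⟩ ^ i = f ⟨x, hx⟩
      rw [← map_zpow, hf, QuotientGroup.mk'_apply, QuotientGroup.mk'_apply, QuotientGroup.eq,
        mem_subgroupOf]
      simp only [Subgroup.coe_mul, Subgroup.coe_inv, Subgroup.coe_zpow]
      have hc' : c = ((⟨t, ht⟩ : T) : G) ^ (-i) * x := by
        rw [← hcz, zpow_neg, ← mul_assoc, show (t ^ i)⁻¹ * c = c * (t ^ i)⁻¹ from
          setLike_mul_comm (s := T) (inv_mem (zpow_mem ht i)) (hB₁T hc)]
        group
      rw [← zpow_neg, ← hc']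
      exact hB₁0 hc
    have hfb : (f ⟨b, hBT hbB⟩) ^ r = 1 := by
      rw [← map_pow, show (⟨b, hBT hbB⟩ : T) ^ r = 1 from Subtype.ext hbr, map_one]
    have hfk : f ⟨k, hkT'⟩ ≠ 1 := fun hc =>
      hkA (mem_subgroupOf.1 ((QuotientGroup.eq_one_iff _).1 hc)).2
    obtain ⟨u, hu⟩ := exists_prime_orderOf_dvd_card' (G := zpowers (f ⟨k, hkT'⟩)) r (by
      have h1 : orderOf (f ⟨k, hkT'⟩) ∣ r ^ (n' + 1) := by
        refine (orderOf_map_dvd f _).trans ?_
        rw [Subgroup.orderOf_mk, hkn]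
      obtain ⟨i, -, hi⟩ := (Nat.dvd_prime_pow hr).1 h1
      rw [Nat.card_zpowers, hi]
      refine dvd_pow_self r fun h0 => hfk ?_
      rw [h0, pow_zero, orderOf_eq_one_iff] at hi
      exact hi)
    have hbk : f ⟨b, hBT hbB⟩ ∈ zpowers (f ⟨k, hkT'⟩) := by
      by_cases hb1 : f ⟨b, hBT hbB⟩ = 1
      · rw [hb1]; exact one_mem _
      have h1 : zpowers (u : T ⧸ T₀.subgroupOf T) = zpowers (f ⟨b, hBT hbB⟩) :=
        eq_of_card_eq_of_isCyclic (by
          rw [Nat.card_zpowers, Nat.card_zpowers, Subgroup.orderOf_coe, hu,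
            orderOf_eq_prime hfb hb1])
      exact zpowers_le.2 u.2 (h1.ge (mem_zpowers _))
    obtain ⟨i, hi⟩ := hbk
    have hi' : (f ⟨k, hkT'⟩) ^ i = f ⟨b, hBT hbB⟩ := hi
    rw [← map_zpow, hf, QuotientGroup.mk'_apply, QuotientGroup.mk'_apply, QuotientGroup.eq,
      mem_subgroupOf] at hi'
    refine hbM ?_
    have h2 := mul_mem (zpow_mem (hE.1 hk) i) (h.centralizer_le hi'.2)
    simpa [mul_assoc] using h2
  · obtain ⟨Z, h', -⟩ := Cfsg.Agent.S1417.exists_isExceptional hG hH hpH hAH h.elem h.card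
    have hpHt : p ∈ Cfsg.tau2 H := ⟨hp.out, hpH, h'.rankLE hG hH,
      not_pRankLE_of_elementary hAH h.elem
        (by rw [h.card]; exact Nat.pow_lt_pow_right hp.out.one_lt one_lt_two)⟩
    have hcard : Nat.card ↥(A ⊔ zpowers k) = Nat.card A * Nat.card (zpowers k) :=
      Solvable.card_sup_of_disjoint hkAn (disjoint_iff.2 (hAdis hkz))
    obtain ⟨E', hle, hE'⟩ := exists_complement_ge hG hH (sup_le hAH (zpowers_le.2 hkH))
      fun t ht htd => by
        rw [hcard, h.card, Nat.card_zpowers, hkn] at htd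
        rcases ht.dvd_mul.1 htd with hd | hd
        · rw [(Nat.prime_dvd_prime_iff_eq ht hp.out).1 (ht.dvd_of_dvd_pow hd)]
          exact hpH
        · rw [(Nat.prime_dvd_prime_iff_eq ht hr).1 (ht.dvd_of_dvd_pow hd)]
          exact hrH
    have hAE' : A ≤ E' := le_sup_left.trans hle
    obtain ⟨B, hBE, hBe, hB2⟩ := exists_elementary_in_complement hG hH hE' hrHt
    obtain ⟨⟨hA', -⟩, -, -⟩ := Cfsg.Agent.S1418.result hG H hH E' hE' p hpHt A ⟨hAE', h.elem, h.card⟩
    obtain ⟨⟨hB', -⟩, -, -⟩ := Cfsg.Agent.S1418.result hG H hH E' hE' r hrHt B ⟨hBE, hBe, hB2⟩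
    exact hBM B hBe hB2 ((commute_of_normalize_disjoint (hBE.trans hA') (hAE'.trans hB')
      (disjoint_iff.2 ((inf_comm _ _).trans (hAdis (isPGroup_of_exp hBe.2))))).trans h.centralizer_le)

end CfsgLib.OddOrder
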