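import Cfsg.Agent.Lib.OddOrder.TauTwoAbelian
import Cfsg.Agent.S1419
import Cfsg.Agent.S1420
import Cfsg.Agent.Lib.Solvable.Gaschutz
import Cfsg.Agent.Lib.Solvable.InvariantHall
import Mathlib.GroupTheory.Exponent

/-!
BG 12.11: the fixed-point-free part of a complement to `M_σ`.
-/

set_option autoImplicit false
set_option linter.style.haveILetI false

open scoped commutatorElement

namespace CfsgLib.OddOrder

open Subgroup

variable {G : Type*} [Group G] [Finite G]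

theorem fixed_point_pow_ne_bot {N : Subgroup G} {e : G}
    (he : N ⊓ centralizer ({e} : Set G) ≠ ⊥) (j : ℕ) : N ⊓ centralizer ({e ^ j} : Set G) ≠ ⊥ :=
  fun hb => he (le_bot_iff.1 ((inf_le_inf_left _ fun y hy => mem_centralizer_singleton_iff.2
    ((show Commute y e from mem_centralizer_singleton_iff.1 hy).pow_right j).eq).trans hb.le))

theorem exists_prime_part (e : G) {q : ℕ} (hq : q.Prime) :
    ∃ m i : ℕ, ¬ q ∣ m ∧ orderOf (e ^ m) = q ^ i := by
  obtain ⟨k, m, hm, hko⟩ :=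
    Nat.exists_eq_pow_mul_and_not_dvd (orderOf_pos e).ne' q hq.one_lt.ne'
  obtain ⟨i, -, hi⟩ := (Nat.dvd_prime_pow hq).1 (show orderOf (e ^ m) ∣ q ^ k from
    orderOf_dvd_of_pow_eq_one (by rw [← pow_mul, mul_comm, ← hko, pow_orderOf_eq_one]))
  exact ⟨m, i, hm, hi⟩

theorem exists_sylow_mem {E : Subgroup G} {p i : ℕ} [Fact p.Prime] {z : G} (hz : z ∈ E)
    (ho : orderOf z = p ^ i) : ∃ S : Sylow p E, z ∈ (S : Subgroup E).map E.subtype := by
  have hp : IsPGroup p (zpowers (⟨z, hz⟩ : E)) :=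
    IsPGroup.of_card (n := i) (by rw [Nat.card_zpowers, Subgroup.orderOf_mk, ho])
  obtain ⟨S, hS⟩ := hp.exists_le_sylow
  exact ⟨S, ⟨⟨z, hz⟩, hS (mem_zpowers _), rfl⟩⟩

theorem isMulCommutative_sylow_congr {p : ℕ} [Fact p.Prime] (S T : Sylow p G)
    [hS : IsMulCommutative (S : Subgroup G)] : IsMulCommutative (T : Subgroup G) :=
  ⟨⟨fun a b => by
    obtain ⟨x, rfl⟩ := (S.equiv T).surjective a
    obtain ⟨y, rfl⟩ := (S.equiv T).surjective b
    rw [← map_mul, ← map_mul, hS.1.comm]⟩⟩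

variable (hG : Cfsg.IsMinSimpleOddOrder G) {M : Subgroup G} (hM : IsCoatom M) {E : Subgroup G}
  (hE : Cfsg.IsComplIn E (Cfsg.sigmaCore M) M)
include hG hM hE

/-- A `τ₂`-element of `E` with a fixed point on `M_σ` has its centralizer in `M`. -/
theorem centralizer_le_of_fixed_point {x : G} (hx : x ∈ E) (hx1 : x ≠ 1)
    (hτ : ∀ r : ℕ, r.Prime → r ∣ orderOf x → r ∈ Cfsg.tau2 M)
    (hb : Cfsg.sigmaCore M ⊓ centralizer ({x} : Set G) ≠ ⊥) :
    centralizer ({x} : Set G) ≤ M := by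
  obtain ⟨-, -, -, h4⟩ := Cfsg.Agent.S1420.result hG M hM E hE
  obtain ⟨y, hy, hy1⟩ : ∃ y ∈ Cfsg.sigmaCore M ⊓ centralizer ({x} : Set G), y ≠ 1 := by
    by_contra hcon
    push Not at hcon
    exact hb ((Subgroup.eq_bot_iff_forall _).2 hcon)
  exact (h4 x (hE.1 hx) hx1 hτ
    ⟨hE.1 hx, y, hy.1, hy1, (mem_centralizer_singleton_iff.1 hy.2).symm⟩).1

variable (hfpf : ∀ e ∈ E, e ≠ 1 →
  (∀ r : ℕ, r.Prime → r ∣ orderOf e → r ∈ Cfsg.tau1 M ∪ Cfsg.tau3 M) →
  Cfsg.sigmaCore M ⊓ centralizer ({e} : Set G) = ⊥)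
include hfpf

theorem tau2_of_fixed_point {e : G} (he : e ∈ E)
    (hb : Cfsg.sigmaCore M ⊓ centralizer ({e} : Set G) ≠ ⊥) {r : ℕ} (hr : r.Prime)
    (hd : r ∣ orderOf e) : r ∈ Cfsg.tau2 M := by
  by_contra hrt
  haveI := Fact.mk hr
  have hj : orderOf (e ^ (orderOf e / r)) = r := orderOf_pow_orderOf_div (orderOf_pos e).ne' hd
  refine fixed_point_pow_ne_bot hb _ (hfpf _ (pow_mem he _)
    (fun h1 => by rw [h1, orderOf_one] at hj; exact hr.one_lt.ne hj) fun t ht htd => ?_)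
  rw [hj] at htd
  rw [(Nat.prime_dvd_prime_iff_eq ht hr).1 htd]
  exact (tau13_of_not_tau2 hG hM hE (hd.trans (orderOf_dvd_card_of_mem he)) hrt).1

theorem mem_of_fixed_point {W : Subgroup G}
    (hW : ∀ z ∈ E, Cfsg.sigmaCore M ⊓ centralizer ({z} : Set G) ≠ ⊥ →
      ∀ r i : ℕ, r.Prime → r ∈ Cfsg.tau2 M → orderOf z = r ^ i → z ∈ W)
    {e : G} (he : e ∈ E) (hb : Cfsg.sigmaCore M ⊓ centralizer ({e} : Set G) ≠ ⊥) : e ∈ W := by
  refine mem_of_forall_exists_pow_mem (orderOf_pos e) fun q hq hqd => ?_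
  obtain ⟨m, i, hm, hi⟩ := exists_prime_part e hq
  exact ⟨m, fun hd => hm hd, hW _ (pow_mem he m) (fixed_point_pow_ne_bot hb m) q i hq
    (tau2_of_fixed_point hG hM hE hfpf he hb hq hqd) hi⟩

variable {p : ℕ} [hp : Fact p.Prime] (hpt : p ∈ Cfsg.tau2 M)
include hpt

omit hfpf in
/-- For an abelian `τ₂`-prime the `p`-elements of `E` lie in `O_p(E)`. -/
theorem mem_piCoreOf_of_abelian (hab : ∀ S : Sylow p G, IsMulCommutative (S : Subgroup G))
    {z : G} (hz : z ∈ E) {i : ℕ} (ho : orderOf z = p ^ i) : z ∈ Cfsg.piCoreOf {p} E := by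
  obtain ⟨S, hS⟩ := exists_sylow_mem hz ho
  exact le_piCoreOf (map_subtype_le _) (complement_le_normalizer_sylow hG hM hE hpt hab S)
    (isPiSubgroup_singleton.2 (S.2.map _)) hS

/-- BG 12.11, the part of an abelian `τ₂`-Sylow subgroup acting fixed-point-freely. -/
theorem exists_fpf_part
    (hall : ∀ (r : ℕ) [Fact r.Prime], r ∈ Cfsg.tau2 M →
      ∀ T : Sylow r G, IsMulCommutative (T : Subgroup G)) :
    ∃ P₀ : Subgroup G, P₀ ≤ Cfsg.piCoreOf {p} E ∧ E ≤ normalizer (P₀ : Set G) ∧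
      (∀ y ∈ P₀, y ≠ 1 → Cfsg.sigmaCore M ⊓ centralizer ({y} : Set G) = ⊥) ∧
      ∀ y ∈ E, ∀ i : ℕ, orderOf y = p ^ i → y ^ Monoid.exponent P₀ = 1 := by
  obtain ⟨S⟩ : Nonempty (Sylow p E) := inferInstance
  obtain ⟨A, A₀, hAP, h, hEA, -, hPc, hPC⟩ := exists_tau2_setup hG hM hE hpt S
  have hab := hall p hpt
  set P := (S : Subgroup E).map E.subtype with hPdef
  haveI := hPc
  have hPE : P ≤ E := map_subtype_le _
  have hP := isMaxPIn_complement hG hM hE hpt.2.1 S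
  have hEP := complement_le_normalizer_sylow hG hM hE hpt hab S
  have hPtop := isMaxPIn_top_of_abelian hG hM hE hpt hab S
  have hPcore : P ≤ Cfsg.piCoreOf {p} E :=
    le_piCoreOf hPE hEP (isPiSubgroup_singleton.2 (S.2.map _))
  have hmem : ∀ y ∈ E, ∀ i : ℕ, orderOf y = p ^ i → y ∈ P := by
    intro y hy i hi
    refine (le_sup_right.trans (le_of_eq (hP.max (P ⊔ zpowers y)
      (hP.pgroup.to_sup_of_normal_left' (IsPGroup.of_card (n := i) (by rw [Nat.card_zpowers, hi]))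
        (zpowers_le.2 (hEP hy))) le_sup_left (sup_le hP.le (zpowers_le.2 (hE.1 hy))))))
      (mem_zpowers y)
  by_cases hgood : ∀ y ∈ P, y ≠ 1 → Cfsg.sigmaCore M ⊓ centralizer ({y} : Set G) = ⊥
  · exact ⟨P, hPcore, hEP, hgood, fun y hy i hi => congrArg Subtype.val
      (Monoid.pow_exponent_eq_one (⟨y, hmem y hy i hi⟩ : P))⟩
  obtain ⟨y, hyA, hy1, hEy⟩ :=
    exists_fixed_line_tau2 hG hM hE hpt hall hfpf S hAP h hEA
  haveI hSn : (S : Subgroup E).Normal := ⟨fun n hn g => by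
    obtain ⟨u, hu, he⟩ := (mem_normalizer_iff.1 (hEP g.2) _).1 (mem_map_of_mem E.subtype hn)
    have : u = g * n * g⁻¹ := Subtype.ext he
    rwa [← this]⟩
  letI : CommGroup (S : Subgroup E) :=
    { (inferInstance : Group (S : Subgroup E)) with
      mul_comm := fun a b => Subtype.ext (Subtype.ext (setLike_mul_comm (s := P)
        (mem_map_of_mem E.subtype a.2) (mem_map_of_mem E.subtype b.2))) }
  set ι : (S : Subgroup E) →* G := E.subtype.comp (S : Subgroup E).subtype with hι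
  have hιinj : Function.Injective ι := E.subtype_injective.comp (S : Subgroup E).subtype_injective
  have hιP : ∀ s, ι s ∈ P := fun s => mem_map_of_mem E.subtype s.2
  set f : E →* MulAut (S : Subgroup E) := MulAut.conjNormal with hf
  have hιf : ∀ (e : E) s, ι (f e s) = (e : G) * ι s * (e : G)⁻¹ := fun e s => by
    simp [hι, hf, MulAut.conjNormal_apply]
  have hX : (Nat.card f.range).Coprime p := by
    rw [← Subgroup.index_ker]
    refine (hp.out.coprime_iff_not_dvd.2 fun hd => S.not_dvd_index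
      (hd.trans (index_dvd_of_le fun s hs => ?_))).symm
    refine MonoidHom.mem_ker.2 (MulEquiv.ext fun t => hιinj ?_)
    rw [hιf, MulAut.one_apply]
    show (s : G) * ι t * (s : G)⁻¹ = ι t
    rw [show (s : G) * ι t = ι t * (s : G) from
      setLike_mul_comm (s := P) (mem_map_of_mem E.subtype hs) (hιP t)]
    exact mul_inv_cancel_right _ _
  have hU₀ : Solvable.AbelianModule.Inv f.range ((zpowers y).comap ι) := by
    rintro _ ⟨e, rfl⟩ s hs
    show ι (f e s) ∈ zpowers y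
    rw [hιf]
    exact (mem_normalizer_iff.1 (hEy e.2) _).1 hs
  have hy' : (⟨⟨y, hPE (hAP hyA)⟩, by
      obtain ⟨u, hu, he⟩ := hAP hyA
      have : u = ⟨y, hPE (hAP hyA)⟩ := Subtype.ext he
      rwa [← this]⟩ : (S : Subgroup E)) ∈ (zpowers y).comap ι := mem_zpowers y
  obtain ⟨a, ha, hay⟩ : ∃ a ∈ A, a ∉ zpowers y := by
    by_contra hcon
    push Not at hcon
    have h1 := card_dvd_of_le (show A ≤ zpowers y from hcon)
    rw [Nat.card_zpowers, orderOf_eq_prime (h.elem.2 y hyA) hy1, h.card] at h1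
    have h2 := Nat.le_of_dvd hp.out.pos h1
    exact (Nat.lt_irrefl p) (lt_of_lt_of_le (lt_self_pow₀ hp.out.one_lt one_lt_two) h2)
  obtain ⟨B', C', hB1, hC1, hBi, hCi, hBC, hBC'⟩ := Solvable.AbelianModule.exists_decomposition
    (p := p) S.2 hX hU₀ (fun u hu => hιinj (by
      obtain ⟨k, hk⟩ := hu
      rw [map_pow, map_one, ← hk, ← zpow_natCast, ← zpow_mul, mul_comm, zpow_mul, zpow_natCast,
        h.elem.2 y hyA, one_zpow]))
    (fun hb => hy1 (congrArg ι ((Subgroup.eq_bot_iff_forall _).1 hb _ hy')))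
    (fun hall' => hay (by
      obtain ⟨u, hu, he⟩ := hAP ha
      have h1 := (hall' ⟨u, hu⟩).2 (hιinj (by
        rw [map_pow, map_one]
        show (u : G) ^ p = 1
        rw [show (u : G) = a from he]
        exact h.elem.2 a ha))
      exact he ▸ h1))
  obtain ⟨B, C, hB1, hC1, hBi, hBC, hexp⟩ : ∃ B C : Subgroup (S : Subgroup E), B ≠ ⊥ ∧ C ≠ ⊥ ∧
      Solvable.AbelianModule.Inv f.range B ∧ B ⊓ C = ⊥ ∧
      ∀ s : (S : Subgroup E), s ^ Monoid.exponent B = 1 := by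
    have key : ∀ B C : Subgroup (S : Subgroup E), B ⊔ C = ⊤ →
        Monoid.exponent C ∣ Monoid.exponent B →
          ∀ s : (S : Subgroup E), s ^ Monoid.exponent B = 1 := by
      intro B C hsup hdvd s
      obtain ⟨b, hb, c, hc, rfl⟩ := mem_sup.1 (hsup.ge (mem_top s))
      rw [mul_pow, show b ^ Monoid.exponent B = 1 from
        congrArg Subtype.val (Monoid.pow_exponent_eq_one (⟨b, hb⟩ : B))]
      obtain ⟨k, hk⟩ := hdvd
      rw [hk, pow_mul, show c ^ Monoid.exponent C = 1 from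
        congrArg Subtype.val (Monoid.pow_exponent_eq_one (⟨c, hc⟩ : C)), one_pow, one_mul]
    have hpow : ∀ B : Subgroup (S : Subgroup E), ∃ i, Monoid.exponent B = p ^ i := fun B => by
      obtain ⟨n, hn⟩ := (S.2.to_subgroup B).exists_card_eq
      obtain ⟨i, -, hi⟩ := (Nat.dvd_prime_pow hp.out).1 (hn ▸ Group.exponent_dvd_nat_card)
      exact ⟨i, hi⟩
    obtain ⟨i, hi⟩ := hpow B'
    obtain ⟨j, hj⟩ := hpow C'
    rcases le_total j i with hle | hle
    · exact ⟨B', C', hB1, hC1, hBi, hBC, key B' C' hBC' (hi ▸ hj ▸ pow_dvd_pow p hle)⟩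
    · exact ⟨C', B', hC1, hB1, hCi, by rwa [inf_comm],
        key C' B' (by rwa [sup_comm]) (hi ▸ hj ▸ pow_dvd_pow p hle)⟩
  have hBP : B.map ι ≤ P := by
    rintro _ ⟨s, -, rfl⟩
    exact hιP s
  have hEB : E ≤ normalizer (B.map ι : Set G) := fun e he => mem_normalizer_of_map_le (by
    rintro _ ⟨_, ⟨s, hs, rfl⟩, rfl⟩
    exact ⟨f ⟨e, he⟩ s, hBi _ ⟨⟨e, he⟩, rfl⟩ s hs, hιf ⟨e, he⟩ s⟩)
  have hexp' : ∀ (Q : Subgroup G), Monoid.exponent Q = Monoid.exponent B →
      ∀ z ∈ E, ∀ i : ℕ, orderOf z = p ^ i → z ^ Monoid.exponent Q = 1 := by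
    intro Q hQ z hz i hi
    obtain ⟨u, hu, rfl⟩ := hmem z hz i hi
    rw [hQ]
    show (ι ⟨u, hu⟩) ^ Monoid.exponent B = 1
    rw [← map_pow, hexp, map_one]
  by_cases hgB : ∀ z ∈ B.map ι, z ≠ 1 → Cfsg.sigmaCore M ⊓ centralizer ({z} : Set G) = ⊥
  · exact ⟨B.map ι, hBP.trans hPcore, hEB, hgB, hexp' _
      (Monoid.exponent_eq_of_mulEquiv (B.equivMapOfInjective ι hιinj)).symm⟩
  push Not at hgB
  obtain ⟨x, hxB, hx1, hxb⟩ := hgB
  -- the elements of order `p` of `B`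
  have hline : ∀ z ∈ B.map ι, z ^ p = 1 → ∀ w ∈ B.map ι, w ^ p = 1 → z ≠ 1 → w ∈ zpowers z := by
    intro z hz hzp w hw hwp hz1
    by_contra hwz
    have hzA : z ∈ A := h.mem_of_commute hG hM (hPC (hBP hz)) hzp
    have hwA : w ∈ A := h.mem_of_commute hG hM (hPC (hBP hw)) hwp
    have hAB : A ≤ B.map ι :=
      (exists_pair_decomp h.elem h.card hzA hz1 hwA hwz).1.le.trans
        (sup_le (zpowers_le.2 hz) (zpowers_le.2 hw))
    obtain ⟨c, hc⟩ := exists_prime_orderOf_dvd_card' (G := C) p (by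
      obtain ⟨n, hn⟩ := (S.2.to_subgroup C).exists_card_eq
      rw [hn]
      exact dvd_pow_self p fun h0 => hC1 (Subgroup.card_eq_one.1 (by rw [hn, h0, pow_zero])))
    rw [← Subgroup.orderOf_coe] at hc
    obtain ⟨b, hb, hbc⟩ := hAB (h.mem_of_commute hG hM (hPC (hιP (c : (S : Subgroup E))))
      (by rw [← map_pow, show (c : (S : Subgroup E)) ^ p = 1 from orderOf_dvd_iff_pow_eq_one.1 (dvd_of_eq hc),
        map_one]))
    have hbot : (c : (S : Subgroup E)) ∈ B ⊓ C := ⟨by rw [← hιinj hbc]; exact hb, c.2⟩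
    rw [hBC, mem_bot] at hbot
    rw [hbot, orderOf_one] at hc
    exact hp.out.one_lt.ne hc
  have hBp : ∀ z ∈ B.map ι, z ≠ 1 →
      p ∣ orderOf z ∧ orderOf (z ^ (orderOf z / p)) = p := by
    intro z hz hz1
    obtain ⟨n, hn⟩ := hP.pgroup.exists_card_eq
    obtain ⟨i, -, hi⟩ := (Nat.dvd_prime_pow hp.out).1 (hn ▸ orderOf_dvd_card_of_mem (hBP hz))
    have hd : p ∣ orderOf z := by
      rw [hi]
      exact dvd_pow_self p fun h0 => hz1 (orderOf_eq_one_iff.1 (by rw [hi, h0, pow_zero]))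
    exact ⟨hd, orderOf_pow_orderOf_div (orderOf_pos z).ne' hd⟩
  set z := x ^ (orderOf x / p) with hz
  have hzo : orderOf z = p := (hBp x hxB hx1).2
  have hz1 : z ≠ 1 := fun h1 => by rw [h1, orderOf_one] at hzo; exact hp.out.one_lt.ne hzo
  have hzB : z ∈ B.map ι := pow_mem hxB _
  have hCz : centralizer ({z} : Set G) ≤ M :=
    centralizer_le_of_fixed_point hG hM hE (hPE (hBP hzB)) hz1
      (fun r hr hd => by rw [hzo] at hd; rwa [(Nat.prime_dvd_prime_iff_eq hr hp.out).1 hd])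
      (fixed_point_pow_ne_bot hxb _)
  obtain ⟨g, hgP, hgM⟩ := exists_normalizer_not_mem (M := M) hG hM hpt.2.1 hP h.dvd_card
  have hgA := h.normalizer_le_normalizer hG hM hP hAP hgP
  have hAg : A ≤ M.map (MulAut.conj g).toMonoidHom := by
    rw [← mem_normalizer_iff_map_conj_eq.1 hgA]
    exact map_mono h.le
  refine ⟨(B.map ι).map (MulAut.conj g).toMonoidHom, ?_, ?_, ?_, hexp' _ ?_⟩
  · refine le_trans ?_ hPcore
    rintro _ ⟨w, hw, rfl⟩
    exact (mem_normalizer_iff.1 hgP w).1 (hBP hw)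
  · intro e he
    refine mem_normalizer_of_map_le ?_
    rintro _ ⟨_, ⟨w, hw, rfl⟩, rfl⟩
    simp only [MulEquiv.coe_toMonoidHom, MulAut.conj_apply]
    refine ⟨e * w * e⁻¹, (mem_normalizer_iff.1 (hEB he) w).1 hw, ?_⟩
    have hc := commutator_mem_centralizer_sylow hG (h.ne_two hG) hPtop
      (TwoFusion.PRank.pRankLE_mono hP.le hpt.2.2.1) (inv_mem (hEP he)) (inv_mem hgP)
    show g * (e * w * e⁻¹) * g⁻¹ = e * (g * w * g⁻¹) * e⁻¹
    calc g * (e * w * e⁻¹) * g⁻¹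
        = g * (e * (w * ⁅e⁻¹, g⁻¹⁆) * ⁅e⁻¹, g⁻¹⁆⁻¹ * e⁻¹) * g⁻¹ := by group
      _ = g * (e * (⁅e⁻¹, g⁻¹⁆ * w) * ⁅e⁻¹, g⁻¹⁆⁻¹ * e⁻¹) * g⁻¹ := by rw [hc w (hBP hw)]
      _ = e * (g * w * g⁻¹) * e⁻¹ := by rw [commutatorElement_def]; group
  · rintro _ ⟨w, hw, rfl⟩ hne
    simp only [MulEquiv.coe_toMonoidHom, MulAut.conj_apply] at hne ⊢
    have hw1 : w ≠ 1 := fun h1 => hne (by simp [h1])
    set w' := w ^ (orderOf w / p) with hw'
    have hw'o : orderOf w' = p := (hBp w hw hw1).2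
    have hw'1 : w' ≠ 1 := fun h1 => by rw [h1, orderOf_one] at hw'o; exact hp.out.one_lt.ne hw'o
    have hzw : z ∈ zpowers w' := hline w' (pow_mem hw _)
      (hw'o ▸ pow_orderOf_eq_one w') z hzB (hzo ▸ pow_orderOf_eq_one z) hw'1
    have hCw : centralizer ({w'} : Set G) ≤ M := by
      refine le_trans (fun v hv => ?_) hCz
      obtain ⟨k, hk⟩ := hzw
      rw [mem_centralizer_singleton_iff, ← hk]
      exact ((show Commute v w' from mem_centralizer_singleton_iff.1 hv).zpow_right k).eq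
    by_contra hb
    refine fixed_point_pow_ne_bot hb (orderOf w / p) ?_
    rw [conj_pow]
    exact h.sigmaCore_inf_centralizer_conj hG hM hgM hAg hCw
  · exact ((Monoid.exponent_eq_of_mulEquiv (B.equivMapOfInjective ι hιinj)).trans
      (Monoid.exponent_eq_of_mulEquiv ((B.map ι).equivMapOfInjective _
        (MulAut.conj g).injective))).symm

omit hp hpt in
/-- BG 12.11 (c), every `τ₂`-prime abelian. -/
theorem exists_fpf_subgroup_abelian
    (hall : ∀ (r : ℕ) [Fact r.Prime], r ∈ Cfsg.tau2 M →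
      ∀ T : Sylow r G, IsMulCommutative (T : Subgroup G)) :
    ∃ E₀ : Subgroup G, E₀ ≤ E ∧ Monoid.exponent E₀ = Monoid.exponent E ∧
      ∀ e ∈ E₀, e ≠ 1 → Cfsg.sigmaCore M ⊓ centralizer ({e} : Set G) = ⊥ := by
  haveI := isSolvable_of_ne_top hG (H := E) fun hb => hM.1 (top_le_iff.1 (hb ▸ hE.1))
  have key : ∀ r : ℕ, r ∈ Cfsg.tau2 M → ∃ P₀ : Subgroup G, P₀ ≤ Cfsg.piCoreOf {r} E ∧
      E ≤ normalizer (P₀ : Set G) ∧
      (∀ y ∈ P₀, y ≠ 1 → Cfsg.sigmaCore M ⊓ centralizer ({y} : Set G) = ⊥) ∧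
      ∀ y ∈ E, ∀ i : ℕ, orderOf y = r ^ i → y ^ Monoid.exponent P₀ = 1 := fun r hr => by
    haveI := Fact.mk hr.1
    exact exists_fpf_part hG hM hE hfpf hr hall
  choose P₀ hPc hPn hPf hPe using key
  set F := Cfsg.fittingOf E
  haveI : IsMulCommutative F := Cfsg.Agent.S1420.isMulCommutative_of_nilpotent hG hM
    ((fittingOf_le E).trans hE.1) (fittingOf_isNilpotent E) fun q hq hd =>
      complement_prime_not_sigma hG hM hE hq (hd.trans (card_dvd_of_le (fittingOf_le E)))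
  have hPF : ∀ r hr, P₀ r hr ≤ F := fun r hr => (hPc r hr).trans (by
    haveI := Fact.mk hr.1
    rw [← piCoreOf_singleton_fittingOf]; exact piCoreOf_le _ _)
  set W : Subgroup G := ⨆ (r : ℕ) (hr : r ∈ Cfsg.tau2 M), P₀ r hr with hW
  have hWF : W ≤ F := iSup_le fun r => iSup_le (hPF r)
  have hWE : W ≤ E := hWF.trans (fittingOf_le E)
  have hEW : E ≤ normalizer (W : Set G) := fun e he => mem_normalizer_of_map_le (by
    rw [hW, Subgroup.map_iSup]
    refine iSup_le fun r => ?_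
    rw [Subgroup.map_iSup]
    refine iSup_le fun hr => le_trans ?_ (le_iSup₂_of_le r hr le_rfl)
    exact (mem_normalizer_iff_map_conj_eq.1 (hPn r hr he)).le)
  obtain ⟨K, hK⟩ : ∃ K : Subgroup G, Cfsg.IsPiHallOf {q | q ∉ Cfsg.tau2 M} K E := by
    obtain ⟨K, hK⟩ := Solvable.exists_isPiHall (G := E) {q | q ∉ Cfsg.tau2 M}
    exact ⟨_, Solvable.isPiHallOf_of_isPiHall hK⟩
  refine ⟨W ⊔ K, sup_le hWE hK.1, ?_, fun e he he1 => by_contra fun hb => ?_⟩
  · refine Nat.dvd_antisymm (Monoid.exponent_dvd_of_monoidHom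
      (inclusion (sup_le hWE hK.1)) (inclusion_injective _)) ?_
    set n := Monoid.exponent ↥(W ⊔ K)
    have hn : ∀ x ∈ W ⊔ K, x ^ n = 1 := fun x hx =>
      congrArg Subtype.val (Monoid.pow_exponent_eq_one (⟨x, hx⟩ : ↥(W ⊔ K)))
    refine Monoid.exponent_dvd_iff_forall_pow_eq_one.2 fun y => Subtype.ext ?_
    show (y : G) ^ n = 1
    refine mem_bot.1 (mem_of_forall_exists_pow_mem (orderOf_pos _) fun q hq hqd => ?_)
    obtain ⟨m, i, hm, hi⟩ := exists_prime_part (y : G) hq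
    haveI := Fact.mk hq
    refine ⟨m, fun hd => hm hd, ?_⟩
    rw [mem_bot, ← pow_mul, mul_comm, pow_mul]
    set z := (y : G) ^ m
    have hzE : z ∈ E := pow_mem y.2 m
    by_cases hqt : q ∈ Cfsg.tau2 M
    · obtain ⟨k, hk⟩ := Monoid.exponent_dvd_of_monoidHom
        (inclusion (((le_iSup₂_of_le q hqt le_rfl : P₀ q hqt ≤ W)).trans
          (le_sup_left : W ≤ W ⊔ K)))
        (inclusion_injective (((le_iSup₂_of_le q hqt le_rfl : P₀ q hqt ≤ W)).trans
          (le_sup_left : W ≤ W ⊔ K)))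
      rw [show n = Monoid.exponent (P₀ q hqt) * k from hk, pow_mul, hPe q hqt z hzE i hi, one_pow]
    · obtain ⟨S⟩ : Nonempty (Sylow q K) := inferInstance
      set Q := (S : Subgroup K).map K.subtype
      have hQE : Q ≤ E := (map_subtype_le _).trans hK.1
      have hidx : ¬ q ∣ (Q.subgroupOf E).index := by
        show ¬ q ∣ Q.relIndex E
        rw [← relIndex_mul_relIndex Q K E (map_subtype_le _) hK.1, hq.dvd_mul]
        rintro (hd | hd)
        · refine S.not_dvd_index ?_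
          rwa [relIndex, subgroupOf, comap_map_eq_self_of_injective K.subtype_injective] at hd
        · exact hK.2.2 q hq hqt hd
      obtain ⟨S', hS'⟩ : ∃ S' : Sylow q E, (S' : Subgroup E) = Q.subgroupOf E :=
        ⟨((S.2.map _).of_equiv (subgroupOfEquivOfLe hQE).symm).toSylow hidx, rfl⟩
      obtain ⟨T, hT⟩ := exists_sylow_mem hzE hi
      obtain ⟨w, hw⟩ := MulAction.exists_smul_eq E S' T
      obtain ⟨t, ht, htz⟩ := hT
      rw [SetLike.mem_coe, ← hw, Sylow.coe_subgroup_smul] at ht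
      obtain ⟨v, hv, rfl⟩ := ht
      rw [SetLike.mem_coe, hS', mem_subgroupOf] at hv
      rw [← htz]
      show ((w : G) * v * (w : G)⁻¹) ^ n = 1
      rw [conj_pow, hn v (mem_sup_right (map_subtype_le _ hv)), mul_one, mul_inv_cancel]
  · obtain ⟨hle, hKW⟩ : W ⊔ K ≤ E ∧ K ≤ normalizer (W : Set G) := ⟨sup_le hWE hK.1, hK.1.trans hEW⟩
    refine he1 (mem_bot.1 (mem_of_forall_exists_pow_mem (orderOf_pos e) fun q hq hqd => ?_))
    obtain ⟨m, i, hm, hi⟩ := exists_prime_part e hq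
    refine ⟨m, fun hd => hm hd, mem_bot.2 ?_⟩
    have hq2 := tau2_of_fixed_point hG hM hE hfpf (hle he) hb hq hqd
    set z := e ^ m
    -- `z` lies in `W`
    obtain ⟨w, hw, k, hk, hwk⟩ := (Solvable.mem_sup_of_le_normalizer hKW).1 (pow_mem he m)
    haveI : (W.subgroupOf (W ⊔ K)).Normal :=
      normal_subgroupOf_of_le_normalizer (hle.trans hEW)
    have hzW : z ^ Nat.card K ∈ W := by
      have h1 : (QuotientGroup.mk' (W.subgroupOf (W ⊔ K))
          (⟨z, pow_mem he m⟩ : ↥(W ⊔ K))) ^ Nat.card K = 1 := by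
        rw [show (⟨z, pow_mem he m⟩ : ↥(W ⊔ K)) = ⟨w, mem_sup_left hw⟩ * ⟨k, mem_sup_right hk⟩
          from Subtype.ext hwk.symm, map_mul, show QuotientGroup.mk' (W.subgroupOf (W ⊔ K))
          ⟨w, mem_sup_left hw⟩ = 1 from (QuotientGroup.eq_one_iff _).2 hw, one_mul, ← map_pow,
          show (⟨k, mem_sup_right hk⟩ : ↥(W ⊔ K)) ^ Nat.card K = 1 from Subtype.ext
            (show k ^ Nat.card K = 1 from
              congrArg Subtype.val (pow_card_eq_one' (x := (⟨k, hk⟩ : K)))), map_one]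
      rw [← map_pow] at h1
      exact mem_subgroupOf.1 ((QuotientGroup.eq_one_iff (N := W.subgroupOf (W ⊔ K)) _).1 h1)
    have hzW' : z ∈ W := by
      obtain ⟨j, hj⟩ := exists_pow_eq_self_of_coprime (x := z) (n := Nat.card K) (by
        rw [hi]
        exact ((hq.coprime_iff_not_dvd.2 fun hd => hK.2.1 q hq hd hq2).pow_left i).symm)
      exact hj ▸ pow_mem hzW j
    set V := Cfsg.piCoreOf {s | s ≠ q} F with hV
    have hWV : W ≤ P₀ q hq2 ⊔ V := iSup_le fun r => iSup_le fun hr => by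
      by_cases hrq : r = q
      · subst hrq
        exact le_sup_left
      refine le_trans (fun x hx => ?_) le_sup_right
      refine mem_piCoreOf_of_nilpotent (fittingOf_isNilpotent E) (hPF r hr hx) fun s hs hsd => ?_
      haveI := Fact.mk hr.1
      obtain ⟨c, hc⟩ := (piCoreOf_singleton_isPGroup r E).exists_card_eq
      rw [Set.mem_ofPred_eq, (Nat.prime_dvd_prime_iff_eq hs hr.1).1
        (hs.dvd_of_dvd_pow (hc ▸ hsd.trans (orderOf_dvd_card_of_mem (hPc r hr hx))))]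
      exact hrq
    obtain ⟨a, ha, b, hb', hab⟩ := (Solvable.mem_sup_of_le_normalizer (((piCoreOf_le _ F).trans
      fun v hv => centralizer_le_normalizer _ fun x hx =>
        setLike_mul_comm (s := F) (hPF q hq2 hx) hv) : V ≤ normalizer (P₀ q hq2 : Set G))).1
        (hWV hzW')
    haveI := Fact.mk hq
    have hbQ : b ∈ Cfsg.piCoreOf {q} E := by
      rw [show b = a⁻¹ * z by rw [← hab, inv_mul_cancel_left]]
      exact mul_mem (inv_mem (hPc q hq2 ha))
        (mem_piCoreOf_of_abelian hG hM hE hq2 (hall q hq2) (hle (pow_mem he m)) hi)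
    have hb1 : b = 1 := orderOf_eq_one_iff.1 (Nat.eq_one_of_dvd_coprimes
      (a := Nat.card ↥(Cfsg.piCoreOf {q} E)) (b := Nat.card V) (by
        obtain ⟨c, hc⟩ := (piCoreOf_singleton_isPGroup q E).exists_card_eq
        rw [hc]
        exact (hq.coprime_iff_not_dvd.2 fun hd =>
          (piCoreOf_isPiSubgroup {s | s ≠ q} F q hq hd : q ≠ q) rfl).pow_left c)
      (orderOf_dvd_card_of_mem hbQ) (orderOf_dvd_card_of_mem hb'))
    by_contra hz1
    refine fixed_point_pow_ne_bot hb m (hPf q hq2 z ?_ hz1)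
    rw [← hab, hb1, mul_one]
    exact ha

end CfsgLib.OddOrder
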