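import Cfsg.Agent.Lib.OddOrder.FHall
import Cfsg.Agent.Lib.OddOrder.FHallTools
import Mathlib.GroupTheory.SpecificGroups.Cyclic

/-!
Building the data of Frobenius type from data in the ambient group.
-/

set_option autoImplicit false
set_option maxHeartbeats 400000
set_option linter.style.haveILetI false

open scoped Pointwise

namespace CfsgLib.OddOrder

open Subgroup

/-- `M_F` is characteristic. -/
theorem fittingHall_characteristic (M : Type*) [Group M] :
    (Cfsg.fittingHall M).Characteristic := by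
  refine characteristic_iff_map_le.2 fun φ => map_le_iff_le_comap.2 (sSup_le fun N hN => ?_)
  obtain ⟨hn, hnil, hco⟩ := hN
  refine map_le_iff_le_comap.1 (le_sSup ⟨hn.map _ φ.surjective, ?_, ?_⟩)
  · haveI := hnil
    exact Group.nilpotent_of_mulEquiv (equivMapOfInjective N φ.toMonoidHom φ.injective)
  · rwa [card_map_of_injective φ.injective, index_map_of_bijective φ.bijective]

variable {G : Type*} [Group G]

theorem normalizer_le_normalizer_fittingHallOf (X : Subgroup G) :
    normalizer (X : Set G) ≤ normalizer (Cfsg.fittingHallOf X : Set G) := by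
  haveI := fittingHall_characteristic X
  exact Solvable.normalizer_le_of_characteristic_map (Cfsg.fittingHall X)

/-- Frobenius type from data in the ambient group. -/
theorem isOfTypeF_of_data [Finite G] {X H U U₁ U₀ : Subgroup G} (hsol : Group.IsSolvable X)
    (hodd : Odd (Nat.card X)) (hH : Cfsg.fittingHallOf X = H) (hH1 : H ≠ ⊥) (hU : U ≠ ⊥)
    (hc : Cfsg.IsComplIn H U X) (hU₁ : U₁ ≤ U) (hU₁n : U ≤ normalizer (U₁ : Set G))
    (hU₁c : IsMulCommutative U₁)
    (hU₁x : ∀ x ∈ H, x ≠ 1 → U ⊓ centralizer ({x} : Set G) ≤ U₁)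
    (hU₀ : U₀ ≤ U) (hexp : Monoid.exponent U₀ = Monoid.exponent U)
    (hfpf : ∀ u ∈ U₀, u ≠ 1 → ∀ x ∈ H, u * x = x * u → x = 1) : Cfsg.IsOfTypeF X := by
  obtain ⟨hHX, hUX, hdis, hfac⟩ := hc
  have hmem : ∀ {y : X}, y ∈ Cfsg.fittingHall X ↔ (y : G) ∈ H := by
    intro y
    rw [← hH]
    constructor
    · exact fun h => ⟨y, h, rfl⟩
    · rintro ⟨z, hz, hzy⟩
      rwa [Subtype.ext hzy] at hz
  refine ⟨hsol, hodd, fun h => hH1 ?_, fun h => hU ?_, U.subgroupOf X, fun h => hU ?_, ?_, ?_, ?_⟩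
  · rw [← hH, Cfsg.fittingHallOf, h, Subgroup.map_bot]
  · refine eq_bot_iff.2 fun u hu => ?_
    rw [← hdis]
    exact ⟨(hmem (y := ⟨u, hUX hu⟩)).1 (h ▸ mem_top _), hu⟩
  · rw [← map_subgroupOf_eq_of_le hUX, h, Subgroup.map_bot]
  · refine isComplement'_of_disjoint_and_mul_eq_univ ?_ ?_
    · refine disjoint_iff.2 ((eq_bot_iff_forall _).2 fun y hy => Subtype.ext ?_)
      exact mem_bot.1 (hdis ▸ (⟨hmem.1 hy.1, hy.2⟩ : (y : G) ∈ H ⊓ U))
    · refine Set.eq_univ_of_forall fun y => ?_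
      obtain ⟨a, ha, b, hb, hab⟩ := hfac y y.2
      exact ⟨⟨a, hHX ha⟩, (hmem (y := ⟨a, hHX ha⟩)).2 ha, ⟨b, hUX hb⟩, hb, Subtype.ext hab.symm⟩
  · refine ⟨U₁.subgroupOf X, comap_mono hU₁, (comap_mono hU₁n).trans (le_normalizer_comap X.subtype),
      ?_, fun x hx hx1 y hy => ?_⟩
    · exact ⟨⟨fun a b => Subtype.ext (Subtype.ext (setLike_mul_comm (mem_subgroupOf.1 a.2) (mem_subgroupOf.1 b.2)))⟩⟩
    · exact hU₁x x (hmem.1 hx) (fun h => hx1 (Subtype.ext h)) ⟨hy.1,
        mem_centralizer_singleton_iff.2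
          (congrArg Subtype.val (mem_centralizer_singleton_iff.1 hy.2))⟩
  · refine ⟨U₀.subgroupOf X, comap_mono hU₀, ?_, fun u hu hu1 x hx hux => ?_⟩
    · rw [Monoid.exponent_eq_of_mulEquiv (subgroupOfEquivOfLe (hU₀.trans hUX)),
        Monoid.exponent_eq_of_mulEquiv (subgroupOfEquivOfLe hUX), hexp]
    · exact Subtype.ext (hfpf u hu (fun h => hu1 (Subtype.ext h)) x (hmem.1 hx)
        (congrArg Subtype.val hux))

/-- Two commuting cyclic subgroups of coprime orders generate a cyclic group. -/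
theorem isCyclic_sup_of_commute [Finite G] {A B : Subgroup G} (hA : IsCyclic A) (hB : IsCyclic B)
    (hcomm : ∀ a ∈ A, ∀ b ∈ B, a * b = b * a) (hco : (Nat.card A).Coprime (Nat.card B)) :
    IsCyclic ↥(A ⊔ B) := by
  obtain ⟨a, ha⟩ := hA.exists_generator
  obtain ⟨b, hb⟩ := hB.exists_generator
  have hz : A ⊔ B = zpowers ((a : G) * b) := by
    have hoa : orderOf (a : G) = Nat.card A := by
      rw [Subgroup.orderOf_coe, orderOf_eq_card_of_forall_mem_zpowers ha]
    have hob : orderOf (b : G) = Nat.card B := by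
      rw [Subgroup.orderOf_coe, orderOf_eq_card_of_forall_mem_zpowers hb]
    have hc : Commute (a : G) b := hcomm a a.2 b b.2
    refine le_antisymm (sup_le ?_ ?_) (zpowers_le.2 (mul_mem (mem_sup_left a.2) (mem_sup_right b.2)))
    · intro x hx
      obtain ⟨i, hi⟩ := mem_zpowers_iff.1 (ha ⟨x, hx⟩)
      obtain ⟨k, hk⟩ := exists_pow_eq_self_of_coprime (n := Nat.card B) (x := (a : G))
        (by rw [hoa]; exact hco.symm)
      have h1 : ((a : G) * b) ^ Nat.card B = (a : G) ^ Nat.card B := by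
        rw [hc.mul_pow, ← hob, pow_orderOf_eq_one, mul_one]
      have ha' : (a : G) ∈ zpowers ((a : G) * b) := by
        have h2 := pow_mem (pow_mem (mem_zpowers ((a : G) * b)) (Nat.card B)) k
        rwa [h1, hk] at h2
      have hxe : x = (a : G) ^ i := by
        rw [← Subgroup.coe_zpow, hi]
      rw [hxe]
      exact zpow_mem ha' i
    · intro x hx
      obtain ⟨i, hi⟩ := mem_zpowers_iff.1 (hb ⟨x, hx⟩)
      obtain ⟨k, hk⟩ := exists_pow_eq_self_of_coprime (n := Nat.card A) (x := (b : G))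
        (by rw [hob]; exact hco)
      have h1 : ((a : G) * b) ^ Nat.card A = (b : G) ^ Nat.card A := by
        rw [hc.mul_pow, ← hoa, pow_orderOf_eq_one, one_mul]
      have hb' : (b : G) ∈ zpowers ((a : G) * b) := by
        have h2 := pow_mem (pow_mem (mem_zpowers ((a : G) * b)) (Nat.card A)) k
        rwa [h1, hk] at h2
      have hxe : x = (b : G) ^ i := by
        rw [← Subgroup.coe_zpow, hi]
      rw [hxe]
      exact zpow_mem hb' i
  rw [hz]
  infer_instance

end CfsgLib.OddOrder
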