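import Cfsg.Agent.Lib.OddOrder.Section16Cases
import Cfsg.Agent.Lib.OddOrder.FittingTIDichotomy

/-!
A maximal subgroup with `K = 1` that is a Frobenius group with kernel `M_σ` is of Type I.
-/

set_option autoImplicit false
set_option linter.style.haveILetI false
set_option maxHeartbeats 400000

namespace CfsgLib.OddOrder

open Subgroup

variable {G : Type*} [Group G] [Finite G] (hG : Cfsg.IsMinSimpleOddOrder G) {M : Subgroup G}
  (hM : IsCoatom M)
include hG hM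

/-- `O_{p'}(M)` is the `p'`-part of the kernel, for `p` dividing the order of the kernel. -/
theorem isCyclic_pPrimeCore_of_frob
    (hfrob : ∀ x ∈ Cfsg.sigmaCore M, x ≠ 1 →
      M ⊓ centralizer ({x} : Set G) ≤ Cfsg.sigmaCore M)
    (hHS : Cfsg.fittingHallOf M = Cfsg.sigmaCore M) {p : ℕ} [hp : Fact p.Prime]
    (hpd : p ∣ Nat.card (Cfsg.fittingHallOf M))
    (hcyc : IsCyclic (Cfsg.pPrimeCore p ↥(Cfsg.fittingHallOf M))) :
    IsCyclic (Cfsg.pPrimeCore p M) := by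
  set H := Cfsg.fittingHallOf M with hH
  have hHn : Group.IsNilpotent H := fittingHallOf_isNilpotent M
  set N := (Cfsg.pPrimeCore p M).map M.subtype with hN
  haveI := Solvable.pPrimeCore_normal p M
  have hNM : N ≤ M := map_subtype_le _
  have hMN : M ≤ normalizer (N : Set G) := by
    intro m hm
    refine mem_normalizer_of_map_le ?_
    rintro _ ⟨_, ⟨n, hn, rfl⟩, rfl⟩
    exact ⟨⟨m, hm⟩ * n * ⟨m, hm⟩⁻¹, Subgroup.Normal.conj_mem inferInstance n hn _, rfl⟩
  have hNc : (Nat.card N).Coprime p := by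
    rw [card_map_of_injective M.subtype_injective]
    exact Solvable.pPrimeCore_card_coprime p M
  set P := Cfsg.piCoreOf {p} H with hP
  have hMP : M ≤ normalizer (P : Set G) :=
    (le_normalizer_fittingHallOf M).trans (normalizer_le_normalizer_piCoreOf _ _)
  obtain ⟨x₀, hx₀⟩ := exists_prime_orderOf_dvd_card' p hpd
  set x : G := (x₀ : G)
  have hxo : orderOf x = p := by rw [Subgroup.orderOf_coe, hx₀]
  have hx1 : x ≠ 1 := fun h => hp.out.ne_one (by rw [← hxo, h, orderOf_one])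
  have hxH : x ∈ H := x₀.2
  have hxP : x ∈ P := mem_piCoreOf_of_nilpotent hHn hxH fun s hs hsd => by
    rw [hxo, Nat.prime_dvd_prime_iff_eq hs hp.out] at hsd
    exact hsd
  have hPM : P ≤ M := (piCoreOf_le _ _).trans (hHS.le.trans (piCoreOf_le _ _))
  have hdis : N ⊓ P = ⊥ := inf_eq_bot_of_coprime (by
    obtain ⟨k, hk⟩ := (piCoreOf_singleton_isPGroup p H).exists_card_eq
    rw [hk]
    exact hNc.pow_right k)
  have hNH : N ≤ H := fun n hn => by
    rw [← SetLike.mem_coe, hHS, SetLike.mem_coe]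
    refine hfrob x (hHS ▸ hxH) hx1 ⟨hNM hn, mem_centralizer_singleton_iff.2 ?_⟩
    have h1 : n * x * n⁻¹ * x⁻¹ ∈ N ⊓ P := by
      refine ⟨?_, P.mul_mem ((mem_normalizer_iff.1 (hMP (hNM hn)) x).1 hxP) (P.inv_mem hxP)⟩
      rw [show n * x * n⁻¹ * x⁻¹ = n * (x * n⁻¹ * x⁻¹) by group]
      exact N.mul_mem hn ((mem_normalizer_iff.1 (hMN (hPM hxP)) _).1 (N.inv_mem hn))
    rw [hdis, mem_bot, mul_inv_eq_one, mul_inv_eq_iff_eq_mul] at h1
    exact h1
  have hle : N.subgroupOf H ≤ Cfsg.pPrimeCore p H := Solvable.le_pPrimeCore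
    (normal_subgroupOf_of_le_normalizer ((hHS.le.trans (piCoreOf_le _ _)).trans hMN))
    (by rw [Nat.card_congr (subgroupOfEquivOfLe hNH).toEquiv]; exact hNc)
  haveI := hcyc
  haveI : IsCyclic (N.subgroupOf H) := isCyclic_of_le hle
  haveI : IsCyclic N := (subgroupOfEquivOfLe hNH).isCyclic.1 inferInstance
  exact ((Cfsg.pPrimeCore p M).equivMapOfInjective M.subtype M.subtype_injective).isCyclic.2
    inferInstance

variable {K U : Subgroup G} (hKU : Cfsg.IsSigmaDecomposition M K U)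
include hKU

theorem isOfTypeI_of_frob (hK : K = ⊥) (hU : U ≠ ⊥)
    (hfrob : ∀ x ∈ Cfsg.sigmaCore M, x ≠ 1 →
      M ⊓ centralizer ({x} : Set G) ≤ Cfsg.sigmaCore M) : Cfsg.IsOfTypeI M := by
  refine ⟨isOfTypeF_of_K_eq hG hM hKU hK hU, ?_⟩
  have hHS := fittingHallOf_eq_of_U_ne hG hM hKU hU
  by_cases hTI : Cfsg.IsTISubset (Cfsg.fittingHallOf M : Set G)
  · exact Or.inl hTI
  simp only [Cfsg.IsTISubset, not_forall] at hTI
  obtain ⟨g, hg, x, hx, hgx, hx1⟩ := hTI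
  have hgM : g ∉ M := fun h => hg (le_normalizer_fittingHallOf M h)
  have hX : Cfsg.fittingOf M ⊓ (Cfsg.fittingOf M).map (MulAut.conj g).toMonoidHom ≠ ⊥ := fun h =>
    hx1 (conj_eq_one_iff.1 (mem_bot.1 (h.le (mem_inf.2 ⟨fittingHallOf_le_fittingOf M hgx, x,
      fittingHallOf_le_fittingOf M hx, rfl⟩))))
  obtain ⟨⟨hXH, -⟩, -, h⟩ := fitting_not_ti_structure hG hM hKU g hgM hX
  rcases h with ⟨-, hab⟩ | ⟨p, hp, hXp, -, -, -, hcyc, hexp⟩ |
    ⟨p, -, -, -, -, -, -, -, hK1, -, -⟩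
  · exact Or.inr (Or.inl hab)
  · haveI := Fact.mk hp
    have hpd : p ∣ Nat.card (Cfsg.fittingHallOf M) := hXp ▸ card_dvd_of_le hXH
    exact Or.inr (Or.inr ⟨hexp, p, hp, hpd,
      isCyclic_pPrimeCore_of_frob hG hM hfrob hHS hpd hcyc⟩)
  · exact absurd hK hK1

/-- BG 16.1, Type I, given that the `κ`-free maximal subgroups are Frobenius groups. -/
theorem isOfTypeI_iff_of_frob
    (hfrob : K = ⊥ → U ≠ ⊥ → ∀ x ∈ Cfsg.sigmaCore M, x ≠ 1 →
      M ⊓ centralizer ({x} : Set G) ≤ Cfsg.sigmaCore M) :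
    Cfsg.IsOfTypeI M ↔ (K = ⊥ ∧ U ≠ ⊥) := by
  refine ⟨fun h1 => ?_, fun h => isOfTypeI_of_frob hG hM hKU h.1 h.2 (hfrob h.1 h.2)⟩
  rcases type_cases hG hM hKU with h | h | h | h
  · exact h
  · exact (TypeP.not_one_and_two h1 ((isOfTypeII_iff hG hM hKU).2 h)).elim
  · exact (TypeP.not_one_and_three_four h1 ((isOfTypeIII_or_IV_iff hG hM hKU).2 h)).elim
  · exact (TypeP.not_one_and_five h1 ((isOfTypeV_iff hG hM hKU).2 h)).elim

end CfsgLib.OddOrder
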