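import Cfsg.Agent.Lib.OddOrder.UniqueAux
import Cfsg.Agent.Lib.OddOrder.TransitivityUp
import Cfsg.Agent.Lib.OddOrder.RankTwo
import Cfsg.Agent.Lib.Solvable.CoprimeGeneration

/-!
The uniqueness theorem for minimal simple groups of odd order: BG 8.1(b), 9.1, 9.2, 9.3, 9.4.
-/

set_option autoImplicit false
set_option linter.style.haveILetI false

namespace CfsgLib.OddOrder

open Subgroup

variable {G : Type*} [Group G] [Finite G] {p : ℕ} [hp : Fact p.Prime]

omit [Finite G] hp in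
theorem le_normalizer_conj_of_mem {B Q : Subgroup G} {g : G} (hg : g ∈ normalizer (B : Set G))
    (h : B ≤ normalizer (Q : Set G)) :
    B ≤ normalizer ((Q.map (MulAut.conj g).toMonoidHom : Subgroup G) : Set G) := fun b hb => by
  have h1 : g⁻¹ * b * g ∈ normalizer (Q : Set G) := h ((mem_normalizer_iff''.1 hg b).1 hb)
  exact le_normalizer_map (MulAut.conj g).toMonoidHom ⟨g⁻¹ * b * g, h1, by simp [mul_assoc]⟩

omit hp in
theorem mem_normalizer_of_map_conj_le {Q : Subgroup G} {g : G}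
    (h : Q.map (MulAut.conj g).toMonoidHom ≤ Q) : g ∈ normalizer (Q : Set G) :=
  mem_normalizer_fintype fun q hq => h (mem_map_of_mem _ hq)

omit hp in
/-- A subgroup with unique maximal overgroup passes it to its proper overgroups. -/
theorem inUniqueMaximal_mono {X K : Subgroup G} (hX : Cfsg.InUniqueMaximal X) (hXK : X ≤ K)
    (hK : K ≠ ⊤) : Cfsg.InUniqueMaximal K := by
  obtain ⟨M, ⟨hM, hXM⟩, huniq⟩ := hX
  obtain ⟨L, hL, hKL⟩ := exists_isCoatom_ge hK
  have hLM : L = M := huniq L ⟨hL, hXK.trans hKL⟩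
  exact ⟨M, ⟨hM, hLM ▸ hKL⟩, fun L' hL' => huniq L' ⟨hL'.1, hXK.trans hL'.2⟩⟩

omit [Finite G] hp in
theorem inUniqueMaximal_conj {X : Subgroup G} (hX : Cfsg.InUniqueMaximal X) (g : G) :
    Cfsg.InUniqueMaximal (X.map (MulAut.conj g).toMonoidHom) := by
  obtain ⟨M, ⟨hM, hXM⟩, huniq⟩ := hX
  refine ⟨M.map (MulAut.conj g).toMonoidHom, ⟨isCoatom_conj hM g, Subgroup.map_mono hXM⟩,
    fun L ⟨hL, hXL⟩ => ?_⟩
  have h1 := huniq _ ⟨isCoatom_conj hL g⁻¹, by
    have := Subgroup.map_mono (f := (MulAut.conj g⁻¹).toMonoidHom) hXL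
    rwa [map_conj_map_conj, inv_mul_cancel, map_conj_one] at this⟩
  rw [← h1, map_conj_map_conj, mul_inv_cancel, map_conj_one]

section MinSimple

variable (hG : Cfsg.IsMinSimpleOddOrder G)
include hG

/-- Every `A`-invariant `p'`-subgroup lies in a `p'`-subgroup `K₀` containing all the
`P`-invariant ones, `A ∈ SCN₃(P)`. -/
theorem inv_le_of_scn {P : Sylow p G} {A : Subgroup G} (hA : Cfsg.IsSCN (P : Subgroup G) A)
    (hA3 : ¬ Cfsg.PRankLE p 2 A) {K₀ : Subgroup G}
    (hP : ∀ Y : Subgroup G, (Nat.card Y).Coprime p → (P : Subgroup G) ≤ normalizer (Y : Set G) →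
      Y ≤ K₀) :
    ∀ Y : Subgroup G, (Nat.card Y).Coprime p → A ≤ normalizer (Y : Set G) → Y ≤ K₀ := by
  have hA2 : ¬ Cfsg.PRankLE p 1 A := fun h => hA3 fun B hB hBp =>
    (h B hB hBp).trans (Nat.pow_le_pow_right hp.out.pos (by norm_num))
  have hT := transitivityHypothesis_of_scn hG oddPStable hA hA2
  have hAp : IsPGroup p A := P.2.to_le hA.1
  have hPtop : (P : Subgroup G) ≠ ⊤ := isPGroup_ne_top hG P.2
  have hpA : p ∣ Nat.card A := by
    obtain ⟨n, hn⟩ := hAp.exists_card_eq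
    rcases n with _ | n
    · exact absurd (Subgroup.card_eq_one.1 (hn.trans (pow_zero p))) hT.1
    · exact hn ▸ dvd_pow_self p n.succ_ne_zero
  have hπ : Cfsg.primesNotDvd (Nat.card A) = Cfsg.primesNotDvd p := by
    obtain ⟨n, hn⟩ := hAp.exists_card_eq
    rw [hn]
    refine primesNotDvd_prime_pow fun h0 => hT.1 (Subgroup.card_eq_one.1 ?_)
    rw [hn, h0, pow_zero]
  have hK : coreCent A (Nat.card A) ≤ K₀ := hP _ (by
    rw [coreCent, hπ]; exact piCoreOf_primesNotDvd_coprime _)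
    (hA.2.1.trans (normalizer_le_normalizer_coreCent A _))
  have hZ : ¬ Cfsg.RankLE 2 ↥(A ⊓ centralizer (A : Set G)) := by
    rw [inf_eq_left.2 (fun a ha => mem_centralizer_iff.2 fun b hb => isSCN_abelian hA b hb a ha)]
    exact not_rankLE_of_not_pRankLE hA3
  intro Y hY hAY
  have hcop : (Nat.card A).Coprime (Nat.card Y) := by
    obtain ⟨n, hn⟩ := hAp.exists_card_eq
    rw [hn]; exact (hY.symm).pow_left n
  refine inf_eq_left.1 (Subgroup.eq_of_le_of_card_ge inf_le_left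
    (Nat.le_of_dvd Nat.card_pos ?_) : Y ⊓ K₀ = Y)
  rw [← Nat.factorization_le_iff_dvd Nat.card_pos.ne' Nat.card_pos.ne', Finsupp.le_def]
  intro q
  by_cases hq : q.Prime
  swap
  · rw [Nat.factorization_eq_zero_of_not_prime _ hq]; exact Nat.zero_le _
  haveI := Fact.mk hq
  by_cases hqY : q ∣ Nat.card Y
  swap
  · rw [Nat.factorization_eq_zero_of_not_dvd hqY]; exact Nat.zero_le _
  have hqA : ¬ q ∣ Nat.card A := fun h => hq.ne_one (Nat.eq_one_of_dvd_coprimes hcop h hqY)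
  haveI := hAp.isNilpotent
  obtain ⟨S, hS⟩ := Solvable.exists_invariant_sylow hAY hcop (Or.inl inferInstance) q
  obtain ⟨Q₁, hQ₁, hSQ₁⟩ := exists_maxInvSubgroup_ge (A := A) (π := ({q} : Set ℕ))
    (Y := (S : Subgroup Y).map Y.subtype)
    ⟨le_top, isPiSubgroup_singleton.2 (S.2.map _), hS⟩
  have hsn : (A.subgroupOf (P : Subgroup G)).IsSubnormal :=
    (normal_subgroupOf_of_le_normalizer hA.2.1).isSubnormal
  obtain ⟨-, hsub⟩ := transAt_of_subnormal hG hT hqA hPtop
    (fun r hr hrP => by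
      obtain ⟨n, hn⟩ := P.2.exists_card_eq
      rw [hn] at hrP
      rw [(Nat.prime_dvd_prime_iff_eq hr hp.out).1 (hr.dvd_of_dvd_pow hrP)]
      exact hpA)
    hA.1 hsn (conjBy_of_rank_three hG hT hZ hqA)
  obtain ⟨Q₂, hQ₂, -⟩ := exists_maxInvSubgroup_ge (bot_mem_invSubgroups (P : Subgroup G) ({q} : Set ℕ))
  have hQ₂K : Q₂ ≤ K₀ := hP _ ((IsPiSubgroup.coprime hQ₂.1.2.1) fun r hr _ hrp => by
    rw [Set.mem_singleton_iff] at hr
    rw [hr, Nat.prime_dvd_prime_iff_eq hq hp.out] at hrp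
    exact hqA (hrp ▸ hpA)) hQ₂.1.2.2
  obtain ⟨k, hk, hkQ⟩ := conjBy_of_rank_three hG hT hZ hqA Q₂ (hsub hQ₂) Q₁ hQ₁
  have hQ₁K : Q₁ ≤ K₀ := by
    rw [hkQ]
    rintro _ ⟨x, hx, rfl⟩
    exact mul_mem (mul_mem (hK hk) (hQ₂K hx)) (inv_mem (hK hk))
  have hdvd : q ^ (Nat.card Y).factorization q ∣ Nat.card ↥(Y ⊓ K₀) := by
    rw [← S.card_eq_multiplicity, ← Subgroup.card_map_of_injective Y.subtype_injective]
    exact Subgroup.card_dvd_of_le (le_inf (map_subtype_le _) (hSQ₁.trans hQ₁K))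
  exact (hq.pow_dvd_iff_le_factorization Nat.card_pos.ne').1 hdvd

/-- An `SCN₃` subgroup of a Sylow subgroup of rank at least three. -/
theorem exists_scn_three (P : Sylow p G) (hr : ¬ Cfsg.PRankLE p 2 (P : Subgroup G)) :
    ∃ A : Subgroup G, Cfsg.IsSCN (P : Subgroup G) A ∧ ¬ Cfsg.PRankLE p 2 A := by
  have hp2 : p ≠ 2 := prime_ne_two_of_dvd_card hG (H := (P : Subgroup G)) (by
    obtain ⟨E, hEP, -, hE⟩ := exists_elementary_of_not_pRankLE hr
    obtain ⟨n, hn⟩ := P.2.exists_card_eq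
    rcases n with _ | n
    · have := Subgroup.card_le_of_le hEP
      rw [hn, pow_zero] at this
      have := Nat.one_le_pow 2 p hp.out.pos
      omega
    · exact hn ▸ dvd_pow_self p n.succ_ne_zero)
  obtain ⟨E, hEn, hEe, hE2⟩ := exists_normal_elementary_two hp2 P.2 hr
  obtain ⟨A, -, hAn, hAC, hA3⟩ := exists_scn_three_ge hp2 P.2 hr hEe hE2
  refine ⟨A.map (P : Subgroup G).subtype, ⟨map_subtype_le _, ?_, ?_⟩, fun h => hA3 ?_⟩
  · haveI := hAn
    have h := le_normalizer_map (P : Subgroup G).subtype (H := A)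
    rwa [normalizer_eq_top, ← MonoidHom.range_eq_map, range_subtype] at h
  · refine le_antisymm ?_ (le_inf (map_subtype_le _) ?_)
    · rintro x ⟨hxP, hxC⟩
      refine ⟨⟨x, hxP⟩, hAC.le (mem_centralizer_iff.2 fun a ha => Subtype.ext ?_), rfl⟩
      exact mem_centralizer_iff.1 hxC (a : G) ⟨a, ha, rfl⟩
    · rintro _ ⟨a, ha, rfl⟩ _ ⟨b, hb, rfl⟩
      rw [← map_mul, ← map_mul, mem_centralizer_iff.1 (hAC.ge ha) b hb]
  · intro B hB hBp
    haveI := hB
    let e := A.equivMapOfInjective _ (P : Subgroup G).subtype_injective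
    rw [← Subgroup.card_map_of_injective (f := e.toMonoidHom) e.injective]
    refine h _ (map_isMulCommutative B (f := e.toMonoidHom)) ?_
    rintro _ ⟨b, hb, rfl⟩
    rw [← map_pow, hBp b hb, map_one]

omit hG in
/-- For `A` abelian-normal-like inside `O_{p',p}`, `X = O_{p'}(X) N(T₁)` with `A ≤ T₁ ≤ T`. -/
theorem exists_frattini_pPrimePCore {X T A : Subgroup G} (h : IsMaxPIn p X T)
    (hXs : Group.IsSolvable X) (hAT : A ≤ T) (hA : A.subgroupOf X ≤ Cfsg.pPrimePCore p X) :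
    ∃ T₁ : Subgroup G, A ≤ T₁ ∧ T₁ ≤ T ∧
      X ≤ Cfsg.piCoreOf (Cfsg.primesNotDvd p) X ⊔ normalizer (T₁ : Set G) := by
  haveI := hXs
  obtain ⟨S, hS⟩ := h.exists_sylow
  set R₁ := Cfsg.pPrimePCore p X with hR₁
  haveI : R₁.Normal := by
    rw [hR₁, pPrimePCore_eq_comap_barHom]
    exact (Solvable.pCore_normal p _).comap _
  set T₀ := (S : Subgroup X) ⊓ R₁ with hT₀
  refine ⟨T₀.map X.subtype, fun a ha => ?_, (Subgroup.map_mono inf_le_left).trans hS.le, ?_⟩
  · have haX : a ∈ X := h.le (hAT ha)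
    obtain ⟨s, hs, hsa⟩ := hS.ge (hAT ha)
    have : s = ⟨a, haX⟩ := Subtype.ext hsa
    exact ⟨⟨a, haX⟩, mem_inf.2 ⟨this ▸ hs, hA (mem_subgroupOf.2 ha)⟩, rfl⟩
  · have hR : R₁ ≤ Cfsg.pPrimeCore p X ⊔ (S : Subgroup X) := by
      have h1 := Subgroup.comap_mono (f := barHom X p)
        (Solvable.pCore_le_sylow (S.mapSurjective (barHom_surjective (Y := X) (p := p))))
      rw [Sylow.coe_mapSurjective, comap_map_eq, barHom_ker, sup_comm] at h1
      rw [hR₁, pPrimePCore_eq_comap_barHom]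
      exact h1
    have hSN : (S : Subgroup X) ≤ normalizer (T₀ : Set X) :=
      le_normalizer_inf_of_le le_normalizer (le_top.trans (normalizer_eq_top R₁).ge)
    have htop : Cfsg.pPrimeCore p X ⊔ normalizer (T₀ : Set X) = ⊤ :=
      top_le_iff.1 ((PLocal.frattini_inf S R₁).ge.trans
        (sup_le (hR.trans (sup_le_sup_left hSN _)) le_sup_right))
    have h1 := congrArg (Subgroup.map X.subtype) htop
    rw [← MonoidHom.range_eq_map, range_subtype, Subgroup.map_sup, map_pPrimeCore_subtype] at h1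
    exact h1.ge.trans (sup_le_sup_left (le_normalizer_map _) _)

/-- BG 9.1, under the hypothesis on invariant `p'`-subgroups. -/
theorem inUniqueMaximal_of_inv_le {M B : Subgroup G} (hM : IsCoatom M) (hBM : B ≤ M)
    (hBp : IsPGroup p B) (hB1 : B ≠ ⊥)
    (hinv : ∀ Y : Subgroup G, (Nat.card Y).Coprime p → B ≤ normalizer (Y : Set G) → Y ≤ M) :
    Cfsg.InUniqueMaximal B := by
  have hpG : p ∣ Nat.card G := by
    obtain ⟨n, hn⟩ := hBp.exists_card_eq
    rcases n with _ | n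
    · exact absurd (Subgroup.card_eq_one.1 (hn.trans (pow_zero p))) hB1
    · exact (hn ▸ dvd_pow_self p n.succ_ne_zero).trans (Subgroup.card_subgroup_dvd_card B)
  have hp2 : p ≠ 2 := prime_ne_two hG hpG
  refine ⟨M, ⟨hM, hBM⟩, fun L₀ ⟨hL₀, hBL₀⟩ => by_contra fun hne₀ => ?_⟩
  obtain ⟨T, ⟨hTp, hBT, hTM, L, hL, hLM, hTL⟩, hmax⟩ := Set.exists_max_image
    {T : Subgroup G | IsPGroup p T ∧ B ≤ T ∧ T ≤ M ∧ ∃ L, IsCoatom L ∧ L ≠ M ∧ T ≤ L}
    (fun T => Nat.card T) (Set.toFinite _) ⟨B, hBp, le_rfl, hBM, L₀, hL₀, hne₀, hBL₀⟩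
  have big : ∀ S : Subgroup G, IsPGroup p S → T < S → S ≤ M → ∀ L', IsCoatom L' → S ≤ L' →
      L' = M := by
    intro S hS hTS hSM L' hL' hSL'
    by_contra hne
    refine hTS.ne (Subgroup.eq_of_le_of_card_ge hTS.le ?_)
    exact hmax S ⟨hS, hBT.trans hTS.le, hSM, L', hL', hne, hSL'⟩
  have hT1 : T ≠ ⊥ := fun h => hB1 (le_bot_iff.1 (h ▸ hBT))
  set Z := PLoc.interMaxAb 0 T with hZ
  have hZ1 : Z ≠ ⊥ := interMaxAb_zero_ne_bot hTp hT1
  have hTZ : normalizer (T : Set G) ≤ normalizer (Z : Set G) :=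
    normalizer_le_normalizer_interMaxAb 0 T
  set K₀ := Cfsg.piCoreOf (Cfsg.primesNotDvd p) M with hK₀
  have hMs : Group.IsSolvable M := isSolvable_of_ne_top hG hM.1
  -- when `T` is Sylow in `M`
  have hMK : K₀ ≠ ⊥ → normalizer (K₀ : Set G) = M := fun h =>
    normalizer_eq_of_isCoatom_of_le hG hM h (piCoreOf_le _ _) (le_normalizer_piCoreOf _ _)
  have hinvK : IsMaxPIn p M T → ∀ Y : Subgroup G, (Nat.card Y).Coprime p →
      T ≤ normalizer (Y : Set G) → Y ≤ K₀ := fun hmx Y hY hTY =>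
    hmx.inv_le_piCoreOf hMs (hinv Y hY (hBT.trans hTY)) hY hTY
  have hMZ : IsMaxPIn p M T → K₀ = ⊥ → normalizer (Z : Set G) = M := fun hmx h =>
    normalizer_eq_of_isCoatom_of_le hG hM hZ1 ((interMaxAb_le_self 0 T).trans hTM)
      (hmx.le_normalizer_zj hMs (odd_card_subgroup hG M) hp2 h)
  have hTtop : normalizer (T : Set G) ≠ ⊤ := normalizer_ne_top hG hT1 (isPGroup_ne_top hG hTp)
  -- (i)
  have hNT : normalizer (T : Set G) ≤ M := by
    by_cases hmx : IsMaxPIn p M T
    · by_cases hK : K₀ = ⊥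
      · exact hTZ.trans (hMZ hmx hK).le
      · intro g hg
        rw [← hMK hK]
        refine mem_normalizer_of_map_conj_le (hinvK hmx _ ?_
          (le_normalizer_conj_of_mem hg (hTM.trans (le_normalizer_piCoreOf _ _))))
        rw [Subgroup.card_map_of_injective (MulAut.conj g).injective]
        exact piCoreOf_primesNotDvd_coprime _
    · obtain ⟨L', hL', hNL'⟩ := exists_isCoatom_ge hTtop
      obtain ⟨S, hS, hTS, hSN⟩ := exists_gt_normalizer_of_not_max hTM hTp hmx
      exact hNL'.trans (big S hS hTS (hSN.trans inf_le_left) L' hL'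
        (hSN.trans (inf_le_right.trans hNL'))).le
  -- (ii)
  have hmaxL : ∀ L', IsCoatom L' → L' ≠ M → T ≤ L' → IsMaxPIn p L' T := by
    intro L' hL' hne hTL'
    by_contra h
    obtain ⟨S, hS, hTS, hSN⟩ := exists_gt_normalizer_of_not_max hTL' hTp h
    exact hne (big S hS hTS ((hSN.trans inf_le_right).trans hNT) L' hL' (hSN.trans inf_le_left))
  -- (iii)
  have hNZ : ¬ normalizer (Z : Set G) ≤ M := by
    intro hle
    have h1 := (hmaxL L hL hLM hTL).le_piCoreOf_sup_normalizer (isSolvable_of_ne_top hG hL.1)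
      (odd_card_subgroup hG L) hp2
    have h2 : L ≤ M := h1.trans (sup_le (hinv _ (piCoreOf_primesNotDvd_coprime _)
      ((hBT.trans hTL).trans (le_normalizer_piCoreOf _ _))) (inf_le_right.trans hle))
    exact hLM ((h2.eq_or_lt.resolve_right fun h => hM.1 (hL.2 _ h)))
  obtain ⟨L', hL', hNL'⟩ := exists_isCoatom_ge (normalizer_ne_top hG hZ1
    (isPGroup_ne_top hG (hTp.to_le (interMaxAb_le_self 0 T))))
  have hL'M : L' ≠ M := fun h => hNZ (h ▸ hNL')
  have hTL' : T ≤ L' := le_normalizer.trans (hTZ.trans hNL')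
  have hmxM : IsMaxPIn p M T := by
    by_contra h
    obtain ⟨S, hS, hTS, hSN⟩ := exists_gt_normalizer_of_not_max hTM hTp h
    exact hL'M (big S hS hTS (hSN.trans inf_le_left) L' hL'
      (hSN.trans (inf_le_right.trans (hTZ.trans hNL'))))
  have hmxG : IsMaxPIn p ⊤ T := by
    by_contra h
    obtain ⟨S, hS, hTS, hSN⟩ := exists_gt_normalizer_of_not_max le_top hTp h
    exact hTS.ne (hmxM.max S hS hTS.le ((hSN.trans inf_le_right).trans hNT)).symm
  have hK : K₀ ≠ ⊥ := fun h => hNZ (hMZ hmxM h).le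
  let P : Sylow p G := ⟨T, hTp, fun {Q} hQ hle => hmxG.max Q hQ hle le_top⟩
  have hmx' := hmaxL L' hL' hL'M hTL'
  have hL's : Group.IsSolvable L' := isSolvable_of_ne_top hG hL'.1
  have hO : Cfsg.piCoreOf (Cfsg.primesNotDvd p) L' ≤ M :=
    hinv _ (piCoreOf_primesNotDvd_coprime _) ((hBT.trans hTL').trans (le_normalizer_piCoreOf _ _))
  suffices hgoal : L' ≤ M by
    exact hL'M (hgoal.eq_or_lt.resolve_right fun h => hM.1 (hL'.2 _ h))
  by_cases hr : Cfsg.PRankLE p 2 (P : Subgroup G)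
  · -- small rank
    have hrL : Cfsg.PRankLE p 2 L' := by
      intro E hEc hEp
      haveI := hEc
      have hEg : IsPGroup p (E.map L'.subtype) := IsPGroup.map (fun e => ⟨1, Subtype.ext (by
        rw [pow_one, SubgroupClass.coe_pow, hEp e e.2]; rfl)⟩) _
      obtain ⟨Q, hQ⟩ := hEg.exists_le_sylow
      obtain ⟨g, hg⟩ := MulAction.exists_smul_eq G Q P
      have hle : (E.map L'.subtype).map (MulAut.conj g).toMonoidHom ≤ (P : Subgroup G) := by
        rw [← hg, Sylow.coe_subgroup_smul]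
        exact Subgroup.map_mono hQ
      haveI := map_isMulCommutative E (f := L'.subtype)
      haveI := map_isMulCommutative (E.map L'.subtype) (f := (MulAut.conj g).toMonoidHom)
      have h1 := hr (((E.map L'.subtype).map (MulAut.conj g).toMonoidHom).subgroupOf (P : Subgroup G))
        inferInstance (fun a ha => by
          obtain ⟨_, ⟨e, he, rfl⟩, hea⟩ := mem_subgroupOf.1 ha
          refine Subtype.ext ?_
          rw [SubgroupClass.coe_pow, ← hea, ← map_pow, ← map_pow, hEp e he, map_one, map_one]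
          rfl)
      rwa [Nat.card_congr (subgroupOfEquivOfLe hle).toEquiv,
        Subgroup.card_map_of_injective (MulAut.conj g).injective,
        Subgroup.card_map_of_injective L'.subtype_injective] at h1
    haveI := hL's
    obtain ⟨-, hidx, -⟩ := rank_two_structure (odd_card_subgroup hG L') hp2 hrL
    have hT' : T.subgroupOf L' ≤ Cfsg.pPrimePCore p L' := by
      obtain ⟨S, hS⟩ := hmx'.exists_sylow
      haveI : (Cfsg.pPrimePCore p L').Normal := by
        rw [pPrimePCore_eq_comap_barHom]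
        exact (Solvable.pCore_normal p _).comap _
      intro x hx
      rw [← QuotientGroup.eq_one_iff (N := Cfsg.pPrimePCore p L'), ← orderOf_eq_one_iff]
      obtain ⟨k, hk⟩ := IsPGroup.iff_orderOf.mp (hTp.of_equiv (subgroupOfEquivOfLe hTL').symm)
        ⟨x, hx⟩
      rw [Subgroup.orderOf_mk] at hk
      refine Nat.eq_one_of_dvd_coprimes (hidx.pow_right k) ?_
        ((orderOf_map_dvd (QuotientGroup.mk' _) x).trans (dvd_of_eq hk))
      rw [Subgroup.index_eq_card]
      exact orderOf_dvd_natCard _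
    obtain ⟨T₁, hTT₁, hT₁T, hfr⟩ := exists_frattini_pPrimePCore hmx' hL's le_rfl hT'
    rw [le_antisymm hT₁T hTT₁] at hfr
    exact hfr.trans (sup_le hO hNT)
  · obtain ⟨A, hA, hA3⟩ := exists_scn_three hG P hr
    have hAinv := inv_le_of_scn hG hA hA3 (K₀ := K₀) fun Y hY hPY => hinvK hmxM Y hY hPY
    have hAT : A ≤ T := hA.1
    have hA' : A.subgroupOf L' ≤ Cfsg.pPrimePCore p L' := by
      obtain ⟨S, hS⟩ := hmx'.exists_sylow
      have hSeq : (S : Subgroup L') = T.subgroupOf L' := by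
        rw [← hS, subgroupOf, comap_map_eq_self_of_injective L'.subtype_injective]
      refine abelian_normal_le_pPrimePCore oddPStable hL's (odd_card_subgroup hG L') S ?_ ?_ ?_
      · rw [hSeq]; exact fun x hx => hAT hx
      · exact fun x hx y hy => Subtype.ext (isSCN_abelian hA _ hx _ hy)
      · rw [hSeq]; exact subgroupOf_le_normalizer hA.2.1
    obtain ⟨T₁, hAT₁, hT₁T, hfr⟩ := exists_frattini_pPrimePCore hmx' hL's hAT hA'
    refine hfr.trans (sup_le hO fun g hg => ?_)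
    rw [← hMK hK]
    refine mem_normalizer_of_map_conj_le (hAinv _ ?_ (hAT₁.trans
      (le_normalizer_conj_of_mem hg ((hT₁T.trans hTM).trans (le_normalizer_piCoreOf _ _)))))
    rw [Subgroup.card_map_of_injective (MulAut.conj g).injective]
    exact piCoreOf_primesNotDvd_coprime _

/-- BG 9.1. -/
theorem inUniqueMaximal_of_elementary {M B : Subgroup G} (hM : IsCoatom M) (hBM : B ≤ M)
    (hBe : Cfsg.IsElementaryAbelian p B) (hBnc : ¬ IsCyclic B)
    (h : (∀ b ∈ B, b ≠ 1 → centralizer ({b} : Set G) ≤ M) ∨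
      ∀ Y : Subgroup G, (Nat.card Y).Coprime p → B ≤ normalizer (Y : Set G) → Y ≤ M) :
    Cfsg.InUniqueMaximal B := by
  have hBp : IsPGroup p B := fun b => ⟨1, Subtype.ext (by
    rw [pow_one, SubgroupClass.coe_pow, hBe.2 b b.2]; rfl)⟩
  have hB1 : B ≠ ⊥ := by
    rintro rfl
    exact hBnc isCyclic_of_subsingleton
  refine inUniqueMaximal_of_inv_le hG hM hBM hBp hB1 ?_
  rcases h with h | h
  · intro Y hY hBY
    haveI := hBe.1
    refine Solvable.le_of_centralizer_le hBnc hBY ?_ fun b hb hb1 => inf_le_right.trans (h b hb hb1)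
    obtain ⟨n, hn⟩ := hBp.exists_card_eq
    rw [hn]; exact hY.symm.pow_left n
  · exact h

/-- BG 9.2. -/
theorem inUniqueMaximal_of_commute {L E : Subgroup G} (hL : Cfsg.InUniqueMaximal L)
    (hE : E ≤ centralizer (L : Set G)) (hEe : Cfsg.IsElementaryAbelian p E)
    (hcard : p < Nat.card E) : Cfsg.InUniqueMaximal E := by
  obtain ⟨M, ⟨hM, hLM⟩, huniq⟩ := hL
  have hcen : ∀ e ∈ E, e ≠ 1 → centralizer ({e} : Set G) ≤ M := by
    intro e he he1
    obtain ⟨M', hM', hCM'⟩ := exists_isCoatom_ge (centralizer_singleton_ne_top hG he1)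
    refine hCM'.trans (huniq M' ⟨hM', le_trans (fun l hl => ?_) hCM'⟩).le
    exact mem_centralizer_singleton_iff.2 (mem_centralizer_iff.1 (hE he) l hl)
  have hEnc := elementary_not_isCyclic hEe hcard
  refine inUniqueMaximal_of_elementary hG hM ?_ hEe hEnc (Or.inl hcen)
  obtain ⟨e, he, he1⟩ := (bot_or_exists_ne_one E).resolve_left (by
    rintro rfl; exact hEnc isCyclic_of_subsingleton)
  refine le_trans (fun x hx => ?_) (hcen e he he1)
  exact mem_centralizer_singleton_iff.2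
    (mem_centralizer_iff.1 (le_centralizer_iff_isMulCommutative.2 hEe.1 he) x hx)

theorem ne_bot_of_inUniqueMaximal {L : Subgroup G} (hL : Cfsg.InUniqueMaximal L) : L ≠ ⊥ := by
  rintro rfl
  obtain ⟨M, ⟨hM, -⟩, huniq⟩ := hL
  refine hM.1 (eq_top_iff.2 fun x _ => ?_)
  have hx : zpowers x ≠ ⊤ := fun h => hG.2.2.1 ⟨⟨fun a b => by
    obtain ⟨i, rfl⟩ := mem_zpowers_iff.1 (h ▸ mem_top a)
    obtain ⟨j, rfl⟩ := mem_zpowers_iff.1 (h ▸ mem_top b)
    rw [← zpow_add, ← zpow_add, add_comm]⟩⟩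
  obtain ⟨L, hL', hxL⟩ := exists_isCoatom_ge hx
  exact huniq L ⟨hL', bot_le⟩ ▸ hxL (mem_zpowers x)

/-- BG 9.2, for an overgroup. -/
theorem inUniqueMaximal_of_rank {L K : Subgroup G} (hL : Cfsg.InUniqueMaximal L)
    (hK : K ≤ centralizer (L : Set G)) (hr : ¬ Cfsg.PRankLE p 1 K) :
    Cfsg.InUniqueMaximal K := by
  obtain ⟨E, hEK, hEe, hE⟩ := exists_elementary_of_not_pRankLE hr
  rw [pow_one] at hE
  exact inUniqueMaximal_mono (inUniqueMaximal_of_commute hG hL (hEK.trans hK) hEe hE) hEK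
    fun h => centralizer_ne_top hG (ne_bot_of_inUniqueMaximal hG hL) (top_le_iff.1 (h ▸ hK))

/-- BG 9.3. -/
theorem inUniqueMaximal_of_rank_three {A B : Subgroup G} (hAc : IsMulCommutative A)
    (hA3 : ¬ Cfsg.PRankLE p 2 A) (hAU : Cfsg.InUniqueMaximal A) (hBp : IsPGroup p B)
    (hBnc : ¬ IsCyclic B) (hB3 : ¬ Cfsg.PRankLE p 2 ↥(centralizer (B : Set G))) :
    Cfsg.InUniqueMaximal B := by
  obtain ⟨A₁, hA₁A, hA₁e, hA₁c⟩ := exists_elementary_of_not_pRankLE hA3
  have hp1 : p < p ^ 2 := by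
    calc p = p ^ 1 := (pow_one p).symm
      _ < p ^ 2 := Nat.pow_lt_pow_right hp.out.one_lt one_lt_two
  have hA₁U : Cfsg.InUniqueMaximal A₁ := inUniqueMaximal_of_commute hG hAU
    (hA₁A.trans (le_centralizer_iff_isMulCommutative.2 hAc)) hA₁e (hp1.trans hA₁c)
  have hA₁p : IsPGroup p A₁ := fun b => ⟨1, Subtype.ext (by
    rw [pow_one, SubgroupClass.coe_pow, hA₁e.2 b b.2]; rfl)⟩
  obtain ⟨P, hA₁P⟩ := hA₁p.exists_le_sylow
  have hr : ¬ Cfsg.PRankLE p 2 (P : Subgroup G) := not_pRankLE_of_elementary hA₁P hA₁e hA₁c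
  have hp2 : p ≠ 2 := prime_ne_two hG (by
    obtain ⟨n, hn⟩ := hA₁p.exists_card_eq
    rw [hn] at hA₁c
    rcases n with _ | n
    · exact absurd hA₁c (by rw [pow_zero]; exact not_lt.2 (Nat.one_le_pow 2 p hp.out.pos))
    · exact (hn ▸ dvd_pow_self p n.succ_ne_zero).trans (Subgroup.card_subgroup_dvd_card A₁))
  obtain ⟨E₀, hE₀n, hE₀e, hE₀c⟩ := exists_normal_elementary_two hp2 P.2 hr
  set E := E₀.map (P : Subgroup G).subtype with hE
  have hEe : Cfsg.IsElementaryAbelian p E := by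
    haveI := hE₀e.1
    refine ⟨map_isMulCommutative E₀ (f := (P : Subgroup G).subtype), ?_⟩
    rintro _ ⟨e, he, rfl⟩
    rw [← map_pow, hE₀e.2 e he, map_one]
  have hEc : Nat.card E = p ^ 2 := by
    rw [hE, Subgroup.card_map_of_injective (P : Subgroup G).subtype_injective, hE₀c]
  -- centralisers of `E` in large elementary subgroups of `P`
  have hbound : ∀ X : Subgroup G, X ≤ (P : Subgroup G) → p ^ 2 < Nat.card X →
      p < Nat.card ↥(X ⊓ centralizer (E : Set G)) := by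
    intro X hXP hX
    haveI := hE₀n
    set C := centralizer (E₀ : Set (P : Subgroup G)) with hC
    set X₀ := X.subgroupOf (P : Subgroup G) with hX₀
    have hidx : C.relIndex X₀ ≤ p := le_trans (Nat.le_of_dvd
      (Nat.pos_of_ne_zero C.index_ne_zero_of_finite) (Subgroup.relIndex_dvd_index_of_normal C X₀))
      (centralizer_index_le P.2 hE₀e hE₀c)
    have hcardX : Nat.card X₀ = C.relIndex X₀ * Nat.card ↥(X₀ ⊓ C) := by
      rw [← Subgroup.inf_relIndex_right, inf_comm C X₀, mul_comm,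
        ← Subgroup.relIndex_bot_left (X₀ ⊓ C),
        Subgroup.relIndex_mul_relIndex ⊥ _ _ bot_le inf_le_left, Subgroup.relIndex_bot_left]
    have hle : (X₀ ⊓ C).map (P : Subgroup G).subtype ≤ X ⊓ centralizer (E : Set G) := by
      rintro _ ⟨x, hx, rfl⟩
      refine ⟨hx.1, ?_⟩
      rintro _ ⟨e, he, rfl⟩
      rw [← map_mul, ← map_mul, mem_centralizer_iff.1 hx.2 e he]
    have h1 := Subgroup.card_le_of_le hle
    rw [Subgroup.card_map_of_injective (P : Subgroup G).subtype_injective] at h1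
    have h2 : p * p < p * Nat.card ↥(X₀ ⊓ C) := by
      refine lt_of_lt_of_le ?_ (Nat.mul_le_mul_right _ hidx)
      rw [← hcardX, hX₀, Nat.card_congr (subgroupOfEquivOfLe hXP).toEquiv, ← sq]
      exact hX
    exact lt_of_lt_of_le (Nat.lt_of_mul_lt_mul_left h2) h1
  have helem : ∀ {X Y : Subgroup G}, Cfsg.IsElementaryAbelian p X → Y ≤ X →
      Cfsg.IsElementaryAbelian p Y := fun {X Y} hX hYX => by
    haveI := hX.1
    exact ⟨le_centralizer_iff_isMulCommutative.1 (hYX.trans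
      ((le_centralizer_iff_isMulCommutative.2 hX.1).trans (centralizer_le hYX))),
      fun y hy => hX.2 y (hYX hy)⟩
  -- `E` is a uniqueness subgroup
  have hEU : Cfsg.InUniqueMaximal E := by
    have hDU : Cfsg.InUniqueMaximal (A₁ ⊓ centralizer (E : Set G)) :=
      inUniqueMaximal_of_commute hG hA₁U
        (inf_le_left.trans (le_centralizer_iff_isMulCommutative.2 hA₁e.1))
        (helem hA₁e inf_le_left) (hbound A₁ hA₁P hA₁c)
    exact inUniqueMaximal_of_commute hG hDU (le_centralizer_iff.1 inf_le_right) hEe (hEc ▸ hp1)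
  -- every large elementary subgroup is a uniqueness subgroup
  have hall : ∀ F : Subgroup G, Cfsg.IsElementaryAbelian p F → p ^ 2 < Nat.card F →
      Cfsg.InUniqueMaximal F := by
    intro F hF hFc
    have hFp : IsPGroup p F := fun b => ⟨1, Subtype.ext (by
      rw [pow_one, SubgroupClass.coe_pow, hF.2 b b.2]; rfl)⟩
    obtain ⟨Q, hQ⟩ := hFp.exists_le_sylow
    obtain ⟨g, hg⟩ := MulAction.exists_smul_eq G Q P
    set F' := F.map (MulAut.conj g).toMonoidHom with hF'
    have hle : F' ≤ (P : Subgroup G) := by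
      rw [← hg, Sylow.coe_subgroup_smul]
      exact Subgroup.map_mono hQ
    have hF'e : Cfsg.IsElementaryAbelian p F' := by
      haveI := hF.1
      refine ⟨map_isMulCommutative F (f := (MulAut.conj g).toMonoidHom), ?_⟩
      rintro _ ⟨e, he, rfl⟩
      rw [← map_pow, hF.2 e he, map_one]
    have hF'c : p ^ 2 < Nat.card F' := by
      rw [hF', Subgroup.card_map_of_injective (MulAut.conj g).injective]; exact hFc
    have hDU : Cfsg.InUniqueMaximal (F' ⊓ centralizer (E : Set G)) :=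
      inUniqueMaximal_of_commute hG hEU inf_le_right (helem hF'e inf_le_left) (hbound F' hle hF'c)
    have h1 : Cfsg.InUniqueMaximal F' := inUniqueMaximal_mono hDU inf_le_left
      (isPGroup_ne_top hG (P.2.to_le hle))
    have h2 := inUniqueMaximal_conj h1 g⁻¹
    rwa [hF', map_conj_map_conj, inv_mul_cancel, map_conj_one] at h2
  obtain ⟨F, hFC, hFe, hFc⟩ := exists_elementary_of_not_pRankLE hB3
  exact inUniqueMaximal_of_rank hG (p := p) (hall F hFe hFc) (le_centralizer_iff.1 hFC)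
    (not_pRankLE_one_of_not_isCyclic hp2 hBp hBnc)

end MinSimple

end CfsgLib.OddOrder
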